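import Cfsg.Agent.PLocal.SubnormalCore
import Cfsg.Agent.Solvable.SchurZassenhausConj
import Mathlib.GroupTheory.Commutator.Basic

section


/-!
# Conjugate subgroups, `O₂` of a subgroup (as a subgroup of the big group)
-/

set_option autoImplicit false

namespace Cfsg.Agent.Omega.BTwo

open Subgroup

variable {G : Type*} [Group G]

/-- the conjugate `g H g⁻¹` -/
def cj (g : G) (H : Subgroup G) : Subgroup G := H.map (MulAut.conj g).toMonoidHom

theorem mem_cj {g x : G} {H : Subgroup G} : x ∈ cj g H ↔ g⁻¹ * x * g ∈ H := by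
  constructor
  · rintro ⟨y, hy, rfl⟩
    have : g⁻¹ * (g * y * g⁻¹) * g = y := by group
    change g⁻¹ * (g * y * g⁻¹) * g ∈ H
    rw [this]
    exact hy
  · intro h
    refine ⟨_, h, ?_⟩
    change g * (g⁻¹ * x * g) * g⁻¹ = x
    group

theorem conj_mem_cj {g x : G} {H : Subgroup G} (hx : x ∈ H) : g * x * g⁻¹ ∈ cj g H := ⟨x, hx, rfl⟩

theorem cj_one (H : Subgroup G) : cj 1 H = H := by
  ext x; rw [mem_cj, inv_one, one_mul, mul_one]

theorem cj_mul (g h : G) (H : Subgroup G) : cj (g * h) H = cj g (cj h H) := by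
  ext x
  rw [mem_cj, mem_cj, mem_cj]
  have : (g * h)⁻¹ * x * (g * h) = h⁻¹ * (g⁻¹ * x * g) * h := by group
  rw [this]

theorem cj_inv_cj (g : G) (H : Subgroup G) : cj g⁻¹ (cj g H) = H := by
  rw [← cj_mul, inv_mul_cancel, cj_one]

theorem cj_cj_inv (g : G) (H : Subgroup G) : cj g (cj g⁻¹ H) = H := by
  rw [← cj_mul, mul_inv_cancel, cj_one]

theorem cj_mono {g : G} {H K : Subgroup G} (h : H ≤ K) : cj g H ≤ cj g K := map_mono h

theorem cj_le_iff {g : G} {H K : Subgroup G} : cj g H ≤ K ↔ ∀ x ∈ H, g * x * g⁻¹ ∈ K := by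
  constructor
  · exact fun h x hx => h (conj_mem_cj hx)
  · rintro h _ ⟨x, hx, rfl⟩
    exact h x hx

theorem cj_injective {g : G} {H K : Subgroup G} (h : cj g H = cj g K) : H = K := by
  rw [← cj_inv_cj g H, h, cj_inv_cj]

theorem cj_eq_iff {g : G} {H K : Subgroup G} : cj g H = K ↔ H = cj g⁻¹ K := by
  constructor
  · rintro rfl; rw [cj_inv_cj]
  · rintro rfl; rw [cj_cj_inv]

theorem cj_inf (g : G) (H K : Subgroup G) : cj g (H ⊓ K) = cj g H ⊓ cj g K := by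
  ext x
  rw [mem_inf, mem_cj, mem_cj, mem_cj, mem_inf]

theorem cj_sup (g : G) (H K : Subgroup G) : cj g (H ⊔ K) = cj g H ⊔ cj g K := map_sup _ _ _

theorem cj_bot (g : G) : cj g (⊥ : Subgroup G) = ⊥ := map_bot _

theorem cj_iSup {ι : Sort*} (g : G) (H : ι → Subgroup G) : cj g (⨆ i, H i) = ⨆ i, cj g (H i) :=
  map_iSup _ _

theorem cj_eq_self_iff {g : G} {H : Subgroup G} : cj g H = H ↔ g ∈ normalizer (H : Set G) := by
  rw [mem_normalizer_iff]
  constructor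
  · intro h x
    constructor
    · intro hx
      have := conj_mem_cj (g := g) hx
      rwa [h] at this
    · intro hx
      rw [← h] at hx
      rw [mem_cj] at hx
      have e : g⁻¹ * (g * x * g⁻¹) * g = x := by group
      rwa [e] at hx
  · intro h
    ext x
    rw [mem_cj, h (g⁻¹ * x * g)]
    have e : g * (g⁻¹ * x * g) * g⁻¹ = x := by group
    rw [e]

theorem cj_of_mem {g : G} {H : Subgroup G} (h : g ∈ H) : cj g H = H :=
  cj_eq_self_iff.2 (le_normalizer h)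

theorem card_cj (g : G) (H : Subgroup G) : Nat.card (cj g H) = Nat.card H :=
  Nat.card_congr (H.equivMapOfInjective _ (MulAut.conj g).injective).toEquiv.symm

theorem mem_normalizer_of_conj [Finite G] {g : G} {H : Subgroup G} (h : ∀ x ∈ H, g * x * g⁻¹ ∈ H) :
    g ∈ normalizer (H : Set G) := by
  rw [← cj_eq_self_iff]
  exact eq_of_le_of_card_ge (cj_le_iff.2 h) (card_cj g H).ge

theorem conj_mem_of_normalizer {g x : G} {H : Subgroup G} (hg : g ∈ normalizer (H : Set G)) (hx : x ∈ H) :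
    g * x * g⁻¹ ∈ H := (mem_normalizer_iff.1 hg x).1 hx

theorem conj_inv_mem_of_normalizer {g x : G} {H : Subgroup G} (hg : g ∈ normalizer (H : Set G))
    (hx : x ∈ H) : g⁻¹ * x * g ∈ H := by
  have := conj_mem_of_normalizer ((normalizer (H : Set G)).inv_mem hg) hx
  rwa [inv_inv] at this

theorem normalizer_cj (g : G) (H : Subgroup G) :
    normalizer (cj g H : Set G) = cj g (normalizer (H : Set G)) := by
  ext x
  rw [mem_cj, ← cj_eq_self_iff, ← cj_eq_self_iff]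
  constructor
  · intro h
    rw [cj_mul, cj_mul, h, cj_inv_cj]
  · intro h
    rw [cj_mul, cj_mul] at h
    have h2 := congrArg (cj g) h
    rwa [cj_cj_inv] at h2

theorem centralizer_cj (g : G) (H : Subgroup G) :
    centralizer (cj g H : Set G) = cj g (centralizer (H : Set G)) := by
  ext x
  rw [mem_cj, mem_centralizer_iff, mem_centralizer_iff]
  constructor
  · intro h y hy
    have := h (g * y * g⁻¹) (conj_mem_cj hy)
    calc y * (g⁻¹ * x * g) = g⁻¹ * (g * y * g⁻¹ * x) * g := by group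
      _ = g⁻¹ * (x * (g * y * g⁻¹)) * g := by rw [this]
      _ = g⁻¹ * x * g * y := by group
  · rintro h _ ⟨y, hy, rfl⟩
    have := h y hy
    change g * y * g⁻¹ * x = x * (g * y * g⁻¹)
    calc g * y * g⁻¹ * x = g * (y * (g⁻¹ * x * g)) * g⁻¹ := by group
      _ = g * (g⁻¹ * x * g * y) * g⁻¹ := by rw [this]
      _ = x * (g * y * g⁻¹) := by group

theorem normalizer_le_normalizer_centralizer (H : Subgroup G) :
    normalizer (H : Set G) ≤ normalizer (centralizer (H : Set G) : Set G) := by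
  intro g hg
  rw [← cj_eq_self_iff, ← centralizer_cj, cj_eq_self_iff.2 hg]

theorem isPGroup_cj {p : ℕ} {g : G} {H : Subgroup G} (h : IsPGroup p H) : IsPGroup p (cj g H) := h.map _

/-! ### `O₂` -/

/-- `O₂(H)` as a subgroup of `G` -/
def O2 (H : Subgroup G) : Subgroup G := (pCore 2 H).map H.subtype

theorem O2_le (H : Subgroup G) : O2 H ≤ H := map_subtype_le _

theorem O2_isPGroup (H : Subgroup G) : IsPGroup 2 (O2 H) :=
  (Lib.Cores.pCore_isPGroup 2).map _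

theorem le_normalizer_O2 (H : Subgroup G) : H ≤ normalizer (O2 H : Set G) := by
  intro h hh
  rw [mem_normalizer_iff]
  have hn : (pCore 2 H).Normal := Lib.Cores.pCore_normal 2
  have key : ∀ g ∈ H, ∀ x ∈ O2 H, g * x * g⁻¹ ∈ O2 H := by
    rintro g hg _ ⟨x, hx, rfl⟩
    exact ⟨⟨g, hg⟩ * x * ⟨g, hg⟩⁻¹, hn.conj_mem x hx ⟨g, hg⟩, rfl⟩
  intro x
  refine ⟨key h hh x, fun hx => ?_⟩
  have := key h⁻¹ (H.inv_mem hh) _ hx
  have e : h⁻¹ * (h * x * h⁻¹) * h⁻¹⁻¹ = x := by group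
  rwa [e] at this

/-- a subnormal 2-subgroup is in `O₂` -/
theorem le_O2_of_isSubnormal {H T : Subgroup G} (hT : T ≤ H) (h : IsPGroup 2 T)
    (hs : (T.subgroupOf H).IsSubnormal) : T ≤ O2 H := by
  have h1 : T.subgroupOf H ≤ pCore 2 H :=
    PLocal.SubnormalCore.le_pCore_of_isSubnormal hs (h.comap_of_injective _ H.subtype_injective)
  intro x hx
  exact ⟨⟨x, hT hx⟩, h1 hx, rfl⟩

theorem subnormal_step {H A B : Subgroup G} (hAB : A ≤ B) (hB : (B.subgroupOf H).IsSubnormal)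
    (hn : ∀ b ∈ B, ∀ a ∈ A, b * a * b⁻¹ ∈ A) : (A.subgroupOf H).IsSubnormal := by
  refine IsSubnormal.step _ (B.subgroupOf H) (fun x hx => hAB hx) hB ⟨?_⟩
  rintro ⟨⟨x, hxH⟩, hxB⟩ hx ⟨⟨y, hyH⟩, hyB⟩
  exact hn y hyB x hx

theorem subnormal_self (H : Subgroup G) : (H.subgroupOf H).IsSubnormal := by
  rw [subgroupOf_self]; exact IsSubnormal.top

/-- a 2-subgroup with a normal series of length 3 is in `O₂` -/
theorem le_O2_of_chain {H A B C : Subgroup G} (hAB : A ≤ B) (hBC : B ≤ C) (hCH : C ≤ H) (h : IsPGroup 2 A)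
    (h1 : ∀ b ∈ B, ∀ a ∈ A, b * a * b⁻¹ ∈ A) (h2 : ∀ c ∈ C, ∀ b ∈ B, c * b * c⁻¹ ∈ B)
    (h3 : ∀ g ∈ H, ∀ c ∈ C, g * c * g⁻¹ ∈ C) : A ≤ O2 H :=
  le_O2_of_isSubnormal (hAB.trans (hBC.trans hCH)) h
    (subnormal_step hAB (subnormal_step hBC (subnormal_step hCH (subnormal_self H) h3) h2) h1)

theorem le_O2_of_normal {H A : Subgroup G} (hAH : A ≤ H) (h : IsPGroup 2 A)
    (h1 : ∀ g ∈ H, ∀ a ∈ A, g * a * g⁻¹ ∈ A) : A ≤ O2 H :=
  le_O2_of_isSubnormal hAH h (subnormal_step hAH (subnormal_self H) h1)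

theorem cj_O2_le (g : G) (H : Subgroup G) : cj g (O2 H) ≤ O2 (cj g H) := by
  refine le_O2_of_normal (cj_mono (O2_le H)) (isPGroup_cj (O2_isPGroup H)) ?_
  intro x hx a ha
  rw [mem_cj] at hx ha ⊢
  have := conj_mem_of_normalizer (le_normalizer_O2 H hx) ha
  have e : g⁻¹ * x * g * (g⁻¹ * a * g) * (g⁻¹ * x * g)⁻¹ = g⁻¹ * (x * a * x⁻¹) * g := by group
  rwa [e] at this

theorem cj_O2 (g : G) (H : Subgroup G) : cj g (O2 H) = O2 (cj g H) := by
  refine le_antisymm (cj_O2_le g H) ?_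
  have := cj_mono (g := g) (cj_O2_le g⁻¹ (cj g H))
  rwa [cj_cj_inv, cj_inv_cj] at this

end Cfsg.Agent.Omega.BTwo

end

section


/-!
# Schur-Zassenhaus for a normal 2-subgroup of odd index, in relative form

`Cpl U B H`: `H` is a complement of the normal 2-subgroup `U` of odd index of `B`.
-/

set_option autoImplicit false
set_option linter.dupNamespace false

universe u

namespace Cfsg.Agent.Omega.Hex

open Subgroup Cfsg.Agent.Omega.BTwo
open scoped Pointwise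

variable {G : Type u} [Group G]

/-- a 2-group and a group of odd order meet trivially -/
theorem inf_eq_bot_of_odd [Finite G] {P H : Subgroup G} (hP : IsPGroup 2 P) (hH : Odd (Nat.card H)) :
    P ⊓ H = ⊥ := by
  apply inf_eq_bot_of_coprime
  obtain ⟨n, hn⟩ := IsPGroup.iff_card.1 hP
  rw [hn]
  exact Nat.Coprime.pow_left _ (Nat.coprime_two_left.2 hH)

/-- `U` is a normal 2-subgroup of odd index of `B` -/
structure NT (U B : Subgroup G) : Prop where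
  UB : U ≤ B
  nU : B ≤ normalizer (U : Set G)
  two : IsPGroup 2 U
  odd : Odd (U.relIndex B)

/-- `H` is a complement of `U` in `B` -/
structure Cpl (U B H : Subgroup G) : Prop where
  HB : H ≤ B
  card : Nat.card H = U.relIndex B

namespace NT

variable [Finite G] {U B : Subgroup G} (t : NT U B)
include t

omit [Finite G] in
theorem normal : (U.subgroupOf B).Normal :=
  ⟨fun n hn g => conj_mem_of_normalizer (g := (g : G)) (x := (n : G)) (t.nU g.2) hn⟩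

theorem cop : (Nat.card (U.subgroupOf B)).Coprime (U.subgroupOf B).index := by
  have h1 : Nat.card (U.subgroupOf B) = Nat.card U := Nat.card_congr (subgroupOfEquivOfLe t.UB).toEquiv
  obtain ⟨n, hn⟩ := IsPGroup.iff_card.1 t.two
  rw [h1, hn]
  exact Nat.Coprime.pow_left _ (Nat.coprime_two_left.2 t.odd)

/-- **existence** -/
theorem exists_cpl : ∃ H, Cpl U B H := by
  have := t.normal
  obtain ⟨H, hH⟩ := exists_right_complement'_of_coprime t.cop
  refine ⟨H.map B.subtype, map_subtype_le H, ?_⟩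
  have h1 : Nat.card (H.map B.subtype) = Nat.card H :=
    Nat.card_congr (H.equivMapOfInjective _ B.subtype_injective).toEquiv.symm
  have h2 : Nat.card H = (U.subgroupOf B).index := hH.card_right
  rw [h1, h2]
  rfl

omit [Finite G] in
theorem odd_cpl {H : Subgroup G} (h : Cpl U B H) : Odd (Nat.card H) := by rw [h.card]; exact t.odd

theorem isCompl {H : Subgroup G} (h : Cpl U B H) : IsComplement' (U.subgroupOf B) (H.subgroupOf B) := by
  have := t.normal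
  apply Solvable.SchurZassenhausConj.isComplement'_of_card_eq_index _ _ t.cop
  rw [Nat.card_congr (subgroupOfEquivOfLe h.HB).toEquiv, h.card]
  rfl

/-- `B = U H` -/
theorem exists_mul {H : Subgroup G} (h : Cpl U B H) {b : G} (hb : b ∈ B) : ∃ u ∈ U, ∃ x ∈ H, b = u * x := by
  obtain ⟨⟨⟨u, hu⟩, ⟨x, hx⟩⟩, e⟩ := (t.isCompl h).2 (⟨b, hb⟩ : B)
  exact ⟨u, hu, x, hx, (congrArg Subtype.val e).symm⟩

/-- **conjugacy** -/
theorem conj {H K : Subgroup G} (h : Cpl U B H) (k : Cpl U B K) : ∃ u ∈ U, cj u H = K := by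
  have := t.normal
  have h2 : IsPGroup 2 (U.subgroupOf B) := t.two.comap_of_injective _ B.subtype_injective
  have : Fact (Nat.Prime 2) := ⟨Nat.prime_two⟩
  have hs : Group.IsSolvable (U.subgroupOf B) := by
    have := h2.isNilpotent
    infer_instance
  obtain ⟨g, hg⟩ := Solvable.SchurZassenhausConj.conj_of_solvable _ t.cop (Or.inl hs) _ _ (t.isCompl h)
    (t.isCompl k)
  have h3 : cj (g : G) H = K := by
    ext x
    rw [mem_cj]
    constructor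
    · intro hx
      have hxB : x ∈ B := by
        have h4 := mul_mem (mul_mem g.2 (h.HB hx)) (inv_mem g.2)
        have e : (g : G) * ((g : G)⁻¹ * x * g) * (g : G)⁻¹ = x := by group
        rwa [e] at h4
      have h5 : (⟨x, hxB⟩ : B) ∈ MulAut.conj g • H.subgroupOf B := by
        rw [mem_pointwise_smul_iff_inv_smul_mem, ← map_inv, MulAut.smul_def, MulAut.conj_apply, inv_inv,
          mem_subgroupOf]
        exact hx
      rw [hg, mem_subgroupOf] at h5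
      exact h5
    · intro hx
      have h5 : (⟨x, k.HB hx⟩ : B) ∈ MulAut.conj g • H.subgroupOf B := by
        rw [hg, mem_subgroupOf]
        exact hx
      rw [mem_pointwise_smul_iff_inv_smul_mem, ← map_inv, MulAut.smul_def, MulAut.conj_apply, inv_inv,
        mem_subgroupOf] at h5
      exact h5
  obtain ⟨u, hu, x, hx, e⟩ := t.exists_mul h g.2
  refine ⟨u, hu, ?_⟩
  rw [e, cj_mul, cj_of_mem hx] at h3
  exact h3

/-- a subgroup of `B` of odd order is conjugate into `H` -/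
theorem conj_le {H K : Subgroup G} (h : Cpl U B H) (hK : K ≤ B) (hodd : Odd (Nat.card K)) :
    ∃ u ∈ U, cj u K ≤ H := by
  -- in `E = U K`
  set E := U ⊔ K with hE
  have hUE : U ≤ E := le_sup_left
  have hKE : K ≤ E := le_sup_right
  have hEB : E ≤ B := sup_le t.UB hK
  have hmul : ∀ e ∈ E, ∃ u ∈ U, ∃ x ∈ K, e = u * x := by
    intro e he
    let T : Subgroup G :=
      { carrier := {e | ∃ u ∈ U, ∃ x ∈ K, e = u * x}
        one_mem' := ⟨1, one_mem _, 1, one_mem _, by rw [one_mul]⟩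
        mul_mem' := by
          rintro _ _ ⟨u, hu, x, hx, rfl⟩ ⟨u', hu', x', hx', rfl⟩
          refine ⟨u * (x * u' * x⁻¹), mul_mem hu (conj_mem_of_normalizer (t.nU (hK hx)) hu'), x * x',
            mul_mem hx hx', by group⟩
        inv_mem' := by
          rintro _ ⟨u, hu, x, hx, rfl⟩
          refine ⟨x⁻¹ * u⁻¹ * x, conj_inv_mem_of_normalizer (t.nU (hK hx)) (inv_mem hu), x⁻¹,
            inv_mem hx, by group⟩ }
    have hT : E ≤ T := sup_le (fun u hu => ⟨u, hu, 1, one_mem _, by rw [mul_one]⟩)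
      fun x hx => ⟨1, one_mem _, x, hx, by rw [one_mul]⟩
    exact hT he
  have hcard : ∀ K' : Subgroup G, K' ≤ E → Odd (Nat.card K') → (∀ e ∈ E, ∃ u ∈ U, ∃ x ∈ K', e = u * x) →
      Nat.card K' = U.relIndex E := by
    intro K' hK' hodd' hmul'
    have hd := inf_eq_bot_of_odd t.two hodd'
    -- `K' → E / U` is bijective
    let f : K' → E ⧸ U.subgroupOf E := fun x => QuotientGroup.mk ⟨x, hK' x.2⟩
    have hf : Function.Bijective f := by
      constructor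
      · intro x y hxy
        have h1 := QuotientGroup.eq.1 hxy
        rw [mem_subgroupOf] at h1
        have h2 : (x : G)⁻¹ * y ∈ U ⊓ K' := mem_inf.2 ⟨h1, K'.mul_mem (K'.inv_mem x.2) y.2⟩
        rw [hd, mem_bot, inv_mul_eq_one] at h2
        exact Subtype.ext h2
      · intro e
        obtain ⟨e, rfl⟩ := QuotientGroup.mk_surjective e
        obtain ⟨u, hu, x, hx, h1⟩ := hmul' e e.2
        refine ⟨⟨x, hx⟩, ?_⟩
        apply QuotientGroup.eq.2
        rw [mem_subgroupOf]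
        change x⁻¹ * (e : G) ∈ U
        rw [h1, ← mul_assoc]
        exact conj_inv_mem_of_normalizer (t.nU (hEB (hK' hx))) hu
    rw [Nat.card_eq_of_bijective f hf]
    rfl
  have tE : NT U E := ⟨hUE, hEB.trans t.nU, t.two, by rw [← hcard K hKE hodd hmul]; exact hodd⟩
  have kE : Cpl U E K := ⟨hKE, hcard K hKE hodd hmul⟩
  have hHE : Cpl U E (H ⊓ E) := by
    refine ⟨inf_le_right, hcard _ inf_le_right ?_ ?_⟩
    · exact (t.odd_cpl h).of_dvd_nat (card_dvd_of_le inf_le_left)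
    · intro e he
      obtain ⟨u, hu, x, hx, h1⟩ := t.exists_mul h (hEB he)
      refine ⟨u, hu, x, mem_inf.2 ⟨hx, ?_⟩, h1⟩
      have h2 : x = u⁻¹ * e := by rw [h1]; group
      rw [h2]
      exact E.mul_mem (E.inv_mem (hUE hu)) he
  obtain ⟨u, hu, h3⟩ := tE.conj kE hHE
  exact ⟨u, hu, h3.trans_le inf_le_left⟩

/-- a subgroup `K ≥ H` of `B` of odd order is `H` -/
theorem le_of_le {H K : Subgroup G} (h : Cpl U B H) (hK : K ≤ B) (hHK : H ≤ K) (hodd : Odd (Nat.card K)) :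
    K ≤ H := by
  intro k hk
  obtain ⟨u, hu, x, hx, e⟩ := t.exists_mul h (hK hk)
  have h1 : u ∈ U ⊓ K := by
    refine mem_inf.2 ⟨hu, ?_⟩
    have : u = k * x⁻¹ := by rw [e]; group
    rw [this]
    exact K.mul_mem hk (K.inv_mem (hHK hx))
  rw [inf_eq_bot_of_odd t.two hodd, mem_bot] at h1
  rw [e, h1, one_mul]
  exact hx

/-- `B = U N(H)` for every overgroup -/
theorem frattini {H : Subgroup G} (h : Cpl U B H) {b : G} (hbU : b ∈ normalizer (U : Set G))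
    (hbB : b ∈ normalizer (B : Set G)) : ∃ u ∈ U, u⁻¹ * b ∈ normalizer (H : Set G) := by
  have _ := hbU
  have h1 : Cpl U B (cj b H) := by
    refine ⟨?_, by rw [card_cj, h.card]⟩
    have := cj_mono (g := b) h.HB
    rwa [cj_eq_self_iff.2 hbB] at this
  obtain ⟨u, hu, e⟩ := t.conj h h1
  refine ⟨u, hu, ?_⟩
  rw [← cj_eq_self_iff, cj_mul, ← e, cj_inv_cj]

/-- **the reflection**: if `B = U (B ∩ B^x)` then some element of `U x U` normalises `H` -/
theorem exists_norm {H : Subgroup G} (h : Cpl U B H) {x : G} (hx : ∀ b ∈ B, ∃ u ∈ U, u⁻¹ * b ∈ cj x B) :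
    ∃ u ∈ U, ∃ u' ∈ U, u * x * u' ∈ normalizer (H : Set G) := by
  set T := B ⊓ cj x B with hT
  have hTB : T ≤ B := inf_le_left
  -- `T ∩ U` has the same index in `T`
  have hmul : ∀ b ∈ B, ∃ u ∈ U, ∃ y ∈ T, b = u * y := by
    intro b hb
    obtain ⟨u, hu, h1⟩ := hx b hb
    exact ⟨u, hu, u⁻¹ * b, mem_inf.2 ⟨B.mul_mem (B.inv_mem (t.UB hu)) hb, h1⟩, by group⟩
  have hidx : (T ⊓ U).relIndex T = U.relIndex B := by
    rw [inf_comm, inf_relIndex_right]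
    let f : T ⧸ U.subgroupOf T → B ⧸ U.subgroupOf B :=
      Quotient.map' (fun y : T => (⟨y, hTB y.2⟩ : B)) (by
        intro y z hyz
        rw [QuotientGroup.leftRel_apply] at hyz ⊢
        exact hyz)
    have hf : Function.Bijective f := by
      constructor
      · intro y z
        obtain ⟨y, rfl⟩ := QuotientGroup.mk_surjective y
        obtain ⟨z, rfl⟩ := QuotientGroup.mk_surjective z
        intro hyz
        have h1 : (QuotientGroup.mk (⟨y, hTB y.2⟩ : B) : B ⧸ U.subgroupOf B) = QuotientGroup.mk ⟨z, hTB z.2⟩ :=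
          hyz
        have h2 := QuotientGroup.eq.1 h1
        exact QuotientGroup.eq.2 (show (y : T)⁻¹ * z ∈ U.subgroupOf T from h2)
      · intro b
        obtain ⟨b, rfl⟩ := QuotientGroup.mk_surjective b
        obtain ⟨u, hu, y, hy, h1⟩ := hmul b b.2
        refine ⟨QuotientGroup.mk ⟨y, hy⟩, ?_⟩
        change (QuotientGroup.mk (⟨y, hTB hy⟩ : B) : B ⧸ U.subgroupOf B) = _
        apply QuotientGroup.eq.2
        rw [mem_subgroupOf]
        change y⁻¹ * (b : G) ∈ U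
        rw [h1, ← mul_assoc]
        exact conj_inv_mem_of_normalizer (t.nU (hTB hy)) hu
    exact Nat.card_eq_of_bijective f hf
  have tT : NT (T ⊓ U) T := by
    refine ⟨inf_le_left, ?_, t.two.to_le inf_le_right, by rw [hidx]; exact t.odd⟩
    intro y hy
    rw [← cj_eq_self_iff, cj_inf, cj_of_mem hy, cj_eq_self_iff.2 (t.nU (hTB hy))]
  obtain ⟨H₁, h₁⟩ := tT.exists_cpl
  have h₁' : Cpl U B H₁ := ⟨h₁.HB.trans hTB, by rw [h₁.card, hidx]⟩
  obtain ⟨u, hu, e1⟩ := t.conj h₁' h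
  have h2 : cj (u * x)⁻¹ H ≤ B := by
    rw [← e1, mul_inv_rev, cj_mul, cj_inv_cj]
    have := cj_mono (g := x⁻¹) (h₁.HB.trans inf_le_right)
    rwa [cj_inv_cj] at this
  obtain ⟨u', hu', e2⟩ := t.conj h ⟨h2, by rw [card_cj, h.card]⟩
  refine ⟨u, hu, u', hu', ?_⟩
  rw [← cj_eq_self_iff, cj_mul, e2, cj_cj_inv]

end NT

end Cfsg.Agent.Omega.Hex

end

section


/-!
# II.0h1, mixed pairs, `q = 2` (bb OMEGA #14746): the contradiction from the two sides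

`Sd S r s d V W U Z X` : the facts at the side of `V = {1, r, s, rs}`: `W = W₁`, `U = W₂`, `Z = C_G(W₁ W₂) = {1, r, d, rd}`,
`X` generated by the `W₂(v)`, `v ∈ V^#`; `[W, X] ≤ V`, `[W, U^x] ≤ ⟨r^x⟩`, `C_S(V)^x ≤ S`, `[C_U(V), C_U(V)^x] ≤ ⟨d⟩`.

`kill` : the two sides together are impossible if `|S| > 16`.
-/

set_option autoImplicit false
set_option linter.unusedSectionVars false

namespace Cfsg.Agent.Omega.MixOne.QTwoKill

open Subgroup Cfsg.Agent.Omega.BTwo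
open scoped commutatorElement

variable {G : Type*} [Group G]

/-! ### Commutators -/

theorem ce_one {a b : G} : ⁅a, b⁆ = 1 ↔ a * b = b * a := commutatorElement_eq_one_iff_mul_comm

theorem ce_mul_left (a b c : G) : ⁅a * b, c⁆ = a * ⁅b, c⁆ * a⁻¹ * ⁅a, c⁆ := by
  simp only [commutatorElement_def]; group

theorem ce_mul_right (a b c : G) : ⁅a, b * c⁆ = ⁅a, b⁆ * (b * ⁅a, c⁆ * b⁻¹) := by
  simp only [commutatorElement_def]; group

theorem ce_conj (g a b : G) : g * ⁅a, b⁆ * g⁻¹ = ⁅g * a * g⁻¹, g * b * g⁻¹⁆ := by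
  simp only [commutatorElement_def]; group

theorem conj_of_comm {g a : G} (h : g * a = a * g) : g * a * g⁻¹ = a := by rw [h, mul_inv_cancel_right]

theorem comm_of_conj {g a : G} (h : g * a * g⁻¹ = a) : g * a = a * g := mul_inv_eq_iff_eq_mul.1 h

theorem comm_conj (g : G) {a b : G} (h : a * b = b * a) :
    g * a * g⁻¹ * (g * b * g⁻¹) = g * b * g⁻¹ * (g * a * g⁻¹) := by
  calc g * a * g⁻¹ * (g * b * g⁻¹) = g * (a * b) * g⁻¹ := by group
    _ = g * (b * a) * g⁻¹ := by rw [h]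
    _ = g * b * g⁻¹ * (g * a * g⁻¹) := by group

theorem comm_of_comm_conj (g : G) {a b : G} (h : g * a * g⁻¹ * (g * b * g⁻¹) = g * b * g⁻¹ * (g * a * g⁻¹)) :
    a * b = b * a := by
  have := comm_conj g⁻¹ h
  have e : ∀ x : G, g⁻¹ * (g * x * g⁻¹) * g⁻¹⁻¹ = x := fun x => by group
  rwa [e, e] at this

theorem comm_mul {a b c : G} (h1 : a * b = b * a) (h2 : a * c = c * a) : a * (b * c) = b * c * a := by
  rw [← mul_assoc, h1, mul_assoc, h2, mul_assoc]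

theorem comm_inv {a b : G} (h : a * b = b * a) : a⁻¹ * b = b * a⁻¹ := by
  calc a⁻¹ * b = a⁻¹ * (b * a) * a⁻¹ := by group
    _ = a⁻¹ * (a * b) * a⁻¹ := by rw [h]
    _ = b * a⁻¹ := by group

/-- the facts at one side -/
structure Sd [Finite G] (S : Sylow 2 G) (r s d : G) (V W U Z X : Subgroup G) : Prop where
  r1 : r ≠ 1
  rr : r * r = 1
  d1 : d ≠ 1
  dd : d * d = 1
  dr : d ≠ r
  rZ : r ∈ Z
  dZ : d ∈ Z
  Z_iff : ∀ z, z ∈ Z ↔ (∀ w ∈ W, z * w = w * z) ∧ ∀ u ∈ U, z * u = u * z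
  Zc : ∀ h, h * r = r * h → ∀ z ∈ Z, h * z = z * h
  Z_mem : ∀ z ∈ Z, z = 1 ∨ z = r ∨ z = d ∨ z = r * d
  rV : r ∈ V
  sV : s ∈ V
  V_mem : ∀ v ∈ V, v = 1 ∨ v = r ∨ v = s ∨ v = r * s
  VZ : ∀ v ∈ V, v ∈ Z → v = 1 ∨ v = r
  VW : V ≤ W
  WW : ∀ a ∈ W, ∀ b ∈ W, a * b = b * a
  sq : ∀ a ∈ W, a * a = 1
  nW : ∀ h, h * r = r * h → ∀ w ∈ W, h * w * h⁻¹ ∈ W
  cW : ∀ w ∈ W, ∀ u ∈ U, ⁅w, u⁆ = 1 ∨ ⁅w, u⁆ = r
  cQ : ∀ w ∈ W, ∀ q ∈ O2 (centralizer ({r} : Set G)), ⁅w, q⁆ = 1 ∨ ⁅w, q⁆ = r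
  WS : W ≤ S
  SV : ∀ g ∈ S, ∀ v ∈ V, g * v * g⁻¹ ∈ V
  Sr : ∀ g ∈ S, g * r = r * g
  XV : ∀ x ∈ X, ∀ v ∈ V, x * v * x⁻¹ ∈ V
  Xd : ∀ x ∈ X, x * d = d * x
  cX : ∀ w ∈ W, ∀ x ∈ X, ⁅w, x⁆ ∈ V
  cU : ∀ x ∈ X, ∀ w ∈ W, ∀ u ∈ U, ⁅w, x * u * x⁻¹⁆ = 1 ∨ ⁅w, x * u * x⁻¹⁆ = x * r * x⁻¹
  TT : ∀ x ∈ X, ∀ a ∈ U, ∀ b ∈ U, (∀ v ∈ V, a * v = v * a) → (∀ v ∈ V, b * v = v * b) →
    ⁅a, x * b * x⁻¹⁆ = 1 ∨ ⁅a, x * b * x⁻¹⁆ = d
  Cn : ∀ x ∈ X, ∀ c ∈ S, (∀ v ∈ V, c * v = v * c) → x * c * x⁻¹ ∈ S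
  three : ∃ x ∈ X, (∃ n : ℕ, x ^ 3 ^ n = 1) ∧ x * r * x⁻¹ = s ∧ x * s * x⁻¹ = r * s

variable [Finite G] {S : Sylow 2 G} {r s t d e : G} {V W U Z X V₁ W₁ X₁ V₂ W₂ X₂ : Subgroup G}

namespace Sd

section one

variable (k : Sd S r s d V W U Z X)
include k

theorem rW {w : G} (hw : w ∈ W) : w * r = r * w := (((k.Z_iff r).1 k.rZ).1 w hw).symm

theorem rU {u : G} (hu : u ∈ U) : u * r = r * u := (((k.Z_iff r).1 k.rZ).2 u hu).symm

theorem sW : s ∈ W := k.VW k.sV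

theorem s_ne_one : s ≠ 1 := by
  obtain ⟨x, -, -, h, -⟩ := k.three
  rintro rfl
  apply k.r1
  have e : x⁻¹ * (x * r * x⁻¹) * x = r := by group
  rw [← e, h]; group

theorem s_ne_r : s ≠ r := by
  obtain ⟨x, -, -, h, h'⟩ := k.three
  intro hs
  rw [hs] at h h'
  rw [h, k.rr] at h'
  exact k.r1 h'

theorem sZ : s ∉ Z := fun h => by
  rcases k.VZ s k.sV h with h1 | h1
  · exact k.s_ne_one h1
  · exact k.s_ne_r h1

theorem rs_ne_one : r * s ≠ 1 := by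
  intro h
  apply k.s_ne_r
  calc s = r * r * s := by rw [k.rr, one_mul]
    _ = r * (r * s) := by group
    _ = r := by rw [h, mul_one]

/-- an element commuting with `r` and `s` commutes with `V` -/
theorem comm_V {g : G} (hr : g * r = r * g) (hs : g * s = s * g) : ∀ v ∈ V, g * v = v * g := by
  intro v hv
  rcases k.V_mem v hv with rfl | rfl | rfl | rfl
  · rw [mul_one, one_mul]
  · exact hr
  · exact hs
  · exact comm_mul hr hs

theorem S_s {g : G} (hg : g ∈ S) : g * s * g⁻¹ = s ∨ g * s * g⁻¹ = r * s := by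
  have h1 := k.SV g hg s k.sV
  have e : g⁻¹ * (g * s * g⁻¹) * g = s := by group
  rcases k.V_mem _ h1 with h | h | h | h
  · exfalso
    apply k.s_ne_one
    rw [← e, h]; group
  · exfalso
    apply k.s_ne_r
    rw [← e, h, mul_assoc, ← k.Sr g hg]; group
  · exact Or.inl h
  · exact Or.inr h

theorem Z_sq {z : G} (hz : z ∈ Z) : z * z = 1 := by
  rcases k.Z_mem z hz with rfl | rfl | rfl | rfl
  · rw [mul_one]
  · exact k.rr
  · exact k.dd
  · have h : r * d = d * r := (k.Zc r rfl d k.dZ)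
    calc r * d * (r * d) = r * (d * r) * d := by group
      _ = (r * r) * (d * d) := by rw [← h]; group
      _ = 1 := by rw [k.rr, k.dd, one_mul]

/-- bilinearity of `⟨w, u⟩ := [w, u]` -/
theorem bl {a b u : G} (ha : a * r = r * a) (hb : ⁅b, u⁆ = 1 ∨ ⁅b, u⁆ = r) : ⁅a * b, u⁆ = ⁅b, u⁆ * ⁅a, u⁆ := by
  rw [ce_mul_left]
  rcases hb with h | h
  · rw [h, mul_one, mul_inv_cancel]
  · rw [h, conj_of_comm ha]

theorem br {a b u : G} (ha : a * r = r * a) (hb : ⁅u, b⁆ = 1 ∨ ⁅u, b⁆ = r) : ⁅u, a * b⁆ = ⁅u, a⁆ * ⁅u, b⁆ := by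
  rw [ce_mul_right]
  rcases hb with h | h
  · rw [h, mul_one, mul_one, mul_inv_cancel, mul_one]
  · rw [h, conj_of_comm ha]

theorem exists_u : ∃ u ∈ U, ⁅s, u⁆ = r := by
  by_contra hcon
  push Not at hcon
  apply k.sZ
  rw [k.Z_iff]
  refine ⟨fun w hw => k.WW s k.sW w hw, fun u hu => ?_⟩
  rcases k.cW s k.sW u hu with h | h
  · exact ce_one.1 h
  · exact absurd h (hcon u hu)

theorem conjX {x w : G} (hx : x ∈ X) (hw : w ∈ W) : x * w * x⁻¹ ∈ W := by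
  have h1 := k.VW (k.cX w hw x hx)
  have e : x * w * x⁻¹ = (⁅w, x⁆)⁻¹ * w := by simp only [commutatorElement_def]; group
  rw [e]
  exact mul_mem (inv_mem h1) hw

/-- `w^x = v w` with `v ∈ V` -/
theorem conjX' {x w : G} (hx : x ∈ X) (hw : w ∈ W) : ∃ v ∈ V, x * w * x⁻¹ = v * w := by
  refine ⟨(⁅w, x⁆)⁻¹, inv_mem (k.cX w hw x hx), ?_⟩
  simp only [commutatorElement_def]; group

/-- `C_W(C_U(V)) ≤ V Z` -/
theorem dual {w : G} (hw : w ∈ W) (h : ∀ u ∈ U, u * s = s * u → w * u = u * w) : w ∈ Z ∨ s * w ∈ Z := by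
  obtain ⟨u₀, hu₀, h0⟩ := k.exists_u
  have key : ∀ a ∈ W, a * u₀ = u₀ * a → (∀ u ∈ U, u * s = s * u → a * u = u * a) → a ∈ Z := by
    intro a ha h1 h2
    rw [k.Z_iff]
    refine ⟨fun w hw => k.WW a ha w hw, fun u hu => ?_⟩
    rcases k.cW s k.sW u hu with h3 | h3
    · exact h2 u hu (ce_one.1 h3).symm
    · have h4 : ⁅s, u₀ * u⁆ = 1 := by
        rw [k.br (k.rU hu₀) (Or.inr h3), h0, h3, k.rr]
      have h5 := h2 (u₀ * u) (mul_mem hu₀ hu) (ce_one.1 h4).symm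
      have h6 : u₀ * (a * u) = u₀ * (u * a) := by
        calc u₀ * (a * u) = (u₀ * a) * u := by group
          _ = a * (u₀ * u) := by rw [← h1]; group
          _ = u₀ * u * a := h5
          _ = u₀ * (u * a) := by group
      exact mul_left_cancel h6
  rcases k.cW w hw u₀ hu₀ with h1 | h1
  · exact Or.inl (key w hw (ce_one.1 h1) h)
  · right
    refine key (s * w) (mul_mem k.sW hw) ?_ fun u hu hus => ?_
    · apply ce_one.1
      rw [k.bl (k.rW k.sW) (Or.inr h1), h1, h0, k.rr]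
    · have h2 := h u hu hus
      calc s * w * u = s * (w * u) := by group
        _ = (s * u) * w := by rw [h2]; group
        _ = u * (s * w) := by rw [← hus]; group

end one

/-- **(2)** `[V₁, V₂] ≠ 1` implies `C_{W₂}(V₁) ≤ Z` -/
theorem E_le (k₁ : Sd S r s d V₁ W₁ W₂ Z X₁) (k₂ : Sd S r t e V₂ W₂ W₁ Z X₂) (hst : s * t ≠ t * s) {u : G}
    (hu : u ∈ W₂) (hus : u * s = s * u) : u ∈ Z := by
  obtain ⟨x, hx, -, hxr, hxs⟩ := k₁.three
  have huV : ∀ v ∈ V₁, u * v = v * u := k₁.comm_V (k₂.rW hu) hus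
  have huS : u ∈ S := k₂.WS hu
  have hu'S : x * u * x⁻¹ ∈ S := k₁.Cn x hx u huS huV
  have hu's : x * u * x⁻¹ * s = s * (x * u * x⁻¹) := by
    rw [← hxr]
    exact comm_conj x (k₂.rW hu)
  set u' := x * u * x⁻¹ with hu'
  -- `C_{W₁}(t)` commutes with `u'`
  have h1 : ∀ w ∈ W₁, w * t = t * w → w * u' = u' * w := by
    intro w hw hwt
    rcases k₁.cU x hx w hw u hu with h | h
    · exact ce_one.1 h
    · exfalso
      rw [hxr] at h
      apply hst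
      have hw1 : w⁻¹ * t = t * w⁻¹ := comm_inv hwt
      have hwr : w⁻¹ * r = r * w⁻¹ := k₁.rW (inv_mem hw)
      have h2 : (u' * w⁻¹ * u'⁻¹) * t = t * (u' * w⁻¹ * u'⁻¹) := by
        apply comm_of_comm_conj u'⁻¹
        have e1 : u'⁻¹ * (u' * w⁻¹ * u'⁻¹) * u'⁻¹⁻¹ = w⁻¹ := by group
        rw [e1]
        rcases k₂.S_s (inv_mem hu'S) with h3 | h3
        · rw [h3]; exact hw1
        · rw [h3]; exact comm_mul hwr hw1
      have h4 : s = w * (u' * w⁻¹ * u'⁻¹) := by rw [← h]; simp only [commutatorElement_def, hu']; group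
      rw [h4]
      exact (comm_mul hwt.symm h2.symm).symm
  have h2 : ∀ w ∈ W₁, w * u' = u' * w := by
    intro w hw
    rcases k₁.cW w hw t (k₂.VW k₂.sV) with h | h
    · exact h1 w hw (ce_one.1 h)
    · have hst' : ⁅s, t⁆ = r := by
        rcases k₁.cW s k₁.sW t (k₂.VW k₂.sV) with h3 | h3
        · exact absurd (ce_one.1 h3) hst
        · exact h3
      have h3 : ⁅s * w, t⁆ = 1 := by
        rw [k₁.bl (k₁.rW k₁.sW) (Or.inr h), h, hst', k₁.rr]
      have h4 := h1 (s * w) (mul_mem k₁.sW hw) (ce_one.1 h3)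
      have h5 : s * (w * u') = s * (u' * w) := by
        calc s * (w * u') = s * w * u' := by group
          _ = u' * (s * w) := h4
          _ = (u' * s) * w := by group
          _ = s * (u' * w) := by rw [hu's]; group
      exact mul_left_cancel h5
  rw [k₁.Z_iff]
  refine ⟨fun w hw => ?_, fun w hw => k₂.WW u hu w hw⟩
  exact comm_of_comm_conj x (h2 _ (k₁.conjX hx hw)).symm

/-- **(7)** `[V₁, V₂] ≠ 1` implies `|S| ≤ 16` -/
theorem card_le (k₁ : Sd S r s d V₁ W₁ W₂ Z X₁) (k₂ : Sd S r t e V₂ W₂ W₁ Z X₂) (hst : s * t ≠ t * s) :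
    Nat.card S ≤ 16 := by
  classical
  have half : ∀ {s t d e : G} {V₁ V₂ W₁ W₂ X₁ X₂ : Subgroup G}, Sd S r s d V₁ W₁ W₂ Z X₁ → Sd S r t e V₂ W₂ W₁ Z X₂ →
      s * t ≠ t * s → ∀ g ∈ S, g * s = s * g → ∀ w ∈ W₁, g * w = w * g := by
    intro s t d e V₁ V₂ W₁ W₂ X₁ X₂ k₁ k₂ hst g hg hgs w hw
    have hgZ := k₁.Zc g (k₁.Sr g hg)
    rcases k₁.cW w hw t (k₂.VW k₂.sV) with h | h
    · exact hgZ w (k₂.E_le k₁ hst.symm hw (ce_one.1 h))
    · have hst' : ⁅s, t⁆ = r := by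
        rcases k₁.cW s k₁.sW t (k₂.VW k₂.sV) with h3 | h3
        · exact absurd (ce_one.1 h3) hst
        · exact h3
      have h3 : ⁅s * w, t⁆ = 1 := by
        rw [k₁.bl (k₁.rW k₁.sW) (Or.inr h), h, hst', k₁.rr]
      have h4 := hgZ _ (k₂.E_le k₁ hst.symm (mul_mem k₁.sW hw) (ce_one.1 h3))
      have h5 : s * (g * w) = s * (w * g) := by
        calc s * (g * w) = (s * g) * w := by group
          _ = g * (s * w) := by rw [← hgs]; group
          _ = s * w * g := h4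
          _ = s * (w * g) := by group
      exact mul_left_cancel h5
  have hC : ∀ g ∈ S, g * s = s * g → g * t = t * g → g ∈ Z := by
    intro g hg hgs hgt
    rw [k₁.Z_iff]
    exact ⟨half k₁ k₂ hst g hg hgs, half k₂ k₁ (Ne.symm hst) g hg hgt⟩
  -- the map
  have hZc : Nat.card (Z.subgroupOf (S : Subgroup G)) ≤ 4 := by
    have h1 : Nat.card (Z.subgroupOf (S : Subgroup G)) ≤ Nat.card Z :=
      Nat.card_le_card_of_injective (fun z => (⟨(z : S), z.2⟩ : Z)) fun a b hab => by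
        apply Subtype.ext; apply Subtype.ext
        exact congrArg (fun z : Z => (z : G)) hab
    refine h1.trans ?_
    have hs : (Z : Set G) ⊆ (({1, r, d, r * d} : Finset G) : Set G) := by
      intro z hz
      rcases k₁.Z_mem z hz with rfl | rfl | rfl | rfl <;> simp
    have h2 := Set.ncard_le_ncard hs (Finset.finite_toSet _)
    rw [Set.ncard_coe_finset] at h2
    exact h2.trans Finset.card_le_four
  have h2 : ∀ x y : G, Nat.card {g : G // g = x ∨ g = y} ≤ 2 := by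
    intro x y
    have hs : {g : G | g = x ∨ g = y} ⊆ (({x, y} : Finset G) : Set G) := by
      intro z hz
      simpa using hz
    have := Set.ncard_le_ncard hs (Finset.finite_toSet _)
    rw [Set.ncard_coe_finset] at this
    exact this.trans Finset.card_le_two
  let F : (S ⧸ Z.subgroupOf (S : Subgroup G)) → {g : G // g = s ∨ g = r * s} × {g : G // g = t ∨ g = r * t} :=
    fun q => (⟨(q.out : G) * s * (q.out : G)⁻¹, k₁.S_s q.out.2⟩, ⟨(q.out : G) * t * (q.out : G)⁻¹, k₂.S_s q.out.2⟩)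
  have hF : Function.Injective F := by
    intro p q hpq
    have e1 : (p.out : G) * s * (p.out : G)⁻¹ = (q.out : G) * s * (q.out : G)⁻¹ :=
      congrArg (fun r => (r.1 : G)) hpq
    have e2 : (p.out : G) * t * (p.out : G)⁻¹ = (q.out : G) * t * (q.out : G)⁻¹ :=
      congrArg (fun r => (r.2 : G)) hpq
    have key : ∀ x : G, (p.out : G) * x * (p.out : G)⁻¹ = (q.out : G) * x * (q.out : G)⁻¹ →
        ((p.out : G)⁻¹ * (q.out : G)) * x = x * ((p.out : G)⁻¹ * (q.out : G)) := by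
      intro x hx
      calc ((p.out : G)⁻¹ * (q.out : G)) * x = (p.out : G)⁻¹ * ((q.out : G) * x * (q.out : G)⁻¹) * (q.out : G) := by
            group
        _ = (p.out : G)⁻¹ * ((p.out : G) * x * (p.out : G)⁻¹) * (q.out : G) := by rw [hx]
        _ = x * ((p.out : G)⁻¹ * (q.out : G)) := by group
    have h3 : (p.out : G)⁻¹ * (q.out : G) ∈ Z :=
      hC _ (mul_mem (inv_mem p.out.2) q.out.2) (key s e1) (key t e2)
    have h4 : p.out⁻¹ * q.out ∈ Z.subgroupOf (S : Subgroup G) := h3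
    rw [← QuotientGroup.eq] at h4
    rwa [QuotientGroup.out_eq', QuotientGroup.out_eq'] at h4
  have h1 := Nat.card_le_card_of_injective F hF
  rw [Nat.card_prod] at h1
  have h5 := card_eq_card_quotient_mul_card_subgroup (Z.subgroupOf (S : Subgroup G))
  have h6 : Nat.card {g : G // g = s ∨ g = r * s} * Nat.card {g : G // g = t ∨ g = r * t} ≤ 2 * 2 :=
    Nat.mul_le_mul (h2 _ _) (h2 _ _)
  rw [h5]
  calc Nat.card (S ⧸ Z.subgroupOf (S : Subgroup G)) * Nat.card (Z.subgroupOf (S : Subgroup G)) ≤ 4 * 4 :=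
        Nat.mul_le_mul (h1.trans h6) hZc
    _ = 16 := by norm_num

/-! ### The case `[V₁, V₂] = 1` -/

/-- the elements of `C(r)` which are trivial on `W₁ Z / Z`, `W₂ Z / Z` -/
def Tr (k₁ : Sd S r s d V₁ W₁ W₂ Z X₁) : Subgroup G where
  carrier := {h | h * r = r * h ∧ (∀ w ∈ W₁, h * w * h⁻¹ * w⁻¹ ∈ Z) ∧ ∀ u ∈ W₂, h * u * h⁻¹ * u⁻¹ ∈ Z}
  one_mem' := by
    refine ⟨by rw [one_mul, mul_one], fun w _ => ?_, fun w _ => ?_⟩ <;>
    · have e : 1 * w * 1⁻¹ * w⁻¹ = 1 := by group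
      rw [e]; exact one_mem _
  mul_mem' := by
    rintro g h ⟨g1, g2, g3⟩ ⟨h1, h2, h3⟩
    have key : ∀ w, g * w * g⁻¹ * w⁻¹ ∈ Z → h * w * h⁻¹ * w⁻¹ ∈ Z → g * h * w * (g * h)⁻¹ * w⁻¹ ∈ Z := by
      intro w hg hh
      have e : g * h * w * (g * h)⁻¹ * w⁻¹ = (g * (h * w * h⁻¹ * w⁻¹) * g⁻¹) * (g * w * g⁻¹ * w⁻¹) := by group
      rw [e, conj_of_comm (k₁.Zc g g1 _ hh)]
      exact mul_mem hh hg
    refine ⟨?_, fun w hw => key w (g2 w hw) (h2 w hw), fun w hw => key w (g3 w hw) (h3 w hw)⟩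
    calc g * h * r = g * (h * r) := by group
      _ = (g * r) * h := by rw [h1]; group
      _ = r * (g * h) := by rw [g1]; group
  inv_mem' := by
    rintro g ⟨g1, g2, g3⟩
    have hr : g⁻¹ * r = r * g⁻¹ := comm_inv g1
    have key : ∀ w, g * w * g⁻¹ * w⁻¹ ∈ Z → g⁻¹ * w * g⁻¹⁻¹ * w⁻¹ ∈ Z := by
      intro w hw
      have e : g⁻¹ * w * g⁻¹⁻¹ * w⁻¹ = g⁻¹ * (g * w * g⁻¹ * w⁻¹)⁻¹ * g⁻¹⁻¹ := by group
      rw [e, conj_of_comm (k₁.Zc g⁻¹ hr _ (inv_mem hw))]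
      exact inv_mem hw
    exact ⟨hr, fun w hw => key w (g2 w hw), fun w hw => key w (g3 w hw)⟩

theorem mem_Tr (k₁ : Sd S r s d V₁ W₁ W₂ Z X₁) {h : G} : h ∈ k₁.Tr ↔ h * r = r * h ∧
    (∀ w ∈ W₁, h * w * h⁻¹ * w⁻¹ ∈ Z) ∧ ∀ u ∈ W₂, h * u * h⁻¹ * u⁻¹ ∈ Z := Iff.rfl

theorem Tr_le (k₁ : Sd S r s d V₁ W₁ W₂ Z X₁) (k₂ : Sd S r t e V₂ W₂ W₁ Z X₂) :
    k₁.Tr ≤ O2 (centralizer ({r} : Set G)) := by
  refine le_O2_of_normal (fun h hh => mem_centralizer_singleton_iff.2 hh.1) ?_ ?_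
  · rintro ⟨h, hh⟩
    refine ⟨2, ?_⟩
    apply Subtype.ext
    change h ^ 2 ^ 2 = 1
    obtain ⟨h1, h2, h3⟩ := hh
    have key : ∀ w, h * w * h⁻¹ * w⁻¹ ∈ Z → h * h * w = w * (h * h) := by
      intro w hw
      have hc := k₁.Zc h h1 _ hw
      have hs := k₁.Z_sq hw
      set z := h * w * h⁻¹ * w⁻¹ with hz
      have e1 : h * w * h⁻¹ = z * w := by rw [hz]; group
      apply comm_of_conj
      calc h * h * w * (h * h)⁻¹ = h * (h * w * h⁻¹) * h⁻¹ := by group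
        _ = h * (z * w) * h⁻¹ := by rw [e1]
        _ = (h * z) * w * h⁻¹ := by group
        _ = z * (h * w * h⁻¹) := by rw [hc]; group
        _ = (z * z) * w := by rw [e1]; group
        _ = w := by rw [hs, one_mul]
    have h4 : h * h ∈ Z := by
      rw [k₁.Z_iff]
      exact ⟨fun w hw => key w (h2 w hw), fun w hw => key w (h3 w hw)⟩
    have h5 := k₁.Z_sq h4
    calc h ^ 2 ^ 2 = h * h * (h * h) := by
          rw [show (2 : ℕ) ^ 2 = 2 + 2 from rfl, pow_add, pow_two]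
      _ = 1 := h5
  · intro g hg h hh
    have hgr := mem_centralizer_singleton_iff.1 hg
    have hgr' : g⁻¹ * r = r * g⁻¹ := comm_inv hgr
    obtain ⟨h1, h2, h3⟩ := hh
    have key : ∀ w, h * (g⁻¹ * w * g) * h⁻¹ * (g⁻¹ * w * g)⁻¹ ∈ Z →
        g * h * g⁻¹ * w * (g * h * g⁻¹)⁻¹ * w⁻¹ ∈ Z := by
      intro w hw
      have e : g * h * g⁻¹ * w * (g * h * g⁻¹)⁻¹ * w⁻¹ =
          g * (h * (g⁻¹ * w * g) * h⁻¹ * (g⁻¹ * w * g)⁻¹) * g⁻¹ := by group
      rw [e, conj_of_comm (k₁.Zc g hgr _ hw)]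
      exact hw
    refine ⟨?_, fun w hw => key w (h2 _ ?_), fun w hw => key w (h3 _ ?_)⟩
    · calc g * h * g⁻¹ * r = g * h * (g⁻¹ * r) := by group
        _ = g * (h * r) * g⁻¹ := by rw [hgr']; group
        _ = (g * r) * h * g⁻¹ := by rw [h1]; group
        _ = r * (g * h * g⁻¹) := by rw [hgr]; group
    · have := k₁.nW g⁻¹ hgr' w hw
      rwa [inv_inv] at this
    · have := k₂.nW g⁻¹ hgr' w hw
      rwa [inv_inv] at this

/-- `A = C_G(E₁ E₂)` -/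
def InA (s t : G) (W₁ W₂ : Subgroup G) (g : G) : Prop :=
  (∀ w ∈ W₁, w * t = t * w → g * w = w * g) ∧ ∀ u ∈ W₂, u * s = s * u → g * u = u * g

theorem InA.mul {g h : G} (hg : InA s t W₁ W₂ g) (hh : InA s t W₁ W₂ h) : InA s t W₁ W₂ (g * h) := by
  have key : ∀ w, g * w = w * g → h * w = w * h → g * h * w = w * (g * h) := by
    intro w h1 h2
    calc g * h * w = g * (h * w) := by group
      _ = (g * w) * h := by rw [h2]; group
      _ = w * (g * h) := by rw [h1]; group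
  exact ⟨fun w hw hwt => key w (hg.1 w hw hwt) (hh.1 w hw hwt),
    fun w hw hws => key w (hg.2 w hw hws) (hh.2 w hw hws)⟩

theorem InA.inv {g : G} (hg : InA s t W₁ W₂ g) : InA s t W₁ W₂ g⁻¹ :=
  ⟨fun w hw hwt => comm_inv (hg.1 w hw hwt), fun w hw hws => comm_inv (hg.2 w hw hws)⟩

theorem InA.swap {g : G} (hg : InA s t W₁ W₂ g) : InA t s W₂ W₁ g := ⟨hg.2, hg.1⟩

/-- `g ∈ V₁ V₂ Z` -/
def InP (V₁ V₂ Z : Subgroup G) (g : G) : Prop := ∃ v₁ ∈ V₁, ∃ v₂ ∈ V₂, ∃ z ∈ Z, g = v₁ * v₂ * z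

section two

variable (k₁ : Sd S r s d V₁ W₁ W₂ Z X₁) (k₂ : Sd S r t e V₂ W₂ W₁ Z X₂) (hst : s * t = t * s)
include k₁ k₂ hst

theorem inA_r {g : G} (hg : InA s t W₁ W₂ g) : g * r = r * g :=
  hg.1 r (k₁.VW k₁.rV) (k₂.rW k₂.sW).symm

theorem inA_s {g : G} (hg : InA s t W₁ W₂ g) : g * s = s * g := hg.1 s k₁.sW hst

theorem inA_V {g : G} (hg : InA s t W₁ W₂ g) : ∀ v ∈ V₁, g * v = v * g :=
  k₁.comm_V (k₁.inA_r k₂ hst hg) (k₁.inA_s k₂ hst hg)

theorem inA_Z {z : G} (hz : z ∈ Z) : InA s t W₁ W₂ z :=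
  ⟨fun w hw _ => ((k₁.Z_iff z).1 hz).1 w hw, fun w hw _ => ((k₁.Z_iff z).1 hz).2 w hw⟩

theorem inA_V₁ {v : G} (hv : v ∈ V₁) : InA s t W₁ W₂ v := by
  refine ⟨fun w hw _ => k₁.WW v (k₁.VW hv) w hw, fun u hu hus => ?_⟩
  exact (k₁.comm_V (k₁.rU hu) hus v hv).symm

theorem inA_V₂ {v : G} (hv : v ∈ V₂) : InA s t W₁ W₂ v :=
  (k₂.inA_V₁ k₁ hst.symm hv).swap

theorem s_inv (k₁ : Sd S r s d V₁ W₁ W₂ Z X₁) : s⁻¹ = s := inv_eq_of_mul_eq_one_left (k₁.sq s k₁.sW)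

/-- an element of `A` which is trivial on `W₁ Z / Z`, `W₂ Z / Z` is in `V₁ V₂ Z` -/
theorem inP_of {w u : G} (hw : w ∈ W₁) (hwt : ⁅w, t⁆ = r) (hu : u ∈ W₂) (hus : ⁅u, s⁆ = r) {g : G}
    (hg : InA s t W₁ W₂ g) (h1 : g * w * g⁻¹ * w ∈ Z) (h2 : g * u * g⁻¹ * u ∈ Z) : InP V₁ V₂ Z g := by
  -- `W₁ = E₁ ∪ w E₁`
  have dec : ∀ {s t d e : G} {V₁ V₂ W₁ W₂ X₁ X₂ : Subgroup G}, Sd S r s d V₁ W₁ W₂ Z X₁ → Sd S r t e V₂ W₂ W₁ Z X₂ →
      ∀ {w : G}, w ∈ W₁ → ⁅w, t⁆ = r → ∀ a ∈ W₁, a * t = t * a ∨ ∃ b ∈ W₁, b * t = t * b ∧ a = w * b := by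
    intro s t d e V₁ V₂ W₁ W₂ X₁ X₂ k₁ k₂ w hw hwt a ha
    rcases k₁.cW a ha t k₂.sW with h | h
    · exact Or.inl (ce_one.1 h)
    · right
      refine ⟨w * a, mul_mem hw ha, ce_one.1 ?_, ?_⟩
      · rw [k₁.bl (k₁.rW hw) (Or.inr h), h, hwt, k₁.rr]
      · rw [← mul_assoc, k₁.sq w hw, one_mul]
  have hwi : w⁻¹ = w := inv_eq_of_mul_eq_one_left (k₁.sq w hw)
  have hui : u⁻¹ = u := inv_eq_of_mul_eq_one_left (k₂.sq u hu)
  -- `g` is trivial on `W₁ Z / Z`, `W₂ Z / Z`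
  have hgr := k₁.inA_r k₂ hst hg
  have hgT : g ∈ k₁.Tr := by
    have key : ∀ w b : G, g * w * g⁻¹ * w⁻¹ ∈ Z → g * b = b * g → g * (w * b) * g⁻¹ * (w * b)⁻¹ ∈ Z := by
      intro w b h3 h4
      have e : g * (w * b) * g⁻¹ * (w * b)⁻¹ = g * w * g⁻¹ * w⁻¹ := by
        calc g * (w * b) * g⁻¹ * (w * b)⁻¹ = g * w * g⁻¹ * (g * b * g⁻¹) * b⁻¹ * w⁻¹ := by group
          _ = g * w * g⁻¹ * w⁻¹ := by rw [conj_of_comm h4]; group
      rw [e]; exact h3
    have key2 : ∀ b : G, g * b = b * g → g * b * g⁻¹ * b⁻¹ ∈ Z := by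
      intro b hb
      rw [conj_of_comm hb, mul_inv_cancel]
      exact one_mem _
    rw [k₁.mem_Tr]
    refine ⟨hgr, fun a ha => ?_, fun a ha => ?_⟩
    · rcases dec k₁ k₂ hw hwt a ha with h | ⟨b, hb, hbt, rfl⟩
      · exact key2 a (hg.1 a ha h)
      · exact key w b (by rw [hwi]; exact h1) (hg.1 b hb hbt)
    · rcases dec k₂ k₁ hu hus a ha with h | ⟨b, hb, hbt, rfl⟩
      · exact key2 a (hg.2 a ha h)
      · exact key u b (by rw [hui]; exact h2) (hg.2 b hb hbt)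
  have hgQ := k₁.Tr_le k₂ hgT
  have c1 := k₁.cQ w hw g hgQ
  have c2 := k₂.cQ u hu g hgQ
  -- correct by `t`, `s`
  have hwr := k₁.rW hw
  have hur := k₂.rW hu
  have hsr := k₁.rW k₁.sW
  have htr := k₂.rW k₂.sW
  have hus' : ⁅u, s⁆ = r := hus
  have key : ∀ a b : G, a = 1 ∨ a = t → b = 1 ∨ b = s → ⁅w, g * a⁆ = 1 → ⁅u, g * b⁆ = 1 → InP V₁ V₂ Z g := by
    intro a b ha hb h3 h4
    have haV : a ∈ V₂ := by
      rcases ha with rfl | rfl
      · exact one_mem _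
      · exact k₂.sV
    have hbV : b ∈ V₁ := by
      rcases hb with rfl | rfl
      · exact one_mem _
      · exact k₁.sV
    have hab : a * b = b * a := by
      rcases ha with rfl | rfl
      · rw [one_mul, mul_one]
      · rcases hb with rfl | rfl
        · rw [one_mul, mul_one]
        · exact hst.symm
    have haa : a * a = 1 := k₂.sq a (k₂.VW haV)
    have hbb : b * b = 1 := k₁.sq b (k₁.VW hbV)
    have hA : InA s t W₁ W₂ (g * a * b) := (hg.mul (k₁.inA_V₂ k₂ hst haV)).mul (k₁.inA_V₁ k₂ hst hbV)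
    have hw' : w * (g * a * b) = g * a * b * w :=
      comm_mul (ce_one.1 h3) (k₁.WW w hw b (k₁.VW hbV))
    have hu' : u * (g * a * b) = g * a * b * u := by
      have : g * a * b = g * b * a := by rw [mul_assoc, hab, ← mul_assoc]
      rw [this]
      exact comm_mul (ce_one.1 h4) (k₂.WW u hu a (k₂.VW haV))
    have hz : g * a * b ∈ Z := by
      rw [k₁.Z_iff]
      constructor
      · intro c hc
        rcases dec k₁ k₂ hw hwt c hc with h | ⟨b', hb', hbt, rfl⟩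
        · exact hA.1 c hc h
        · exact comm_mul hw'.symm (hA.1 b' hb' hbt)
      · intro c hc
        rcases dec k₂ k₁ hu hus c hc with h | ⟨b', hb', hbt, rfl⟩
        · exact hA.2 c hc h
        · exact comm_mul hu'.symm (hA.2 b' hb' hbt)
    refine ⟨b, hbV, a, haV, _, hz, ?_⟩
    have hzb := (((k₁.Z_iff _).1 hz).1 b (k₁.VW hbV))
    have hza := (((k₁.Z_iff _).1 hz).2 a (k₂.VW haV))
    symm
    calc b * a * (g * a * b) = b * (g * a * b * a) := by rw [hza]; group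
      _ = b * (g * a * (a * b)) := by rw [hab]; group
      _ = b * (g * (a * a) * b) := by group
      _ = b * (g * b) := by rw [haa, mul_one]
      _ = (b * b) * g := by
        have : g * b = b * g := k₁.inA_V k₂ hst hg b hbV
        rw [this]; group
      _ = g := by rw [hbb, one_mul]
  have hg1 : ⁅w, g⁆ = 1 → ⁅w, g * 1⁆ = 1 := fun h => by rw [mul_one]; exact h
  have hg2 : ⁅w, g⁆ = r → ⁅w, g * t⁆ = 1 := fun h => by rw [k₁.br hgr (Or.inr hwt), h, hwt, k₁.rr]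
  have hg3 : ⁅u, g⁆ = 1 → ⁅u, g * 1⁆ = 1 := fun h => by rw [mul_one]; exact h
  have hg4 : ⁅u, g⁆ = r → ⁅u, g * s⁆ = 1 := fun h => by rw [k₁.br hgr (Or.inr hus), h, hus, k₁.rr]
  rcases c1 with c1 | c1 <;> rcases c2 with c2 | c2
  · exact key 1 1 (Or.inl rfl) (Or.inl rfl) (hg1 c1) (hg3 c2)
  · exact key 1 s (Or.inl rfl) (Or.inr rfl) (hg1 c1) (hg4 c2)
  · exact key t 1 (Or.inr rfl) (Or.inl rfl) (hg2 c1) (hg3 c2)
  · exact key t s (Or.inr rfl) (Or.inr rfl) (hg2 c1) (hg4 c2)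

/-- `g w g⁻¹ w ∈ Z ∪ s Z` -/
theorem shift {w : G} (hw : w ∈ W₁) {g : G} (hg : InA s t W₁ W₂ g) :
    g * w * g⁻¹ * w ∈ Z ∨ s * (g * w * g⁻¹ * w) ∈ Z := by
  have hgr := k₁.inA_r k₂ hst hg
  have hgw := k₁.nW g hgr w hw
  refine k₁.dual (mul_mem hgw hw) fun u hu hus => ?_
  apply ce_one.1
  have hgu := hg.2 u hu hus
  have h1 : ⁅g * w * g⁻¹, u⁆ = ⁅w, u⁆ := by
    have e : ⁅g * w * g⁻¹, u⁆ = g * ⁅w, u⁆ * g⁻¹ := by
      rw [ce_conj, conj_of_comm hgu]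
    rw [e]
    rcases k₁.cW w hw u hu with h | h
    · rw [h]; group
    · rw [h, conj_of_comm hgr]
  rw [k₁.bl (k₁.rW hgw) (k₁.cW w hw u hu), h1]
  rcases k₁.cW w hw u hu with h | h
  · rw [h, one_mul]
  · rw [h, k₁.rr]

/-- the two shifts are trivial simultaneously -/
theorem shift_iff {w u : G} (hw : w ∈ W₁) (hwt : ⁅w, t⁆ = r) (hu : u ∈ W₂) {g : G}
    (hg : InA s t W₁ W₂ g) (h1 : g * w * g⁻¹ * w ∈ Z) : g * u * g⁻¹ * u ∈ Z := by
  rcases k₂.shift k₁ hst.symm hu hg.swap with h | h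
  · exact h
  exfalso
  have hgr := k₁.inA_r k₂ hst hg
  have hgw := k₁.nW g hgr w hw
  have hgu := k₂.nW g hgr u hu
  set b := g * u * g⁻¹ * u with hb
  have hbW : b ∈ W₂ := mul_mem hgu hu
  -- `[w^g, u^g] = [w, u]`
  have e1 : ⁅g * w * g⁻¹, g * u * g⁻¹⁆ = ⁅w, u⁆ := by
    rw [← ce_conj]
    rcases k₁.cW w hw u hu with h | h
    · rw [h]; group
    · rw [h, conj_of_comm hgr]
  have e2 : g * w * g⁻¹ = (g * w * g⁻¹ * w) * w := by
    rw [mul_assoc (g * w * g⁻¹) w w, k₁.sq w hw, mul_one]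
  have e3 : g * u * g⁻¹ = b * u := by rw [hb, mul_assoc (g * u * g⁻¹) u u, k₂.sq u hu, mul_one]
  have hzc := (k₁.Z_iff _).1 h1
  have e4 : ⁅(g * w * g⁻¹ * w) * w, b * u⁆ = ⁅w, b⁆ * ⁅w, u⁆ := by
    have h5 : ⁅g * w * g⁻¹ * w, b * u⁆ = 1 := ce_one.2 (hzc.2 _ (mul_mem hbW hu))
    rw [k₁.bl (k₁.rW (mul_mem hgw hw)) (k₁.cW w hw _ (mul_mem hbW hu)), h5, mul_one,
      k₁.br (k₂.rW hbW) (k₁.cW w hw u hu)]
  rw [e2, e3, e4] at e1
  have e5 : ⁅w, b⁆ = 1 := mul_eq_right.1 e1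
  have e6 : ⁅w, t * b⁆ = 1 := ce_one.2 (((k₁.Z_iff _).1 h).1 w hw).symm
  rw [k₁.br (k₂.rW k₂.sW) (k₁.cW w hw b hbW), hwt, e5, mul_one] at e6
  exact k₁.r1 e6

theorem exists_wu : ∃ w ∈ W₁, ⁅w, t⁆ = r ∧ ∃ u ∈ W₂, ⁅u, s⁆ = r := by
  obtain ⟨w, hw, h1⟩ := k₂.exists_u
  obtain ⟨u, hu, h2⟩ := k₁.exists_u
  have hri : r⁻¹ = r := inv_eq_of_mul_eq_one_left k₁.rr
  refine ⟨w, hw, ?_, u, hu, ?_⟩
  · rw [← commutatorElement_inv, h1, hri]
  · rw [← commutatorElement_inv, h2, hri]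

/-- **(3)** `|A : V₁ V₂ Z| ≤ 2` -/
theorem inP_mul {g h : G} (hg : InA s t W₁ W₂ g) (hh : InA s t W₁ W₂ h) (hg' : ¬ InP V₁ V₂ Z g)
    (hh' : ¬ InP V₁ V₂ Z h) : InP V₁ V₂ Z (g * h) := by
  obtain ⟨w, hw, hwt, u, hu, hus⟩ := k₁.exists_wu k₂ hst
  have key : ∀ g, InA s t W₁ W₂ g → ¬ InP V₁ V₂ Z g → s * (g * w * g⁻¹ * w) ∈ Z := by
    intro g hg hg'
    rcases k₁.shift k₂ hst hw hg with h1 | h1
    · exact absurd (k₁.inP_of k₂ hst hw hwt hu hus hg h1 (k₁.shift_iff k₂ hst hw hwt hu hg h1)) hg'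
    · exact h1
  have h1 := key g hg hg'
  have h2 := key h hh hh'
  have hgh := hg.mul hh
  have h3 : g * h * w * (g * h)⁻¹ * w ∈ Z := by
    -- `g` commutes with `a := h w h⁻¹ w`
    have ha : h * w * h⁻¹ * w ∈ W₁ := mul_mem (k₁.nW h (k₁.inA_r k₂ hst hh) w hw) hw
    have hss : s * s = 1 := k₁.sq s k₁.sW
    have hwi : w * w = 1 := k₁.sq w hw
    have hga : g * (h * w * h⁻¹ * w) = h * w * h⁻¹ * w * g := by
      have e : h * w * h⁻¹ * w = s * (s * (h * w * h⁻¹ * w)) := by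
        rw [← mul_assoc s s, hss, one_mul]
      rw [e]
      exact comm_mul (k₁.inA_s k₂ hst hg) (k₁.Zc g (k₁.inA_r k₂ hst hg) _ h2)
    have e : g * h * w * (g * h)⁻¹ * w = (s * (h * w * h⁻¹ * w)) * (s * (g * w * g⁻¹ * w)) := by
      calc g * h * w * (g * h)⁻¹ * w = g * (h * w * h⁻¹ * (w * w)) * g⁻¹ * w := by rw [hwi]; group
        _ = (g * (h * w * h⁻¹ * w)) * w * g⁻¹ * w := by group
        _ = (h * w * h⁻¹ * w) * (g * w * g⁻¹ * w) := by rw [hga]; group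
        _ = ((h * w * h⁻¹ * w) * (s * s)) * (g * w * g⁻¹ * w) := by rw [hss, mul_one]
        _ = ((h * w * h⁻¹ * w) * s) * (s * (g * w * g⁻¹ * w)) := by group
        _ = (s * (h * w * h⁻¹ * w)) * (s * (g * w * g⁻¹ * w)) := by rw [k₁.WW _ ha s k₁.sW]
    rw [e]
    exact mul_mem h2 h1
  exact k₁.inP_of k₂ hst hw hwt hu hus hgh h3 (k₁.shift_iff k₂ hst hw hwt hu hgh h3)

/-- **(4)** `V₂^x ≤ A` for `x ∈ X₁` -/
theorem inA_conj {x v : G} (hx : x ∈ X₁) (hv : v ∈ V₂) : InA s t W₁ W₂ (x * v * x⁻¹) := by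
  have hvA := k₁.inA_V₂ k₂ hst hv
  constructor
  · intro w hw hwt
    obtain ⟨v₁, hv₁, e⟩ := k₁.conjX' (inv_mem hx) hw
    apply comm_of_comm_conj x⁻¹
    have e1 : x⁻¹ * (x * v * x⁻¹) * x⁻¹⁻¹ = v := by group
    rw [e1, e]
    exact comm_mul (k₁.inA_V k₂ hst hvA v₁ hv₁) (hvA.1 w hw hwt)
  · intro u hu hus
    have huV : ∀ v ∈ V₁, u * v = v * u := k₁.comm_V (k₁.rU hu) hus
    have hvV : ∀ v' ∈ V₁, v * v' = v' * v := k₁.inA_V k₂ hst hvA
    rcases k₁.TT x hx u hu v (k₂.VW hv) huV hvV with h1 | h1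
    · exact (ce_one.1 h1).symm
    exfalso
    -- `[u, v^x] = [u^(x⁻¹), v]^x ∈ ⟨r^x⟩`
    have hu' : x⁻¹ * u * x⁻¹⁻¹ ∈ S := k₁.Cn x⁻¹ (inv_mem hx) u (k₂.WS hu) huV
    set u' := x⁻¹ * u * x⁻¹⁻¹ with hu'e
    have e1 : ⁅u, x * v * x⁻¹⁆ = x * ⁅u', v⁆ * x⁻¹ := by
      rw [ce_conj]
      congr 1
      rw [hu'e]; group
    have h2 : ⁅u', v⁆ = 1 ∨ ⁅u', v⁆ = r := by
      have hrr := k₁.rr
      have hur : u' * r = r * u' := k₁.Sr u' hu'
      have ht := k₂.S_s hu'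
      have key : ∀ v, ⁅u', v⁆ = u' * v * u'⁻¹ * v⁻¹ := fun v => rfl
      have htt : t * t = 1 := k₂.sq t k₂.sW
      rcases k₂.V_mem v hv with rfl | rfl | rfl | rfl
      · left; rw [key]; group
      · left; exact ce_one.2 hur
      · rcases ht with h | h
        · left; exact ce_one.2 (comm_of_conj h)
        · right; rw [key, h, mul_inv_cancel_right]
      · rcases ht with h | h
        · left; exact ce_one.2 (comm_mul hur (comm_of_conj h))
        · right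
          rw [key]
          calc u' * (r * t) * u'⁻¹ * (r * t)⁻¹ = (u' * r * u'⁻¹) * (u' * t * u'⁻¹) * t⁻¹ * r⁻¹ := by group
            _ = r * (r * t) * t⁻¹ * r⁻¹ := by rw [h, conj_of_comm hur]
            _ = r := by group
    rw [h1] at e1
    rcases h2 with h2 | h2
    · rw [h2, mul_one, mul_inv_cancel] at e1
      exact k₁.d1 e1
    · rw [h2] at e1
      have h3 : d ∈ V₁ := by rw [e1]; exact k₁.XV x hx r k₁.rV
      rcases k₁.VZ d h3 k₁.dZ with h4 | h4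
      · exact k₁.d1 h4
      · exact k₁.dr h4

/-- the functional `w` on `V₁ V₂ Z` -/
theorem ce_prod {w : G} (hw : w ∈ W₁) {v₁ v₂ z : G} (hv₁ : v₁ ∈ V₁) (hv₂ : v₂ ∈ V₂) (hz : z ∈ Z) :
    ⁅w, v₁ * v₂ * z⁆ = ⁅w, v₂⁆ := by
  have hzw : ⁅w, z⁆ = 1 := ce_one.2 (((k₁.Z_iff z).1 hz).1 w hw).symm
  have h1 : ⁅w, v₁⁆ = 1 := ce_one.2 (k₁.WW w hw v₁ (k₁.VW hv₁))
  have h2 := k₁.cW w hw v₂ (k₂.VW hv₂)
  have hr1 := k₁.rW (k₁.VW hv₁)
  have hr2 := k₂.rW (k₂.VW hv₂)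
  have hr3 : v₁ * v₂ * r = r * (v₁ * v₂) := (comm_mul hr1.symm hr2.symm).symm
  rw [k₁.br hr3 (Or.inl hzw), hzw, mul_one, k₁.br hr1 h2, h1, one_mul]

theorem InP.ce {w : G} (hw : w ∈ W₁) {g : G} (hg : InP V₁ V₂ Z g) : ⁅w, g⁆ = 1 ∨ ⁅w, g⁆ = r := by
  obtain ⟨v₁, hv₁, v₂, hv₂, z, hz, rfl⟩ := hg
  rw [k₁.ce_prod k₂ hst hw hv₁ hv₂ hz]
  exact k₁.cW w hw v₂ (k₂.VW hv₂)

/-- `V₂^x ≰ V₁ V₂ Z` -/
theorem not_inP {x : G} (hx : x ∈ X₁) (hxr : x * r * x⁻¹ = s) : ¬ InP V₁ V₂ Z (x * t * x⁻¹) := by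
  intro h
  obtain ⟨w, hw, hwt, -⟩ := k₁.exists_wu k₂ hst
  have h1 := InP.ce k₁ k₂ hst hw h
  obtain ⟨v, hv, e⟩ := k₁.conjX' (inv_mem hx) hw
  have h2 : ⁅w, x * t * x⁻¹⁆ = s := by
    have e1 : ⁅w, x * t * x⁻¹⁆ = x * ⁅v * w, t⁆ * x⁻¹ := by
      rw [ce_conj, ← e]
      congr 1
      group
    have e2 : ⁅v * w, t⁆ = r := by
      have h3 : ⁅v, t⁆ = 1 := ce_one.2 (k₁.inA_V k₂ hst (k₁.inA_V₂ k₂ hst k₂.sV) v hv).symm
      rw [k₁.bl (k₁.rW (k₁.VW hv)) (Or.inr hwt), hwt, h3, mul_one]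
    rw [e1, e2, hxr]
  rw [h2] at h1
  rcases h1 with h1 | h1
  · exact k₁.s_ne_one h1
  · exact k₁.s_ne_r h1

/-- **(4)** `A = V₁ V₂ Z ⟨t^x⟩` -/
theorem inA_cases {x : G} (hx : x ∈ X₁) (hxr : x * r * x⁻¹ = s) {a : G} (ha : InA s t W₁ W₂ a) :
    InP V₁ V₂ Z a ∨ InP V₁ V₂ Z (a * (x * t * x⁻¹)) := by
  by_cases h : InP V₁ V₂ Z a
  · exact Or.inl h
  · exact Or.inr (k₁.inP_mul k₂ hst ha (k₁.inA_conj k₂ hst hx k₂.sV) h (k₁.not_inP k₂ hst hx hxr))

/-- **(4)** `A` is `X₁`-invariant -/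
theorem inA_X {y : G} (hy : y ∈ X₁) {a : G} (ha : InA s t W₁ W₂ a) : InA s t W₁ W₂ (y * a * y⁻¹) := by
  obtain ⟨x, hx, -, hxr, -⟩ := k₁.three
  have key : ∀ g, InP V₁ V₂ Z g → InA s t W₁ W₂ (y * g * y⁻¹) := by
    rintro g ⟨v₁, hv₁, v₂, hv₂, z, hz, rfl⟩
    have e : y * (v₁ * v₂ * z) * y⁻¹ = (y * v₁ * y⁻¹) * (y * v₂ * y⁻¹) * (y * z * y⁻¹) := by group
    have hV := k₁.inA_V₁ k₂ hst (k₁.XV y hy _ hv₁)
    have hr := k₁.inA_V₁ k₂ hst (k₁.XV y hy _ k₁.rV)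
    have hd : InA s t W₁ W₂ (y * d * y⁻¹) := by
      rw [conj_of_comm (k₁.Xd y hy)]; exact k₁.inA_Z k₂ hst k₁.dZ
    rw [e]
    refine (hV.mul (k₁.inA_conj k₂ hst hy hv₂)).mul ?_
    rcases k₁.Z_mem z hz with rfl | rfl | rfl | rfl
    · have e1 : y * 1 * y⁻¹ = 1 := by group
      rw [e1]; exact k₁.inA_Z k₂ hst (one_mem _)
    · exact hr
    · exact hd
    · have e1 : y * (r * d) * y⁻¹ = (y * r * y⁻¹) * (y * d * y⁻¹) := by group
      rw [e1]; exact hr.mul hd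
  rcases k₁.inA_cases k₂ hst hx hxr ha with h | h
  · exact key a h
  · have h1 := (key _ h).mul (k₁.inA_conj k₂ hst (mul_mem hy hx) (inv_mem k₂.sV))
    have e : y * (a * (x * t * x⁻¹)) * y⁻¹ * (y * x * t⁻¹ * (y * x)⁻¹) = y * a * y⁻¹ := by group
    rwa [e] at h1

/-- **(5)** `C_A(x) ≤ ⟨d⟩` -/
theorem fixed {x : G} (hx : x ∈ X₁) (hxr : x * r * x⁻¹ = s) (hxs : x * s * x⁻¹ = r * s) {a : G}
    (ha : InA s t W₁ W₂ a) (hxa : x * a = a * x) : a = 1 ∨ a = d := by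
  obtain ⟨w, hw, hwt, u, hu, hus⟩ := k₁.exists_wu k₂ hst
  have haV := k₁.inA_V k₂ hst ha
  have hrr := k₁.rr
  have hss : s * s = 1 := k₁.sq s k₁.sW
  have hsr : s * r = r * s := k₁.rW k₁.sW
  -- fixed points of `x` on `V₁`
  have hfix : ∀ v ∈ V₁, x * v = v * x → v = 1 := by
    intro v hv h
    have h' := conj_of_comm h
    rcases k₁.V_mem v hv with rfl | rfl | rfl | rfl
    · rfl
    · rw [hxr] at h'
      exact absurd h' k₁.s_ne_r
    · rw [hxs] at h'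
      exact absurd (mul_eq_right.1 h') k₁.r1
    · exfalso
      have e1 : x * (r * s) * x⁻¹ = (x * r * x⁻¹) * (x * s * x⁻¹) := by group
      rw [e1, hxr, hxs, ← mul_assoc, hsr, mul_assoc, hss, mul_one] at h'
      exact k₁.s_ne_one (mul_eq_left.1 h'.symm)
  -- `[w, a] ∈ V₁`
  have hφ : ⁅w, a⁆ ∈ V₁ := by
    have hP : ∀ g, InP V₁ V₂ Z g → ⁅w, g⁆ ∈ V₁ := by
      intro g hg
      rcases InP.ce k₁ k₂ hst hw hg with h | h
      · rw [h]; exact one_mem _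
      · rw [h]; exact k₁.rV
    rcases k₁.inA_cases k₂ hst hx hxr ha with h | h
    · exact hP a h
    · have e : a = a * (x * t * x⁻¹) * (x * t⁻¹ * x⁻¹) := by group
      have h2 : ⁅w, x * t⁻¹ * x⁻¹⁆ ∈ V₁ := by
        rcases k₁.cU x hx w hw t⁻¹ (inv_mem k₂.sW) with h3 | h3
        · rw [h3]; exact one_mem _
        · rw [h3]; exact k₁.XV x hx r k₁.rV
      have h4 := k₁.inA_V k₂ hst (ha.mul (k₁.inA_conj k₂ hst hx k₂.sV))
      rw [e, ce_mul_right, conj_of_comm (h4 _ h2)]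
      exact mul_mem (hP _ h) h2
  have hφ1 : ⁅w, a⁆ = 1 := by
    apply hfix _ hφ
    apply comm_of_conj
    obtain ⟨v, hv, e⟩ := k₁.conjX' hx hw
    rw [ce_conj, e, conj_of_comm hxa, ce_mul_left, ce_one.2 (haV v hv).symm, mul_one,
      conj_of_comm (k₁.WW v (k₁.VW hv) _ (k₁.VW hφ))]
  have hwa : w * a = a * w := ce_one.1 hφ1
  have hww : w * w = 1 := k₁.sq w hw
  have h1 : a * w * a⁻¹ * w ∈ Z := by
    rw [← hwa, mul_inv_cancel_right, hww]; exact one_mem _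
  obtain ⟨v₁, hv₁, v₂, hv₂, z, hz, e⟩ :=
    k₁.inP_of k₂ hst hw hwt hu hus ha h1 (k₁.shift_iff k₂ hst hw hwt hu ha h1)
  have h2 : ⁅w, v₂⁆ = 1 := by rw [← hφ1, e, k₁.ce_prod k₂ hst hw hv₁ hv₂ hz]
  have hv₂' : v₂ ∈ V₁ := by
    rcases k₂.V_mem v₂ hv₂ with rfl | rfl | rfl | rfl
    · exact one_mem _
    · exact k₁.rV
    · rw [hwt] at h2
      exact absurd h2 k₁.r1
    · rw [k₁.br rfl (Or.inr hwt), hwt, ce_one.2 (k₁.rW hw), one_mul] at h2
      exact absurd h2 k₁.r1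
  -- `a ∈ V₁` or `a ∈ V₁ d`
  have h3 : (∃ v ∈ V₁, a = v) ∨ ∃ v ∈ V₁, a = v * d := by
    rcases k₁.Z_mem z hz with rfl | rfl | rfl | rfl
    · left; exact ⟨_, mul_mem hv₁ hv₂', by rw [e, mul_one]⟩
    · left; exact ⟨_, mul_mem (mul_mem hv₁ hv₂') k₁.rV, e⟩
    · right; exact ⟨_, mul_mem hv₁ hv₂', e⟩
    · right; exact ⟨_, mul_mem (mul_mem hv₁ hv₂') k₁.rV, by rw [e]; group⟩
  rcases h3 with ⟨v, hv, rfl⟩ | ⟨v, hv, rfl⟩
  · exact Or.inl (hfix _ hv hxa)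
  · right
    have hxd := k₁.Xd x hx
    have h4 : x * v = v * x := by
      have e1 : v = v * d * d⁻¹ := by group
      rw [e1]
      exact comm_mul hxa (comm_inv hxd.symm).symm
    rw [hfix v hv h4, one_mul]

end two

/-- **(0)** `r ≁ d` -/
theorem not_conj_rd (k₁ : Sd S r s d V₁ W₁ W₂ Z X₁) (g : G) : g * r * g⁻¹ ≠ d := by
  intro h
  obtain ⟨x, hx, -, hxr, -⟩ := k₁.three
  have h1 : centralizer ({r} : Set G) ≤ centralizer ({d} : Set G) := fun c hc =>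
    mem_centralizer_singleton_iff.2 (k₁.Zc c (mem_centralizer_singleton_iff.1 hc) d k₁.dZ)
  have h2 : centralizer ({d} : Set G) ≤ cj g (centralizer ({r} : Set G)) := by
    intro c hc
    rw [mem_cj, mem_centralizer_singleton_iff]
    have hc' := mem_centralizer_singleton_iff.1 hc
    apply comm_of_comm_conj g
    have e : g * (g⁻¹ * c * g) * g⁻¹ = c := by group
    rw [e, h]
    exact hc'
  have h3 : Nat.card (centralizer ({d} : Set G)) ≤ Nat.card (centralizer ({r} : Set G)) := by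
    rw [← card_cj g (centralizer ({r} : Set G))]
    exact card_le_of_le h2
  have h4 := eq_of_le_of_card_ge h1 h3
  have h5 : x ∈ centralizer ({r} : Set G) := by
    rw [h4]
    exact mem_centralizer_singleton_iff.2 (k₁.Xd x hx)
  have h6 := conj_of_comm (mem_centralizer_singleton_iff.1 h5)
  rw [hxr] at h6
  exact k₁.s_ne_r h6

theorem Z_S (k₁ : Sd S r s d V₁ W₁ W₂ Z X₁) {z : G} (hz : z ∈ Z) : ∀ g ∈ S, g * z = z * g := fun g hg =>
  k₁.Zc g (k₁.Sr g hg) z hz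

/-- **(0)** `d ≁ e` -/
theorem not_conj (k₁ : Sd S r s d V₁ W₁ W₂ Z X₁) (k₂ : Sd S r t e V₂ W₂ W₁ Z X₂) (hde : d ≠ e) (g : G) :
    g * d * g⁻¹ ≠ e := by
  intro h
  have hp : Fact (Nat.Prime 2) := ⟨Nat.prime_two⟩
  obtain ⟨n, hn, hn'⟩ := Sylow.conj_eq_normalizer_conj_of_mem_centralizer S d g⁻¹
    (mem_centralizer_iff.2 fun c hc => k₁.Z_S k₁.dZ c hc)
    (mem_centralizer_iff.2 fun c hc => by rw [inv_inv, h]; exact k₁.Z_S k₂.dZ c hc)
  rw [inv_inv, h] at hn'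
  have hni : n⁻¹ ∈ normalizer (S : Set G) := inv_mem hn
  have h1 : n⁻¹ * r * n ∈ Z := by
    rw [k₁.Z_iff]
    have key : ∀ c ∈ S, n⁻¹ * r * n * c = c * (n⁻¹ * r * n) := by
      intro c hc
      have h2 : n * c * n⁻¹ ∈ S := (mem_normalizer_iff.1 hn c).1 hc
      have h3 := k₁.Sr _ h2
      apply comm_of_comm_conj n
      have e1 : n * (n⁻¹ * r * n) * n⁻¹ = r := by group
      rw [e1]
      exact h3.symm
    exact ⟨fun w hw => key w (k₁.WS hw), fun w hw => key w (k₂.WS hw)⟩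
  have h5 : n⁻¹ * r * n = r := by
    rcases k₁.Z_mem _ h1 with h2 | h2 | h2 | h2
    · exfalso
      apply k₁.r1
      have e1 : n * (n⁻¹ * r * n) * n⁻¹ = r := by group
      rw [← e1, h2]; group
    · exact h2
    · exact absurd (by rw [inv_inv]; exact h2) (k₁.not_conj_rd n⁻¹)
    · -- `r d = e`
      exfalso
      rcases k₁.Z_mem e k₂.dZ with h3 | h3 | h3 | h3
      · exact k₂.d1 h3
      · exact k₂.dr h3
      · exact hde h3.symm
      · rw [← h3] at h2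
        exact k₂.not_conj_rd n⁻¹ (by rw [inv_inv]; exact h2)
  have h6 : n⁻¹ * r = r * n⁻¹ := by
    apply comm_of_conj
    rw [inv_inv]; exact h5
  have h7 := conj_of_comm (k₁.Zc n⁻¹ h6 d k₁.dZ)
  rw [inv_inv] at h7
  rw [h7] at hn'
  exact hde hn'.symm

end Sd

/-! ### The orbit argument -/

/-- the orbit of `d` under `F`, acted on by a subgroup `P ≤ F` -/
theorem card_mod (F P : Subgroup G) (hP : P ≤ F) (h3 : IsPGroup 3 P) (d : G) :
    Nat.card {g : G // ∃ f ∈ F, f * d * f⁻¹ = g} ≡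
      Nat.card {g : G // (∃ f ∈ F, f * d * f⁻¹ = g) ∧ ∀ h ∈ P, h * g = g * h} [MOD 3] := by
  have : Fact (Nat.Prime 3) := ⟨Nat.prime_three⟩
  let α := {g : G // ∃ f ∈ F, f * d * f⁻¹ = g}
  let _inst : MulAction P α :=
    { smul := fun h g => ⟨(h : G) * g * (h : G)⁻¹, by
        obtain ⟨f, hf, e⟩ := g.2
        exact ⟨h * f, mul_mem (hP h.2) hf, by rw [← e]; group⟩⟩
      one_smul := fun g => Subtype.ext (by
        change ((1 : P) : G) * g * ((1 : P) : G)⁻¹ = g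
        simp)
      mul_smul := fun x y g => Subtype.ext (by
        change ((x * y : P) : G) * g * ((x * y : P) : G)⁻¹ = (x : G) * ((y : G) * g * (y : G)⁻¹) * (x : G)⁻¹
        rw [Subgroup.coe_mul]
        group) }
  have hsmul : ∀ (h : P) (g : α), ((h • g : α) : G) = (h : G) * g * (h : G)⁻¹ := fun _ _ => rfl
  have h1 := h3.card_modEq_card_fixedPoints α
  have h2 : Nat.card (MulAction.fixedPoints P α) =
      Nat.card {g : G // (∃ f ∈ F, f * d * f⁻¹ = g) ∧ ∀ h ∈ P, h * g = g * h} := by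
    refine Nat.card_congr ⟨fun g => ⟨g.1.1, g.1.2, fun h hh => ?_⟩, fun g => ⟨⟨g.1, g.2.1⟩, fun h => ?_⟩,
      fun g => rfl, fun g => rfl⟩
    · have := congrArg Subtype.val (g.2 ⟨h, hh⟩)
      rw [hsmul] at this
      exact comm_of_conj this
    · apply Subtype.ext
      rw [hsmul]
      exact conj_of_comm (g.2.2 h h.2)
  rw [h2] at h1
  exact h1

/-- **The contradiction** (bb OMEGA #14746) -/
theorem kill (k₁ : Sd S r s d V₁ W₁ W₂ Z X₁) (k₂ : Sd S r t e V₂ W₂ W₁ Z X₂) (hde : d ≠ e)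
    (hS : 16 < Nat.card S) : False := by
  by_cases hst : s * t = t * s
  swap
  · exact absurd (k₁.card_le k₂ hst) (not_le.2 hS)
  obtain ⟨x, hx, ⟨n, hn⟩, hxr, hxs⟩ := k₁.three
  obtain ⟨y, hy, ⟨m, hm⟩, hyr, hys⟩ := k₂.three
  let F : Subgroup G := closure {x, y}
  have hxF : x ∈ F := subset_closure (by simp)
  have hyF : y ∈ F := subset_closure (by simp)
  -- the orbit of `d` is in `A`
  have hA : ∀ f ∈ F, ∀ a, Sd.InA s t W₁ W₂ a → Sd.InA s t W₁ W₂ (f * a * f⁻¹) := by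
    have h1 : F ≤ { carrier := {f | (∀ a, Sd.InA s t W₁ W₂ a → Sd.InA s t W₁ W₂ (f * a * f⁻¹)) ∧
                      ∀ a, Sd.InA s t W₁ W₂ a → Sd.InA s t W₁ W₂ (f⁻¹ * a * f)}
                    one_mem' := ⟨fun a ha => by simpa using ha, fun a ha => by simpa using ha⟩
                    mul_mem' := by
                      rintro f g ⟨f1, f2⟩ ⟨g1, g2⟩
                      refine ⟨fun a ha => ?_, fun a ha => ?_⟩
                      · have := f1 _ (g1 a ha)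
                        have e : f * (g * a * g⁻¹) * f⁻¹ = f * g * a * (f * g)⁻¹ := by group
                        rwa [e] at this
                      · have := g2 _ (f2 a ha)
                        have e : g⁻¹ * (f⁻¹ * a * f) * g = (f * g)⁻¹ * a * (f * g) := by group
                        rwa [e] at this
                    inv_mem' := by
                      rintro f ⟨f1, f2⟩
                      refine ⟨fun a ha => ?_, fun a ha => ?_⟩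
                      · rw [inv_inv]; exact f2 a ha
                      · rw [inv_inv]; exact f1 a ha : Subgroup G} := by
      rw [closure_le]
      rintro z hz
      rcases hz with rfl | hz
      · refine ⟨fun a ha => k₁.inA_X k₂ hst hx ha, fun a ha => ?_⟩
        have := k₁.inA_X k₂ hst (inv_mem hx) ha
        rwa [inv_inv] at this
      · rw [Set.mem_singleton_iff] at hz
        subst hz
        refine ⟨fun a ha => (k₂.inA_X k₁ hst.symm hy ha.swap).swap, fun a ha => ?_⟩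
        have := (k₂.inA_X k₁ hst.symm (inv_mem hy) ha.swap).swap
        rwa [inv_inv] at this
    exact fun f hf => (h1 hf).1
  have hΩ : ∀ g, (∃ f ∈ F, f * d * f⁻¹ = g) → Sd.InA s t W₁ W₂ g ∧ g ≠ 1 := by
    rintro g ⟨f, hf, rfl⟩
    refine ⟨hA f hf d (k₁.inA_Z k₂ hst k₁.dZ), fun h => k₁.d1 ?_⟩
    have e : f⁻¹ * (f * d * f⁻¹) * f = d := by group
    rw [← e, h]; group
  have h3x : IsPGroup 3 (zpowers x) := by
    rintro ⟨_, k, rfl⟩
    refine ⟨n, Subtype.ext ?_⟩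
    change (x ^ k) ^ 3 ^ n = 1
    rw [← zpow_natCast, ← zpow_mul, mul_comm, zpow_mul, zpow_natCast, hn, one_zpow]
  have h3y : IsPGroup 3 (zpowers y) := by
    rintro ⟨_, k, rfl⟩
    refine ⟨m, Subtype.ext ?_⟩
    change (y ^ k) ^ 3 ^ m = 1
    rw [← zpow_natCast, ← zpow_mul, mul_comm, zpow_mul, zpow_natCast, hm, one_zpow]
  have c1 := card_mod F (zpowers x) (zpowers_le.2 hxF) h3x d
  have c2 := card_mod F (zpowers y) (zpowers_le.2 hyF) h3y d
  have e1 : Nat.card {g : G // (∃ f ∈ F, f * d * f⁻¹ = g) ∧ ∀ h ∈ zpowers x, h * g = g * h} = 1 := by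
    rw [Nat.card_eq_one_iff_unique]
    refine ⟨⟨fun a b => ?_⟩, ⟨⟨d, ⟨1, one_mem _, by group⟩, ?_⟩⟩⟩
    · have key : ∀ a : {g : G // (∃ f ∈ F, f * d * f⁻¹ = g) ∧ ∀ h ∈ zpowers x, h * g = g * h}, a.1 = d := by
        intro a
        obtain ⟨h1, h2⟩ := hΩ a.1 a.2.1
        rcases k₁.fixed k₂ hst hx hxr hxs h1 (a.2.2 x (mem_zpowers x)) with h | h
        · exact absurd h h2
        · exact h
      exact Subtype.ext ((key a).trans (key b).symm)
    · rintro _ ⟨k, rfl⟩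
      have : Commute x d := k₁.Xd x hx
      exact (this.zpow_left k).eq
  have e2 : Nat.card {g : G // (∃ f ∈ F, f * d * f⁻¹ = g) ∧ ∀ h ∈ zpowers y, h * g = g * h} = 0 := by
    have : IsEmpty {g : G // (∃ f ∈ F, f * d * f⁻¹ = g) ∧ ∀ h ∈ zpowers y, h * g = g * h} := by
      refine ⟨fun a => ?_⟩
      obtain ⟨h1, h2⟩ := hΩ a.1 a.2.1
      rcases k₂.fixed k₁ hst.symm hy hyr hys h1.swap (a.2.2 y (mem_zpowers y)) with h | h
      · exact h2 h
      · obtain ⟨f, hf, e⟩ := a.2.1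
        rw [h] at e
        exact k₁.not_conj k₂ hde f e
    exact Nat.card_of_isEmpty
  rw [e1] at c1
  rw [e2] at c2
  have := c1.symm.trans c2
  exact absurd this (by decide)

end Cfsg.Agent.Omega.MixOne.QTwoKill

end

section


/-!
# II.0h1, nonsplit case: a common Sylow 2-subgroup

`V, V'` a mutual pair with Sylow 2-subgroups `S, S'`, `H ≥ S, S'` (`= N(U) ∩ N(U') ∩ N([V, V'])`), `M ≥ H`
(`= N(U')`), `W = ⟨V'^M⟩`.  Every `X ∈ V^H` which does not commute with `V'` induces the root group `A'` on `V'` and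
`W = V' C_W(X)`.  Then all these `X` act in the same way on `W`, so the noncommuting graph between `V^H` and `V'^H` is a
disjoint union of complete bipartite graphs, and there is `V'^h`, not commuting with `V`, normalised by `S`.
-/

set_option autoImplicit false

namespace Cfsg.Agent.Omega.HOne.NSPar

open Subgroup Cfsg.Agent.Omega.BTwo

variable {G : Type*} [Group G]

/-- `X` and `Y` commute elementwise. -/
def Com (X Y : Subgroup G) : Prop := ∀ x ∈ X, ∀ y ∈ Y, x * y = y * x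

theorem com_cj {g : G} {X Y : Subgroup G} : Com (cj g X) (cj g Y) ↔ Com X Y := by
  constructor
  · intro h x hx y hy
    have h1 := h _ (conj_mem_cj hx) _ (conj_mem_cj hy)
    have e1 : g * x * g⁻¹ * (g * y * g⁻¹) = g * (x * y) * g⁻¹ := by group
    have e2 : g * y * g⁻¹ * (g * x * g⁻¹) = g * (y * x) * g⁻¹ := by group
    rw [e1, e2] at h1
    exact mul_left_cancel (mul_right_cancel h1)
  · rintro h _ ⟨x, hx, rfl⟩ _ ⟨y, hy, rfl⟩
    have h1 := h x hx y hy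
    change g * x * g⁻¹ * (g * y * g⁻¹) = g * y * g⁻¹ * (g * x * g⁻¹)
    calc g * x * g⁻¹ * (g * y * g⁻¹) = g * (x * y) * g⁻¹ := by group
      _ = g * (y * x) * g⁻¹ := by rw [h1]
      _ = _ := by group

/-- **Common Sylow subgroup**: if the noncommuting graph between `V^H` and `V'^H` is a disjoint union of complete
bipartite graphs, there is `V'^k`, not commuting with `V`, normalised by `S`. -/
theorem common_sylow [Finite G] {H V V' : Subgroup G} (S S' : Sylow 2 G) (hSH : (S : Subgroup G) ≤ H)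
    (hSV : (S : Subgroup G) ≤ normalizer (V : Set G)) (hSH' : (S' : Subgroup G) ≤ H)
    (hSV' : (S' : Subgroup G) ≤ normalizer (V' : Set G)) (hne : ¬ Com V V')
    (hnb : ∀ h ∈ H, ¬ Com (cj h V) V' → ∀ k ∈ H, (Com (cj h V) (cj k V') ↔ Com V (cj k V'))) :
    ∃ k ∈ H, cj k (S' : Subgroup G) = S ∧ ¬ Com V (cj k V') := by
  have key : ∀ h ∈ H, ∀ k : G, Com (cj h V) (cj k V') ↔ Com V (cj (h⁻¹ * k) V') := by
    intro h _ k
    rw [cj_mul h⁻¹ k, ← com_cj (g := h) (X := V), cj_cj_inv]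
  let K : Subgroup G :=
    { carrier := {h | h ∈ H ∧ ∀ k ∈ H, (Com (cj h V) (cj k V') ↔ Com V (cj k V'))}
      one_mem' := ⟨one_mem _, fun k _ => by rw [cj_one]⟩
      mul_mem' := by
        rintro a b ⟨ha, ha'⟩ ⟨hb, hb'⟩
        refine ⟨mul_mem ha hb, fun k hk => ?_⟩
        have e : Com (cj (a * b) V) (cj k V') ↔ Com (cj b V) (cj (a⁻¹ * k) V') := by
          rw [cj_mul a b, cj_mul a⁻¹ k, ← com_cj (g := a) (X := cj b V), cj_cj_inv]
        rw [e, hb' _ (mul_mem (inv_mem ha) hk), ← key a ha, ha' k hk]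
      inv_mem' := by
        rintro a ⟨ha, ha'⟩
        refine ⟨inv_mem ha, fun k hk => ?_⟩
        rw [key _ (inv_mem ha), inv_inv, ← ha' _ (mul_mem ha hk), key a ha, inv_mul_cancel_left] }
  have hSK : (S : Subgroup G) ≤ K := by
    intro s hs
    refine ⟨hSH hs, fun k _ => ?_⟩
    rw [cj_eq_self_iff.2 (hSV hs)]
  have hSK' : (S' : Subgroup G) ≤ K := by
    intro s hs
    refine ⟨hSH' hs, hnb s (hSH' hs) ?_⟩
    intro h
    apply hne
    have h1 : Com (cj s V) (cj s V') := by rwa [cj_eq_self_iff.2 (hSV' hs)]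
    exact com_cj.1 h1
  -- both are Sylow in `K`
  let T : Sylow 2 K := S.subtype hSK
  let T' : Sylow 2 K := S'.subtype hSK'
  obtain ⟨k, hk⟩ := MulAction.exists_smul_eq K T' T
  have h1 : cj (k : G) (S' : Subgroup G) = S := by
    have h2 := congrArg (fun Q : Sylow 2 K => (Q : Subgroup K).map K.subtype) hk
    simp only [Sylow.coe_subgroup_smul] at h2
    have h3 : ∀ X : Subgroup G, X ≤ K → (X.subgroupOf K).map K.subtype = X := fun X hX => by
      rw [subgroupOf_map_subtype, inf_eq_left.2 hX]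
    have h4 : ((T : Sylow 2 K) : Subgroup K) = (S : Subgroup G).subgroupOf K := rfl
    have h5 : ((T' : Sylow 2 K) : Subgroup K) = (S' : Subgroup G).subgroupOf K := rfl
    rw [h4, h5, h3 _ hSK] at h2
    rw [← h2]
    ext x
    rw [mem_cj, mem_map]
    constructor
    · intro hx
      refine ⟨k * ⟨(k : G)⁻¹ * x * k, hSK' hx⟩ * k⁻¹, ?_, ?_⟩
      · rw [Subgroup.mem_smul_pointwise_iff_exists]
        exact ⟨⟨(k : G)⁻¹ * x * k, hSK' hx⟩, hx, rfl⟩
      · simp only [subtype_apply, coe_mul, coe_inv]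
        group
    · rintro ⟨y, hy, rfl⟩
      rw [Subgroup.mem_smul_pointwise_iff_exists] at hy
      obtain ⟨s, hs, rfl⟩ := hy
      have e : (k : G)⁻¹ * (K.subtype (MulAut.conj k • s)) * k = s := by
        simp only [subtype_apply, MulAut.smul_def, MulAut.conj_apply, coe_mul, coe_inv]
        group
      rw [e]
      exact hs
  refine ⟨k, k.2.1, h1, ?_⟩
  rw [← k.2.2 _ k.2.1, com_cj]
  exact hne

/-- The data on the side of `V'`: `W = ⟨V'^M⟩`, `β : V' → F` the coordinate of `V' / [V, V']`, `κ (β v) a = [v, x_a]`. -/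
structure Dat {F : Type*} [Field F] (H M V V' W U : Subgroup G) (β : G → F) (κ : F → F → G) : Prop where
  HM : H ≤ M
  VH : V ≤ H
  WM : ∀ g ∈ M, ∀ w ∈ W, g * w * g⁻¹ ∈ W
  Wc : ∀ w ∈ W, ∀ w' ∈ W, w * w' = w' * w
  VW : V' ≤ W
  UV : U ≤ V'
  β_mul : ∀ v ∈ V', ∀ w ∈ V', β (v * w) = β v + β w
  κ_mem : ∀ b a, κ b a ∈ V'
  κ_add : ∀ b b' a, κ (b + b') a = κ b a * κ b' a
  κ_ne : ∀ b a, b ≠ 0 → a ≠ 0 → κ b a ≠ 1
  βκ : ∀ b a, β (κ b a) = 0
  /-- `X` induces all of `A'` -/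
  all : ∀ h ∈ H, ¬ Com (cj h V) V' → ∀ a : F, ∃ x ∈ cj h V, ∀ v ∈ V', x * v * x⁻¹ = κ (β v) a * v
  /-- `X` induces only `A'` -/
  only : ∀ h ∈ H, ¬ Com (cj h V) V' → ∀ x ∈ cj h V, ∃ a : F, ∀ v ∈ V', x * v * x⁻¹ = κ (β v) a * v
  /-- `W = V' C_W(X)` -/
  dec : ∀ h ∈ H, ¬ Com (cj h V) V' → ∀ w ∈ W, ∃ v ∈ V', ∃ c ∈ W, w = v * c ∧ ∀ x ∈ cj h V, x * c = c * x
  /-- elements of `SL₂(F)` -/
  sl : ∀ l : F, ∃ f ∈ M, (∀ v ∈ V', f * v * f⁻¹ ∈ V') ∧ (∀ w ∈ W, f * w * f⁻¹ * w⁻¹ ∈ V') ∧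
    ∀ b a, β (f * κ b a * f⁻¹) = l * (b * a)
  /-- the quadratic part of `κ` -/
  sq : ∃ m : F, m ≠ 0 ∧ (∀ b, κ b 1 * κ (m * b) m⁻¹ ∈ U) ∧ ∀ b, b ≠ 0 → κ b 1 * κ (m * b) m⁻¹ ≠ 1
  /-- `O₂(M / C_M(W)) = 1` -/
  cor : ∀ y ∈ M, (∀ w ∈ W, y * w * y⁻¹ * w⁻¹ ∈ U) → (∀ u ∈ U, y * u = u * y) → ∀ w ∈ W, y * w = w * y

namespace Dat

variable {F : Type*} [Field F] {H M V V' W U : Subgroup G} {β : G → F} {κ : F → F → G}

theorem κ_zero (d : Dat H M V V' W U β κ) (a : F) : κ 0 a = 1 := by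
  have h := d.κ_add 0 0 a
  rw [add_zero] at h
  exact left_eq_mul.1 h

theorem β_one (d : Dat H M V V' W U β κ) : β 1 = 0 := by
  have h := d.β_mul 1 (one_mem _) 1 (one_mem _)
  rw [mul_one] at h
  exact left_eq_add.1 h

theorem β_inv (d : Dat H M V V' W U β κ) {v : G} (hv : v ∈ V') : β v⁻¹ = - β v := by
  have h := d.β_mul v hv v⁻¹ (inv_mem hv)
  rw [mul_inv_cancel, d.β_one] at h
  exact (neg_eq_of_add_eq_zero_right h.symm).symm

theorem κ_neg (d : Dat H M V V' W U β κ) (b a : F) : κ (-b) a = (κ b a)⁻¹ := by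
  have h := d.κ_add b (-b) a
  rw [add_neg_cancel, d.κ_zero] at h
  exact (inv_eq_of_mul_eq_one_right h.symm).symm

theorem κ_sub (d : Dat H M V V' W U β κ) (b b' a : F) : κ (b - b') a = κ b a * (κ b' a)⁻¹ := by
  rw [sub_eq_add_neg, d.κ_add, d.κ_neg]

/-- the coordinate `β_X : W → F` -/
theorem exists_beta (d : Dat H M V V' W U β κ) {h : G} (hh : h ∈ H) (hne : ¬ Com (cj h V) V') :
    ∃ B : G → F, (∀ v ∈ V', B v = β v) ∧ (∀ w ∈ W, ∀ v ∈ V', B (v * w) = β v + B w) ∧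
      (∀ w ∈ W, B w = 0 → ∀ x ∈ cj h V, x * w = w * x) ∧
      (∀ w ∈ W, (∀ x ∈ cj h V, x * w = w * x) → B w = 0) ∧
      ∀ a : F, ∀ x ∈ cj h V, (∀ v ∈ V', x * v * x⁻¹ = κ (β v) a * v) →
        ∀ w ∈ W, x * w * x⁻¹ = κ (B w) a * w := by
  classical
  let X := cj h V
  -- `v ∈ V'` commuting with `X` has `β v = 0`
  have h0 : ∀ v ∈ V', (∀ x ∈ cj h V, x * v = v * x) → β v = 0 := by
    intro v hv hc
    by_contra hb
    obtain ⟨x, hx, e⟩ := d.all h hh hne 1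
    have h1 := e v hv
    rw [hc x hx, mul_inv_cancel_right] at h1
    exact d.κ_ne _ _ hb one_ne_zero (right_eq_mul.1 h1)
  have hdec := d.dec h hh hne
  let B : G → F := fun w => if hw : w ∈ W then β (hdec w hw).choose else 0
  have key : ∀ v ∈ V', ∀ c ∈ W, (∀ x ∈ cj h V, x * c = c * x) → B (v * c) = β v := by
    intro v hv c hc hcc
    have hw : v * c ∈ W := mul_mem (d.VW hv) hc
    have e : B (v * c) = β (hdec _ hw).choose := dif_pos hw
    rw [e]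
    obtain ⟨hv', c', hc', e', hcc'⟩ := (hdec _ hw).choose_spec
    set v' := (hdec _ hw).choose
    have h1 : v'⁻¹ * v = c' * c⁻¹ := by
      rw [inv_mul_eq_iff_eq_mul, ← mul_assoc, ← e', mul_inv_cancel_right]
    have h2 : β (v'⁻¹ * v) = 0 := h0 _ (mul_mem (inv_mem hv') hv) fun x hx => by
      rw [h1]
      have h3 := hcc x hx
      have h4 := hcc' x hx
      have h5 : x * c⁻¹ = c⁻¹ * x := by
        rw [eq_inv_mul_iff_mul_eq, ← mul_assoc, ← h3, mul_inv_cancel_right]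
      calc x * (c' * c⁻¹) = x * c' * c⁻¹ := by group
        _ = c' * (x * c⁻¹) := by rw [h4]; group
        _ = c' * c⁻¹ * x := by rw [h5]; group
    rw [d.β_mul _ (inv_mem hv') _ hv, d.β_inv hv'] at h2
    linear_combination -h2
  refine ⟨B, fun v hv => ?_, ?_, ?_, ?_, ?_⟩
  · have := key v hv 1 (one_mem _) (fun x _ => by rw [mul_one, one_mul])
    rwa [mul_one] at this
  · intro w hw v hv
    obtain ⟨v', hv', c, hc, rfl, hcc⟩ := hdec w hw
    rw [← mul_assoc, key _ (mul_mem hv hv') c hc hcc, key v' hv' c hc hcc, d.β_mul v hv v' hv']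
  · intro w hw hB x hx
    obtain ⟨v, hv, c, hc, rfl, hcc⟩ := hdec w hw
    rw [key v hv c hc hcc] at hB
    obtain ⟨a, ha⟩ := d.only h hh hne x hx
    have h1 := ha v hv
    rw [hB, d.κ_zero, one_mul] at h1
    have h2 : x * v = v * x := mul_inv_eq_iff_eq_mul.1 h1
    calc x * (v * c) = x * v * c := by group
      _ = v * (x * c) := by rw [h2]; group
      _ = v * c * x := by rw [hcc x hx]; group
  · intro w hw hcw
    obtain ⟨v, hv, c, hc, rfl, hcc⟩ := hdec w hw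
    rw [key v hv c hc hcc]
    apply h0 v hv
    intro x hx
    have h1 := hcw x hx
    have h2 := hcc x hx
    have h3 : x * v * c = v * x * c := by
      calc x * v * c = x * (v * c) := by group
        _ = v * (c * x) := by rw [h1]; group
        _ = v * x * c := by rw [← h2]; group
    exact mul_right_cancel h3
  · intro a x hx ha w hw
    obtain ⟨v, hv, c, hc, rfl, hcc⟩ := hdec w hw
    rw [key v hv c hc hcc]
    have h1 : x * c * x⁻¹ = c := by rw [hcc x hx, mul_inv_cancel_right]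
    calc x * (v * c) * x⁻¹ = (x * v * x⁻¹) * (x * c * x⁻¹) := by group
      _ = κ (β v) a * v * c := by rw [h1, ha v hv]
      _ = _ := by group

/-- **Uniqueness**: `X ∈ V^H` not commuting with `V'` acts on `W` like `V`. -/
theorem uniq (d : Dat H M V V' W U β κ) (hne0 : ¬ Com V V') {h : G} (hh : h ∈ H) (hne : ¬ Com (cj h V) V')
    {w₀ : G} (hw₀ : w₀ ∈ W) : (∀ x ∈ cj h V, x * w₀ = w₀ * x) ↔ ∀ x ∈ V, x * w₀ = w₀ * x := by
  have hne1 : ¬ Com (cj 1 V) V' := by rwa [cj_one]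
  obtain ⟨B₀, b01, b02, b03, b04, b05⟩ := d.exists_beta (one_mem H) hne1
  obtain ⟨B, b1, b2, b3, b4, b5⟩ := d.exists_beta hh hne
  rw [cj_one] at b03 b04 b05
  suffices hs : B w₀ = B₀ w₀ by
    constructor
    · intro hc
      exact b03 w₀ hw₀ (by rw [← hs]; exact b4 w₀ hw₀ hc)
    · intro hc
      exact b3 w₀ hw₀ (by rw [hs]; exact b04 w₀ hw₀ hc)
  by_contra hcon
  let δ : G → F := fun w => B w - B₀ w
  have hδV : ∀ v ∈ V', δ v = 0 := fun v hv => by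
    change B v - B₀ v = 0
    rw [b1 v hv, b01 v hv, sub_self]
  have hδ : ∀ w ∈ W, ∀ v ∈ V', δ (v * w) = δ w := fun w hw v hv => by
    change B (v * w) - B₀ (v * w) = B w - B₀ w
    rw [b2 w hw v hv, b02 w hw v hv]; ring
  have hMV : ∀ x ∈ V, x ∈ M := fun x hx => d.HM (d.VH hx)
  have hMX : ∀ x ∈ cj h V, x ∈ M := by
    rintro _ ⟨x, hx, rfl⟩
    exact d.HM (mul_mem (mul_mem hh (d.VH hx)) (inv_mem hh))
  -- elements of `V` inducing `a`
  have hall : ∀ a : F, ∃ x ∈ V, (∀ v ∈ V', x * v * x⁻¹ = κ (β v) a * v) ∧ ∀ w ∈ W, x * w * x⁻¹ = κ (B₀ w) a * w := by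
    intro a
    obtain ⟨x, hx, e⟩ := d.all 1 (one_mem _) hne1 a
    rw [cj_one] at hx
    exact ⟨x, hx, e, b05 a x hx e⟩
  -- inverse action
  have hinv : ∀ (x : G) (a : F) (C : G → F), (∀ v ∈ V', C v = β v) → (∀ w ∈ W, x * w * x⁻¹ = κ (C w) a * w) →
      ∀ w ∈ W, x⁻¹ * w * x = (κ (C w) a)⁻¹ * w := by
    intro x a C hC hx w hw
    have h1 : x * κ (C w) a * x⁻¹ = κ (C w) a := by
      rw [hx _ (d.VW (d.κ_mem _ _)), hC _ (d.κ_mem _ _), d.βκ, d.κ_zero, one_mul]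
    have h2 : x * ((κ (C w) a)⁻¹ * w) * x⁻¹ = w := by
      calc x * ((κ (C w) a)⁻¹ * w) * x⁻¹ = (x * κ (C w) a * x⁻¹)⁻¹ * (x * w * x⁻¹) := by group
        _ = w := by rw [h1, hx w hw]; group
    calc x⁻¹ * w * x = x⁻¹ * (x * ((κ (C w) a)⁻¹ * w) * x⁻¹) * x := by rw [h2]
      _ = _ := by group
  -- `b` acts as `w ↦ κ (δ w) 1 w`
  obtain ⟨b, hbM, hb⟩ : ∃ b ∈ M, ∀ w ∈ W, b * w * b⁻¹ = κ (δ w) 1 * w := by
    obtain ⟨x, hx, e, e'⟩ := hall 1
    obtain ⟨x₁, hx₁, e₁⟩ := d.all h hh hne 1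
    have e₁' := b5 1 x₁ hx₁ e₁
    refine ⟨x⁻¹ * x₁, mul_mem (inv_mem (hMV x hx)) (hMX x₁ hx₁), fun w hw => ?_⟩
    have i1 := hinv x 1 B₀ b01 e' w hw
    have i2 := hinv x 1 B₀ b01 e' _ (d.VW (d.κ_mem (B w) 1))
    rw [b01 _ (d.κ_mem _ _), d.βκ, d.κ_zero, inv_one, one_mul] at i2
    calc x⁻¹ * x₁ * w * (x⁻¹ * x₁)⁻¹ = x⁻¹ * (x₁ * w * x₁⁻¹) * x := by group
      _ = (x⁻¹ * κ (B w) 1 * x) * (x⁻¹ * w * x) := by rw [e₁' w hw]; group
      _ = κ (B w) 1 * (κ (B₀ w) 1)⁻¹ * w := by rw [i1, i2]; group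
      _ = _ := by rw [← d.κ_sub]
  -- `y_l` centralises `V'` and moves `V`
  have hy : ∀ l : F, ∃ y ∈ M, (∀ v ∈ V', y * v * y⁻¹ = v) ∧
      ∀ w ∈ W, ∃ t ∈ V', y * w * y⁻¹ = t * w ∧ β t = l * δ w := by
    intro l
    obtain ⟨f, hf, f1, f2, f3⟩ := d.sl l
    have hfi : ∀ w ∈ W, f⁻¹ * w * f ∈ W := fun w hw => by
      have := d.WM f⁻¹ (inv_mem hf) w hw
      rwa [inv_inv] at this
    have hδf : ∀ w ∈ W, δ (f⁻¹ * w * f) = δ w := by
      intro w hw
      have h1 := f2 _ (hfi w hw)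
      have e : w = (f * (f⁻¹ * w * f) * f⁻¹ * (f⁻¹ * w * f)⁻¹) * (f⁻¹ * w * f) := by group
      conv_rhs => rw [e]
      rw [hδ _ (hfi w hw) _ h1]
    have hact : ∀ w ∈ W, f * b * f⁻¹ * w * (f * b * f⁻¹)⁻¹ = (f * κ (δ w) 1 * f⁻¹) * w := by
      intro w hw
      calc f * b * f⁻¹ * w * (f * b * f⁻¹)⁻¹ = f * (b * (f⁻¹ * w * f) * b⁻¹) * f⁻¹ := by group
        _ = f * (κ (δ (f⁻¹ * w * f)) 1 * (f⁻¹ * w * f)) * f⁻¹ := by rw [hb _ (hfi w hw)]
        _ = _ := by rw [hδf w hw]; group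
    refine ⟨f * b * f⁻¹, mul_mem (mul_mem hf hbM) (inv_mem hf), fun v hv => ?_, fun w hw => ?_⟩
    · rw [hact v (d.VW hv), hδV v hv, d.κ_zero, mul_one, mul_inv_cancel, one_mul]
    · exact ⟨_, f1 _ (d.κ_mem _ _), hact w hw, by rw [f3, mul_one]⟩
  -- `x_{l,a}` acts as `w ↦ κ (B₀ w - l δ w) a w`
  have hx : ∀ l a : F, ∃ x ∈ M, ∀ w ∈ W, x * w * x⁻¹ = κ (B₀ w - l * δ w) a * w := by
    intro l a
    obtain ⟨x, hx, e, e'⟩ := hall a
    obtain ⟨y, hyM, y1, y2⟩ := hy l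
    refine ⟨y * x * y⁻¹, mul_mem (mul_mem hyM (hMV x hx)) (inv_mem hyM), fun w hw => ?_⟩
    obtain ⟨t, ht, et, bt⟩ := y2 w hw
    have h1 : y⁻¹ * w * y = t⁻¹ * w := by
      have h2 : y * t⁻¹ * y⁻¹ = t⁻¹ := y1 _ (inv_mem ht)
      have h3 : y * (t⁻¹ * w) * y⁻¹ = w := by
        calc y * (t⁻¹ * w) * y⁻¹ = (y * t⁻¹ * y⁻¹) * (y * w * y⁻¹) := by group
          _ = w := by rw [h2, et]; group
      calc y⁻¹ * w * y = y⁻¹ * (y * (t⁻¹ * w) * y⁻¹) * y := by rw [h3]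
        _ = _ := by group
    have h4 : B₀ (t⁻¹ * w) = B₀ w - l * δ w := by
      rw [b02 w hw _ (inv_mem ht), d.β_inv ht, bt]; ring
    have h5 : x * (y⁻¹ * w * y) * x⁻¹ = κ (B₀ w - l * δ w) a * (y⁻¹ * w * y) := by
      rw [h1, e' _ (mul_mem (d.VW (inv_mem ht)) hw), h4]
    have h6 := y1 _ (d.κ_mem (B₀ w - l * δ w) a)
    calc y * x * y⁻¹ * w * (y * x * y⁻¹)⁻¹ = y * (x * (y⁻¹ * w * y) * x⁻¹) * y⁻¹ := by group
      _ = (y * κ (B₀ w - l * δ w) a * y⁻¹) * w := by rw [h5]; group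
      _ = _ := by rw [h6]
  -- `b_{l,a}` acts as `w ↦ κ (l δ w) a w`
  have hb2 : ∀ l a : F, ∃ y ∈ M, ∀ w ∈ W, y * w * y⁻¹ = κ (l * δ w) a * w := by
    intro l a
    obtain ⟨x, hxV, e, e'⟩ := hall a
    obtain ⟨x', hx'M, e2⟩ := hx (-l) a
    refine ⟨x⁻¹ * x', mul_mem (inv_mem (hMV x hxV)) hx'M, fun w hw => ?_⟩
    have i1 := hinv x a B₀ b01 e' w hw
    have i2 := hinv x a B₀ b01 e' _ (d.VW (d.κ_mem (B₀ w - -l * δ w) a))
    rw [b01 _ (d.κ_mem _ _), d.βκ, d.κ_zero, inv_one, one_mul] at i2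
    calc x⁻¹ * x' * w * (x⁻¹ * x')⁻¹ = x⁻¹ * (x' * w * x'⁻¹) * x := by group
      _ = (x⁻¹ * κ (B₀ w - -l * δ w) a * x) * (x⁻¹ * w * x) := by rw [e2 w hw]; group
      _ = κ (B₀ w - -l * δ w) a * (κ (B₀ w) a)⁻¹ * w := by rw [i1, i2]; group
      _ = κ (l * δ w) a * w := by
          rw [← d.κ_sub]
          congr 2
          ring
  obtain ⟨m, hm0, m1, m2⟩ := d.sq
  obtain ⟨y₁, hy₁, e₁⟩ := hb2 1 1
  obtain ⟨y₂, hy₂, e₂⟩ := hb2 m m⁻¹
  have hact : ∀ w ∈ W, y₁ * y₂ * w * (y₁ * y₂)⁻¹ = κ (δ w) 1 * κ (m * δ w) m⁻¹ * w := by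
    intro w hw
    have h1 := e₁ _ (d.VW (d.κ_mem (m * δ w) m⁻¹))
    rw [hδV _ (d.κ_mem _ _), mul_zero, d.κ_zero, one_mul] at h1
    have h2 := e₁ w hw
    rw [one_mul] at h2
    have hc := d.Wc _ (d.VW (d.κ_mem (m * δ w) m⁻¹)) _ (d.VW (d.κ_mem (δ w) 1))
    calc y₁ * y₂ * w * (y₁ * y₂)⁻¹ = y₁ * (y₂ * w * y₂⁻¹) * y₁⁻¹ := by group
      _ = (y₁ * κ (m * δ w) m⁻¹ * y₁⁻¹) * (y₁ * w * y₁⁻¹) := by rw [e₂ w hw]; group
      _ = κ (m * δ w) m⁻¹ * κ (δ w) 1 * w := by rw [h1, h2]; group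
      _ = _ := by rw [hc]
  have hcen := d.cor (y₁ * y₂) (mul_mem hy₁ hy₂) (fun w hw => by
      rw [hact w hw, mul_inv_cancel_right]
      exact m1 _) (fun u hu => by
      have h1 := hact u (d.VW (d.UV hu))
      rw [hδV u (d.UV hu), mul_zero, d.κ_zero, d.κ_zero, one_mul, one_mul] at h1
      exact mul_inv_eq_iff_eq_mul.1 h1) w₀ hw₀
  have h1 := hact w₀ hw₀
  rw [hcen, mul_inv_cancel_right] at h1
  exact m2 (δ w₀) (sub_ne_zero.2 hcon) (right_eq_mul.1 h1)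

/-- **The common Sylow 2-subgroup.** -/
theorem common [Finite G] (d : Dat H M V V' W U β κ) (S S' : Sylow 2 G) (hSH : (S : Subgroup G) ≤ H)
    (hSV : (S : Subgroup G) ≤ normalizer (V : Set G)) (hSH' : (S' : Subgroup G) ≤ H)
    (hSV' : (S' : Subgroup G) ≤ normalizer (V' : Set G)) (hne : ¬ Com V V') :
    ∃ k ∈ H, cj k (S' : Subgroup G) = S ∧ ¬ Com V (cj k V') := by
  refine common_sylow S S' hSH hSV hSH' hSV' hne fun h hh hhne k hk => ?_
  have hkW : ∀ v ∈ cj k V', v ∈ W := by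
    rintro _ ⟨v, hv, rfl⟩
    exact d.WM k (d.HM hk) v (d.VW hv)
  constructor
  · intro hc x hx v hv
    exact (d.uniq hne hh hhne (hkW v hv)).1 (fun x hx => hc x hx v hv) x hx
  · intro hc x hx v hv
    exact (d.uniq hne hh hhne (hkW v hv)).2 (fun x hx => hc x hx v hv) x hx

end Dat

end Cfsg.Agent.Omega.HOne.NSPar

end

section


/-!
# A 2-subgroup `J` of `O` against a subgroup `A` with `4 ∤ |O : A|`

* `exists_conj` : some conjugate `A^g`, `g ∈ O`, meets `J` in a subgroup of index at most 2.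
-/

set_option autoImplicit false

namespace Cfsg.Agent.Omega.IId.SylIdx

open Subgroup Cfsg.Agent.Omega.BTwo

/-- `4 ∤ |O : A|`, `J` a 2-subgroup of `O`: `|J : J ∩ A^g| ≤ 2` for some `g ∈ O`. -/
theorem exists_conj_top {O : Type*} [Group O] [Finite O] {A J : Subgroup O} (hJ : IsPGroup 2 J)
    (h4 : ¬ 4 ∣ A.index) : ∃ g : O, (cj g A).relIndex J ≤ 2 := by
  have : Fact (Nat.Prime 2) := ⟨Nat.prime_two⟩
  obtain ⟨Pa, hPa⟩ := hJ.exists_le_sylow
  obtain ⟨B⟩ : Nonempty (Sylow 2 A) := inferInstance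
  have hB' : IsPGroup 2 ((B : Subgroup A).map A.subtype) := B.isPGroup'.map _
  obtain ⟨Pb, hPb⟩ := hB'.exists_le_sylow
  obtain ⟨g, hg⟩ := MulAction.exists_smul_eq O Pb Pa
  refine ⟨g, ?_⟩
  set Bg := cj g ((B : Subgroup A).map A.subtype) with hBg
  have h1 : Bg ≤ cj g A := cj_mono (map_subtype_le _)
  have h2 : Bg ≤ (Pa : Subgroup O) := by
    rw [← hg]
    rw [Sylow.coe_subgroup_smul]
    rintro x ⟨y, hy, rfl⟩
    exact Subgroup.smul_mem_pointwise_smul _ (MulAut.conj g) _ (hPb hy)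
  -- orders
  have c1 : Nat.card Bg = 2 ^ (Nat.card A).factorization 2 := by
    rw [hBg, card_cj, ← B.card_eq_multiplicity]
    exact Nat.card_congr ((B : Subgroup A).equivMapOfInjective A.subtype A.subtype_injective).toEquiv.symm
  have c2 := Pa.card_eq_multiplicity
  have hc : Nat.card O = Nat.card A * A.index := (A.card_mul_index).symm
  have hi0 : A.index ≠ 0 := A.index_ne_zero_of_finite
  have hA0 : Nat.card A ≠ 0 := Nat.card_pos.ne'
  have hf : A.index.factorization 2 ≤ 1 := by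
    by_contra h
    apply h4
    have h3 : 2 ^ 2 ∣ A.index := (Nat.prime_two.pow_dvd_iff_le_factorization hi0).2 (by omega)
    simpa using h3
  have c3 : Nat.card (Pa : Subgroup O) ≤ 2 * Nat.card Bg := by
    rw [c2, c1, hc, Nat.factorization_mul hA0 hi0, Finsupp.add_apply, pow_add, mul_comm]
    refine Nat.mul_le_mul_right _ ?_
    calc 2 ^ A.index.factorization 2 ≤ 2 ^ 1 := Nat.pow_le_pow_right (by norm_num) hf
      _ = 2 := pow_one 2
  have c4 : Bg.relIndex (Pa : Subgroup O) ≤ 2 := by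
    have h5 : Nat.card Bg * Bg.relIndex (Pa : Subgroup O) = Nat.card (Pa : Subgroup O) := by
      have h6 := relIndex_mul_relIndex ⊥ Bg (Pa : Subgroup O) bot_le h2
      rwa [relIndex_bot_left, relIndex_bot_left] at h6
    have h7 : Nat.card Bg * Bg.relIndex (Pa : Subgroup O) ≤ Nat.card Bg * 2 := by
      rw [h5, mul_comm]; exact c3
    exact Nat.le_of_mul_le_mul_left h7 Nat.card_pos
  have fin : ∀ H K : Subgroup O, H.relIndex K ≠ 0 := fun H K => Subgroup.index_ne_zero_of_finite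
  calc (cj g A).relIndex J ≤ Bg.relIndex J := relIndex_le_of_le_left h1 (fin _ _)
    _ ≤ Bg.relIndex (Pa : Subgroup O) := relIndex_le_of_le_right hPa (fin _ _)
    _ ≤ 2 := c4

theorem exists_conj {G : Type*} [Group G] [Finite G] {O A J : Subgroup G} (hAO : A ≤ O) (hJO : J ≤ O)
    (hJ : IsPGroup 2 J) (h4 : ¬ 4 ∣ A.relIndex O) : ∃ g ∈ O, (cj g A).relIndex J ≤ 2 := by
  obtain ⟨g, hg⟩ := exists_conj_top (O := O) (A := A.subgroupOf O) (J := J.subgroupOf O)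
    (hJ.comap_of_injective _ O.subtype_injective) h4
  refine ⟨g, g.2, ?_⟩
  have e1 : (J.subgroupOf O).map O.subtype = J := by
    rw [subgroupOf_map_subtype, inf_eq_left.2 hJO]
  have e2 : (cj g (A.subgroupOf O)).map O.subtype = cj (g : G) A := by
    rw [cj, map_map, cj]
    conv_rhs => rw [← inf_eq_left.2 hAO, ← subgroupOf_map_subtype, map_map]
    rfl
  have h1 := relIndex_map_map_of_injective (cj g (A.subgroupOf O)) (J.subgroupOf O) O.subtype_injective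
  rw [e1, e2] at h1
  rw [h1]
  exact hg

/-- index at most 2: the product of two elements outside lies inside -/
theorem mul_mem_of_le_two {G : Type*} [Group G] [Finite G] {A J : Subgroup G} (h : A.relIndex J ≤ 2) {u w : G}
    (hu : u ∈ J) (hw : w ∈ J) : u ∈ A ∨ w ∈ A ∨ u * w ∈ A := by
  have h0 : A.relIndex J ≠ 0 := Subgroup.index_ne_zero_of_finite
  rcases (show A.relIndex J = 1 ∨ A.relIndex J = 2 by omega) with h1 | h2
  · exact Or.inl (relIndex_eq_one.1 h1 hu)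
  · by_cases hu' : u ∈ A
    · exact Or.inl hu'
    by_cases hw' : w ∈ A
    · exact Or.inr (Or.inl hw')
    right; right
    have h3 := (mul_mem_iff_of_index_two (H := A.subgroupOf J) h2 (a := ⟨u, hu⟩) (b := ⟨w, hw⟩))
    rw [mem_subgroupOf, mem_subgroupOf, mem_subgroupOf] at h3
    exact h3.2 ⟨fun h => absurd h hu', fun h => absurd h hw'⟩

end Cfsg.Agent.Omega.IId.SylIdx

end

section


/-!
# The local data of the node `b = 2` (types `G₂(q)`, `³D₄(q)`), for THEOREM R2T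

`(R, V)` is a flag: `V` a natural `SL₂(q)`-module, `R` a point of `V`; `P₁` normalises `V` and acts on
its `q + 1` points, `P₂` normalises `R` and acts on the `r + 1` conjugates of `V` containing `R`
(`r = q` for `G₂`, `r = q³` for `³D₄`).  `W = ⟨V^{P₂}⟩` is the large subgroup at `R`,
`Y` the kernel of the points of `V`, `D = W ∩ W^{n₁}`, `U = WY`.  See
`blueprints/OMEGA-EH5-b2-helper195.md`.
-/

set_option autoImplicit false
set_option linter.dupNamespace false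

universe u

namespace Cfsg.Agent.Omega.Hex

open Subgroup Cfsg.Agent.Omega.BTwo

/-- The local data of the `b = 2` node. -/
structure Hex {G : Type u} [Group G] (P₁ P₂ B U H V R W Y D : Subgroup G) (n₁ n₂ : G) (q r : ℕ) :
    Prop where
  two : IsPGroup 2 U
  q4 : 4 ≤ q
  r4 : 4 ≤ r
  /- the pair -/
  B₁ : B ≤ P₁
  B₂ : B ≤ P₂
  UB : U ≤ B
  nU : B ≤ normalizer (U : Set G)
  HB : H ≤ B
  n₁P : n₁ ∈ P₁
  n₂P : n₂ ∈ P₂
  n₁B : n₁ ∉ B
  n₂B : n₂ ∉ B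
  n₁H : n₁ ∈ normalizer (H : Set G)
  n₂H : n₂ ∈ normalizer (H : Set G)
  /- `H` fixes only the chambers `B`, `nᵢB` of `Pᵢ/B` -/
  two₁ : ∀ g ∈ P₁, (∀ x ∈ H, g⁻¹ * x * g ∈ B) → g ∈ B ∨ n₁⁻¹ * g ∈ B
  two₂ : ∀ g ∈ P₂, (∀ x ∈ H, g⁻¹ * x * g ∈ B) → g ∈ B ∨ n₂⁻¹ * g ∈ B
  /- `H` is a Hall `2'`-subgroup of `B`, `B = U N_B(H)` -/
  oddH : Odd (Nat.card H)
  hall : ∀ K : Subgroup G, K ≤ B → H ≤ K → Odd (Nat.card K) → K ≤ H
  frat : ∀ b ∈ B, ∃ u ∈ U, u⁻¹ * b ∈ normalizer (H : Set G)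
  /- what is normalised by what -/
  nV : P₁ ≤ normalizer (V : Set G)
  nY : P₁ ≤ normalizer (Y : Set G)
  nD : P₁ ≤ normalizer (D : Set G)
  nR : P₂ ≤ normalizer (R : Set G)
  nW : P₂ ≤ normalizer (W : Set G)
  /- `B` is the stabiliser of `R` in `P₁` and of `V` in `P₂` -/
  stab₁ : P₁ ⊓ normalizer (R : Set G) ≤ B
  stab₂ : P₂ ⊓ normalizer (V : Set G) ≤ B
  /- inclusions -/
  RV : R ≤ V
  VD : V ≤ D
  DW : D ≤ W
  DY : D ≤ Y
  WU : W ≤ U
  YU : Y ≤ U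
  UWY : U ≤ W ⊔ Y
  D_eq : W ⊓ cj n₁ W = D
  /- orders -/
  cR : Nat.card R = q
  cV : Nat.card V = q * q
  cD : Nat.card D = r * (q * q)
  cWY : Nat.card (W ⊓ Y : Subgroup G) = r * Nat.card D
  cW : Nat.card W = q * Nat.card (W ⊓ Y : Subgroup G)
  cY : Nat.card Y = r * Nat.card (W ⊓ Y : Subgroup G)
  /- `V` is elementary abelian, `Y` centralises `V` -/
  sq : ∀ v ∈ V, v * v = 1
  YV : ∀ y ∈ Y, ∀ v ∈ V, y * v = v * y
  Rn : R ⊓ cj n₁ R = ⊥
  /- `W` is transitive on the points of `V` other than `R`, with stabiliser `≤ Y` -/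
  trans₁ : ∀ x ∈ P₁, x ∉ B → ∃ w ∈ W, (w * n₁)⁻¹ * x ∈ B
  ker₁ : W ⊓ cj n₁ B ≤ Y
  /- `Y` is transitive on the conjugates of `V` at `R` other than `V`, with stabiliser `≤ W` -/
  trans₂ : ∀ x ∈ P₂, x ∉ B → ∃ y ∈ Y, (y * n₂)⁻¹ * x ∈ B
  ker₂ : Y ⊓ cj n₂ B ≤ W
  /- `V` and `V^{n₂}` are opposite at `R` -/
  VV : V ⊓ cj n₂ Y = R
  DD : D ⊓ cj n₂ D = R

/-- The global data: control of the centralizers of the elements of `R` and of `C_G(C_H(R))`. -/
structure Glob {G : Type u} [Group G] (H R : Subgroup G) : Prop where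
  cen : ∀ v ∈ R, v ≠ 1 → ∀ c, c * v = v * c → c ∈ normalizer (R : Set G)
  tor : ∀ T : Subgroup G, IsPGroup 2 T → T ≤ normalizer (R : Set G) →
    (∀ h ∈ H, (∀ v ∈ R, h * v = v * h) → ∀ t ∈ T, t * h = h * t) → T ≤ R

namespace Hex

variable {G : Type u} [Group G] {P₁ P₂ B U H V R W Y D : Subgroup G} {n₁ n₂ : G} {q r : ℕ}
variable (h : Hex P₁ P₂ B U H V R W Y D n₁ n₂ q r)
include h

theorem H₁ : B ⊓ normalizer (H : Set G) ≤ cj n₁ B := by
  intro x hx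
  rw [mem_cj]
  have h1 : ∀ y ∈ H, (x * n₁)⁻¹ * y * (x * n₁) ∈ B := by
    intro y hy
    have hxn : x * n₁ ∈ normalizer (H : Set G) := mul_mem hx.2 h.n₁H
    exact h.HB (conj_inv_mem_of_normalizer hxn hy)
  rcases h.two₁ (x * n₁) (P₁.mul_mem (h.B₁ hx.1) h.n₁P) h1 with h2 | h2
  · exact absurd ((B.mul_mem_cancel_left hx.1).1 h2) h.n₁B
  · rwa [← mul_assoc] at h2

theorem H₂ : B ⊓ normalizer (H : Set G) ≤ cj n₂ B := by
  intro x hx
  rw [mem_cj]
  have h1 : ∀ y ∈ H, (x * n₂)⁻¹ * y * (x * n₂) ∈ B := by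
    intro y hy
    have hxn : x * n₂ ∈ normalizer (H : Set G) := mul_mem hx.2 h.n₂H
    exact h.HB (conj_inv_mem_of_normalizer hxn hy)
  rcases h.two₂ (x * n₂) (P₂.mul_mem (h.B₂ hx.1) h.n₂P) h1 with h2 | h2
  · exact absurd ((B.mul_mem_cancel_left hx.1).1 h2) h.n₂B
  · rwa [← mul_assoc] at h2

theorem n₁sq : n₁ * n₁ ∈ B := by
  have h1 : ∀ y ∈ H, (n₁⁻¹)⁻¹ * y * n₁⁻¹ ∈ B := by
    intro y hy
    rw [inv_inv]
    exact h.HB (conj_mem_of_normalizer h.n₁H hy)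
  rcases h.two₁ n₁⁻¹ (P₁.inv_mem h.n₁P) h1 with h2 | h2
  · exact absurd (inv_mem_iff.1 h2) h.n₁B
  · have h3 := B.inv_mem h2
    rwa [mul_inv_rev, inv_inv] at h3

theorem n₂sq : n₂ * n₂ ∈ B := by
  have h1 : ∀ y ∈ H, (n₂⁻¹)⁻¹ * y * n₂⁻¹ ∈ B := by
    intro y hy
    rw [inv_inv]
    exact h.HB (conj_mem_of_normalizer h.n₂H hy)
  rcases h.two₂ n₂⁻¹ (P₂.inv_mem h.n₂P) h1 with h2 | h2
  · exact absurd (inv_mem_iff.1 h2) h.n₂B
  · have h3 := B.inv_mem h2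
    rwa [mul_inv_rev, inv_inv] at h3

end Hex

end Cfsg.Agent.Omega.Hex

end
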