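import Cfsg.Agent.Mrg.Omega.BTwo.Basic
import Mathlib
import Cfsg.Agent.Transfer.FusionBasic

section


/-!
# SQ3, `b = 2`: #10337 (3), (4), (5), field-free
-/

set_option autoImplicit false

namespace Cfsg.Agent.Omega.BTwo

open Subgroup

variable {G : Type*} [Group G] {ι : Type*}

theorem le_normalizer_of {K V : Subgroup G} (h : ∀ k ∈ K, ∀ v ∈ V, k * v * k⁻¹ ∈ V) :
    K ≤ normalizer (V : Set G) := by
  intro w hw
  rw [mem_normalizer_iff]
  intro v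
  refine ⟨h w hw v, fun hv => ?_⟩
  have := h w⁻¹ (inv_mem hw) _ hv
  have e : w⁻¹ * (w * v * w⁻¹) * w⁻¹⁻¹ = v := by group
  rwa [e] at this

theorem le_cenMod_comm {A B D : Subgroup G} (hB : B ≤ normalizer (D : Set G)) (h : A ≤ cenMod D B) :
    B ≤ cenMod D A := by
  intro x hx
  refine ⟨hB hx, fun d hd => ?_⟩
  have e : x * d * x⁻¹ * d⁻¹ = (d * x * d⁻¹ * x⁻¹)⁻¹ := by group
  rw [e]
  exact inv_mem ((h hd).2 x hx)

/-- `K i`: the elements of `N(R i)` trivial on `W i / R i` -/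
def KK (V : Subgroup G) (R : ι → Subgroup G) (i : ι) : Subgroup G := cenMod (R i) (WW V (R i))

/-- `U i = C_{W i}(V)` -/
def UU (V : Subgroup G) (R : ι → Subgroup G) (i : ι) : Subgroup G :=
  WW V (R i) ⊓ centralizer (V : Set G)

/-- `Y = ⟨U i⟩` -/
def YY (V : Subgroup G) (R : ι → Subgroup G) : Subgroup G := ⨆ i, UU V R i

section

variable {V : Subgroup G} {R : ι → Subgroup G}

theorem UU_le_WW (i : ι) : UU V R i ≤ WW V (R i) := inf_le_left

theorem UU_le_cen (i : ι) : UU V R i ≤ centralizer (V : Set G) := inf_le_right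

theorem UU_le_YY (i : ι) : UU V R i ≤ YY V R := le_iSup (fun i => UU V R i) i

theorem YY_le_cen : YY V R ≤ centralizer (V : Set G) := iSup_le fun i => UU_le_cen i

theorem YY_le_XX : YY V R ≤ XX V R := iSup_le fun i => (UU_le_WW i).trans (W_le_X V R i)

theorem KK_le_N (i : ι) : KK V R i ≤ normalizer (R i : Set G) := fun _ h => h.1

variable (b : BT V R)
include b

theorem BT.cen_le_N (i : ι) : centralizer (V : Set G) ≤ normalizer (R i : Set G) := by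
  refine le_normalizer_of fun k hk v hv => ?_
  rw [← mem_centralizer_iff.1 hk v (b.R_le i hv), mul_inv_cancel_right]
  exact hv

theorem BT.cen_le_NW (i : ι) : centralizer (V : Set G) ≤ normalizer (WW V (R i) : Set G) :=
  (b.cen_le_N i).trans (normalizer_le_WW V (R i))

omit b in
theorem cen_le_NV (V : Subgroup G) : centralizer (V : Set G) ≤ normalizer (V : Set G) := by
  refine le_normalizer_of fun k hk v hv => ?_
  rw [← mem_centralizer_iff.1 hk v hv, mul_inv_cancel_right]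
  exact hv

theorem BT.cen_le_NU (i : ι) : centralizer (V : Set G) ≤ normalizer (UU V R i : Set G) := by
  intro g hg
  rw [← cj_eq_self_iff, UU, cj_inf, cj_eq_self_iff.2 (b.cen_le_NW i hg), cj_of_mem hg]

/-- every element of `R i` is a commutator `[w, v]`, `w ∈ W i`, `v ∈ V` -/
theorem BT.exists_comm (i : ι) {a : G} (ha : a ∈ R i) :
    ∃ w ∈ WW V (R i), ∃ v ∈ V, w * v * w⁻¹ * v⁻¹ = a := by
  by_cases h1 : a = 1
  · exact ⟨1, one_mem _, 1, one_mem _, by rw [h1]; group⟩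
  obtain ⟨j, hj, -⟩ := b.third i i
  obtain ⟨v, hv, hv1⟩ := b.exists_ne j
  obtain ⟨k, hk⟩ := b.R_cov (a * v) (mul_mem (b.R_le i ha) (b.R_le j hv))
  have hki : k ≠ i := by
    rintro rfl
    exact hv1 (b.eq_one hj hv ((mul_mem_cancel_left ha).1 hk))
  obtain ⟨h, hh, H⟩ := b.mt i
  obtain ⟨⟨v', hv', e⟩, -⟩ := H j k hj hki
  have hw : h * v' * h⁻¹ ∈ WW V (R i) := cj_le_WW hh (conj_mem_cj hv')
  refine ⟨_, hw, v, b.R_le j hv, ?_⟩
  have h2 : h * v' * h⁻¹ * v * (h * v' * h⁻¹)⁻¹ ∈ R k := by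
    rw [← e]; exact conj_mem_cj hv
  have h3 := b.QV i _ (b.W_le_Q i hw) v (b.R_le j hv)
  set w := h * v' * h⁻¹ with hwdef
  have h4 : (w * v * w⁻¹ * v⁻¹) * a⁻¹ ∈ R k := by
    have e : (w * v * w⁻¹ * v⁻¹) * a⁻¹ = (w * v * w⁻¹) * (a * v)⁻¹ := by group
    rw [e]
    exact mul_mem h2 (inv_mem hk)
  have h5 := b.eq_one hki h4 (mul_mem h3 (inv_mem ha))
  exact mul_inv_eq_one.1 h5

theorem BT.R_le_U (i : ι) : R i ≤ UU V R i := fun _ ha =>
  ⟨V_le_WW V (R i) (b.R_le i ha), b.V_le_cen (b.R_le i ha)⟩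

theorem BT.W_le_K (i : ι) : WW V (R i) ≤ KK V R i := fun _ hw =>
  ⟨b.W_le_N i hw, fun _ hd => b.WW_comm i hw hd⟩

theorem BT.Q_le_K (i : ι) : QQ (R i) ≤ KK V R i := fun _ hw =>
  ⟨b.Q_le i hw, fun _ hd => b.WQ i hw hd⟩

/-- `K i` centralises `R i` -/
theorem BT.KR (i : ι) {g a : G} (hg : g ∈ KK V R i) (ha : a ∈ R i) : g * a * g⁻¹ = a := by
  obtain ⟨w, hw, v, hv, rfl⟩ := b.exists_comm i ha
  have h1 := hg.2 w hw
  have h2 := hg.2 v (V_le_WW V (R i) hv)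
  have e1 : g * w * g⁻¹ = (g * w * g⁻¹ * w⁻¹) * w := by group
  have e2 : g * v * g⁻¹ = (g * v * g⁻¹ * v⁻¹) * v := by group
  set c := g * w * g⁻¹ * w⁻¹
  set c' := g * v * g⁻¹ * v⁻¹
  have hwQ := b.W_le_Q i hw
  have hvQ := b.W_le_Q i (V_le_WW V (R i) hv)
  have k1 : w * c' = c' * w := b.QR i w hwQ c' h2
  have k2 : v * c = c * v := b.QR i v hvQ c h1
  have k3 : c * c' = c' * c := b.QR i c (b.V_Q i (b.R_le i h1)) c' h2
  calc g * (w * v * w⁻¹ * v⁻¹) * g⁻¹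
      = (g * w * g⁻¹) * (g * v * g⁻¹) * (g * w * g⁻¹)⁻¹ * (g * v * g⁻¹)⁻¹ := by group
    _ = (c * w) * (c' * v) * (c * w)⁻¹ * (c' * v)⁻¹ := by rw [← e1, ← e2]
    _ = c * (w * c') * v * w⁻¹ * c⁻¹ * v⁻¹ * c'⁻¹ := by group
    _ = c * c' * w * v * w⁻¹ * (v * c)⁻¹ * c'⁻¹ := by rw [k1]; group
    _ = c * c' * w * v * w⁻¹ * v⁻¹ * (c' * c)⁻¹ := by rw [k2]; group
    _ = c * c' * (w * v * w⁻¹ * v⁻¹) * (c * c')⁻¹ := by rw [k3]; group
    _ = w * v * w⁻¹ * v⁻¹ := by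
        have h5 : w * v * w⁻¹ * v⁻¹ ∈ R i := b.QV i w hwQ v hv
        have h6 : c * c' ∈ QQ (R i) := b.V_Q i (b.R_le i (mul_mem h1 h2))
        exact b.conj_R h6 h5

theorem BT.K_le_NV (i : ι) : KK V R i ≤ normalizer (V : Set G) := by
  refine le_normalizer_of fun k hk v hv => ?_
  have e : k * v * k⁻¹ = (k * v * k⁻¹ * v⁻¹) * v := by group
  rw [e]
  exact mul_mem (b.R_le i (hk.2 v (V_le_WW V (R i) hv))) hv

theorem BT.N_le_NK (i : ι) : normalizer (R i : Set G) ≤ normalizer (KK V R i : Set G) := by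
  have _ := b
  refine le_normalizer_of fun g hg x hx => ?_
  refine ⟨mul_mem (mul_mem hg hx.1) (inv_mem hg), fun w hw => ?_⟩
  have h1 := hx.2 _ (conj_inv_mem_of_normalizer (normalizer_le_WW V (R i) hg) hw)
  have h2 := conj_mem_of_normalizer hg h1
  have e : g * (x * (g⁻¹ * w * g) * x⁻¹ * (g⁻¹ * w * g)⁻¹) * g⁻¹ =
      g * x * g⁻¹ * w * (g * x * g⁻¹)⁻¹ * w⁻¹ := by group
  rwa [e] at h2

theorem BT.D_le_cen : DD V R ≤ centralizer (V : Set G) := by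
  intro d hd
  rw [mem_centralizer_iff]
  exact fun v hv => b.D_comm (V_le_D V R hv) hd

theorem BT.D_le_U (i : ι) : DD V R ≤ UU V R i := le_inf (D_le_W V R i) b.D_le_cen

theorem BT.U_isPGroup (i : ι) : IsPGroup 2 (UU V R i) :=
  ((O2_isPGroup _).to_le (b.W_le_Q i)).to_le (UU_le_WW i)

/-- **(3)** `U j ∩ K i = D` -/
theorem BT.UK {i j : ι} (hij : i ≠ j) : UU V R j ⊓ KK V R i = DD V R := by
  apply le_antisymm
  · have h1 : UU V R j ⊓ KK V R i ≤ QQ (R i) := by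
      refine le_O2_of_chain (B := KK V R i ⊓ centralizer (V : Set G)) (C := KK V R i)
        (le_inf inf_le_right (inf_le_left.trans (UU_le_cen j))) inf_le_left (KK_le_N i)
        ((b.U_isPGroup j).to_le inf_le_left) ?_ ?_ ?_
      · intro c hc a ha
        exact mem_inf.2 ⟨conj_mem_of_normalizer (b.cen_le_NU j hc.2) ha.1,
          mul_mem (mul_mem hc.1 ha.2) (inv_mem hc.1)⟩
      · intro c hc a ha
        exact mem_inf.2 ⟨mul_mem (mul_mem hc ha.1) (inv_mem hc),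
          conj_mem_of_normalizer (normalizer_le_normalizer_centralizer V (b.K_le_NV i hc)) ha.2⟩
      · exact fun g hg c hc => conj_mem_of_normalizer (b.N_le_NK i hg) hc
    rw [b.D_eq (Ne.symm hij)]
    exact le_inf (inf_le_left.trans (UU_le_WW j)) h1
  · exact le_inf (b.D_le_U j) ((D_le_W V R i).trans (b.W_le_K i))

/-! ### (4) -/

theorem BT.UU_inf {i j : ι} (hij : i ≠ j) : UU V R i ⊓ UU V R j = DD V R := by
  apply le_antisymm
  · rw [b.D_eq' hij]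
    exact inf_le_inf (UU_le_WW i) (UU_le_WW j)
  · exact le_inf (b.D_le_U i) (b.D_le_U j)

theorem BT.UU_comm {i j : ι} (hij : i ≠ j) {u u' : G} (hu : u ∈ UU V R i) (hu' : u' ∈ UU V R j) :
    u * u' * u⁻¹ * u'⁻¹ ∈ DD V R := by
  rw [← b.UU_inf hij]
  refine mem_inf.2 ⟨?_, mul_mem (conj_mem_of_normalizer (b.cen_le_NU j (UU_le_cen i hu)) hu') (inv_mem hu')⟩
  have e : u * u' * u⁻¹ * u'⁻¹ = u * (u' * u⁻¹ * u'⁻¹) := by group
  rw [e]
  exact mul_mem hu (conj_mem_of_normalizer (b.cen_le_NU i (UU_le_cen j hu')) (inv_mem hu))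

theorem BT.WU {i : ι} {w u : G} (hw : w ∈ WW V (R i)) (hu : u ∈ UU V R i) : w * u * w⁻¹ * u⁻¹ ∈ R i :=
  b.WW_comm i hw (UU_le_WW i hu)

/-- `[W j, U i] ≤ U j` -/
theorem BT.WU' {i j : ι} {w u : G} (hw : w ∈ WW V (R j)) (hu : u ∈ UU V R i) :
    w * u * w⁻¹ * u⁻¹ ∈ UU V R j := by
  have hu2 := UU_le_cen i hu
  refine mem_inf.2 ⟨?_, mul_mem (conj_mem_of_normalizer
    (normalizer_le_normalizer_centralizer V (b.W_le_NV j hw)) hu2) (inv_mem hu2)⟩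
  have e : w * u * w⁻¹ * u⁻¹ = w * (u * w⁻¹ * u⁻¹) := by group
  rw [e]
  exact mul_mem hw (conj_mem_of_normalizer (b.cen_le_NW j hu2) (inv_mem hw))

theorem BT.cj_UU {g : G} (hg : g ∈ normalizer (V : Set G)) {i j : ι} (h : cj g (R i) = R j) :
    cj g (UU V R i) = UU V R j := by
  rw [UU, cj_inf, b.cj_WW h, ← centralizer_cj, cj_eq_self_iff.2 hg]
  rfl

theorem BT.Y_eq {i j : ι} (hij : i ≠ j) : YY V R = UU V R i ⊔ UU V R j := by
  apply le_antisymm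
  · refine iSup_le fun k => ?_
    by_cases hk : k = i
    · subst hk; exact le_sup_left
    obtain ⟨w, hw, e⟩ := b.trans i (Ne.symm hij) hk
    rw [← b.cj_UU (b.W_le_NV i hw) e, cj_le_iff]
    intro x hx
    have e : w * x * w⁻¹ = w * x * w⁻¹ * x⁻¹ * x := by group
    rw [e]
    exact mul_mem ((le_sup_left : UU V R i ≤ _) (b.WU' hw hx)) ((le_sup_right : UU V R j ≤ _) hx)
  · exact sup_le (UU_le_YY i) (UU_le_YY j)

theorem BT.D_le_Y : DD V R ≤ YY V R := by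
  obtain ⟨i, -⟩ := b.R_cov 1 (one_mem V)
  exact (b.D_le_U i).trans (UU_le_YY i)

theorem BT.NV_le_NY : normalizer (V : Set G) ≤ normalizer (YY V R : Set G) := by
  refine le_normalizer_of fun g hg y hy => ?_
  have h : cj g (YY V R) ≤ YY V R := by
    rw [YY, cj_iSup]
    refine iSup_le fun i => ?_
    obtain ⟨j, hj⟩ := b.perm g hg i
    rw [b.cj_UU hg hj]
    exact UU_le_YY j
  exact h (conj_mem_cj hy)

omit b in
theorem Y_le_NV : YY V R ≤ normalizer (V : Set G) := YY_le_cen.trans (cen_le_NV V)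

theorem BT.Y_le_ND : YY V R ≤ normalizer (DD V R : Set G) := Y_le_NV.trans b.NV_le_ND

theorem BT.U_le_cenMod (i j : ι) : UU V R i ≤ cenMod (DD V R) (UU V R j) := by
  intro u hu
  refine ⟨b.Y_le_ND (UU_le_YY i hu), fun u' hu' => ?_⟩
  by_cases hij : i = j
  · subst hij
    exact V_le_D V R (b.R_le i (b.WW_comm i (UU_le_WW i hu) (UU_le_WW i hu')))
  · exact b.UU_comm hij hu hu'

theorem BT.Y_le_cenMod : YY V R ≤ cenMod (DD V R) (YY V R) := by
  have h1 : ∀ j, YY V R ≤ cenMod (DD V R) (UU V R j) := fun j => iSup_le fun i => b.U_le_cenMod i j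
  exact iSup_le fun j => le_cenMod_comm ((UU_le_YY j).trans b.Y_le_ND) (h1 j)

/-- `Y / D` is abelian -/
theorem BT.Y_comm {y y' : G} (hy : y ∈ YY V R) (hy' : y' ∈ YY V R) : y * y' * y⁻¹ * y'⁻¹ ∈ DD V R :=
  (b.Y_le_cenMod hy).2 y' hy'

/-- `Y / D` is elementary -/
theorem BT.Y_sq {y : G} (hy : y ∈ YY V R) : y * y ∈ DD V R := by
  let T : Subgroup G :=
    { carrier := {y | y ∈ YY V R ∧ y * y ∈ DD V R}
      one_mem' := ⟨one_mem _, by rw [one_mul]; exact one_mem _⟩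
      mul_mem' := by
        rintro u v ⟨hu, hu'⟩ ⟨hv, hv'⟩
        refine ⟨mul_mem hu hv, ?_⟩
        have e : u * v * (u * v) = (u * u) * (u⁻¹ * v * u⁻¹⁻¹ * v⁻¹) * (v * v) := by group
        rw [e]
        exact mul_mem (mul_mem hu' (b.Y_comm (inv_mem hu) hv)) hv'
      inv_mem' := by
        rintro u ⟨hu, hu'⟩
        refine ⟨inv_mem hu, ?_⟩
        rw [← mul_inv_rev]
        exact inv_mem hu' }
  have hT : YY V R ≤ T := iSup_le fun i u hu =>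
    ⟨UU_le_YY i hu, V_le_D V R (b.R_le i (b.W_sq i (UU_le_WW i hu)))⟩
  exact (hT hy).2

/-- an element of `W j` fixing another point centralises `V` -/
theorem BT.mem_cen {i j : ι} (hij : i ≠ j) {w : G} (hw : w ∈ WW V (R j)) (h : cj w (R i) = R i) :
    w ∈ UU V R j := by
  refine ⟨hw, ?_⟩
  have h1 : ∀ v ∈ R i, v * w = w * v := by
    intro v hv
    have h2 : w * v * w⁻¹ ∈ R i := by rw [← h]; exact conj_mem_cj hv
    have h3 := b.QV j w (b.W_le_Q j hw) v (b.R_le i hv)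
    have h4 := b.eq_one hij (mul_mem h2 (inv_mem hv)) h3
    rw [mul_inv_eq_one, mul_inv_eq_iff_eq_mul] at h4
    exact h4.symm
  have h2 : ∀ v ∈ R j, v * w = w * v := fun v hv => (b.QR j w (b.W_le_Q j hw) v hv).symm
  have h3 : V ≤ centralizer {w} := by
    rw [← b.R_sup i j hij]
    refine sup_le (fun v hv => ?_) fun v hv => ?_
    · rw [mem_centralizer_iff]; rintro _ rfl; exact (h1 v hv).symm
    · rw [mem_centralizer_iff]; rintro _ rfl; exact (h2 v hv).symm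
  change w ∈ centralizer (V : Set G)
  rw [mem_centralizer_iff]
  exact fun v hv => (mem_centralizer_iff.1 (h3 hv) w rfl).symm

/-- `v ∈ W j - U j` moves every point `≠ R j` -/
theorem BT.moves {i j : ι} (hij : i ≠ j) {v : G} (hv : v ∈ WW V (R j)) (hv' : v ∉ UU V R j) :
    ∃ k, k ≠ i ∧ k ≠ j ∧ cj v (R i) = R k := by
  obtain ⟨k, hk⟩ := b.perm v (b.W_le_NV j hv) i
  refine ⟨k, ?_, ?_, hk⟩
  · rintro rfl
    exact hv' (b.mem_cen hij hv hk)
  · rintro rfl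
    have h1 : cj v (R k) = R k := cj_eq_self_iff.2 (b.W_le_N k hv)
    exact hij (b.R_index (cj_injective (hk.trans h1.symm)))

/-- **(4)** `u ↦ [v, u]` is injective `U i / D → U j / D` -/
theorem BT.inj {i j : ι} (hij : i ≠ j) {v : G} (hv : v ∈ WW V (R j)) (hv' : v ∉ UU V R j) {u : G}
    (hu : u ∈ UU V R i) (h : v * u * v⁻¹ * u⁻¹ ∈ DD V R) : u ∈ DD V R := by
  obtain ⟨k, hki, -, hk⟩ := b.moves hij hv hv'
  have h1 : v * u * v⁻¹ ∈ UU V R i := by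
    have e : v * u * v⁻¹ = v * u * v⁻¹ * u⁻¹ * u := by group
    rw [e]
    exact mul_mem (b.D_le_U i h) hu
  have h2 : v * u * v⁻¹ ∈ UU V R k := by
    rw [← b.cj_UU (b.W_le_NV j hv) hk]
    exact conj_mem_cj hu
  have h3 : v * u * v⁻¹ ∈ DD V R := by
    rw [← b.UU_inf hki]
    exact ⟨h2, h1⟩
  have h4 := conj_inv_mem_of_normalizer (b.NV_le_ND (b.W_le_NV j hv)) h3
  have e : v⁻¹ * (v * u * v⁻¹) * v = u := by group
  rwa [e] at h4

theorem BT.comm_mul {i j : ι} (hij : i ≠ j) {v : G} (hv : v ∈ WW V (R j)) {u u' : G}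
    (hu : u ∈ UU V R i) (hu' : u' ∈ UU V R i) :
    (v * u * v⁻¹ * u⁻¹ * (v * u' * v⁻¹ * u'⁻¹))⁻¹ * (v * (u * u') * v⁻¹ * (u * u')⁻¹) ∈ DD V R := by
  have h := b.UU_comm hij hu (b.WU' hv hu')
  have e : (v * u * v⁻¹ * u⁻¹ * (v * u' * v⁻¹ * u'⁻¹))⁻¹ * (v * (u * u') * v⁻¹ * (u * u')⁻¹) =
      (v * u' * v⁻¹ * u'⁻¹)⁻¹ * (u * (v * u' * v⁻¹ * u'⁻¹) * u⁻¹ * (v * u' * v⁻¹ * u'⁻¹)⁻¹) *
        (v * u' * v⁻¹ * u'⁻¹)⁻¹⁻¹ := by group
  rw [e]
  exact conj_mem_of_normalizer (b.Y_le_ND (UU_le_YY j (inv_mem (b.WU' hv hu')))) h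

theorem BT.card_U (i j : ι) : (DD V R).relIndex (UU V R i) = (DD V R).relIndex (UU V R j) := by
  obtain ⟨x, hx, e⟩ := b.trans_one i j
  rw [← b.cj_UU hx e]
  have h : DD V R = cj x (DD V R) := (cj_eq_self_iff.2 (b.NV_le_ND hx)).symm
  conv_rhs => rw [h]
  exact (relIndex_map_map_of_injective _ _ (MulAut.conj x).injective).symm

/-- **(4)** `u ↦ [v, u]` is surjective `U i / D → U j / D` -/
theorem BT.surj [Finite G] {i j : ι} (hij : i ≠ j) {v : G} (hv : v ∈ WW V (R j)) (hv' : v ∉ UU V R j)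
    {u' : G} (hu' : u' ∈ UU V R j) : ∃ u ∈ UU V R i, (v * u * v⁻¹ * u⁻¹)⁻¹ * u' ∈ DD V R := by
  have hn : ((DD V R).subgroupOf (UU V R j)).Normal :=
    ⟨fun n hn g => conj_mem_of_normalizer (g := (g : G)) (x := (n : G)) (b.Y_le_ND (UU_le_YY j g.2)) hn⟩
  let f : UU V R i →* UU V R j ⧸ (DD V R).subgroupOf (UU V R j) :=
    MonoidHom.mk' (fun u => QuotientGroup.mk (s := (DD V R).subgroupOf (UU V R j))
      (⟨v * u * v⁻¹ * (u : G)⁻¹, b.WU' hv u.2⟩ : UU V R j)) <| by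
      intro u u'
      rw [← QuotientGroup.mk_mul, eq_comm, QuotientGroup.eq]
      exact b.comm_mul hij hv u.2 u'.2
  have hker : f.ker = (DD V R).subgroupOf (UU V R i) := by
    ext u
    rw [MonoidHom.mem_ker]
    change QuotientGroup.mk (s := (DD V R).subgroupOf (UU V R j))
      (⟨v * u * v⁻¹ * (u : G)⁻¹, b.WU' hv u.2⟩ : UU V R j) = 1 ↔ _
    rw [QuotientGroup.eq_one_iff]
    constructor
    · exact fun h => b.inj hij hv hv' u.2 h
    · intro h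
      exact V_le_D V R (b.XD (W_le_X V R j hv) h)
  have hcard : Nat.card f.range = Nat.card (UU V R j ⧸ (DD V R).subgroupOf (UU V R j)) := by
    rw [← index_ker, hker]
    exact b.card_U i j
  have hsurj : f.range = ⊤ := eq_top_of_card_eq _ hcard
  have hx : QuotientGroup.mk (s := (DD V R).subgroupOf (UU V R j)) (⟨u', hu'⟩ : UU V R j) ∈ f.range := by
    rw [hsurj]; exact mem_top _
  obtain ⟨u, hu⟩ := hx
  refine ⟨u, u.2, ?_⟩
  have h2 : QuotientGroup.mk (s := (DD V R).subgroupOf (UU V R j))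
      (⟨v * u * v⁻¹ * (u : G)⁻¹, b.WU' hv u.2⟩ : UU V R j) = QuotientGroup.mk (⟨u', hu'⟩ : UU V R j) := hu
  have h3 := QuotientGroup.eq.1 h2
  exact h3

/-! ### (5) -/

/-- `[D, U i] ≤ R i` -/
theorem BT.DU {i : ι} {d u : G} (hd : d ∈ DD V R) (hu : u ∈ UU V R i) : d * u * d⁻¹ * u⁻¹ ∈ R i :=
  b.WU (D_le_W V R i hd) hu

theorem BT.lam_mem {d y : G} (hd : d ∈ DD V R) (hy : y ∈ YY V R) : d * y * d⁻¹ * y⁻¹ ∈ V := by
  have h := b.XD (YY_le_XX hy) hd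
  have e : d * y * d⁻¹ * y⁻¹ = (y * d * y⁻¹ * d⁻¹)⁻¹ := by group
  rw [e]
  exact inv_mem h

theorem BT.lam_mul {d y y' : G} (hd : d ∈ DD V R) (hy : y ∈ YY V R) (hy' : y' ∈ YY V R) :
    d * (y * y') * d⁻¹ * (y * y')⁻¹ = (d * y * d⁻¹ * y⁻¹) * (d * y' * d⁻¹ * y'⁻¹) := by
  have h := mem_centralizer_iff.1 (YY_le_cen hy) _ (b.lam_mem hd hy')
  calc d * (y * y') * d⁻¹ * (y * y')⁻¹
      = (d * y * d⁻¹ * y⁻¹) * (y * (d * y' * d⁻¹ * y'⁻¹)) * y⁻¹ := by group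
    _ = (d * y * d⁻¹ * y⁻¹) * (d * y' * d⁻¹ * y'⁻¹) := by rw [← h]; group

theorem BT.lam_mul_left {d d' y : G} (hd : d ∈ DD V R) (hd' : d' ∈ DD V R) (hy : y ∈ YY V R) :
    d * d' * y * (d * d')⁻¹ * y⁻¹ = (d * y * d⁻¹ * y⁻¹) * (d' * y * d'⁻¹ * y⁻¹) := by
  have h1 := mem_centralizer_iff.1 (b.D_le_cen hd) _ (b.lam_mem hd' hy)
  have h2 := b.V_comm _ (b.lam_mem hd' hy) _ (b.lam_mem hd hy)
  calc d * d' * y * (d * d')⁻¹ * y⁻¹
      = (d * (d' * y * d'⁻¹ * y⁻¹)) * y * d⁻¹ * y⁻¹ := by group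
    _ = (d' * y * d'⁻¹ * y⁻¹) * (d * y * d⁻¹ * y⁻¹) := by rw [← h1]; group
    _ = _ := h2

theorem BT.lam_D {d y : G} (hd : d ∈ DD V R) (hy : y ∈ DD V R) : d * y * d⁻¹ * y⁻¹ = 1 := by
  rw [b.D_comm hd hy]; group

theorem BT.lam_conj {x d y : G} (hx : x ∈ XX V R) (hd : d ∈ DD V R) (hy : y ∈ YY V R) :
    x * (d * y * d⁻¹ * y⁻¹) * x⁻¹ = d * (x * y * x⁻¹) * d⁻¹ * (x * y * x⁻¹)⁻¹ := by
  have hy' : x * y * x⁻¹ ∈ YY V R := conj_mem_of_normalizer (b.NV_le_NY (b.X_le_NV hx)) hy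
  have h1 := b.XD hx hd
  have h2 := b.lam_mul_left (V_le_D V R h1) hd hy'
  have h3 : (x * d * x⁻¹ * d⁻¹) * (x * y * x⁻¹) * (x * d * x⁻¹ * d⁻¹)⁻¹ * (x * y * x⁻¹)⁻¹ = 1 := by
    rw [mem_centralizer_iff.1 (YY_le_cen hy') _ h1]; group
  rw [h3, one_mul] at h2
  rw [← h2]
  group

end

end Cfsg.Agent.Omega.BTwo

end

section


/-!
# SQ3, `b = 2`: centralisers of `W i` (#10911 (A), (B), (8), (C); #10694 (II); #11043 (8.3)), field-free
-/

set_option autoImplicit false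

namespace Cfsg.Agent.Omega.BTwo

open Subgroup

variable {G : Type*} [Group G] {ι : Type*}

/-- `b = 2` together with: `V` meets every 2-subgroup `≠ 1` normalised by `N(V)`; no 2-subgroup `≠ 1` is
normalised by `N(V)` and `N(R i)`; `C(Q i) ≤ Q i`. -/
structure BTC (V : Subgroup G) (R : ι → Subgroup G) : Prop extends BT V R where
  meet : ∀ T : Subgroup G, IsPGroup 2 T → T ≤ normalizer (V : Set G) →
    normalizer (V : Set G) ≤ normalizer (T : Set G) → T ⊓ V = ⊥ → T = ⊥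
  nonloc : ∀ i, ∀ T : Subgroup G, IsPGroup 2 T → T ≤ normalizer (V : Set G) → T ≤ normalizer (R i : Set G) →
    normalizer (V : Set G) ≤ normalizer (T : Set G) →
    normalizer (R i : Set G) ≤ normalizer (T : Set G) → T = ⊥
  cenQ : ∀ i, normalizer (R i : Set G) ⊓ centralizer (QQ (R i) : Set G) ≤ QQ (R i)

/-- odd order elements stabilising a chain of length 2 of a 2-group -/
theorem comm_of_odd {c w : G} (hc : Odd (orderOf c)) {P : Subgroup G} (hP : IsPGroup 2 P)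
    (h : c * w * c⁻¹ * w⁻¹ ∈ P) (h2 : c * (c * w * c⁻¹ * w⁻¹) = c * w * c⁻¹ * w⁻¹ * c) : c * w = w * c := by
  set t := c * w * c⁻¹ * w⁻¹ with ht
  have hk : ∀ k : ℕ, c ^ k * w * (c ^ k)⁻¹ = t ^ k * w := by
    intro k
    induction k with
    | zero => simp
    | succ k ih =>
      have hct : c * t ^ k = t ^ k * c := (show Commute c t from h2).pow_right k
      calc c ^ (k + 1) * w * (c ^ (k + 1))⁻¹ = c * (c ^ k * w * (c ^ k)⁻¹) * c⁻¹ := by
            rw [pow_succ']; group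
        _ = (c * t ^ k) * w * c⁻¹ := by rw [ih]; group
        _ = t ^ k * (c * w * c⁻¹ * w⁻¹) * w := by rw [hct]; group
        _ = t ^ (k + 1) * w := by rw [← ht, pow_succ]
  have h1 := hk (orderOf c)
  rw [pow_orderOf_eq_one, one_mul, inv_one, mul_one, eq_comm, mul_eq_right] at h1
  obtain ⟨n, hn⟩ := hP ⟨t, h⟩
  have hn' : t ^ 2 ^ n = 1 := congrArg Subtype.val hn
  have hd := Nat.dvd_gcd (orderOf_dvd_of_pow_eq_one h1) (orderOf_dvd_of_pow_eq_one hn')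
  have hco : Nat.gcd (orderOf c) (2 ^ n) = 1 := (Nat.coprime_two_right.2 hc).pow_right n
  rw [hco, Nat.dvd_one, orderOf_eq_one_iff] at hd
  rw [hd, eq_comm, mul_inv_eq_one, mul_inv_eq_iff_eq_mul] at ht
  exact ht

theorem isPGroup_of_odd [Finite G] {H : Subgroup G} (h : ∀ c ∈ H, Odd (orderOf c) → c = 1) :
    IsPGroup 2 H := by
  rintro ⟨c, hc⟩
  obtain ⟨k, m, hm, hk⟩ := Nat.exists_eq_two_pow_mul_odd (orderOf_pos c).ne'
  refine ⟨k, Subtype.ext ?_⟩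
  change c ^ 2 ^ k = 1
  refine h _ (pow_mem hc _) ?_
  rw [orderOf_pow' c (by positivity), hk, Nat.gcd_mul_right_left, Nat.mul_div_cancel_left _ (by positivity)]
  exact hm

section

variable {V : Subgroup G} {R : ι → Subgroup G} (b : BT V R)
include b

/-- an element of `Q j` fixing another point centralises `V` -/
theorem BT.mem_cen_Q {i j : ι} (hij : i ≠ j) {w : G} (hw : w ∈ QQ (R j)) (h : cj w (R i) = R i) :
    w ∈ centralizer (V : Set G) := by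
  have h1 : ∀ v ∈ R i, v * w = w * v := by
    intro v hv
    have h2 : w * v * w⁻¹ ∈ R i := by rw [← h]; exact conj_mem_cj hv
    have h3 := b.QV j w hw v (b.R_le i hv)
    have h4 := b.eq_one hij (mul_mem h2 (inv_mem hv)) h3
    rw [mul_inv_eq_one, mul_inv_eq_iff_eq_mul] at h4
    exact h4.symm
  have h2 : ∀ v ∈ R j, v * w = w * v := fun v hv => (b.QR j w hw v hv).symm
  have h3 : V ≤ centralizer {w} := by
    rw [← b.R_sup i j hij]
    refine sup_le (fun v hv => ?_) fun v hv => ?_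
    · rw [mem_centralizer_iff]; rintro _ rfl; exact (h1 v hv).symm
    · rw [mem_centralizer_iff]; rintro _ rfl; exact (h2 v hv).symm
  rw [mem_centralizer_iff]
  exact fun v hv => (mem_centralizer_iff.1 (h3 hv) w rfl).symm

theorem BT.Q_le_NV (i : ι) : QQ (R i) ≤ normalizer (V : Set G) := (b.Q_le_K i).trans (b.K_le_NV i)

/-- `Q i = V^h · C_{Q i}(V)` for the two partners -/
theorem BT.Q_fact {i : ι} {h : G} (H : ∀ j k, j ≠ i → k ≠ i → ∃ v ∈ V, cj (h * v * h⁻¹) (R j) = R k)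
    (hh : h ∈ normalizer (R i : Set G)) {x : G} (hx : x ∈ QQ (R i)) :
    ∃ v ∈ V, (h * v * h⁻¹)⁻¹ * x ∈ centralizer (V : Set G) := by
  obtain ⟨j, hj, -⟩ := b.third i i
  obtain ⟨k, hk⟩ := b.perm x (b.Q_le_NV i hx) j
  have hki : k ≠ i := by
    rintro rfl
    have h1 : cj x (R k) = R k := cj_eq_self_iff.2 (b.Q_le k hx)
    exact hj (b.R_index (cj_injective (hk.trans h1.symm)))
  obtain ⟨v, hv, e⟩ := H j k hj hki
  refine ⟨v, hv, b.mem_cen_Q hj (mul_mem (inv_mem (b.W_le_Q i (cj_le_WW hh (conj_mem_cj hv)))) hx) ?_⟩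
  rw [cj_mul, hk, ← e, cj_inv_cj]

/-- `W i = V^h · U i` -/
theorem BT.W_fact {i : ι} {h : G} (H : ∀ j k, j ≠ i → k ≠ i → ∃ v ∈ V, cj (h * v * h⁻¹) (R j) = R k)
    (hh : h ∈ normalizer (R i : Set G)) {x : G} (hx : x ∈ WW V (R i)) :
    ∃ v ∈ V, (h * v * h⁻¹)⁻¹ * x ∈ UU V R i := by
  obtain ⟨v, hv, h1⟩ := b.Q_fact H hh (b.W_le_Q i hx)
  exact ⟨v, hv, mem_inf.2 ⟨mul_mem (inv_mem (cj_le_WW hh (conj_mem_cj hv))) hx, h1⟩⟩

/-- **(A)** `C_{Q i}(U i) = V (C(W i) ∩ Q i)` -/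
theorem BT.cen_U {i : ι} {x : G} (hx : x ∈ QQ (R i)) (hU : ∀ u ∈ UU V R i, x * u = u * x) :
    ∃ v ∈ V, v⁻¹ * x ∈ centralizer (WW V (R i) : Set G) := by
  obtain ⟨h, hh, H⟩ := b.mt i
  have hh' := inv_mem hh
  have H1 : ∀ j k, j ≠ i → k ≠ i → ∃ v ∈ V, cj (h * v * h⁻¹) (R j) = R k := fun j k hj hk =>
    (H j k hj hk).1
  have H2 : ∀ j k, j ≠ i → k ≠ i → ∃ v ∈ V, cj (h⁻¹ * v * h⁻¹⁻¹) (R j) = R k := fun j k hj hk => by
    rw [inv_inv]
    exact (H j k hj hk).2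
  have hQ := le_normalizer_O2 (normalizer (R i : Set G))
  obtain ⟨v, hv, hc⟩ := b.Q_fact H2 hh' (conj_mem_of_normalizer (hQ hh') hx)
  rw [inv_inv] at hc
  have e1 : (h⁻¹ * v * h)⁻¹ * (h⁻¹ * x * h) = h⁻¹ * (v⁻¹ * x) * h := by group
  rw [e1] at hc
  refine ⟨v, hv, ?_⟩
  rw [mem_centralizer_iff]
  intro w hw
  obtain ⟨v', hv', hu⟩ := b.W_fact H1 hh hw
  -- `v⁻¹ x` commutes with `V^h` and with `U i`
  have h1 : (h * v' * h⁻¹) * (v⁻¹ * x) = (v⁻¹ * x) * (h * v' * h⁻¹) := by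
    have := mem_centralizer_iff.1 hc v' hv'
    calc (h * v' * h⁻¹) * (v⁻¹ * x) = h * (v' * (h⁻¹ * (v⁻¹ * x) * h)) * h⁻¹ := by group
      _ = h * (h⁻¹ * (v⁻¹ * x) * h * v') * h⁻¹ := by rw [this]
      _ = (v⁻¹ * x) * (h * v' * h⁻¹) := by group
  have h2 : ((h * v' * h⁻¹)⁻¹ * w) * (v⁻¹ * x) = (v⁻¹ * x) * ((h * v' * h⁻¹)⁻¹ * w) := by
    have k1 := mem_centralizer_iff.1 (UU_le_cen i hu) _ (inv_mem hv)
    have k2 := hU _ hu
    set u := (h * v' * h⁻¹)⁻¹ * w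
    calc u * (v⁻¹ * x) = (u * v⁻¹) * x := by group
      _ = v⁻¹ * (u * x) := by rw [← k1]; group
      _ = v⁻¹ * x * u := by rw [← k2]; group
  calc w * (v⁻¹ * x) = (h * v' * h⁻¹) * (((h * v' * h⁻¹)⁻¹ * w) * (v⁻¹ * x)) := by group
    _ = (h * v' * h⁻¹) * (v⁻¹ * x) * ((h * v' * h⁻¹)⁻¹ * w) := by rw [h2]; group
    _ = (v⁻¹ * x) * (h * v' * h⁻¹) * ((h * v' * h⁻¹)⁻¹ * w) := by rw [h1]
    _ = v⁻¹ * x * w := by group

theorem BT.exists_mul {i j : ι} (hij : i ≠ j) {v : G} (hv : v ∈ V) : ∃ a ∈ R i, ∃ c ∈ R j, v = a * c := by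
  let T : Subgroup G :=
    { carrier := {v | ∃ a ∈ R i, ∃ c ∈ R j, v = a * c}
      one_mem' := ⟨1, one_mem _, 1, one_mem _, by rw [one_mul]⟩
      mul_mem' := by
        rintro _ _ ⟨a, ha, c, hc, rfl⟩ ⟨a', ha', c', hc', rfl⟩
        refine ⟨a * a', mul_mem ha ha', c * c', mul_mem hc hc', ?_⟩
        have := b.V_comm c (b.R_le j hc) a' (b.R_le i ha')
        calc a * c * (a' * c') = a * (c * a') * c' := by group
          _ = a * a' * (c * c') := by rw [this]; group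
      inv_mem' := by
        rintro _ ⟨a, ha, c, hc, rfl⟩
        refine ⟨a⁻¹, inv_mem ha, c⁻¹, inv_mem hc, ?_⟩
        rw [mul_inv_rev]
        exact b.V_comm _ (inv_mem (b.R_le j hc)) _ (inv_mem (b.R_le i ha)) }
  have hT : R i ⊔ R j ≤ T := sup_le (fun a ha => ⟨a, ha, 1, one_mem _, by rw [mul_one]⟩)
    fun c hc => ⟨1, one_mem _, c, hc, by rw [one_mul]⟩
  rw [b.R_sup i j hij] at hT
  exact hT hv

theorem BT.NV_le_NX : normalizer (V : Set G) ≤ normalizer (XX V R : Set G) := by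
  refine le_normalizer_of fun g hg y hy => ?_
  have h : cj g (XX V R) ≤ XX V R := by
    rw [XX, cj_iSup]
    refine iSup_le fun i => ?_
    obtain ⟨j, hj⟩ := b.perm g hg i
    rw [b.cj_WW hj]
    exact W_le_X V R j
  exact h (conj_mem_cj hy)

/-- `C_V(X) = 1` -/
theorem BT.cen_VX {v : G} (hv : v ∈ V) (h : v ∈ centralizer (XX V R : Set G)) : v = 1 := by
  obtain ⟨i, hi⟩ := b.R_cov v hv
  refine b.eq_one_of_forall fun j => ?_
  obtain ⟨x, hx, e⟩ := b.trans_X_one i j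
  rw [← e]
  have := conj_mem_cj (g := x) hi
  rwa [mem_centralizer_iff.1 h x hx, mul_inv_cancel_right] at this

omit b in
theorem mem_cen_sup {A B : Subgroup G} {x : G} (hA : x ∈ centralizer (A : Set G))
    (hB : x ∈ centralizer (B : Set G)) : x ∈ centralizer ((A ⊔ B : Subgroup G) : Set G) := by
  have h : A ⊔ B ≤ centralizer {x} := by
    refine sup_le (fun a ha => ?_) fun a ha => ?_
    · rw [mem_centralizer_iff]; rintro _ rfl; exact (mem_centralizer_iff.1 hA a ha).symm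
    · rw [mem_centralizer_iff]; rintro _ rfl; exact (mem_centralizer_iff.1 hB a ha).symm
  rw [mem_centralizer_iff]
  exact fun v hv => (mem_centralizer_iff.1 (h hv) x rfl).symm

theorem BT.mem_cen_X {i j : ι} (hij : i ≠ j) {x : G} (hi : x ∈ centralizer (WW V (R i) : Set G))
    (hj : x ∈ centralizer (WW V (R j) : Set G)) : x ∈ centralizer (XX V R : Set G) := by
  rw [b.X_eq hij]
  exact mem_cen_sup hi hj

omit b in
theorem cen_X_le (i : ι) : centralizer (XX V R : Set G) ≤ centralizer (WW V (R i) : Set G) :=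
  centralizer_le (W_le_X V R i)

omit b in
theorem cen_W_le (V R : Subgroup G) : centralizer (WW V R : Set G) ≤ centralizer (V : Set G) :=
  centralizer_le (V_le_WW V R)

theorem BT.R_cen_W (i : ι) : R i ≤ centralizer (WW V (R i) : Set G) := fun a ha => by
  rw [mem_centralizer_iff]
  exact fun w hw => b.QR i w (b.W_le_Q i hw) a ha

/-- the swap argument -/
theorem BT.swap {i j : ι} (hij : i ≠ j) {c : G} (hc : c ∈ centralizer (WW V (R i) : Set G))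
    (hX : ∀ x ∈ XX V R, x * c * x⁻¹ * c⁻¹ ∈ V)
    (H : ∀ v ∈ V, v * c ∈ centralizer (XX V R : Set G) → v * c = 1) : c ∈ R i := by
  obtain ⟨n, hn, e1, -⟩ := b.trans_X hij (Ne.symm hij)
  obtain ⟨a, ha, a', ha', e⟩ := b.exists_mul hij (hX n hn)
  have h1 : n * c * n⁻¹ ∈ centralizer (WW V (R j) : Set G) := by
    rw [← b.cj_WW e1, centralizer_cj]
    exact conj_mem_cj hc
  have h2 : a * c ∈ centralizer (WW V (R i) : Set G) := mul_mem (b.R_cen_W i ha) hc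
  have h3 : a * c ∈ centralizer (WW V (R j) : Set G) := by
    have h4 : a * c = a'⁻¹ * (n * c * n⁻¹) := by
      have h5 := b.V_comm a (b.R_le i ha) a' (b.R_le j ha')
      calc a * c = a'⁻¹ * (a' * a) * c := by group
        _ = a'⁻¹ * (n * c * n⁻¹ * c⁻¹) * c := by rw [← h5, ← e]
        _ = a'⁻¹ * (n * c * n⁻¹) := by group
    rw [h4]
    exact mul_mem (inv_mem (b.R_cen_W j ha')) h1
  have h4 := H a (b.R_le i ha) (b.mem_cen_X hij h2 h3)
  rw [mul_eq_one_iff_inv_eq] at h4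
  rw [← h4]
  exact inv_mem ha

theorem BT.cen_W_le_N (i j : ι) : centralizer (WW V (R i) : Set G) ≤ normalizer (R j : Set G) :=
  (cen_W_le V (R i)).trans (b.cen_le_N j)

theorem BT.cen_W_le_K (i : ι) : centralizer (WW V (R i) : Set G) ≤ KK V R i := fun c hc =>
  ⟨b.cen_W_le_N i i hc, fun w hw => by
    rw [← mem_centralizer_iff.1 hc w hw]
    have e : w * c * c⁻¹ * w⁻¹ = 1 := by group
    rw [e]
    exact one_mem _⟩

/-- `[C(W i), W j] ≤ U j` -/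
theorem BT.cen_W_W {i j : ι} {c w : G} (hc : c ∈ centralizer (WW V (R i) : Set G))
    (hw : w ∈ WW V (R j)) : c * w * c⁻¹ * w⁻¹ ∈ UU V R j := by
  have hcV := cen_W_le V (R i) hc
  refine mem_inf.2 ⟨mul_mem (conj_mem_of_normalizer (b.cen_le_NW j hcV) hw) (inv_mem hw), ?_⟩
  have e : c * w * c⁻¹ * w⁻¹ = c * (w * c⁻¹ * w⁻¹) := by group
  rw [e]
  exact mul_mem hcV (conj_mem_of_normalizer
    (normalizer_le_normalizer_centralizer V (b.W_le_NV j hw)) (inv_mem hcV))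

/-- `Q_1 ∩ Q_2` -/
def CC (R : ι → Subgroup G) : Subgroup G := ⨅ i, QQ (R i)

theorem BT.QQ_aux {i j : ι} (hij : i ≠ j) : XX V R ≤ cenMod V (QQ (R i) ⊓ QQ (R j)) := by
  have key : ∀ k, ∀ w ∈ WW V (R k), ∀ d ∈ QQ (R k), w * d * w⁻¹ * d⁻¹ ∈ V := by
    intro k w hw d hd
    have e : w * d * w⁻¹ * d⁻¹ = (d * w * d⁻¹ * w⁻¹)⁻¹ := by group
    rw [e]
    exact b.R_le k (inv_mem (b.WQ k hd hw))
  rw [b.X_eq hij]
  exact sup_le (fun w hw => ⟨b.W_le_NV i hw, fun d hd => key i w hw d hd.1⟩)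
    fun w hw => ⟨b.W_le_NV j hw, fun d hd => key j w hw d hd.2⟩

/-- `Q i ∩ Q j` is independent of `i ≠ j` -/
theorem BT.C_eq {i j : ι} (hij : i ≠ j) : CC R = QQ (R i) ⊓ QQ (R j) := by
  have key : ∀ k l, k ≠ l → QQ (R i) ⊓ QQ (R j) = QQ (R k) ⊓ QQ (R l) := by
    intro k l hkl
    obtain ⟨x, hx, e1, e2⟩ := b.trans_X hij hkl
    have h1 := cj_eq_self_iff.2 (cenMod_normalizes (le_inf (b.V_Q i) (b.V_Q j)) (b.QQ_aux hij hx))
    rw [cj_inf, b.cj_QQ e1, b.cj_QQ e2] at h1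
    exact h1.symm
  apply le_antisymm
  · exact le_inf (iInf_le _ i) (iInf_le _ j)
  · refine le_iInf fun k => ?_
    obtain ⟨l, hl, -⟩ := b.third k k
    rw [key k l (Ne.symm hl)]
    exact inf_le_left

theorem BT.CX {x c : G} (hx : x ∈ XX V R) (hc : c ∈ CC R) : x * c * x⁻¹ * c⁻¹ ∈ V := by
  obtain ⟨i, j, hij⟩ := b.exists_pair
  rw [b.C_eq hij] at hc
  exact (b.QQ_aux hij hx).2 c hc

theorem BT.V_le_C : V ≤ CC R := le_iInf fun i => b.V_Q i

theorem BT.D_le_C : DD V R ≤ CC R := le_iInf fun i => (D_le_W V R i).trans (b.W_le_Q i)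

theorem BT.C_inf_W (i : ι) : CC R ⊓ WW V (R i) = DD V R := by
  apply le_antisymm
  · obtain ⟨j, hj, -⟩ := b.third i i
    rw [b.D_eq (Ne.symm hj)]
    exact le_inf inf_le_right (inf_le_left.trans (iInf_le _ j))
  · exact le_inf b.D_le_C (D_le_W V R i)

omit b in
theorem CC_isPGroup [Nonempty ι] : IsPGroup 2 (CC R) :=
  (O2_isPGroup _).to_le (iInf_le _ (Classical.arbitrary ι))

theorem BT.nonempty : Nonempty ι := by
  obtain ⟨i, -⟩ := b.R_cov 1 (one_mem V)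
  exact ⟨i⟩

theorem BT.W_isPGroup (i : ι) : IsPGroup 2 (WW V (R i)) := (O2_isPGroup _).to_le (b.W_le_Q i)

end

section BTC

variable {V : Subgroup G} {R : ι → Subgroup G} (b : BTC V R)
include b

/-- `C_D(X) = 1` -/
theorem BTC.cen_D {d : G} (hd : d ∈ DD V R) (h : d ∈ centralizer (XX V R : Set G)) : d = 1 := by
  have key : DD V R ⊓ centralizer (XX V R : Set G) = ⊥ := by
    obtain ⟨i⟩ := b.nonempty
    refine b.meet _ ((b.W_isPGroup i).to_le (inf_le_left.trans (D_le_W V R i)))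
      (inf_le_left.trans (b.D_le_cen.trans (cen_le_NV V))) ?_ ?_
    · intro g hg
      rw [← cj_eq_self_iff, cj_inf, ← centralizer_cj, cj_eq_self_iff.2 (b.NV_le_ND hg),
        cj_eq_self_iff.2 (b.NV_le_NX hg)]
    · rw [eq_bot_iff_forall]
      rintro x ⟨⟨-, h1⟩, h2⟩
      exact b.cen_VX h2 h1
  have : d ∈ DD V R ⊓ centralizer (XX V R : Set G) := mem_inf.2 ⟨hd, h⟩
  rw [key] at this
  exact mem_bot.1 this

/-- **(B)** `C_D(W i) = R i` -/
theorem BTC.cen_DW {i : ι} {d : G} (hd : d ∈ DD V R) (h : d ∈ centralizer (WW V (R i) : Set G)) :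
    d ∈ R i := by
  obtain ⟨j, hj, -⟩ := b.third i i
  exact b.swap (Ne.symm hj) h (fun x hx => b.XD hx hd)
    fun v hv hvd => b.cen_D (mul_mem (V_le_D V R hv) hd) hvd

/-- **(8)** `C_D(U i) = V` -/
theorem BTC.cen_DU {i : ι} {d : G} (hd : d ∈ DD V R) (hU : ∀ u ∈ UU V R i, d * u = u * d) : d ∈ V := by
  obtain ⟨v, hv, hc⟩ := b.cen_U (b.W_le_Q i (D_le_W V R i hd)) hU
  have h1 := b.cen_DW (mul_mem (inv_mem (V_le_D V R hv)) hd) hc
  have e : d = v * (v⁻¹ * d) := by group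
  rw [e]
  exact mul_mem hv (b.R_le i h1)

/-- `λ` is injective on `D / V` -/
theorem BTC.lam_inj {d : G} (hd : d ∈ DD V R) (h : ∀ y ∈ YY V R, d * y * d⁻¹ * y⁻¹ = 1) : d ∈ V := by
  obtain ⟨i⟩ := b.nonempty
  refine b.cen_DU (i := i) hd fun u hu => ?_
  have := h u (UU_le_YY i hu)
  rwa [mul_inv_eq_one, mul_inv_eq_iff_eq_mul] at this

/-- `[C(W i), U j] ≤ R i` -/
theorem BTC.cen_W_U {i j : ι} (hij : i ≠ j) {c u : G} (hc : c ∈ centralizer (WW V (R i) : Set G))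
    (hu : u ∈ UU V R j) : c * u * c⁻¹ * u⁻¹ ∈ R i := by
  have hcV := cen_W_le V (R i) hc
  have huV := UU_le_cen j hu
  have hc2 := conj_mem_of_normalizer (normalizer_le_normalizer_centralizer _ (b.cen_le_NW i huV)) (inv_mem hc)
  have e : c * u * c⁻¹ * u⁻¹ = c * (u * c⁻¹ * u⁻¹) := by group
  have h1 : c * u * c⁻¹ * u⁻¹ ∈ centralizer (WW V (R i) : Set G) := by
    rw [e]
    exact mul_mem hc hc2
  have h2 : c * u * c⁻¹ * u⁻¹ ∈ UU V R j :=
    mul_mem (conj_mem_of_normalizer (b.cen_le_NU j hcV) hu) (inv_mem hu)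
  refine b.cen_DW ?_ h1
  rw [← b.UK hij]
  exact mem_inf.2 ⟨h2, b.cen_W_le_K i h1⟩

/-- odd order elements of `C(W i)` centralise `W j` -/
theorem BTC.odd_cen {i j : ι} (hij : i ≠ j) {c : G} (hc : c ∈ centralizer (WW V (R i) : Set G))
    (ho : Odd (orderOf c)) : c ∈ centralizer (WW V (R j) : Set G) := by
  have hcV := cen_W_le V (R i) hc
  have hcV' : ∀ v ∈ V, c * v = v * c := fun v hv => (mem_centralizer_iff.1 hcV v hv).symm
  have h1 : ∀ u ∈ UU V R j, c * u = u * c := by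
    intro u hu
    have h := b.R_le i (b.cen_W_U hij hc hu)
    exact comm_of_odd ho ((b.W_isPGroup i).to_le (V_le_WW V (R i))) h (hcV' _ h)
  rw [mem_centralizer_iff]
  intro w hw
  have h := b.cen_W_W hc hw
  exact (comm_of_odd ho (b.U_isPGroup j) h (h1 _ h)).symm

/-- the subgroup generated by the odd order elements of `C(W i)` -/
def LL (V : Subgroup G) (R : ι → Subgroup G) (i : ι) : Subgroup G :=
  closure {c | c ∈ centralizer (WW V (R i) : Set G) ∧ Odd (orderOf c)}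

omit b in
theorem LL_le (i : ι) : LL V R i ≤ centralizer (WW V (R i) : Set G) :=
  (closure_le _).2 fun _ hc => hc.1

theorem BTC.LL_eq (i j : ι) : LL V R i = LL V R j := by
  have key : ∀ i j : ι, i ≠ j → LL V R i ≤ LL V R j := fun i j hij =>
    closure_mono fun c hc => ⟨b.odd_cen hij hc.1 hc.2, hc.2⟩
  by_cases h : i = j
  · rw [h]
  · exact le_antisymm (key i j h) (key j i (Ne.symm h))

theorem BTC.cj_LL {g : G} {i j : ι} (h : cj g (R i) = R j) : cj g (LL V R i) = LL V R j := by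
  have key : ∀ (g : G) (i j : ι), cj g (R i) = R j → cj g (LL V R i) ≤ LL V R j := by
    intro g i j h
    rw [cj, map_le_iff_le_comap, LL, closure_le]
    rintro c ⟨hc, ho⟩
    refine subset_closure ⟨?_, ?_⟩
    · rw [← b.cj_WW h, centralizer_cj]
      exact conj_mem_cj hc
    · exact ((orderOf_injective (MulAut.conj g).toMonoidHom (MulAut.conj g).injective c).symm ▸ ho :)
  apply le_antisymm (key g i j h)
  have h' : cj g⁻¹ (R j) = R i := by rw [← h, cj_inv_cj]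
  have h3 := cj_mono (g := g) (key g⁻¹ j i h')
  rwa [cj_cj_inv] at h3

/-- **(C)** `C(W i)` is a 2-group -/
theorem BTC.cen_W_isPGroup [Finite G] (i : ι) : IsPGroup 2 (centralizer (WW V (R i) : Set G)) := by
  have hLV : LL V R i ≤ centralizer (V : Set G) := (LL_le i).trans (cen_W_le V (R i))
  have hLN : LL V R i ≤ normalizer (R i : Set G) := hLV.trans (b.cen_le_N i)
  have h1 : normalizer (V : Set G) ≤ normalizer (LL V R i : Set G) := by
    intro g hg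
    obtain ⟨j, hj⟩ := b.perm g hg i
    rw [← cj_eq_self_iff, b.cj_LL hj, b.LL_eq]
  have h2 : normalizer (R i : Set G) ≤ normalizer (LL V R i : Set G) := by
    intro g hg
    rw [← cj_eq_self_iff, b.cj_LL (cj_eq_self_iff.2 hg)]
  have h3 : normalizer (LL V R i : Set G) ≤ normalizer (O2 (LL V R i) : Set G) := by
    intro g hg
    rw [← cj_eq_self_iff] at hg ⊢
    rw [cj_O2, hg]
  have h4 : O2 (LL V R i) = ⊥ := b.nonloc i _ (O2_isPGroup _) ((O2_le _).trans (hLV.trans (cen_le_NV V)))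
    ((O2_le _).trans hLN) (h1.trans h3) (h2.trans h3)
  have hQ := le_normalizer_O2 (normalizer (R i : Set G))
  have h5 : LL V R i ≤ centralizer (QQ (R i) : Set G) := by
    intro l hl
    rw [mem_centralizer_iff]
    intro q hq
    have k1 : q * l * q⁻¹ * l⁻¹ ∈ LL V R i :=
      mul_mem (conj_mem_of_normalizer (h2 (b.Q_le i hq)) hl) (inv_mem hl)
    have k2 : q * l * q⁻¹ * l⁻¹ ∈ QQ (R i) := by
      have e : q * l * q⁻¹ * l⁻¹ = q * (l * q⁻¹ * l⁻¹) := by group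
      rw [e]
      exact mul_mem hq (conj_mem_of_normalizer (hQ (hLN hl)) (inv_mem hq))
    have k3 : LL V R i ⊓ QQ (R i) ≤ O2 (LL V R i) := by
      refine le_O2_of_normal inf_le_left ((O2_isPGroup _).to_le inf_le_right) ?_
      intro g hg a ha
      exact mem_inf.2 ⟨mul_mem (mul_mem hg ha.1) (inv_mem hg), conj_mem_of_normalizer (hQ (hLN hg)) ha.2⟩
    have k4 : q * l * q⁻¹ * l⁻¹ ∈ O2 (LL V R i) := k3 (mem_inf.2 ⟨k1, k2⟩)
    rw [h4, mem_bot, mul_inv_eq_one, mul_inv_eq_iff_eq_mul] at k4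
    exact k4
  have h6 : LL V R i ≤ QQ (R i) := fun l hl => b.cenQ i (mem_inf.2 ⟨hLN hl, h5 hl⟩)
  refine isPGroup_of_odd fun c hc ho => ?_
  have h7 : c ∈ QQ (R i) := h6 (subset_closure ⟨hc, ho⟩)
  obtain ⟨n, hn⟩ := O2_isPGroup _ (⟨c, h7⟩ : QQ (R i))
  have hn' : c ^ 2 ^ n = 1 := congrArg Subtype.val hn
  have hd := Nat.dvd_gcd (dvd_refl (orderOf c)) (orderOf_dvd_of_pow_eq_one hn')
  have hco : Nat.gcd (orderOf c) (2 ^ n) = 1 := (Nat.coprime_two_right.2 ho).pow_right n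
  rw [hco, Nat.dvd_one, orderOf_eq_one_iff] at hd
  exact hd

/-- `K i` is a 2-group, `= Q i` -/
theorem BTC.K_eq [Finite G] (i : ι) : KK V R i = QQ (R i) := by
  apply le_antisymm _ (b.Q_le_K i)
  refine le_O2_of_normal (KK_le_N i) ?_ fun g hg c hc => conj_mem_of_normalizer (b.N_le_NK i hg) hc
  refine isPGroup_of_odd fun c hc ho => ?_
  have h1 : c ∈ centralizer (WW V (R i) : Set G) := by
    rw [mem_centralizer_iff]
    intro w hw
    have h := hc.2 w hw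
    have h2 := b.KR i hc h
    rw [mul_inv_eq_iff_eq_mul] at h2
    exact (comm_of_odd ho ((b.W_isPGroup i).to_le ((b.R_le i).trans (V_le_WW V (R i)))) h h2).symm
  obtain ⟨n, hn⟩ := b.cen_W_isPGroup i ⟨c, h1⟩
  have hn' : c ^ 2 ^ n = 1 := congrArg Subtype.val hn
  have hd := Nat.dvd_gcd (dvd_refl (orderOf c)) (orderOf_dvd_of_pow_eq_one hn')
  have hco : Nat.gcd (orderOf c) (2 ^ n) = 1 := (Nat.coprime_two_right.2 ho).pow_right n
  rw [hco, Nat.dvd_one, orderOf_eq_one_iff] at hd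
  exact hd

theorem BTC.cen_W_le_Q [Finite G] (i : ι) : centralizer (WW V (R i) : Set G) ≤ QQ (R i) := by
  rw [← b.K_eq i]
  exact b.cen_W_le_K i

/-- `C(X) = 1` -/
theorem BTC.cen_X [Finite G] : centralizer (XX V R : Set G) = ⊥ := by
  obtain ⟨i⟩ := b.nonempty
  refine b.meet _ ((b.cen_W_isPGroup i).to_le (cen_X_le i))
    (((cen_X_le i).trans (cen_W_le V (R i))).trans (cen_le_NV V)) ?_ ?_
  · intro g hg
    rw [← cj_eq_self_iff, ← centralizer_cj, cj_eq_self_iff.2 (b.NV_le_NX hg)]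
  · rw [eq_bot_iff_forall]
    rintro x ⟨h1, h2⟩
    exact b.cen_VX h2 h1

theorem BTC.cen_inf [Finite G] {i j : ι} (hij : i ≠ j) {c : G} (hi : c ∈ centralizer (WW V (R i) : Set G))
    (hj : c ∈ centralizer (WW V (R j) : Set G)) : c = 1 := by
  have := b.mem_cen_X hij hi hj
  rw [b.cen_X] at this
  exact mem_bot.1 this

/-- `[C(W i), C(W j)] = 1` -/
theorem BTC.cen_comm [Finite G] {i j : ι} (hij : i ≠ j) {c c' : G}
    (hc : c ∈ centralizer (WW V (R i) : Set G)) (hc' : c' ∈ centralizer (WW V (R j) : Set G)) :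
    c * c' = c' * c := by
  have n1 := normalizer_le_normalizer_centralizer _ (b.cen_le_NW j (cen_W_le V (R i) hc))
  have n2 := normalizer_le_normalizer_centralizer _ (b.cen_le_NW i (cen_W_le V (R j) hc'))
  have h1 : c * c' * c⁻¹ * c'⁻¹ ∈ centralizer (WW V (R j) : Set G) :=
    mul_mem (conj_mem_of_normalizer n1 hc') (inv_mem hc')
  have h2 : c * c' * c⁻¹ * c'⁻¹ ∈ centralizer (WW V (R i) : Set G) := by
    have e : c * c' * c⁻¹ * c'⁻¹ = c * (c' * c⁻¹ * c'⁻¹) := by group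
    rw [e]
    exact mul_mem hc (conj_mem_of_normalizer n2 (inv_mem hc))
  have h3 := b.cen_inf hij h2 h1
  rwa [mul_inv_eq_one, mul_inv_eq_iff_eq_mul] at h3

/-- `C(W i) ∩ Q j = R i` -/
theorem BTC.cen_W_Q [Finite G] {i j : ι} (hij : i ≠ j) {c : G}
    (hc : c ∈ centralizer (WW V (R i) : Set G)) (hj : c ∈ QQ (R j)) : c ∈ R i := by
  refine b.swap hij hc (fun x hx => b.CX hx ?_) fun v hv hvd => ?_
  · rw [b.C_eq hij]
    exact mem_inf.2 ⟨b.cen_W_le_Q i hc, hj⟩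
  · rw [b.cen_X] at hvd
    exact mem_bot.1 hvd

/-- `Q_1 ∩ Q_2` is elementary abelian -/
theorem BTC.C_sq [Finite G] {x : G} (hx : x ∈ CC R) : x * x = 1 := by
  obtain ⟨i, j, hij⟩ := b.exists_pair
  have key : ∀ k, x * x ∈ centralizer (WW V (R k) : Set G) := by
    intro k
    rw [mem_centralizer_iff]
    intro w hw
    have hxk : x ∈ QQ (R k) := (mem_iInf.1 hx) k
    have h1 := b.WQ k hxk hw
    have h2 := b.conj_R hxk h1
    have e : x * x * w * (x * x)⁻¹ * w⁻¹ =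
        x * (x * w * x⁻¹ * w⁻¹) * x⁻¹ * (x * w * x⁻¹ * w⁻¹) := by group
    rw [h2, b.V_sq _ (b.R_le k h1), mul_inv_eq_one, mul_inv_eq_iff_eq_mul] at e
    exact e.symm
  exact b.cen_inf hij (key i) (key j)

theorem BTC.C_comm [Finite G] {x y : G} (hx : x ∈ CC R) (hy : y ∈ CC R) : x * y = y * x := by
  have h1 := b.C_sq hx
  have h2 := b.C_sq hy
  have h3 := b.C_sq (mul_mem hx hy)
  have e1 : x⁻¹ = x := inv_eq_of_mul_eq_one_left h1
  have e2 : y⁻¹ = y := inv_eq_of_mul_eq_one_left h2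
  have e3 : (x * y)⁻¹ = x * y := inv_eq_of_mul_eq_one_left h3
  rw [mul_inv_rev, e1, e2] at e3
  exact e3.symm

/-- `C_{Q_1 ∩ Q_2}(W i) = R i` -/
theorem BTC.cen_CW [Finite G] {i : ι} {x : G} (hx : x ∈ CC R) (h : x ∈ centralizer (WW V (R i) : Set G)) :
    x ∈ R i := by
  obtain ⟨j, hj, -⟩ := b.third i i
  exact b.cen_W_Q (Ne.symm hj) h (mem_iInf.1 hx j)

/-- `C_{Q_1 ∩ Q_2}(U i) = V` -/
theorem BTC.cen_CU [Finite G] {i : ι} {x : G} (hx : x ∈ CC R) (hU : ∀ u ∈ UU V R i, x * u = u * x) :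
    x ∈ V := by
  obtain ⟨v, hv, hc⟩ := b.cen_U (mem_iInf.1 hx i) hU
  have h1 := b.cen_CW (mul_mem (inv_mem (b.V_le_C hv)) hx) hc
  have e : x = v * (v⁻¹ * x) := by group
  rw [e]
  exact mul_mem hv (b.R_le i h1)

/-- `c² ∈ R i` for `c ∈ C(W i)` -/
theorem BTC.cen_sq [Finite G] {i : ι} {c : G} (hc : c ∈ centralizer (WW V (R i) : Set G)) : c * c ∈ R i := by
  obtain ⟨j, hj, -⟩ := b.third i i
  refine b.cen_W_Q (Ne.symm hj) (mul_mem hc hc) ?_
  rw [← b.K_eq j]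
  have hcN := b.cen_W_le_N i j hc
  -- outside `U j`
  have h1 : ∀ v ∈ WW V (R j), v ∉ UU V R j → v * (c * c) * v⁻¹ * (c * c)⁻¹ ∈ R j := by
    intro v hv hv'
    obtain ⟨k, hki, hkj, hk⟩ := b.moves (Ne.symm hj) hv hv'
    have h2 : v * c * v⁻¹ ∈ centralizer (WW V (R k) : Set G) := by
      rw [← b.cj_WW hk, centralizer_cj]
      exact conj_mem_cj hc
    have h3 := b.cen_comm hki h2 hc
    have h4 : v * c * v⁻¹ * c⁻¹ ∈ UU V R j := by
      have h5 := b.cen_W_W hc hv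
      have e : v * c * v⁻¹ * c⁻¹ = (c * v * c⁻¹ * v⁻¹)⁻¹ := by group
      rw [e]
      exact inv_mem h5
    have h6 := b.W_sq j (UU_le_WW j h4)
    have e : v * (c * c) * v⁻¹ * (c * c)⁻¹ = v * c * v⁻¹ * c⁻¹ * (v * c * v⁻¹ * c⁻¹) := by
      set d := v * c * v⁻¹ with hd
      have h7 : c⁻¹ * d = d * c⁻¹ := ((show Commute d c from h3).inv_right).symm
      calc v * (c * c) * v⁻¹ * (c * c)⁻¹ = d * (d * c⁻¹) * c⁻¹ := by rw [hd]; group
        _ = d * (c⁻¹ * d) * c⁻¹ := by rw [h7]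
        _ = d * c⁻¹ * (d * c⁻¹) := by simp only [mul_assoc]
    rw [e]
    exact h6
  -- an element outside `U j`
  obtain ⟨k, hkj, hki⟩ := b.third j i
  obtain ⟨v0, hv0, e0⟩ := b.trans j (Ne.symm hj) hkj
  have hv0' : v0 ∉ UU V R j := by
    intro h
    have h2 := b.cen_le_N i (UU_le_cen j h)
    rw [← cj_eq_self_iff, e0] at h2
    exact hki (b.R_index h2)
  have h2 : ∀ v ∈ WW V (R j), v * (c * c) * v⁻¹ * (c * c)⁻¹ ∈ R j := by
    intro v hv
    by_cases hv' : v ∈ UU V R j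
    · have h3 : v * v0⁻¹ ∉ UU V R j := fun h => by
        apply hv0'
        have e : v0 = (v * v0⁻¹)⁻¹ * v := by group
        rw [e]
        exact mul_mem (inv_mem h) hv'
      have h4 := h1 _ (mul_mem hv (inv_mem hv0)) h3
      have h5 := h1 v0 hv0 hv0'
      have h6 := conj_mem_of_normalizer (b.W_le_N j (mul_mem hv (inv_mem hv0))) h5
      have e : v * (c * c) * v⁻¹ * (c * c)⁻¹ =
          (v * v0⁻¹) * (v0 * (c * c) * v0⁻¹ * (c * c)⁻¹) * (v * v0⁻¹)⁻¹ *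
            ((v * v0⁻¹) * (c * c) * (v * v0⁻¹)⁻¹ * (c * c)⁻¹) := by group
      rw [e]
      exact mul_mem h6 h4
    · exact h1 v hv hv'
  refine ⟨mul_mem hcN hcN, fun w hw => ?_⟩
  have e : ∀ s : G, s * w * s⁻¹ * w⁻¹ = (w * s * w⁻¹ * s⁻¹)⁻¹ := fun s => by group
  rw [e]
  exact inv_mem (h2 w hw)

/-- `[c, c'] ∈ R i` for `c, c' ∈ C(W i)` -/
theorem BTC.cen_comm_self [Finite G] {i : ι} {c c' : G} (hc : c ∈ centralizer (WW V (R i) : Set G))
    (hc' : c' ∈ centralizer (WW V (R i) : Set G)) : c * c' * c⁻¹ * c'⁻¹ ∈ R i := by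
  have h1 := b.cen_sq (mul_mem hc hc')
  have h2 := inv_mem (b.cen_sq hc)
  have h3 := inv_mem (b.cen_sq hc')
  have h4 := conj_mem_of_normalizer (b.cen_W_le_N i i (inv_mem hc')) h2
  have e : c * c' * c⁻¹ * c'⁻¹ = (c * c' * (c * c')) * (c'⁻¹ * (c * c)⁻¹ * c'⁻¹⁻¹) * (c' * c')⁻¹ := by group
  rw [e]
  exact mul_mem (mul_mem h1 h4) h3

end BTC

end Cfsg.Agent.Omega.BTwo

end

section


/-!
# Counting with characters

`A`, `W` subgroups of a finite group with `[A, W] ≤ T` central in `A` and in `W`; a character of `T`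
gives homomorphisms `W → ℂˣ`.
-/

set_option autoImplicit false

namespace Cfsg.Agent.Omega.BTwo

open Subgroup

/-- characters of a finite group that are trivial on a subgroup containing all commutators -/
theorem index_ker_le {W A : Type*} [Group W] [Finite W] [Group A] (N : Subgroup W) [N.Normal]
    (hN : ∀ w w' : W, w * w' * w⁻¹ * w'⁻¹ ∈ N) (f : A →* (W →* ℂˣ)) (hf : ∀ a, ∀ n ∈ N, f a n = 1) :
    f.ker.index ≤ N.index := by
  let _ : CommGroup (W ⧸ N) :=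
    { (inferInstance : Group (W ⧸ N)) with
      mul_comm := by
        intro x y
        induction x using QuotientGroup.induction_on with
        | H x =>
          induction y using QuotientGroup.induction_on with
          | H y =>
            rw [← QuotientGroup.mk_mul, ← QuotientGroup.mk_mul, QuotientGroup.eq]
            have := hN y⁻¹ x⁻¹
            have e : (x * y)⁻¹ * (y * x) = y⁻¹ * x⁻¹ * y⁻¹⁻¹ * x⁻¹⁻¹ := by group
            rw [e]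
            exact this }
  have : NeZero (Monoid.exponent (W ⧸ N)) := ⟨Monoid.exponent_ne_zero_of_finite⟩
  have h1 : Nat.card ((W ⧸ N) →* ℂˣ) = Nat.card (W ⧸ N) :=
    CommGroup.card_monoidHom_of_hasEnoughRootsOfUnity (W ⧸ N) ℂ
  have h2 : Finite ((W ⧸ N) →* ℂˣ) := by
    apply Nat.finite_of_card_ne_zero
    rw [h1]
    exact Nat.card_pos.ne'
  rw [index_ker]
  change _ ≤ Nat.card (W ⧸ N)
  rw [← h1]
  -- the injection
  have key : ∀ φ : f.range, ∀ n ∈ N, (φ : W →* ℂˣ) n = 1 := by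
    rintro ⟨_, a, rfl⟩ n hn
    exact hf a n hn
  refine Nat.card_le_card_of_injective
    (fun φ : f.range => QuotientGroup.lift N (φ : W →* ℂˣ) (key φ)) ?_
  intro φ ψ h
  apply Subtype.ext
  ext w
  have := congrArg (fun g : (W ⧸ N) →* ℂˣ => g (w : W ⧸ N)) h
  exact congrArg Units.val this

variable {G : Type*} [Group G]

/-- a character of a finite elementary abelian (or just commutative) nontrivial subgroup -/
theorem exists_char {T : Subgroup G} [Finite T] (hc : ∀ a ∈ T, ∀ b ∈ T, a * b = b * a) {t : G}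
    (ht : t ∈ T) (h1 : t ≠ 1) : ∃ ξ : T →* ℂˣ, ξ ⟨t, ht⟩ ≠ 1 := by
  let _ : CommGroup T :=
    { (inferInstance : Group T) with
      mul_comm := fun x y => Subtype.ext (hc x x.2 y y.2) }
  have : NeZero (Monoid.exponent T) := ⟨Monoid.exponent_ne_zero_of_finite⟩
  exact CommGroup.exists_apply_ne_one_of_hasEnoughRootsOfUnity T ℂ
    (a := ⟨t, ht⟩) (fun h => h1 (congrArg Subtype.val h))

/-- the pairing `(a, w) ↦ ξ [a, w]` -/
structure Pairing (A W T : Subgroup G) : Prop where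
  comm : ∀ a ∈ A, ∀ w ∈ W, a * w * a⁻¹ * w⁻¹ ∈ T
  cA : ∀ a ∈ A, ∀ t ∈ T, a * t = t * a
  cW : ∀ w ∈ W, ∀ t ∈ T, w * t = t * w

namespace Pairing

variable {A W T : Subgroup G} (p : Pairing A W T)
include p

theorem comm_mul_right {a w w' : G} (ha : a ∈ A) (hw : w ∈ W) (hw' : w' ∈ W) :
    a * (w * w') * a⁻¹ * (w * w')⁻¹ = (a * w * a⁻¹ * w⁻¹) * (a * w' * a⁻¹ * w'⁻¹) := by
  have h := p.cW w hw _ (p.comm a ha w' hw')
  calc a * (w * w') * a⁻¹ * (w * w')⁻¹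
      = (a * w * a⁻¹ * w⁻¹) * (w * (a * w' * a⁻¹ * w'⁻¹)) * w⁻¹ := by group
    _ = (a * w * a⁻¹ * w⁻¹) * (a * w' * a⁻¹ * w'⁻¹ * w) * w⁻¹ := by rw [h]
    _ = _ := by group

theorem comm_mul_left {a a' w : G} (ha : a ∈ A) (ha' : a' ∈ A) (hw : w ∈ W) :
    (a * a') * w * (a * a')⁻¹ * w⁻¹ = (a * w * a⁻¹ * w⁻¹) * (a' * w * a'⁻¹ * w⁻¹) := by
  have h := p.cA a ha _ (p.comm a' ha' w hw)
  have h2 := p.cW w hw _ (p.comm a' ha' w hw)
  calc (a * a') * w * (a * a')⁻¹ * w⁻¹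
      = (a * (a' * w * a'⁻¹ * w⁻¹)) * w * a⁻¹ * w⁻¹ := by group
    _ = ((a' * w * a'⁻¹ * w⁻¹) * a) * w * a⁻¹ * w⁻¹ := by rw [h]
    _ = (a' * w * a'⁻¹ * w⁻¹) * (a * w * a⁻¹ * w⁻¹) := by group
    _ = (a * w * a⁻¹ * w⁻¹) * (a' * w * a'⁻¹ * w⁻¹) := by
      have h3 := p.cA a ha _ (p.comm a' ha' w hw)
      set t := a' * w * a'⁻¹ * w⁻¹ with ht
      have ht' : t ∈ T := p.comm a' ha' w hw
      have e1 : a⁻¹ * t = t * a⁻¹ := by
        calc a⁻¹ * t = a⁻¹ * (t * a) * a⁻¹ := by group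
          _ = a⁻¹ * (a * t) * a⁻¹ := by rw [h3]
          _ = t * a⁻¹ := by group
      have e2 : w⁻¹ * t = t * w⁻¹ := by
        calc w⁻¹ * t = w⁻¹ * (t * w) * w⁻¹ := by group
          _ = w⁻¹ * (w * t) * w⁻¹ := by rw [h2]
          _ = t * w⁻¹ := by group
      calc t * (a * w * a⁻¹ * w⁻¹) = (t * a) * w * a⁻¹ * w⁻¹ := by group
        _ = (a * t) * w * a⁻¹ * w⁻¹ := by rw [h3]
        _ = a * (t * w) * a⁻¹ * w⁻¹ := by group
        _ = a * (w * t) * a⁻¹ * w⁻¹ := by rw [h2]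
        _ = a * w * (t * a⁻¹) * w⁻¹ := by group
        _ = a * w * (a⁻¹ * t) * w⁻¹ := by rw [e1]
        _ = a * w * a⁻¹ * (t * w⁻¹) := by group
        _ = a * w * a⁻¹ * (w⁻¹ * t) := by rw [e2]
        _ = (a * w * a⁻¹ * w⁻¹) * t := by group

/-- the homomorphism `w ↦ ξ [a, w]` -/
noncomputable def chi (ξ : T →* ℂˣ) : A →* (W →* ℂˣ) where
  toFun a :=
    { toFun := fun w => ξ ⟨a * w * (a : G)⁻¹ * (w : G)⁻¹, p.comm a a.2 w w.2⟩
      map_one' := by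
        have : (⟨(a : G) * (1 : W) * (a : G)⁻¹ * ((1 : W) : G)⁻¹, p.comm a a.2 (1 : W) (1 : W).2⟩ : T) = 1 := by
          apply Subtype.ext
          simp
        rw [this, map_one]
      map_mul' := by
        intro w w'
        rw [← map_mul]
        congr 1
        apply Subtype.ext
        exact p.comm_mul_right a.2 w.2 w'.2 }
  map_one' := by
    ext w
    have : (⟨((1 : A) : G) * w * ((1 : A) : G)⁻¹ * (w : G)⁻¹, p.comm (1 : A) (1 : A).2 w w.2⟩ : T) = 1 := by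
      apply Subtype.ext
      simp
    change ((ξ ⟨((1 : A) : G) * w * ((1 : A) : G)⁻¹ * (w : G)⁻¹, p.comm (1 : A) (1 : A).2 w w.2⟩ : ℂˣ) : ℂ) = _
    rw [this, map_one]
    rfl
  map_mul' := by
    intro a a'
    ext w
    change ((ξ ⟨((a * a' : A) : G) * w * ((a * a' : A) : G)⁻¹ * (w : G)⁻¹, _⟩ : ℂˣ) : ℂ) =
      ((ξ ⟨(a : G) * w * (a : G)⁻¹ * (w : G)⁻¹, _⟩ * ξ ⟨(a' : G) * w * (a' : G)⁻¹ * (w : G)⁻¹, _⟩ : ℂˣ) : ℂ)
    rw [← map_mul]
    congr 2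
    apply Subtype.ext
    exact p.comm_mul_left a.2 a'.2 w.2

theorem chi_apply (ξ : T →* ℂˣ) (a : A) (w : W) :
    p.chi ξ a w = ξ ⟨a * w * (a : G)⁻¹ * (w : G)⁻¹, p.comm a a.2 w w.2⟩ := rfl

/-- **counting**: if `ξ [a, W] = 1` implies `a ∈ K`, and `ξ [A, N] = 1`, `[W, W] ≤ N`, then
`|A : A ∩ K| ≤ |W : N|` -/
theorem relIndex_le [Finite G] (ξ : T →* ℂˣ) {K N : Subgroup G}
    (hN : ∀ w ∈ W, ∀ w' ∈ W, w * w' * w⁻¹ * w'⁻¹ ∈ N)
    (hA : ∀ a (ha : a ∈ A), ∀ n (hn : n ∈ W), n ∈ N → ξ ⟨a * n * a⁻¹ * n⁻¹, p.comm a ha n hn⟩ = 1)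
    (hK : ∀ a (ha : a ∈ A), (∀ w (hw : w ∈ W), ξ ⟨a * w * a⁻¹ * w⁻¹, p.comm a ha w hw⟩ = 1) → a ∈ K) :
    K.relIndex A ≤ N.relIndex W := by
  have hnorm : (N.subgroupOf W).Normal := by
    refine ⟨fun n hn g => ?_⟩
    rw [mem_subgroupOf] at hn ⊢
    have h1 := hN g g.2 n n.2
    have e : ((g * n * g⁻¹ : W) : G) = (g * n * (g : G)⁻¹ * (n : G)⁻¹) * n := by
      push_cast; group
    rw [e]
    exact mul_mem h1 hn
  have h1 := index_ker_le (N.subgroupOf W) (fun w w' => by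
    rw [mem_subgroupOf]
    exact hN w w.2 w' w'.2) (p.chi ξ) (fun a n hn => by
      rw [p.chi_apply]
      exact hA a a.2 n n.2 hn)
  refine le_trans ?_ h1
  have h2 : (p.chi ξ).ker ≤ K.subgroupOf A := ?_
  · exact index_antitone h2
  intro a ha
  rw [mem_subgroupOf]
  refine hK a a.2 fun w hw => ?_
  have := congrArg (fun f : W →* ℂˣ => f ⟨w, hw⟩) (MonoidHom.mem_ker.1 ha)
  simpa [p.chi_apply] using this

end Pairing

end Cfsg.Agent.Omega.BTwo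

end

section


/-!
# #11043 (8.4), the end of the case `q ≥ 4`, abstract form
-/

set_option autoImplicit false
set_option linter.style.haveILetI false

namespace Cfsg.Agent.Omega.BTwo.RadAbs

open Subgroup

variable {G : Type*} [Group G] {ι : Type*}

/-- Two `p`-elements in the same coset of a 2-subgroup normalised by them are conjugate under it (`p` odd). -/
theorem conj_of_same_coset [Finite G] {p : ℕ} (hp : p.Prime) (hp2 : p ≠ 2) {M : Subgroup G} (hM : IsPGroup 2 M)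
    {x y : G} {k : ℕ} (hx : x ^ p ^ k = 1) (hxM : ∀ m ∈ M, x * m * x⁻¹ ∈ M) (hy : y ^ p ^ k = 1)
    (hxy : y * x⁻¹ ∈ M) : ∃ m ∈ M, m * x * m⁻¹ = y := by
  haveI : Fact p.Prime := ⟨hp⟩
  haveI : Fact (Nat.Prime 2) := ⟨Nat.prime_two⟩
  have hxN : x ∈ normalizer (M : Set G) := by
    rw [mem_normalizer_iff]
    have hmap : (M.map (MulAut.conj x).toMonoidHom) = M := by
      refine eq_of_le_of_card_ge ?_
        (Nat.card_congr (M.equivMapOfInjective _ (MulAut.conj x).injective).toEquiv.symm).ge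
      rintro _ ⟨m, hm, rfl⟩
      exact hxM m hm
    intro m
    refine ⟨hxM m, fun hm => ?_⟩
    rw [← hmap] at hm
    obtain ⟨m', hm', e⟩ := hm
    have e' : x * m' * x⁻¹ = x * m * x⁻¹ := e
    have e2 : m' = m := by
      have := congrArg (fun w => x⁻¹ * w * x) e'
      simpa [mul_assoc] using this
    rw [← e2]; exact hm'
  have h3 : ∀ w : G, w ^ p ^ k = 1 → IsPGroup p (zpowers w) := by
    intro w hw
    obtain ⟨j, -, hj⟩ := (Nat.dvd_prime_pow hp).1 (orderOf_dvd_of_pow_eq_one hw)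
    exact IsPGroup.of_card (by rw [Nat.card_zpowers, hj])
  have h2p : Nat.Coprime 2 p := (Nat.coprime_primes Nat.prime_two hp).2 (Ne.symm hp2)
  have hMc : (Nat.card M).Coprime p := by
    obtain ⟨j, hj⟩ := IsPGroup.iff_card.1 hM
    rw [hj]
    exact Nat.Coprime.pow_left _ h2p
  have hsup : zpowers y ≤ zpowers x ⊔ M := by
    rw [zpowers_le]
    have h1 : y = (y * x⁻¹) * x := by group
    rw [h1]
    exact mul_mem (mem_sup_right hxy) (mem_sup_left (mem_zpowers x))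
  obtain ⟨m, hm, hmy⟩ := Transfer.FusionBasic.exists_conj_of_coprime (h3 x hx) (h3 y hy) hMc
    (by rw [zpowers_le]; exact hxN) hsup
  obtain ⟨i, hi⟩ := mem_zpowers_iff.1 (hmy y (mem_zpowers y))
  have h4 : m * y * m⁻¹ * x⁻¹ ∈ M := by
    have h5 : m * y * m⁻¹ * x⁻¹ = m * (y * x⁻¹) * (x * m⁻¹ * x⁻¹) := by group
    rw [h5]
    exact mul_mem (mul_mem hm hxy) (hxM _ (inv_mem hm))
  have h6 : m * y * m⁻¹ * x⁻¹ = 1 := by
    obtain ⟨j, hj⟩ := hM ⟨_, h4⟩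
    have hj' : (m * y * m⁻¹ * x⁻¹) ^ 2 ^ j = 1 := by simpa using congrArg Subtype.val hj
    have h7 : (m * y * m⁻¹ * x⁻¹) ^ p ^ k = 1 := by
      rw [← hi]
      have h7 : x ^ i * x⁻¹ = x ^ (i - 1) := by rw [zpow_sub, zpow_one]
      rw [h7, ← zpow_natCast, ← zpow_mul, mul_comm, zpow_mul, zpow_natCast, hx, one_zpow]
    have h8 : orderOf (m * y * m⁻¹ * x⁻¹) ∣ Nat.gcd (2 ^ j) (p ^ k) :=
      Nat.dvd_gcd (orderOf_dvd_of_pow_eq_one hj') (orderOf_dvd_of_pow_eq_one h7)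
    have h9 : Nat.gcd (2 ^ j) (p ^ k) = 1 := Nat.Coprime.pow _ _ h2p
    rw [h9, Nat.dvd_one, orderOf_eq_one_iff] at h8
    exact h8
  refine ⟨m⁻¹, inv_mem hm, ?_⟩
  have h8 : m * y * m⁻¹ = x := by
    rw [mul_inv_eq_one] at h6
    exact h6
  rw [← h8]; group

/-- **(8.4), the case `q ≥ 4`** : if a `p`-element `τ` (`p` odd) normalises `W` and is fixed-point-free on
`U / D`, then `C(W) ≤ W`. Here `C = C(W)` is a 2-group, `U = W ∩ C(V)`, `E = Q_i ∩ Q_j`, and every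
`c ∈ C` is `ε y⁻¹` with `ε ∈ E`, `y ∈ U`. -/
theorem cent_le [Finite G] {p : ℕ} (hp : p.Prime) (hp2 : p ≠ 2) {W U V D E C : Subgroup G} {τ : G} {k : ℕ}
    (hC : ∀ c, c ∈ C ↔ ∀ w ∈ W, c * w = w * c) (hC2 : IsPGroup 2 C)
    (hUW : U ≤ W) (hVD : V ≤ D) (hDW : D ≤ W) (hDE : D ≤ E)
    (hEV : ∀ e ∈ E, ∀ v ∈ V, e * v = v * e) (hEW : ∀ e ∈ E, ∀ w ∈ W, e * w * e⁻¹ ∈ W)
    (hEC : ∀ e ∈ E, e ∈ C → e ∈ W)
    (hτ : τ ^ p ^ k = 1) (hτW : ∀ w ∈ W, τ * w * τ⁻¹ ∈ W)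
    (hτE : ∀ e ∈ E, τ * e * τ⁻¹ * e⁻¹ ∈ V) (hfpf : ∀ u ∈ U, τ * u * τ⁻¹ * u⁻¹ ∈ D → u ∈ D)
    (hy : ∀ c ∈ C, ∃ y ∈ U, c * y ∈ E) : C ≤ W := by
  -- `τ⁻¹` also normalises `W`
  have hτC : ∀ c ∈ C, τ * c * τ⁻¹ ∈ C := by
    intro c hc
    rw [hC] at hc ⊢
    -- `W` is `τ`-invariant, so every `w` is `τ w' τ⁻¹`
    intro w hw
    have hmap : (W.map (MulAut.conj τ).toMonoidHom) = W := by
      refine eq_of_le_of_card_ge ?_
        (Nat.card_congr (W.equivMapOfInjective _ (MulAut.conj τ).injective).toEquiv.symm).ge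
      rintro _ ⟨m, hm, rfl⟩
      exact hτW m hm
    rw [← hmap] at hw
    obtain ⟨w', hw', rfl⟩ := hw
    change τ * c * τ⁻¹ * (τ * w' * τ⁻¹) = τ * w' * τ⁻¹ * (τ * c * τ⁻¹)
    calc τ * c * τ⁻¹ * (τ * w' * τ⁻¹) = τ * (c * w') * τ⁻¹ := by group
      _ = τ * (w' * c) * τ⁻¹ := by rw [hc w' hw']
      _ = _ := by group
  have hcomp : ∀ c ∈ C, ∀ y ∈ U, c * y ∈ E →
      ∃ v ∈ V, τ * c * τ⁻¹ * c⁻¹ = v * ((c * y) * (τ * y⁻¹ * τ⁻¹ * y⁻¹⁻¹) * (c * y)⁻¹) := by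
    intro c hc y hy hE
    refine ⟨_, hτE _ hE, ?_⟩
    group
  have h1 : ∀ c ∈ C, τ * c * τ⁻¹ * c⁻¹ ∈ C ⊓ W := by
    intro c hc
    obtain ⟨y, hyU, hyE⟩ := hy c hc
    obtain ⟨v, hv, e⟩ := hcomp c hc y hyU hyE
    refine ⟨C.mul_mem (hτC c hc) (C.inv_mem hc), ?_⟩
    rw [e]
    refine mul_mem (hDW (hVD hv)) (hEW _ hyE _ ?_)
    exact W.mul_mem (hτW _ (W.inv_mem (hUW hyU))) (W.inv_mem (W.inv_mem (hUW hyU)))
  intro c hc
  -- `c⁻¹ τ c ∈ (C ∩ W) τ`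
  have h2 : c⁻¹ * τ * c * τ⁻¹ ∈ C ⊓ W := by
    -- direct: `c⁻¹ τ c τ⁻¹ = c⁻¹ (τ c τ⁻¹ c⁻¹) c`
    have e2 : c⁻¹ * τ * c * τ⁻¹ = c⁻¹ * (τ * c * τ⁻¹ * c⁻¹) * c := by group
    rw [e2]
    have h4 := h1 c hc
    refine ⟨C.mul_mem (C.mul_mem (C.inv_mem hc) h4.1) hc, ?_⟩
    have h5 := (hC c).1 hc _ h4.2
    have e3 : c⁻¹ * (τ * c * τ⁻¹ * c⁻¹) * c = τ * c * τ⁻¹ * c⁻¹ := by
      rw [mul_assoc, ← h5]; group
    rw [e3]; exact h4.2
  have hτM : ∀ m ∈ C ⊓ W, τ * m * τ⁻¹ ∈ C ⊓ W := fun m hm => ⟨hτC m hm.1, hτW m hm.2⟩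
  have hy' : (c⁻¹ * τ * c) ^ p ^ k = 1 := by
    have e : c⁻¹ * τ * c = c⁻¹ * τ * c⁻¹⁻¹ := by rw [inv_inv]
    rw [e, conj_pow, hτ]; group
  obtain ⟨m, hm, hmτ⟩ := conj_of_same_coset hp hp2 (hC2.to_le inf_le_left) hτ hτM hy' h2
  -- `c m` commutes with `τ`
  have hcm : τ * (c * m) * τ⁻¹ * (c * m)⁻¹ = 1 := by
    have e1 : m * τ = c⁻¹ * τ * c * m := by rw [← hmτ]; group
    have e2 : (c * m) * τ = τ * (c * m) := by
      calc (c * m) * τ = c * (m * τ) := by group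
        _ = c * (c⁻¹ * τ * c * m) := by rw [e1]
        _ = _ := by group
    rw [← e2]; group
  have hcmC : c * m ∈ C := mul_mem hc hm.1
  obtain ⟨y, hyU, hyE⟩ := hy _ hcmC
  obtain ⟨v, hv, e⟩ := hcomp _ hcmC y hyU hyE
  rw [hcm] at e
  -- `τ y⁻¹ τ⁻¹ y ∈ V`
  have h6 : τ * y⁻¹ * τ⁻¹ * y⁻¹⁻¹ ∈ D := by
    have h7 : τ * y⁻¹ * τ⁻¹ * y⁻¹⁻¹ = (c * m * y)⁻¹ * v⁻¹ * (c * m * y) := by
      have h8 : (c * m * y) * (τ * y⁻¹ * τ⁻¹ * y⁻¹⁻¹) * (c * m * y)⁻¹ = v⁻¹ := by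
        rw [eq_inv_iff_mul_eq_one]
        have := congrArg (fun w => v⁻¹ * w * v) e
        simp only [mul_one, inv_mul_cancel] at this
        rw [this]; group
      rw [← h8]; group
    have h9 := hEV _ hyE _ (inv_mem hv)
    rw [h7, mul_assoc, ← h9]
    have e4 : (c * m * y)⁻¹ * (c * m * y * v⁻¹) = v⁻¹ := by group
    rw [e4]
    exact hVD (inv_mem hv)
  have hyD : y ∈ D := by
    have := hfpf y⁻¹ (inv_mem hyU) h6
    simpa using inv_mem this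
  have hcmE : c * m ∈ E := by
    have e5 : c * m = (c * m * y) * y⁻¹ := by group
    rw [e5]
    exact mul_mem hyE (inv_mem (hDE hyD))
  have hcmW : c * m ∈ W := hEC _ hcmE hcmC
  have e6 : c = (c * m) * m⁻¹ := by group
  rw [e6]
  exact mul_mem hcmW (inv_mem hm.2)

end Cfsg.Agent.Omega.BTwo.RadAbs

end

section


/-!
# #11043 (8.4): `Q i ∩ C(V) = (Q_1 ∩ Q_2) U i`, and the end of the case `q ≥ 4`: `C(W i) ≤ W i`
-/

set_option autoImplicit false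

namespace Cfsg.Agent.Omega.BTwo

open Subgroup

variable {G : Type*} [Group G] {ι : Type*} {V : Subgroup G} {R : ι → Subgroup G}

section

variable (b : BT V R)
include b

/-- `[Q i ∩ C(V), U j] ≤ D` -/
theorem BT.QcU {i j : ι} {c u : G} (hc : c ∈ QQ (R i)) (hcV : c ∈ centralizer (V : Set G))
    (hu : u ∈ UU V R j) : c * u * c⁻¹ * u⁻¹ ∈ DD V R := by
  by_cases hij : i = j
  · subst hij
    exact V_le_D V R (b.R_le i (b.WQ i hc (UU_le_WW i hu)))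
  rw [← b.UK hij]
  refine mem_inf.2 ⟨mul_mem (conj_mem_of_normalizer (b.cen_le_NU j hcV) hu) (inv_mem hu), ?_⟩
  have e : c * u * c⁻¹ * u⁻¹ = c * (u * c⁻¹ * u⁻¹) := by group
  rw [e]
  exact mul_mem (b.Q_le_K i hc) (conj_mem_of_normalizer (b.N_le_NK i (b.cen_le_N i (UU_le_cen j hu)))
    (inv_mem (b.Q_le_K i hc)))

/-- `[Q i ∩ C(V), W j] ≤ U j` -/
theorem BT.QcW {j : ι} {c w : G} (hcV : c ∈ centralizer (V : Set G))
    (hw : w ∈ WW V (R j)) : w * c * w⁻¹ * c⁻¹ ∈ UU V R j := by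
  refine mem_inf.2 ⟨?_, ?_⟩
  · have e : w * c * w⁻¹ * c⁻¹ = w * (c * w⁻¹ * c⁻¹) := by group
    rw [e]
    exact mul_mem hw (conj_mem_of_normalizer (b.cen_le_NW j hcV) (inv_mem hw))
  · exact mul_mem (conj_mem_of_normalizer
      (normalizer_le_normalizer_centralizer V (b.W_le_NV j hw)) hcV) (inv_mem hcV)

/-- an element of `W j` moving `R i` -/
theorem BT.exists_mover {i j : ι} (hij : i ≠ j) : ∃ v ∈ WW V (R j), v ∉ UU V R j := by
  obtain ⟨k, hkj, hki⟩ := b.third j i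
  obtain ⟨v0, hv0, e0⟩ := b.trans j hij hkj
  refine ⟨v0, hv0, fun h => ?_⟩
  have h2 := b.cen_le_N i (UU_le_cen j h)
  rw [← cj_eq_self_iff, e0] at h2
  exact hki (b.R_index h2)

/-- **(8.4)**: `Q i ∩ C(V) = (Q_1 ∩ Q_2) U i` -/
theorem BT.exists_eps [Finite G] {i : ι} {c : G} (hc : c ∈ QQ (R i))
    (hcV : c ∈ centralizer (V : Set G)) : ∃ y ∈ UU V R i, c * y ∈ CC R := by
  obtain ⟨j, hj, -⟩ := b.third i i
  have hij : i ≠ j := Ne.symm hj
  obtain ⟨v, hv, hv'⟩ := b.exists_mover hij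
  have hcND := b.NV_le_ND (cen_le_NV V hcV)
  have hu : c⁻¹ * (v * c * v⁻¹ * c⁻¹)⁻¹ * c ∈ UU V R j := by
    have h1 := conj_mem_of_normalizer (inv_mem (b.cen_le_NU j hcV)) (inv_mem (b.QcW hcV hv))
    rwa [inv_inv] at h1
  obtain ⟨y, hy, hyD⟩ := b.surj hij hv hv' hu
  refine ⟨y, hy, ?_⟩
  rw [b.C_eq hij]
  have hcy : c * y ∈ QQ (R i) := mul_mem hc (b.W_le_Q i (UU_le_WW i hy))
  refine mem_inf.2 ⟨hcy, ?_⟩
  -- `[v, c y] ∈ D`
  have h1 : v * (c * y) * v⁻¹ * (c * y)⁻¹ ∈ DD V R := by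
    have e : v * (c * y) * v⁻¹ * (c * y)⁻¹ = c *
        ((v * y * v⁻¹ * y⁻¹)⁻¹ * (c⁻¹ * (v * c * v⁻¹ * c⁻¹)⁻¹ * c))⁻¹ * c⁻¹ := by
      group
    rw [e]
    exact conj_mem_of_normalizer hcND (inv_mem hyD)
  -- an element of `W i` moving the new point to `R j`
  obtain ⟨k, hki, hkj, hk⟩ := b.moves hij hv hv'
  obtain ⟨v', hv', e'⟩ := b.trans i hki hj
  have hn : cj (v' * v) (R i) = R j := by rw [cj_mul, hk, e']
  have h2 : v' * v * (c * y) * (v' * v)⁻¹ ∈ QQ (R j) := by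
    rw [← b.cj_QQ hn]
    exact conj_mem_cj hcy
  have h3 : v' * (c * y) * v'⁻¹ * (c * y)⁻¹ ∈ R i := by
    have h4 := b.WQ i hcy hv'
    have e : v' * (c * y) * v'⁻¹ * (c * y)⁻¹ = ((c * y) * v' * (c * y)⁻¹ * v'⁻¹)⁻¹ := by group
    rw [e]
    exact inv_mem h4
  have h4 : c * y = ((v' * (v * (c * y) * v⁻¹ * (c * y)⁻¹) * v'⁻¹) *
      (v' * (c * y) * v'⁻¹ * (c * y)⁻¹))⁻¹ * (v' * v * (c * y) * (v' * v)⁻¹) := by group
  rw [h4]
  have hDQ : ∀ d ∈ DD V R, d ∈ QQ (R j) := fun d hd => b.W_le_Q j (D_le_W V R j hd)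
  refine mul_mem (inv_mem (mul_mem (hDQ _ ?_) (b.V_Q j (b.R_le i h3)))) h2
  exact conj_mem_of_normalizer (b.NV_le_ND (b.W_le_NV i hv')) h1

/-- `Q i = (Q_1 ∩ Q_2) W i` -/
theorem BT.exists_eps_W [Finite G] {i : ι} {x : G} (hx : x ∈ QQ (R i)) :
    ∃ w ∈ WW V (R i), x * w ∈ CC R := by
  obtain ⟨h, hh, H⟩ := b.mt i
  obtain ⟨v, hv, hc⟩ := b.Q_fact (fun j k hj hk => (H j k hj hk).1) hh hx
  have hw0 : h * v * h⁻¹ ∈ WW V (R i) := cj_le_WW hh (conj_mem_cj hv)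
  set w0 := h * v * h⁻¹
  obtain ⟨y, hy, he⟩ := b.exists_eps (mul_mem (inv_mem (b.W_le_Q i hw0)) hx) hc
  set e := w0⁻¹ * x * y with hedef
  have heN : e ∈ normalizer (WW V (R i) : Set G) :=
    normalizer_le_WW V (R i) (b.Q_le i (mem_iInf.1 he i))
  have h1 := conj_inv_mem_of_normalizer heN hw0
  refine ⟨((e⁻¹ * w0 * e) * y⁻¹)⁻¹, inv_mem (mul_mem h1 (inv_mem (UU_le_WW i hy))), ?_⟩
  have e2 : x * ((e⁻¹ * w0 * e) * y⁻¹)⁻¹ = e := by rw [hedef]; group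
  rw [e2]
  exact he

/-- `X ∩ N(R i)` is trivial on `Q i / W i` -/
theorem BT.XQ [Finite G] {i : ι} {t x : G} (ht : t ∈ XX V R) (htR : t ∈ normalizer (R i : Set G))
    (hx : x ∈ QQ (R i)) : t * x * t⁻¹ * x⁻¹ ∈ WW V (R i) := by
  obtain ⟨w, hw, he⟩ := b.exists_eps_W hx
  have h1 := V_le_WW V (R i) (b.CX ht he)
  have htW := normalizer_le_WW V (R i) htR
  have hxW := normalizer_le_WW V (R i) (b.Q_le i hx)
  have h2 : x * (w * (t * w⁻¹ * t⁻¹)) * x⁻¹ ∈ WW V (R i) :=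
    conj_mem_of_normalizer hxW (mul_mem hw (conj_mem_of_normalizer htW (inv_mem hw)))
  have e : t * x * t⁻¹ * x⁻¹ = (t * (x * w) * t⁻¹ * (x * w)⁻¹) * (x * (w * (t * w⁻¹ * t⁻¹)) * x⁻¹) := by
    group
  rw [e]
  exact mul_mem h1 h2

/-- `Q_1 ∩ Q_2` centralises `V` -/
theorem BT.C_le_cen : CC R ≤ centralizer (V : Set G) := by
  intro e he
  obtain ⟨i, j, hij⟩ := b.exists_pair
  have hi := mem_iInf.1 he i
  have hj := mem_iInf.1 he j
  rw [← b.R_sup i j hij]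
  exact mem_cen_sup (mem_centralizer_iff.2 fun a ha => (b.QR i e hi a ha).symm)
    (mem_centralizer_iff.2 fun a ha => (b.QR j e hj a ha).symm)

end

section

variable (b : BTC V R)
include b

/-- **(8.4), the case `q ≥ 4`** : an element of `X ∩ N(R i)` of order a power of an odd prime,
fixed-point-free on `U i / D`, forces `C(W i) ≤ W i`. -/
theorem BTC.cen_W_le_W [Finite G] {p : ℕ} (hp : p.Prime) (hp2 : p ≠ 2) {i : ι} {τ : G} {k : ℕ}
    (hτX : τ ∈ XX V R) (hτR : τ ∈ normalizer (R i : Set G)) (hτ : τ ^ p ^ k = 1)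
    (hfpf : ∀ u ∈ UU V R i, τ * u * τ⁻¹ * u⁻¹ ∈ DD V R → u ∈ DD V R) :
    centralizer (WW V (R i) : Set G) ≤ WW V (R i) := by
  refine RadAbs.cent_le (U := UU V R i) (V := V) (D := DD V R) (E := CC R) hp hp2 (fun c => ?_)
    (b.cen_W_isPGroup i) (UU_le_WW i) (V_le_D V R) (D_le_W V R i) b.D_le_C ?_ ?_ ?_ hτ ?_
    (fun e he => b.CX hτX he) hfpf ?_
  · rw [mem_centralizer_iff]
    exact ⟨fun h w hw => (h w hw).symm, fun h w hw => (h w hw).symm⟩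
  · exact fun e he v hv => (mem_centralizer_iff.1 (b.C_le_cen he) v hv).symm
  · exact fun e he w hw =>
      conj_mem_of_normalizer (normalizer_le_WW V (R i) (b.Q_le i (mem_iInf.1 he i))) hw
  · exact fun e he hec => V_le_WW V (R i) (b.R_le i (b.cen_CW he hec))
  · exact fun w hw => conj_mem_of_normalizer (normalizer_le_WW V (R i) hτR) hw
  · exact fun c hc => b.exists_eps (b.cen_W_le_Q i hc) (cen_W_le V (R i) hc)

end

end Cfsg.Agent.Omega.BTwo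

end
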