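import Cfsg.Agent.Mrg.Omega.BTwo.Key
import Cfsg.Agent.Mrg.Omega.BTwo.Conj

section


/-!
# SQ3, `b = 2`: `|D / V| ≤ |Q₁ ∩ Q₂ / V| ≤ |U i / D|`, `|W i / R i| ≤ q² |U i / D|²`, field-free
-/

set_option autoImplicit false

namespace Cfsg.Agent.Omega.BTwo

open Subgroup

variable {G : Type*} [Group G] {ι : Type*} {V : Subgroup G} {R : ι → Subgroup G}

section count

variable (b : BT V R)
include b

/-- for `y ∈ R j`, `y ≠ 1`, the map `w ↦ [w, y]`, `W i → R i` is onto -/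
theorem BT.onto {i j : ι} (hij : i ≠ j) {y r : G} (hy : y ∈ R j) (hy1 : y ≠ 1) (hr : r ∈ R i) :
    ∃ w ∈ WW V (R i), w * y * w⁻¹ * y⁻¹ = r := by
  obtain ⟨k, hk⟩ := b.R_cov (r * y) (mul_mem (b.R_le i hr) (b.R_le j hy))
  have hki : k ≠ i := by
    rintro rfl
    have : y ∈ R k := by
      have h := mul_mem (inv_mem hr) hk
      rwa [inv_mul_cancel_left] at h
    exact b.not_mem (Ne.symm hij) hy hy1 this
  obtain ⟨w, hw, e⟩ := b.trans i (Ne.symm hij) hki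
  refine ⟨w, hw, ?_⟩
  have h1 : w * y * w⁻¹ ∈ R k := by rw [← e]; exact conj_mem_cj hy
  have h2 := b.QV i w (b.W_le_Q i hw) y (b.R_le j hy)
  have h3 : w * y * w⁻¹ * y⁻¹ * r⁻¹ ∈ R i := mul_mem h2 (inv_mem hr)
  have h4 : w * y * w⁻¹ * y⁻¹ * r⁻¹ ∈ R k := by
    have := mul_mem h1 (inv_mem hk)
    have e2 : w * y * w⁻¹ * (r * y)⁻¹ = w * y * w⁻¹ * y⁻¹ * r⁻¹ := by group
    rwa [e2] at this
  exact mul_inv_eq_one.1 (b.eq_one (Ne.symm hki) h3 h4)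

/-- `V = R i × R j` -/
theorem BT.card_V [Finite G] (i : ι) : Nat.card V = Nat.card (R i) ^ 2 := by
  obtain ⟨j, hj, -⟩ := b.third i i
  have h : Function.Bijective (fun x : R i × R j =>
      (⟨x.1 * x.2, mul_mem (b.R_le i x.1.2) (b.R_le j x.2.2)⟩ : V)) := by
    constructor
    · rintro ⟨⟨x, hx⟩, ⟨y, hy⟩⟩ ⟨⟨x', hx'⟩, ⟨y', hy'⟩⟩ h
      have h1 : x * y = x' * y' := congrArg Subtype.val h
      have h2 : x'⁻¹ * x = y' * y⁻¹ := by
        calc x'⁻¹ * x = x'⁻¹ * (x * y) * y⁻¹ := by group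
          _ = x'⁻¹ * (x' * y') * y⁻¹ := by rw [h1]
          _ = y' * y⁻¹ := by group
      have h3 : x'⁻¹ * x = 1 := b.eq_one (Ne.symm hj) (mul_mem (inv_mem hx') hx) (by
        rw [h2]; exact mul_mem hy' (inv_mem hy))
      have h4 : y' * y⁻¹ = 1 := by rw [← h2]; exact h3
      have e1 : x = x' := (inv_mul_eq_one.1 h3).symm
      have e2 : y = y' := (mul_inv_eq_one.1 h4).symm
      subst e1; subst e2; rfl
    · rintro ⟨v, hv⟩
      obtain ⟨x, hx, y, hy, e⟩ := b.exists_mul (Ne.symm hj) hv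
      exact ⟨⟨⟨x, hx⟩, ⟨y, hy⟩⟩, Subtype.ext e.symm⟩
  rw [← Nat.card_eq_of_bijective _ h, Nat.card_prod, ← b.card_R i j, sq]

theorem BT.relIndex_R_V [Finite G] (i : ι) : (R i).relIndex V = Nat.card (R i) := by
  have h1 : Nat.card (R i) * (R i).relIndex V = Nat.card V := by
    rw [← relIndex_bot_left, ← relIndex_bot_left]
    exact relIndex_mul_relIndex _ _ _ bot_le (b.R_le i)
  rw [b.card_V i, sq] at h1
  exact Nat.eq_of_mul_eq_mul_left Nat.card_pos h1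

/-- `|W i : U i| = |R i|` -/
theorem BT.relIndex_U [Finite G] (i : ι) :
    (UU V R i).relIndex (WW V (R i)) = Nat.card (R i) := by
  have e : (UU V R i).relIndex (WW V (R i)) = (centralizer (V : Set G)).relIndex (WW V (R i)) := by
    rw [UU, inf_comm, inf_relIndex_right]
  rw [e]
  apply le_antisymm (b.relIndex_U_le i)
  obtain ⟨j, hj, -⟩ := b.third i i
  obtain ⟨v, hv, hv1⟩ := b.exists_ne j
  -- `w ↦ [w, v]` is well defined on cosets and onto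
  let f : WW V (R i) ⧸ (centralizer (V : Set G)).subgroupOf (WW V (R i)) → R i :=
    Quotient.lift (fun w : WW V (R i) =>
      (⟨w * v * (w : G)⁻¹ * v⁻¹, b.QV i w (b.W_le_Q i w.2) v (b.R_le j hv)⟩ : R i)) (by
      intro w w' h
      have h' := QuotientGroup.leftRel_apply.1 h
      rw [mem_subgroupOf, mem_centralizer_iff] at h'
      have h2 := h' v (b.R_le j hv)
      apply Subtype.ext
      change (w : G) * v * (w : G)⁻¹ * v⁻¹ = w' * v * (w' : G)⁻¹ * v⁻¹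
      push_cast at h2
      have h3 : (w : G) * v * (w : G)⁻¹ = w' * v * (w' : G)⁻¹ := by
        calc (w : G) * v * (w : G)⁻¹ = w * (v * ((w : G)⁻¹ * w')) * (w' : G)⁻¹ := by group
          _ = w * (((w : G)⁻¹ * w') * v) * (w' : G)⁻¹ := by rw [h2]
          _ = w' * v * (w' : G)⁻¹ := by group
      rw [h3])
  have hf : Function.Surjective f := by
    rintro ⟨r, hr⟩
    obtain ⟨w, hw, e⟩ := b.onto (Ne.symm hj) hv hv1 hr
    exact ⟨QuotientGroup.mk ⟨w, hw⟩, Subtype.ext e⟩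
  exact Nat.card_le_card_of_surjective f hf

/-! ### `λ_x`, `x ∈ CC` -/

theorem BT.lamC_mem {x y : G} (hx : x ∈ CC R) (hy : y ∈ YY V R) : x * y * x⁻¹ * y⁻¹ ∈ V := by
  have h := b.CX (YY_le_XX hy) hx
  have e : x * y * x⁻¹ * y⁻¹ = (y * x * y⁻¹ * x⁻¹)⁻¹ := by group
  rw [e]
  exact inv_mem h

theorem BT.lamC_U {i : ι} {x u : G} (hx : x ∈ CC R) (hu : u ∈ UU V R i) : x * u * x⁻¹ * u⁻¹ ∈ R i :=
  b.WQ i (mem_iInf.1 hx i) (UU_le_WW i hu)

theorem BT.lamC_mul {x y y' : G} (hx : x ∈ CC R) (hy : y ∈ YY V R) (hy' : y' ∈ YY V R) :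
    x * (y * y') * x⁻¹ * (y * y')⁻¹ = (x * y * x⁻¹ * y⁻¹) * (x * y' * x⁻¹ * y'⁻¹) := by
  have h := mem_centralizer_iff.1 (YY_le_cen hy) _ (b.lamC_mem hx hy')
  calc x * (y * y') * x⁻¹ * (y * y')⁻¹
      = (x * y * x⁻¹ * y⁻¹) * (y * (x * y' * x⁻¹ * y'⁻¹)) * y⁻¹ := by group
    _ = (x * y * x⁻¹ * y⁻¹) * (x * y' * x⁻¹ * y'⁻¹ * y) * y⁻¹ := by rw [h]
    _ = _ := by group

/-- equivariance -/
theorem BT.lamC_conj {x y g : G} (hx : x ∈ CC R) (hy : y ∈ YY V R) (hg : g ∈ XX V R) :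
    g * (x * y * x⁻¹ * y⁻¹) * g⁻¹ = x * (g * y * g⁻¹) * x⁻¹ * (g * y * g⁻¹)⁻¹ := by
  have hy' : g * y * g⁻¹ ∈ YY V R := conj_mem_of_normalizer (b.NV_le_NY (b.X_le_NV hg)) hy
  have hv := b.CX hg hx
  set v := g * x * g⁻¹ * x⁻¹ with hvdef
  have e1 : g * x * g⁻¹ = v * x := by rw [hvdef]; group
  set y' := g * y * g⁻¹ with hy'def
  have h4 := b.lamC_mem hx hy'
  have h5 := b.V_comm v hv _ h4
  have h3 := mem_centralizer_iff.1 (YY_le_cen hy') _ (inv_mem hv)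
  have e2 : g * (x * y * x⁻¹ * y⁻¹) * g⁻¹ = (g * x * g⁻¹) * y' * (g * x * g⁻¹)⁻¹ * y'⁻¹ := by
    rw [hy'def]; group
  rw [e2, e1]
  calc v * x * y' * (v * x)⁻¹ * y'⁻¹
      = v * (x * y' * x⁻¹ * y'⁻¹) * (y' * v⁻¹) * y'⁻¹ := by group
    _ = (x * y' * x⁻¹ * y'⁻¹) * v * (v⁻¹ * y') * y'⁻¹ := by rw [h5, h3]
    _ = x * y' * x⁻¹ * y'⁻¹ := by group

/-- `[g, λ_x(y)] = λ_x([g, y])` -/
theorem BT.lamC_comm {x y g : G} (hx : x ∈ CC R) (hy : y ∈ YY V R) (hg : g ∈ XX V R) :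
    g * (x * y * x⁻¹ * y⁻¹) * g⁻¹ * (x * y * x⁻¹ * y⁻¹)⁻¹ =
      x * (g * y * g⁻¹ * y⁻¹) * x⁻¹ * (g * y * g⁻¹ * y⁻¹)⁻¹ := by
  have hy' : g * y * g⁻¹ ∈ YY V R := conj_mem_of_normalizer (b.NV_le_NY (b.X_le_NV hg)) hy
  rw [b.lamC_conj hx hy hg, b.lamC_mul hx hy' (inv_mem hy)]
  congr 1
  -- `λ_x(y⁻¹) = λ_x(y)⁻¹`
  have h1 := b.lamC_mul hx hy (inv_mem hy)
  rw [mul_inv_cancel] at h1
  have h2 : (1 : G) = (x * y * x⁻¹ * y⁻¹) * (x * y⁻¹ * x⁻¹ * y⁻¹⁻¹) := by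
    rw [← h1]; group
  exact (eq_inv_of_mul_eq_one_right h2.symm).symm

/-- an element of `W j` outside `C(V)` -/
theorem BT.exists_moving (j : ι) : ∃ w ∈ WW V (R j), w ∉ UU V R j := by
  obtain ⟨i, hij, -⟩ := b.third j j
  obtain ⟨k, hkj, hki⟩ := b.third j i
  obtain ⟨w, hw, e⟩ := b.trans j hij hkj
  refine ⟨w, hw, fun h => hki ?_⟩
  refine b.R_index (e.symm.trans ?_)
  exact cj_eq_self_iff.2 (b.cen_le_N i (UU_le_cen j h))

/-- **(L)** if `[x, u] ≠ 1` for some `u ∈ U i` then `[x, U i] = R i` -/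
theorem BT.lamC_full {i : ι} {x u : G} (hx : x ∈ CC R) (hu : u ∈ UU V R i)
    (h1 : x * u * x⁻¹ * u⁻¹ ≠ 1) {r : G} (hr : r ∈ R i) : ∃ u' ∈ UU V R i, x * u' * x⁻¹ * u'⁻¹ = r := by
  obtain ⟨j, hj, -⟩ := b.third i i
  obtain ⟨w, hw, hwU⟩ := b.exists_moving j
  have hl := b.lamC_U hx hu
  -- `y = [w, l] ≠ 1`
  set l := x * u * x⁻¹ * u⁻¹ with hldef
  have hy : w * l * w⁻¹ * l⁻¹ ∈ R j := b.QV j w (b.W_le_Q j hw) l (b.R_le i hl)
  have hy1 : w * l * w⁻¹ * l⁻¹ ≠ 1 := by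
    intro h
    rw [mul_inv_eq_one, mul_inv_eq_iff_eq_mul] at h
    have h2 := b.reg (b.W_le_Q j hw) (b.R_le i hl) (b.not_mem (Ne.symm hj) hl h1) h
    apply hwU
    refine ⟨hw, ?_⟩
    change w ∈ centralizer (V : Set G)
    rw [mem_centralizer_iff]
    exact fun v hv => (h2 v hv).symm
  obtain ⟨w', hw', e⟩ := b.onto (Ne.symm hj) hy hy1 hr
  have hu1 : w * u * w⁻¹ * u⁻¹ ∈ UU V R j := b.WU' hw hu
  have hu2 := b.WU' hw' hu1
  refine ⟨_, hu2, ?_⟩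
  rw [← b.lamC_comm hx (UU_le_YY j hu1) (W_le_X V R i hw'),
    ← b.lamC_comm hx (UU_le_YY i hu) (W_le_X V R j hw)]
  exact e

theorem BT.pairingC (i : ι) : Pairing (CC R) (UU V R i) (R i) where
  comm := fun _ hg _ hw => b.lamC_U hg hw
  cA := fun _ hg => b.QR i _ (mem_iInf.1 hg i)
  cW := fun w hw => b.QR i w (b.W_le_Q i (UU_le_WW i hw))

end count

section

variable (b : BTC V R)
include b

/-- **`|Q₁ ∩ Q₂ : V| ≤ |U i : D|`** -/
theorem BTC.relIndex_CC_le [Finite G] (i : ι) :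
    V.relIndex (CC R) ≤ (DD V R).relIndex (UU V R i) := by
  obtain ⟨ξ, r, hr⟩ := b.exists_char i
  refine (b.pairingC i).relIndex_le ξ ?_ ?_ ?_
  · intro w hw w' hw'
    exact V_le_D V R (b.R_le i (b.WU (UU_le_WW i hw) hw'))
  · intro a ha n hn hnD
    have : (⟨a * n * a⁻¹ * n⁻¹, (b.pairingC i).comm a ha n hn⟩ : R i) = 1 := by
      apply Subtype.ext
      change a * n * a⁻¹ * n⁻¹ = 1
      rw [b.C_comm ha (b.D_le_C hnD)]
      group
    rw [this, map_one]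
  · intro x hx h
    refine b.cen_CU (i := i) hx fun u hu => ?_
    by_contra hne
    have h1 : x * u * x⁻¹ * u⁻¹ ≠ 1 := by
      intro h2
      rw [mul_inv_eq_one, mul_inv_eq_iff_eq_mul] at h2
      exact hne h2
    obtain ⟨u', hu', e⟩ := b.lamC_full hx hu h1 r.2
    apply hr
    have h3 := h u' hu'
    have h4 : (⟨x * u' * x⁻¹ * u'⁻¹, (b.pairingC i).comm x hx u' hu'⟩ : R i) = r := Subtype.ext e
    rwa [h4] at h3

/-- `|D : V| ≤ |U i : D|` -/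
theorem BTC.relIndex_D_le [Finite G] (i : ι) :
    V.relIndex (DD V R) ≤ (DD V R).relIndex (UU V R i) :=
  (relIndex_le_of_le_right b.D_le_C (index_ne_zero_of_finite)).trans (b.relIndex_CC_le i)

/-- **`|W i : R i| = q² |U i : D| |D : V| ≤ q² |U i : D|²`** -/
theorem BTC.relIndex_W_le [Finite G] (i : ι) :
    (R i).relIndex (WW V (R i)) ≤ Nat.card (R i) ^ 2 * (DD V R).relIndex (UU V R i) ^ 2 := by
  have h1 : (R i).relIndex V * V.relIndex (WW V (R i)) = (R i).relIndex (WW V (R i)) :=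
    relIndex_mul_relIndex _ _ _ (b.R_le i) (V_le_WW V (R i))
  have h2 : V.relIndex (DD V R) * (DD V R).relIndex (WW V (R i)) = V.relIndex (WW V (R i)) :=
    relIndex_mul_relIndex _ _ _ (V_le_D V R) (D_le_W V R i)
  have h3 : (DD V R).relIndex (UU V R i) * (UU V R i).relIndex (WW V (R i)) =
      (DD V R).relIndex (WW V (R i)) :=
    relIndex_mul_relIndex _ _ _ (b.D_le_U i) (UU_le_WW i)
  rw [← h1, ← h2, ← h3, b.relIndex_R_V i, b.relIndex_U i]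
  calc Nat.card (R i) * (V.relIndex (DD V R) * ((DD V R).relIndex (UU V R i) * Nat.card (R i)))
      = Nat.card (R i) ^ 2 * (V.relIndex (DD V R) * (DD V R).relIndex (UU V R i)) := by ring
    _ ≤ Nat.card (R i) ^ 2 * ((DD V R).relIndex (UU V R i) * (DD V R).relIndex (UU V R i)) := by
      gcongr
      exact b.relIndex_D_le i
    _ = _ := by ring

/-- `Z(W i) = R i` gives `Q i = W i C_G(W i)` -/
theorem BTC.Q_le [Finite G] (i : ι)
    (hrad : ∀ w ∈ WW V (R i), (∀ w' ∈ WW V (R i), w * w' = w' * w) → w ∈ R i) :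
    QQ (R i) = WW V (R i) ⊔ centralizer (WW V (R i) : Set G) := by
  apply le_antisymm
  · intro g hg
    obtain ⟨w, hw, h⟩ := b.Q_eq i hrad g hg
    have h2 : w⁻¹ * g ∈ centralizer (WW V (R i) : Set G) := by
      rw [mem_centralizer_iff]
      exact fun w' hw' => (h w' hw').symm
    have e : g = w * (w⁻¹ * g) := by group
    rw [e]
    exact mul_mem_sup hw h2
  · exact sup_le (b.W_le_Q i) (b.cen_W_le_Q i)

end

end Cfsg.Agent.Omega.BTwo

end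

section


/-!
# The pair data of the node `b = 2` (output of TEXT 2), and `B`, `P₁`, `P₂`, `H`

`PLoc V R i X₂ r`: `BT V R`, `|R i| = q ≥ 4`, `|U i : D| = |D : V| = r ≥ 4`, `X₂` normal in `N(R i)` (`X₂/W = SL₂(r)`),
in elementwise form.
-/

set_option autoImplicit false
set_option linter.dupNamespace false

universe u v

namespace Cfsg.Agent.Omega.Hex

open Subgroup Cfsg.Agent.Omega.BTwo

variable {G : Type u} [Group G] {ι : Type v}

/-- the output of the pair theorem, node `b = 2` -/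
structure PLoc (V : Subgroup G) (R : ι → Subgroup G) (i : ι) (X₂ : Subgroup G) (r : ℕ) : Prop where
  bt : BT V R
  q4 : 4 ≤ Nat.card (R i)
  r4 : 4 ≤ r
  cU : (DD V R).relIndex (UU V R i) = r
  cD : V.relIndex (DD V R) = r
  /- `X = XX V R`, `X / Y = SL₂(q)`: the stabiliser of `R i` and a torus element -/
  odd₁ : Odd ((WW V (R i) ⊔ YY V R).relIndex (XX V R ⊓ normalizer (R i : Set G)))
  t₁ : ∃ t ∈ XX V R, t ∈ normalizer (R i : Set G) ∧ Odd (orderOf t) ∧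
    ∀ w ∈ WW V (R i), t * w * t⁻¹ * w⁻¹ ∈ YY V R → w ∈ YY V R
  /- `X₂`, `X₂ / W = SL₂(r)` -/
  X₂N : X₂ ≤ normalizer (R i : Set G)
  NX₂ : normalizer (R i : Set G) ≤ normalizer (X₂ : Set G)
  W₂ : WW V (R i) ≤ X₂
  Y₂ : YY V R ≤ X₂
  frat₂ : ∀ g ∈ normalizer (R i : Set G), ∃ x ∈ X₂, x⁻¹ * g ∈ normalizer (V : Set G)
  odd₂ : Odd ((WW V (R i) ⊔ YY V R).relIndex (X₂ ⊓ normalizer (V : Set G)))
  t₂ : ∃ t ∈ X₂, t ∈ normalizer (V : Set G) ∧ Odd (orderOf t) ∧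
    ∀ y ∈ YY V R, t * y * t⁻¹ * y⁻¹ ∈ WW V (R i) → y ∈ WW V (R i)
  trans₂ : ∀ x ∈ X₂, ∀ x' ∈ X₂, x ∉ normalizer (V : Set G) → x' ∉ normalizer (V : Set G) →
    ∃ y ∈ YY V R, (y * x)⁻¹ * x' ∈ normalizer (V : Set G)
  ker₂ : ∀ x ∈ X₂, x ∉ normalizer (V : Set G) → ∀ y ∈ YY V R, y ∈ cj x (normalizer (V : Set G)) →
    y ∈ WW V (R i)
  DD : ∀ x ∈ X₂, x ∉ normalizer (V : Set G) → BTwo.DD V R ⊓ cj x (BTwo.DD V R) ≤ R i

theorem exists_mul_of_le {A B : Subgroup G} (h : B ≤ normalizer (A : Set G)) {g : G} (hg : g ∈ A ⊔ B) :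
    ∃ a ∈ A, ∃ b ∈ B, g = a * b := by
  let T : Subgroup G :=
    { carrier := {e | ∃ u ∈ A, ∃ x ∈ B, e = u * x}
      one_mem' := ⟨1, one_mem _, 1, one_mem _, by rw [one_mul]⟩
      mul_mem' := by
        rintro _ _ ⟨u, hu, x, hx, rfl⟩ ⟨u', hu', x', hx', rfl⟩
        refine ⟨u * (x * u' * x⁻¹), mul_mem hu (conj_mem_of_normalizer (h hx) hu'), x * x',
          mul_mem hx hx', by group⟩
      inv_mem' := by
        rintro _ ⟨u, hu, x, hx, rfl⟩
        refine ⟨x⁻¹ * u⁻¹ * x, conj_inv_mem_of_normalizer (h hx) (inv_mem hu), x⁻¹,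
          inv_mem hx, by group⟩ }
  have hT : A ⊔ B ≤ T := sup_le (fun u hu => ⟨u, hu, 1, one_mem _, by rw [mul_one]⟩)
    fun x hx => ⟨1, one_mem _, x, hx, by rw [one_mul]⟩
  exact hT hg

theorem relIndex_sup_of_le {A B : Subgroup G} (h : B ≤ normalizer (A : Set G)) :
    A.relIndex (A ⊔ B) = A.relIndex B := by
  let f : B ⧸ A.subgroupOf B → (A ⊔ B : Subgroup G) ⧸ A.subgroupOf (A ⊔ B) :=
    Quotient.map' (fun y : B => (⟨y, (le_sup_right : B ≤ A ⊔ B) y.2⟩ : (A ⊔ B : Subgroup G))) (by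
      intro y z hyz
      rw [QuotientGroup.leftRel_apply] at hyz ⊢
      exact hyz)
  have hf : Function.Bijective f := by
    constructor
    · intro y z
      obtain ⟨y, rfl⟩ := QuotientGroup.mk_surjective y
      obtain ⟨z, rfl⟩ := QuotientGroup.mk_surjective z
      intro hyz
      have h1 : (QuotientGroup.mk (⟨y, (le_sup_right : B ≤ A ⊔ B) y.2⟩ : (A ⊔ B : Subgroup G)) :
        (A ⊔ B : Subgroup G) ⧸ A.subgroupOf (A ⊔ B)) =
          QuotientGroup.mk ⟨z, (le_sup_right : B ≤ A ⊔ B) z.2⟩ := hyz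
      have h2 := QuotientGroup.eq.1 h1
      exact QuotientGroup.eq.2 (show (y : B)⁻¹ * z ∈ A.subgroupOf B from h2)
    · intro b
      obtain ⟨b, rfl⟩ := QuotientGroup.mk_surjective b
      obtain ⟨u, hu, y, hy, h1⟩ := exists_mul_of_le h b.2
      refine ⟨QuotientGroup.mk ⟨y, hy⟩, ?_⟩
      change (QuotientGroup.mk (⟨y, (le_sup_right : B ≤ A ⊔ B) hy⟩ : (A ⊔ B : Subgroup G)) :
        (A ⊔ B : Subgroup G) ⧸ A.subgroupOf (A ⊔ B)) = _
      apply QuotientGroup.eq.2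
      rw [mem_subgroupOf]
      change y⁻¹ * (b : G) ∈ A
      rw [h1, ← mul_assoc]
      exact conj_inv_mem_of_normalizer (h hy) hu
  exact (Nat.card_eq_of_bijective f hf).symm

theorem odd_relIndex_sup {U A B : Subgroup G} (h : B ≤ normalizer (A : Set G)) (hUA : U ≤ A)
    (hA : Odd (U.relIndex A)) (hB : Odd (U.relIndex B)) : Odd (U.relIndex (A ⊔ B)) := by
  have h1 : U.relIndex A * A.relIndex (A ⊔ B) = U.relIndex (A ⊔ B) :=
    relIndex_mul_relIndex U A (A ⊔ B) hUA le_sup_left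
  rw [← h1, relIndex_sup_of_le h]
  exact hA.mul (hB.of_dvd_nat (relIndex_dvd_of_le_left B hUA))

namespace PLoc

variable {V : Subgroup G} {R : ι → Subgroup G} {i : ι} {X₂ : Subgroup G} {r : ℕ}

/-- `U = W Y` -/
def UZ (V : Subgroup G) (R : ι → Subgroup G) (i : ι) : Subgroup G := WW V (R i) ⊔ YY V R

/-- `N_X(R)` -/
def A1 (V : Subgroup G) (R : ι → Subgroup G) (i : ι) : Subgroup G := XX V R ⊓ normalizer (R i : Set G)

/-- `N_{X₂}(V)` -/
def A2 (V : Subgroup G) (X₂ : Subgroup G) : Subgroup G := X₂ ⊓ normalizer (V : Set G)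

/-- `B₀ = N_X(R) N_{X₂}(V)` -/
def B0 (V : Subgroup G) (R : ι → Subgroup G) (i : ι) (X₂ : Subgroup G) : Subgroup G :=
  A1 V R i ⊔ A2 V X₂

/-- the stabiliser of the flag -/
def NF (V : Subgroup G) (R : ι → Subgroup G) (i : ι) : Subgroup G :=
  normalizer (V : Set G) ⊓ normalizer (R i : Set G)

variable (l : PLoc V R i X₂ r)
include l

theorem W_NV : WW V (R i) ≤ normalizer (V : Set G) := l.bt.W_le_NV i
theorem W_NR : WW V (R i) ≤ normalizer (R i : Set G) := l.bt.W_le_N i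
omit l in
theorem Y_NV : YY V R ≤ normalizer (V : Set G) := YY_le_cen.trans (cen_le_NV V)
theorem Y_NR : YY V R ≤ normalizer (R i : Set G) := YY_le_cen.trans (l.bt.cen_le_N i)

theorem NF_NW : NF V R i ≤ normalizer (WW V (R i) : Set G) :=
  inf_le_right.trans (normalizer_le_WW V (R i))

theorem NF_NY : NF V R i ≤ normalizer (YY V R : Set G) := inf_le_left.trans l.bt.NV_le_NY

theorem NF_NU : NF V R i ≤ normalizer (UZ V R i : Set G) := by
  intro g hg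
  rw [← cj_eq_self_iff, UZ, cj_sup, cj_eq_self_iff.2 (l.NF_NW hg), cj_eq_self_iff.2 (l.NF_NY hg)]

theorem NF_NA1 : NF V R i ≤ normalizer (A1 V R i : Set G) := by
  intro g hg
  rw [← cj_eq_self_iff, A1, cj_inf, cj_eq_self_iff.2 (l.bt.NV_le_NX hg.1), cj_of_mem hg.2]

theorem NF_NA2 : NF V R i ≤ normalizer (A2 V X₂ : Set G) := by
  intro g hg
  rw [← cj_eq_self_iff, A2, cj_inf, cj_eq_self_iff.2 (l.NX₂ hg.2), cj_of_mem hg.1]

theorem NF_NB0 : NF V R i ≤ normalizer (B0 V R i X₂ : Set G) := by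
  intro g hg
  rw [← cj_eq_self_iff, B0, cj_sup, cj_eq_self_iff.2 (l.NF_NA1 hg), cj_eq_self_iff.2 (l.NF_NA2 hg)]

theorem A1_NF : A1 V R i ≤ NF V R i := le_inf (inf_le_left.trans l.bt.X_le_NV) inf_le_right
theorem A2_NF : A2 V X₂ ≤ NF V R i := le_inf inf_le_right (inf_le_left.trans l.X₂N)
theorem B0_NF : B0 V R i X₂ ≤ NF V R i := sup_le l.A1_NF l.A2_NF

theorem U_A1 : UZ V R i ≤ A1 V R i :=
  sup_le (le_inf (W_le_X V R i) l.W_NR) (le_inf YY_le_XX l.Y_NR)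
theorem U_A2 : UZ V R i ≤ A2 V X₂ := sup_le (le_inf l.W₂ l.W_NV) (le_inf l.Y₂ Y_NV)
theorem U_B0 : UZ V R i ≤ B0 V R i X₂ := l.U_A1.trans le_sup_left

theorem Y_two : IsPGroup 2 (YY V R) := by
  rintro ⟨y, hy⟩
  refine ⟨2, Subtype.ext ?_⟩
  change y ^ 4 = 1
  have h1 := l.bt.D_sq (l.bt.Y_sq hy)
  have e : y ^ 4 = y * y * (y * y) := by simp only [pow_succ, pow_zero, one_mul, mul_assoc]
  rw [e, h1]

theorem U_two [Finite G] : IsPGroup 2 (UZ V R i) :=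
  (l.bt.W_isPGroup i).to_sup_of_normal_right' l.Y_two (l.W_NV.trans l.bt.NV_le_NY)

theorem nt [Finite G] : NT (UZ V R i) (B0 V R i X₂) where
  UB := l.U_B0
  nU := l.B0_NF.trans l.NF_NU
  two := l.U_two
  odd := odd_relIndex_sup (l.A2_NF.trans l.NF_NA1) l.U_A1 l.odd₁ l.odd₂

/-! ### transitivity on the points of `V` -/

/-- `W` is transitive on the images of `R i` other than `R i` under `N(V)` -/
theorem transW {x x' : G} (hx : x ∈ normalizer (V : Set G)) (hx' : x' ∈ normalizer (V : Set G))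
    (h : x ∉ normalizer (R i : Set G)) (h' : x' ∉ normalizer (R i : Set G)) :
    ∃ w ∈ WW V (R i), (w * x)⁻¹ * x' ∈ normalizer (R i : Set G) := by
  obtain ⟨j, hj⟩ := l.bt.perm x hx i
  obtain ⟨k, hk⟩ := l.bt.perm x' hx' i
  have hji : j ≠ i := by
    rintro rfl
    exact h (cj_eq_self_iff.1 hj)
  have hki : k ≠ i := by
    rintro rfl
    exact h' (cj_eq_self_iff.1 hk)
  obtain ⟨w, hw, e⟩ := l.bt.trans i hji hki
  refine ⟨w, hw, ?_⟩
  rw [← cj_eq_self_iff, cj_mul, hk, ← e, ← hj, ← cj_mul w x, cj_inv_cj]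

/-- the stabiliser in `W` of a second point is in `Y` -/
theorem kerW {x : G} (hx : x ∈ normalizer (V : Set G)) (h : x ∉ normalizer (R i : Set G)) {w : G}
    (hw : w ∈ WW V (R i)) (hwx : w ∈ cj x (normalizer (R i : Set G))) : w ∈ YY V R := by
  obtain ⟨j, hj⟩ := l.bt.perm x hx i
  have hji : j ≠ i := by
    rintro rfl
    exact h (cj_eq_self_iff.1 hj)
  rw [← normalizer_cj, hj, ← cj_eq_self_iff] at hwx
  exact UU_le_YY i (l.bt.mem_cen hji hw hwx)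

theorem exists_x₁ : ∃ x ∈ XX V R, x ∉ normalizer (R i : Set G) := by
  obtain ⟨j, hj, -⟩ := l.bt.third i i
  obtain ⟨x, hx, e⟩ := l.bt.trans_X_one i j
  refine ⟨x, hx, fun h => hj ?_⟩
  rw [← cj_eq_self_iff, e] at h
  exact l.bt.R_index h

theorem exists_x₂ : ∃ x ∈ X₂, x ∉ normalizer (V : Set G) := by
  obtain ⟨h, hh, H⟩ := l.bt.mt i
  obtain ⟨x, hx, hxg⟩ := l.frat₂ h hh
  refine ⟨x, hx, fun hxV => ?_⟩
  have h1 : h ∈ normalizer (V : Set G) := by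
    have := mul_mem hxV hxg
    rwa [mul_inv_cancel_left] at this
  -- then `V^h = V` is abelian and moves points
  obtain ⟨j, hj, -⟩ := l.bt.third i i
  obtain ⟨k, hki, hkj⟩ := l.bt.third i j
  obtain ⟨⟨v, hv, e⟩, -⟩ := H j k hj hki
  have h2 : h * v * h⁻¹ ∈ V := conj_mem_of_normalizer h1 hv
  have h3 : cj (h * v * h⁻¹) (R j) = R j := by
    apply cj_eq_self_iff.2
    refine l.bt.cen_le_N j ?_
    rw [mem_centralizer_iff]
    exact fun a ha => l.bt.V_comm a ha _ h2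
  exact hkj (l.bt.R_index (e.symm.trans h3))

end PLoc

end Cfsg.Agent.Omega.Hex

end
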