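import Cfsg.Agent.Mrg.Omega.BTwo.CoordNat
import Cfsg.Agent.Mrg.Omega.BTwo.Str
import Cfsg.Agent.Mrg.Omega.Assembly
import Cfsg.Agent.Lib.NormalAbelian


/-!
# SQ3: the structure `BTC` from a mutual pair in a group of characteristic 2 type

`btc`: `G` of characteristic 2 type, `S ∈ Syl₂(G)`, `S ≤ N(V)`, `Ω₁(Z(S)) ≤ V`, `V` natural (`NatMod F V`), `(V, V^g)`
a mutual pair, `V ≤ O₂(N(V ∩ V^g))` (`b = 2`) ⇒ `BTC V (points of V)`.
-/

set_option autoImplicit false
set_option linter.unusedSectionVars false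

namespace Cfsg.Agent.Omega.BTwo

open Subgroup Cfsg Cfsg.Agent.Lib.SL2Mat Cfsg.Agent.Omega.NatPair Cfsg.Agent.Omega.MinPar Cfsg.Agent.ZN

universe u

variable {G : Type u} [Group G] {F : Type*} [Field F] {V : Subgroup G}

/-- a nontrivial subgroup of `S` normalised by `S` meets `Ω₁(Z(S))` -/
theorem exists_mem_zc [Finite G] {S T : Subgroup G} (hS : IsPGroup 2 S) (hT1 : T ≠ ⊥) (hTS : T ≤ S)
    (hn : S ≤ normalizer (T : Set G)) : ∃ y ∈ T, y ≠ 1 ∧ y ∈ zc S := by
  have hfact : Fact (Nat.Prime 2) := ⟨Nat.prime_two⟩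
  have hTn : (T.subgroupOf S).Normal := ⟨fun n hn' g => by
    rw [mem_subgroupOf] at hn' ⊢
    exact (mem_normalizer_iff.1 (hn g.2) _).1 hn'⟩
  have hTb : T.subgroupOf S ≠ ⊥ := by
    rw [Ne, subgroupOf_eq_bot]
    intro hd
    exact hT1 (le_bot_iff.1 (hd le_rfl hTS))
  have hnil : Group.IsNilpotent S := hS.isNilpotent
  have h1 := Cfsg.Agent.Lib.NormalAbelian.normal_inf_center_ne_bot (T.subgroupOf S) hTb
  obtain ⟨w, hw, hw1⟩ : ∃ w ∈ T.subgroupOf S ⊓ center S, w ≠ 1 := by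
    rcases bot_or_exists_ne_one (T.subgroupOf S ⊓ center S) with h | h
    · exact absurd h h1
    · exact h
  obtain ⟨k, hk⟩ := hS w
  have hex : ∃ j : ℕ, w ^ 2 ^ j = 1 := ⟨k, hk⟩
  classical
  have hj := Nat.find_spec hex
  rcases Nat.eq_zero_or_pos (Nat.find hex) with h0 | h0
  · rw [h0, pow_zero, pow_one] at hj
    exact absurd hj hw1
  · have h2 : w ^ 2 ^ (Nat.find hex - 1) ≠ 1 := Nat.find_min hex (by omega)
    have h3 : w ^ 2 ^ (Nat.find hex - 1) ∈ T.subgroupOf S ⊓ center S := pow_mem hw _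
    refine ⟨_, mem_subgroupOf.1 h3.1, fun h4 => h2 (Subtype.ext h4), ?_⟩
    rw [MinSimple.VModule.mem_zc]
    refine ⟨(w ^ 2 ^ (Nat.find hex - 1)).2, fun b hb => ?_, ?_⟩
    · have h4 := mem_center_iff.1 h3.2 ⟨b, hb⟩
      exact congrArg Subtype.val h4
    · have h4 : (w ^ 2 ^ (Nat.find hex - 1)) ^ 2 = 1 := by
        rw [← pow_mul, ← pow_succ, Nat.sub_add_cancel h0]
        exact hj
      have h5 := congrArg Subtype.val h4
      simpa using h5

section main

variable [Finite G] [Finite F] [CharP F 2] (M : NatMod F V) (S : Sylow 2 G)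
  (hS : (S : Subgroup G) ≤ normalizer (V : Set G))

include M hS in
theorem nonLoc_of (hG : IsCharacteristicTwoType G) (hZ : zc (S : Subgroup G) ≤ V) {g : G}
    (h : Mutual V (NatPair.cj g V)) :
    NonLoc (normalizer (V : Set G)) (normalizer ((V ⊓ NatPair.cj g V : Subgroup G) : Set G)) := by
  intro U hU h1 h2
  by_contra hU1
  have hL := isLoc_normalizer S hU hU1 (hS.trans h1)
  have hc := hL.char2 S hG
  refine nonlocal M S hS ?_ h (K := normalizer (U : Set G)) (Q := o2 (normalizer (U : Set G))) h1 h2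
    (O2_le _) (O2_isPGroup _) (le_normalizer_O2 _) ?_
  · intro z hz hz2 hzc
    apply hZ
    rw [MinSimple.VModule.mem_zc]
    exact ⟨hz, hzc, by rw [sq]; exact hz2⟩
  · intro x hx hxq
    apply hc
    exact ⟨hx, mem_centralizer_iff.2 fun q hq => hxq q hq⟩

include hS in
/-- **the entry to `BTC`** -/
theorem btc (hG : IsCharacteristicTwoType G) (hZ : zc (S : Subgroup G) ≤ V) {g : G}
    (h : Mutual V (NatPair.cj g V)) (hQ : V ≤ QQ (V ⊓ NatPair.cj g V)) : BTC V (pt M) := by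
  have hfact : Fact (Nat.Prime 2) := ⟨Nat.prime_two⟩
  obtain ⟨-, w, w', hw, hw', hl, -⟩ := pair M (M.conj g) h
  refine { bt M S hS h hQ with meet := ?_, nonloc := ?_, cenQ := ?_ }
  · intro T hT hTV hVT hinf
    by_contra hT1
    have h3 : IsPGroup 2 ((S : Subgroup G) ⊔ T : Subgroup G) :=
      S.isPGroup'.to_sup_of_normal_right' hT (hS.trans hVT)
    have hTS : T ≤ S := le_sup_right.trans_eq (S.is_maximal' h3 le_sup_left)
    obtain ⟨y, hy, hy1, hyZ⟩ := exists_mem_zc S.isPGroup' hT1 hTS (hS.trans hVT)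
    have : y ∈ T ⊓ V := ⟨hy, hZ hyZ⟩
    rw [hinf, mem_bot] at this
    exact hy1 this
  · rintro ⟨_, u, hu, rfl⟩ T hT - - hVT hRT
    change normalizer ((M.line u : Subgroup G) : Set G) ≤ _ at hRT
    apply nonLoc_of M S hS hG hZ h T hT hVT
    obtain ⟨A, hA⟩ := exists_ap hw.ne hu
    obtain ⟨l, hlA⟩ := M.lift A
    have h1 : BTwo.cj l (M.line w) = M.line u := by
      have := M.cj_line_of_ind hlA w
      rw [hA] at this
      exact this
    intro x hx
    have hl' : l ∈ normalizer (T : Set G) := hVT (M.mem_normalizer hlA)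
    rw [hl] at hx
    have h2 : l * x * l⁻¹ ∈ normalizer ((M.line u : Subgroup G) : Set G) := by
      rw [← h1, normalizer_cj]
      exact conj_mem_cj hx
    have h3 : l⁻¹ * (l * x * l⁻¹) * l ∈ normalizer (T : Set G) := mul_mem (mul_mem (inv_mem hl') (hRT h2)) hl'
    have h4 : l⁻¹ * (l * x * l⁻¹) * l = x := by group
    rwa [h4] at h3
  · rintro ⟨_, u, hu, rfl⟩
    obtain ⟨S₁, -, h2⟩ := M.exists_sylow S hS hu
    have hV : IsPGroup 2 V := fun x => ⟨1, Subtype.ext (by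
        show (x : G) ^ 2 ^ 1 = 1
        rw [pow_one, sq]; exact M.sq x.2)⟩
    have hU : IsPGroup 2 (M.line u) := hV.to_le (M.line_le u)
    have hne : M.line u ≠ ⊥ := by
      intro h1
      have h2 : M.e u ∈ M.line u := ⟨1, by rw [one_smul]⟩
      rw [h1, mem_bot, M.e_eq_one] at h2
      exact hu h2
    exact (isLoc_normalizer S₁ hU hne h2).char2 S₁ hG

end main

end Cfsg.Agent.Omega.BTwo
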