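import Cfsg.Agent.Mrg.Omega.BTwo.Str


/-!
# SQ3, `b = 2`: the KEY (8.1) of #11043, field-free
-/

set_option autoImplicit false

namespace Cfsg.Agent.Omega.BTwo

open Subgroup

variable {G : Type*} [Group G] {ι : Type*} {V : Subgroup G} {R : ι → Subgroup G}

section reg

variable (b : BT V R)
include b

theorem BT.not_mem {i j : ι} (hij : i ≠ j) {a : G} (h1 : a ∈ R i) (h2 : a ≠ 1) : a ∉ R j :=
  fun h => h2 (b.eq_one hij h1 h)

/-- **(r)** an element of `Q i` fixing a vector outside `R i` centralises `V` -/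
theorem BT.reg {i : ι} {g : G} (hg : g ∈ QQ (R i)) {v : G} (hv : v ∈ V) (hvi : v ∉ R i)
    (hc : g * v = v * g) : ∀ a ∈ V, g * a = a * g := by
  obtain ⟨j, hj⟩ := b.R_cov v hv
  have hij : i ≠ j := by rintro rfl; exact hvi hj
  have hv1 : v ≠ 1 := by rintro rfl; exact hvi (one_mem _)
  obtain ⟨k, hk⟩ := b.perm g (b.Q_le_NV i hg) j
  have hvk : v ∈ R k := by
    rw [← hk, mem_cj]
    have : g⁻¹ * v * g = v := by rw [mul_assoc, ← hc]; group
    rw [this]; exact hj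
  have hjk : j = k := by
    by_contra hne
    exact hv1 (b.eq_one hne hj hvk)
  subst hjk
  have h1 : ∀ a ∈ R j, g * a = a * g := by
    intro a ha
    have h2 : g * a * g⁻¹ ∈ R j := by
      have := conj_mem_cj (g := g) ha
      rwa [hk] at this
    have h3 : g * a * g⁻¹ * a⁻¹ ∈ R j := mul_mem h2 (inv_mem ha)
    have h4 := b.eq_one hij (b.QV i g hg a (b.R_le j ha)) h3
    rw [mul_inv_eq_one, mul_inv_eq_iff_eq_mul] at h4
    exact h4
  intro a ha
  obtain ⟨x, hx, y, hy, rfl⟩ := b.exists_mul hij ha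
  calc g * (x * y) = (g * x) * y := by group
    _ = x * (g * y) := by rw [b.QR i g hg x hx]; group
    _ = x * y * g := by rw [h1 y hy]; group

theorem BT.card_R (i j : ι) : Nat.card (R i) = Nat.card (R j) := by
  obtain ⟨x, -, h⟩ := b.trans_one i j
  rw [← h, card_cj]

/-- commutators of `g ∈ Q i` with elements of `V` -/
theorem BT.comm_V_mul {i : ι} {g v w : G} (hg : g ∈ QQ (R i)) (hv : v ∈ V) (hw : w ∈ V) :
    g * (v * w) * g⁻¹ * (v * w)⁻¹ = (g * v * g⁻¹ * v⁻¹) * (g * w * g⁻¹ * w⁻¹) := by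
  have h := b.V_comm v hv _ (b.R_le i (b.QV i g hg w hw))
  calc g * (v * w) * g⁻¹ * (v * w)⁻¹
      = (g * v * g⁻¹ * v⁻¹) * (v * (g * w * g⁻¹ * w⁻¹)) * v⁻¹ := by group
    _ = (g * v * g⁻¹ * v⁻¹) * (g * w * g⁻¹ * w⁻¹ * v) * v⁻¹ := by rw [h]
    _ = _ := by group

/-- an element of `Q i` not centralising `V` maps `R j` onto `R i` by `v ↦ [g, v]` -/
theorem BT.full [Finite G] {i : ι} {g : G} (hg : g ∈ QQ (R i)) (hn : ¬ ∀ a ∈ V, g * a = a * g)
    {j : ι} (hj : j ≠ i) : ∀ r ∈ R i, ∃ v ∈ R j, g * v * g⁻¹ * v⁻¹ = r := by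
  let f : R j → R i := fun v => ⟨g * v * g⁻¹ * (v : G)⁻¹, b.QV i g hg v (b.R_le j v.2)⟩
  have hf : Function.Injective f := by
    rintro ⟨v, hv⟩ ⟨w, hw⟩ h
    have h1 : g * v * g⁻¹ * v⁻¹ = g * w * g⁻¹ * w⁻¹ := congrArg Subtype.val h
    have h2 : g * (v * w⁻¹) * g⁻¹ * (v * w⁻¹)⁻¹ = 1 := by
      rw [b.comm_V_mul hg (b.R_le j hv) (b.R_le j (inv_mem hw)), h1,
        ← b.comm_V_mul hg (b.R_le j hw) (b.R_le j (inv_mem hw))]
      group
    by_contra hne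
    have hne' : v * w⁻¹ ≠ 1 := fun h3 => hne (Subtype.ext (mul_inv_eq_one.1 h3))
    rw [mul_inv_eq_one, mul_inv_eq_iff_eq_mul] at h2
    have hm : v * w⁻¹ ∈ R j := mul_mem hv (inv_mem hw)
    exact hn (b.reg hg (b.R_le j hm) (b.not_mem hj hm hne') h2)
  have hs := (hf.bijective_of_nat_card_le (b.card_R i j).le).2
  intro r hr
  obtain ⟨v, hv⟩ := hs ⟨r, hr⟩
  exact ⟨v, v.2, congrArg Subtype.val hv⟩

/-- **(8.1) KEY**: `g ∈ Q i`, `[g, W i] ≤ R₀`, `R₀` not containing `R i`: then `g` centralises `W i` -/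
theorem BT.key [Finite G] {i : ι} {g : G} (hg : g ∈ QQ (R i)) {R0 : Subgroup G} (hR0 : ¬ R i ≤ R0)
    (h : ∀ w ∈ WW V (R i), g * w * g⁻¹ * w⁻¹ ∈ R0) : ∀ w ∈ WW V (R i), g * w = w * g := by
  have h1 : WW V (R i) ≤ centralizer ({g} : Set G) := by
    refine iSup_le fun k => ?_
    rintro _ ⟨v, hv, rfl⟩
    change (k : G) * v * (k : G)⁻¹ ∈ _
    rw [mem_centralizer_singleton_iff]
    have hg' := conj_inv_mem_of_normalizer (le_normalizer_O2 _ k.2) hg
    -- `k⁻¹ g k` centralises `V`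
    have hc : ∀ a ∈ V, ((k : G)⁻¹ * g * k) * a = a * ((k : G)⁻¹ * g * k) := by
      by_contra hn
      apply hR0
      intro r hr
      obtain ⟨j, hj, -⟩ := b.third i i
      obtain ⟨v, hv, e⟩ := b.full hg' hn hj _ (conj_inv_mem_of_normalizer k.2 hr)
      have h2 := h ((k : G) * v * (k : G)⁻¹) (cj_le_WW k.2 (conj_mem_cj (b.R_le j hv)))
      have e2 : g * (k * v * (k : G)⁻¹) * g⁻¹ * (k * v * (k : G)⁻¹)⁻¹ =
          k * ((k : G)⁻¹ * g * k * v * ((k : G)⁻¹ * g * k)⁻¹ * v⁻¹) * (k : G)⁻¹ := by group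
      rw [e2, e] at h2
      have e3 : (k : G) * ((k : G)⁻¹ * r * k) * (k : G)⁻¹ = r := by group
      rwa [e3] at h2
    have h3 := hc v hv
    calc (k : G) * v * (k : G)⁻¹ * g = k * (v * ((k : G)⁻¹ * g * k)) * (k : G)⁻¹ := by group
      _ = k * (((k : G)⁻¹ * g * k) * v) * (k : G)⁻¹ := by rw [h3]
      _ = g * (k * v * (k : G)⁻¹) := by group
  intro w hw
  exact (mem_centralizer_singleton_iff.1 (h1 hw)).symm

/-- the pairing `Q i × W i → R i` -/
theorem BT.pairing (i : ι) : Pairing (QQ (R i)) (WW V (R i)) (R i) where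
  comm := fun _ hg _ hw => b.WQ i hg hw
  cA := b.QR i
  cW := fun w hw => b.QR i w (b.W_le_Q i hw)

/-- (8.1) with a character: if `ξ ≠ 1` on `R i` and `ξ [g, W i] = 1` then `g` centralises `W i` -/
theorem BT.key_char [Finite G] {i : ι} {g : G} (hg : g ∈ QQ (R i)) (ξ : R i →* ℂˣ) {r : R i}
    (hr : ξ r ≠ 1)
    (h : ∀ w (hw : w ∈ WW V (R i)), ξ ⟨g * w * g⁻¹ * w⁻¹, b.WQ i hg hw⟩ = 1) :
    ∀ w ∈ WW V (R i), g * w = w * g := by
  refine b.key hg (R0 := ξ.ker.map (R i).subtype) ?_ ?_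
  · intro hle
    obtain ⟨x, hx, e⟩ := hle r.2
    have : x = r := Subtype.ext e
    rw [this] at hx
    exact hr hx
  · intro w hw
    exact ⟨_, h w hw, rfl⟩

theorem BT.R_comm (i : ι) : ∀ a ∈ R i, ∀ c ∈ R i, a * c = c * a :=
  fun a ha c hc => b.V_comm a (b.R_le i ha) c (b.R_le i hc)

theorem BT.exists_char [Finite G] (i : ι) : ∃ ξ : R i →* ℂˣ, ∃ r, ξ r ≠ 1 := by
  obtain ⟨a, ha, h1⟩ := b.exists_ne i
  obtain ⟨ξ, h⟩ := BTwo.exists_char (b.R_comm i) ha h1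
  exact ⟨ξ, _, h⟩

theorem BT.R_le_W (i j : ι) : R i ≤ WW V (R j) := (b.R_le i).trans (V_le_WW V (R j))

/-- **`|Q i : C_{Q i}(W i)| ≤ |W i : R i|`** -/
theorem BT.relIndex_le [Finite G] (i : ι) :
    (centralizer (WW V (R i) : Set G)).relIndex (QQ (R i)) ≤ (R i).relIndex (WW V (R i)) := by
  obtain ⟨ξ, r, hr⟩ := b.exists_char i
  refine (b.pairing i).relIndex_le ξ (fun w hw w' hw' => b.WW_comm i hw hw') ?_ ?_
  · intro a ha n _ hn
    have : (⟨a * n * a⁻¹ * n⁻¹, (b.pairing i).comm a ha n (b.R_le_W i i hn)⟩ : R i) = 1 := by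
      apply Subtype.ext
      change a * n * a⁻¹ * n⁻¹ = 1
      rw [b.QR i a ha n hn]
      group
    rw [this, map_one]
  · intro a ha h
    rw [mem_centralizer_iff]
    exact fun w hw => (b.key_char ha ξ hr h w hw).symm

/-- **rad = Z(W i)**: `w ∈ W i` with `[w, W i] ≤ R₀ < R i` is in the centre -/
theorem BT.rad [Finite G] {i : ι} {w : G} (hw : w ∈ WW V (R i)) {R0 : Subgroup G} (hR0 : ¬ R i ≤ R0)
    (h : ∀ w' ∈ WW V (R i), w * w' * w⁻¹ * w'⁻¹ ∈ R0) : ∀ w' ∈ WW V (R i), w * w' = w' * w :=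
  b.key (b.W_le_Q i hw) hR0 h

omit b in
theorem exists_of_relIndex_le [Finite G] {C W Q : Subgroup G} (hWQ : W ≤ Q)
    (h : C.relIndex Q ≤ C.relIndex W) : ∀ g ∈ Q, ∃ w ∈ W, w⁻¹ * g ∈ C := by
  have hb := (quotientSubgroupOfEmbeddingOfLE C hWQ).injective.bijective_of_nat_card_le h
  intro g hg
  obtain ⟨x, hx⟩ := hb.2 ((⟨g, hg⟩ : Q) : Q ⧸ C.subgroupOf Q)
  obtain ⟨w, rfl⟩ := QuotientGroup.mk_surjective x
  rw [quotientSubgroupOfEmbeddingOfLE_apply_mk, QuotientGroup.eq, mem_subgroupOf] at hx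
  exact ⟨w, w.2, hx⟩

/-- **rad = 0 ⟹ `Q i = W i C_{Q i}(W i)`** -/
theorem BT.Q_eq [Finite G] (i : ι)
    (hrad : ∀ w ∈ WW V (R i), (∀ w' ∈ WW V (R i), w * w' = w' * w) → w ∈ R i) :
    ∀ g ∈ QQ (R i), ∃ w ∈ WW V (R i), ∀ w' ∈ WW V (R i), (w⁻¹ * g) * w' = w' * (w⁻¹ * g) := by
  have hCW : centralizer (WW V (R i) : Set G) ⊓ WW V (R i) = R i := by
    apply le_antisymm
    · rintro w ⟨h1, h2⟩
      refine hrad w h2 fun w' hw' => ?_
      exact ((mem_centralizer_iff.1 h1) w' hw').symm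
    · intro r hr
      refine ⟨?_, b.R_le_W i i hr⟩
      change r ∈ centralizer (WW V (R i) : Set G)
      rw [mem_centralizer_iff]
      exact fun w hw => b.QR i w (b.W_le_Q i hw) r hr
  have h1 : (centralizer (WW V (R i) : Set G)).relIndex (QQ (R i)) ≤
      (centralizer (WW V (R i) : Set G)).relIndex (WW V (R i)) := by
    have h2 := b.relIndex_le i
    have h3 := inf_relIndex_right (centralizer (WW V (R i) : Set G)) (WW V (R i))
    rw [hCW] at h3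
    rwa [h3] at h2
  intro g hg
  obtain ⟨w, hw, h⟩ := exists_of_relIndex_le (b.W_le_Q i) h1 g hg
  exact ⟨w, hw, fun w' hw' => (mem_centralizer_iff.1 h w' hw').symm⟩

/-- `|W i : U i| ≤ |R i|`; `U i = C_{W i}(V)` -/
theorem BT.relIndex_U_le [Finite G] (i : ι) :
    (centralizer (V : Set G)).relIndex (WW V (R i)) ≤ Nat.card (R i) := by
  obtain ⟨j, hj, -⟩ := b.third i i
  obtain ⟨v, hv, hv1⟩ := b.exists_ne j
  have hvi := b.not_mem hj hv hv1
  -- `w ↦ [w, v]` is injective modulo `U i`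
  let f : WW V (R i) → R i := fun w => ⟨w * v * (w : G)⁻¹ * v⁻¹, b.QV i w (b.W_le_Q i w.2) v (b.R_le j hv)⟩
  have hf : ∀ w w' : WW V (R i), f w = f w' → (w : G)⁻¹ * w' ∈ centralizer (V : Set G) := by
    intro w w' h
    have h1 : (w : G) * v * (w : G)⁻¹ * v⁻¹ = w' * v * (w' : G)⁻¹ * v⁻¹ := congrArg Subtype.val h
    have h2 : (w : G) * v * (w : G)⁻¹ = w' * v * (w' : G)⁻¹ := mul_right_cancel h1
    have h3 : ((w : G)⁻¹ * w') * v = v * ((w : G)⁻¹ * w') := by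
      calc ((w : G)⁻¹ * w') * v = (w : G)⁻¹ * (w' * v * (w' : G)⁻¹) * w' := by group
        _ = (w : G)⁻¹ * (w * v * (w : G)⁻¹) * w' := by rw [h2]
        _ = v * ((w : G)⁻¹ * w') := by group
    have h4 := b.reg (mul_mem (inv_mem (b.W_le_Q i w.2)) (b.W_le_Q i w'.2)) (b.R_le j hv) hvi h3
    rw [mem_centralizer_iff]
    exact fun a ha => (h4 a ha).symm
  change Nat.card (WW V (R i) ⧸ (centralizer (V : Set G)).subgroupOf (WW V (R i))) ≤ _
  refine Nat.card_le_card_of_injective (fun x => f (Quotient.out x)) ?_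
  intro x y h
  have := hf _ _ h
  rw [← QuotientGroup.out_eq' x, ← QuotientGroup.out_eq' y, QuotientGroup.eq, mem_subgroupOf]
  exact this

end reg


end Cfsg.Agent.Omega.BTwo
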