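import Cfsg.Agent.Mrg.Omega.BTwo.Key
import Cfsg.Agent.Lib.AutSL2Out
import Mathlib

section


/-!
# SQ3, `b = 2`: the module `M = W i / R i` (frame of TEXT 2 #12282)

`ModFr`: `M ≅ W i / R i` as an additive group with the action of `N(R i)`, `B ≅ R i`, `f : M → M → B` the commutator
form. `BT.exists_mod`: existence.
-/

set_option autoImplicit false
set_option linter.unusedSectionVars false

namespace Cfsg.Agent.Omega.BTwo

open Subgroup

universe u v w

variable {G : Type u} [Group G] {ι : Type w}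

/-- `N(R i)` -/
abbrev NR (R : ι → Subgroup G) (i : ι) : Subgroup G := normalizer (R i : Set G)

/-- the module `M = W i / R i`, `B = R i`, and the commutator form -/
structure ModFr (V : Subgroup G) (R : ι → Subgroup G) (i : ι) (M B : Type u) [AddCommGroup M] [AddCommGroup B]
    [DistribMulAction (NR R i) M] [DistribMulAction (NR R i) B] (p : G → M) (r : G → B)
    (f : M →+ M →+ B) : Prop where
  p_mul : ∀ x ∈ WW V (R i), ∀ y ∈ WW V (R i), p (x * y) = p x + p y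
  p_ker : ∀ x ∈ WW V (R i), (p x = 0 ↔ x ∈ R i)
  p_surj : ∀ m, ∃ x ∈ WW V (R i), p x = m
  p_act : ∀ (h : NR R i), ∀ x ∈ WW V (R i), h • p x = p (h * x * (h : G)⁻¹)
  r_mul : ∀ x ∈ R i, ∀ y ∈ R i, r (x * y) = r x + r y
  r_ker : ∀ x ∈ R i, (r x = 0 ↔ x = 1)
  r_surj : ∀ m, ∃ x ∈ R i, r x = m
  r_act : ∀ (h : NR R i), ∀ x ∈ R i, h • r x = r (h * x * (h : G)⁻¹)
  f_eq : ∀ x ∈ WW V (R i), ∀ y ∈ WW V (R i), f (p x) (p y) = r (x * y * x⁻¹ * y⁻¹)

section exist

variable {V : Subgroup G} {R : ι → Subgroup G}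

/-- conjugation by `N(A)` on `A` -/
def conjHom {A : Subgroup G} {N : Subgroup G} (h : N ≤ normalizer (A : Set G)) (n : N) : A →* A where
  toFun x := ⟨n * x * (n : G)⁻¹, conj_mem_of_normalizer (h n.2) x.2⟩
  map_one' := Subtype.ext (by simp)
  map_mul' x y := Subtype.ext (by
    change (n : G) * (x * y) * (n : G)⁻¹ = n * x * (n : G)⁻¹ * (n * y * (n : G)⁻¹)
    group)

theorem BT.exists_mod (b : BT V R) (i : ι) :
    ∃ (M B : Type u) (_ : AddCommGroup M) (_ : AddCommGroup B) (_ : DistribMulAction (NR R i) M)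
      (_ : DistribMulAction (NR R i) B) (p : G → M) (r : G → B) (f : M →+ M →+ B),
      ModFr V R i M B p r f := by
  classical
  set W := WW V (R i) with hW
  have hRW : R i ≤ W := (b.R_le i).trans (V_le_WW V (R i))
  have hRc : ∀ x ∈ R i, ∀ w ∈ W, w * x = x * w := fun x hx w hw => b.QR i w (b.W_le_Q i hw) x hx
  set R' := (R i).subgroupOf W with hR'
  have hN : R'.Normal := ⟨by
    rintro ⟨x, hx⟩ hx' ⟨w, hw⟩
    change w * x * w⁻¹ ∈ R i
    have hx'' : x ∈ R i := hx'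
    rw [hRc x hx'' w hw, mul_inv_cancel_right]
    exact hx''⟩
  have hmk : ∀ a c : W, (QuotientGroup.mk a : W ⧸ R') = QuotientGroup.mk c ↔ (a : G)⁻¹ * c ∈ R i := by
    intro a c
    rw [QuotientGroup.eq]
    rfl
  let cM : CommGroup (W ⧸ R') :=
    { (inferInstance : Group (W ⧸ R')) with
      mul_comm := by
        intro x y
        induction x using QuotientGroup.induction_on with
        | H x =>
          induction y using QuotientGroup.induction_on with
          | H y =>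
            change (QuotientGroup.mk (x * y) : W ⧸ R') = QuotientGroup.mk (y * x)
            rw [hmk]
            have h1 := b.WW_comm i (inv_mem y.2) (inv_mem x.2)
            have e : ((x * y : W) : G)⁻¹ * (y * x : W) = (y : G)⁻¹ * (x : G)⁻¹ * (y : G)⁻¹⁻¹ * (x : G)⁻¹⁻¹ := by
              push_cast; group
            rw [e]
            exact h1 }
  let cB : CommGroup (R i) :=
    { (inferInstance : Group (R i)) with
      mul_comm := fun x y => Subtype.ext (b.V_comm x (b.R_le i x.2) y (b.R_le i y.2)) }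
  have hNW : NR R i ≤ normalizer (W : Set G) := normalizer_le_WW V (R i)
  have hNR : NR R i ≤ normalizer (R i : Set G) := le_rfl
  let φ : NR R i → (W ⧸ R') →* (W ⧸ R') := fun n => QuotientGroup.map R' R' (conjHom hNW n) (by
    rintro ⟨x, hx⟩ hx'
    exact conj_mem_of_normalizer n.2 hx')
  have hφ : ∀ (n : NR R i) (x : W), φ n (QuotientGroup.mk x) = QuotientGroup.mk (conjHom hNW n x) :=
    fun n x => rfl
  let aM : DistribMulAction (NR R i) (Additive (W ⧸ R')) :=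
    { smul := fun n m => Additive.ofMul (φ n m.toMul)
      one_smul := by
        intro m
        change Additive.ofMul (φ 1 m.toMul) = m
        have key : ∀ m : W ⧸ R', φ 1 m = m := by
          intro m
          induction m using QuotientGroup.induction_on with
          | H x =>
            rw [hφ]
            congr 1
            apply Subtype.ext
            change (1 : G) * x * (1 : G)⁻¹ = x
            group
        rw [key]
        rfl
      mul_smul := by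
        intro n n' m
        change Additive.ofMul (φ (n * n') m.toMul) = Additive.ofMul (φ n (φ n' m.toMul))
        have key : ∀ m : W ⧸ R', φ (n * n') m = φ n (φ n' m) := by
          intro m
          induction m using QuotientGroup.induction_on with
          | H x =>
            rw [hφ, hφ, hφ]
            congr 1
            apply Subtype.ext
            change ((n * n' : NR R i) : G) * x * ((n * n' : NR R i) : G)⁻¹ =
              n * (n' * x * (n' : G)⁻¹) * (n : G)⁻¹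
            push_cast
            group
        rw [key]
      smul_zero := fun n => map_one (φ n)
      smul_add := fun n x y => map_mul (φ n) x.toMul y.toMul }
  let aB : DistribMulAction (NR R i) (Additive (R i)) :=
    { smul := fun n m => Additive.ofMul (conjHom hNR n m.toMul)
      one_smul := by
        intro m
        change Additive.ofMul (conjHom hNR 1 m.toMul) = m
        have key : ∀ m : R i, conjHom hNR 1 m = m := by
          intro m
          apply Subtype.ext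
          change (1 : G) * m * (1 : G)⁻¹ = m
          group
        rw [key]
        rfl
      mul_smul := by
        intro n n' m
        change Additive.ofMul (conjHom hNR (n * n') m.toMul) =
          Additive.ofMul (conjHom hNR n (conjHom hNR n' m.toMul))
        have key : ∀ m : R i, conjHom hNR (n * n') m = conjHom hNR n (conjHom hNR n' m) := by
          intro m
          apply Subtype.ext
          change ((n * n' : NR R i) : G) * m * ((n * n' : NR R i) : G)⁻¹ =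
              n * (n' * m * (n' : G)⁻¹) * (n : G)⁻¹
          push_cast
          group
        rw [key]
      smul_zero := fun n => map_one (conjHom hNR n)
      smul_add := fun n x y => map_mul (conjHom hNR n) x.toMul y.toMul }
  -- the form
  let f0 : W → W →* R i := fun x =>
    { toFun := fun y => ⟨x * y * (x : G)⁻¹ * (y : G)⁻¹, b.WW_comm i x.2 y.2⟩
      map_one' := Subtype.ext (by
        change (x : G) * 1 * (x : G)⁻¹ * (1 : G)⁻¹ = 1
        group)
      map_mul' := fun y y' => Subtype.ext (by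
        change (x : G) * (y * y') * (x : G)⁻¹ * (y * y' : G)⁻¹ =
          x * y * (x : G)⁻¹ * (y : G)⁻¹ * (x * y' * (x : G)⁻¹ * (y' : G)⁻¹)
        have h1 := b.conj_R (b.W_le_Q i y.2) (b.WW_comm i x.2 y'.2)
        calc (x : G) * (y * y') * (x : G)⁻¹ * (y * y' : G)⁻¹
            = x * y * (x : G)⁻¹ * (y : G)⁻¹ * (y * (x * y' * (x : G)⁻¹ * (y' : G)⁻¹) * (y : G)⁻¹) := by group
          _ = _ := by rw [h1]) }
  have hf0 : ∀ (x y : W), ((f0 x y : R i) : G) = x * y * (x : G)⁻¹ * (y : G)⁻¹ := fun x y => rfl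
  have hf0R : ∀ (x y : W), (y : G) ∈ R i → f0 x y = 1 := by
    intro x y hy
    apply Subtype.ext
    rw [hf0, hRc y hy x x.2]
    group
    rfl
  let f1 : W → (W ⧸ R') →* R i := fun x => QuotientGroup.lift R' (f0 x) (fun y hy => hf0R x y hy)
  have hf1 : ∀ x y : W, f1 x (QuotientGroup.mk y) = f0 x y := fun x y => rfl
  let f2 : W →* ((W ⧸ R') →* R i) := MonoidHom.mk' f1 (by
    intro x x'
    apply MonoidHom.ext
    intro m
    induction m using QuotientGroup.induction_on with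
    | H y =>
      rw [MonoidHom.mul_apply, hf1, hf1, hf1]
      apply Subtype.ext
      change (x * x' : G) * y * (x * x' : G)⁻¹ * (y : G)⁻¹ =
        x * y * (x : G)⁻¹ * (y : G)⁻¹ * (x' * y * (x' : G)⁻¹ * (y : G)⁻¹)
      have h1 := b.conj_R (b.W_le_Q i x.2) (b.WW_comm i x'.2 y.2)
      have h2 := b.V_comm _ (b.R_le i (b.WW_comm i x'.2 y.2)) _ (b.R_le i (b.WW_comm i x.2 y.2))
      calc (x * x' : G) * y * (x * x' : G)⁻¹ * (y : G)⁻¹
          = (x * (x' * y * (x' : G)⁻¹ * (y : G)⁻¹) * (x : G)⁻¹) * (x * y * (x : G)⁻¹ * (y : G)⁻¹) := by group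
        _ = (x' * y * (x' : G)⁻¹ * (y : G)⁻¹) * (x * y * (x : G)⁻¹ * (y : G)⁻¹) := by rw [h1]
        _ = _ := h2)
  let f3 : (W ⧸ R') →* ((W ⧸ R') →* R i) := QuotientGroup.lift R' f2 (by
    intro x hx
    apply MonoidHom.ext
    intro m
    induction m using QuotientGroup.induction_on with
    | H y =>
      change f0 x y = 1
      apply Subtype.ext
      rw [hf0, ← hRc x hx y y.2]
      group
      rfl)
  have hf3 : ∀ x y : W, f3 (QuotientGroup.mk x) (QuotientGroup.mk y) = f0 x y := fun x y => rfl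
  let f : Additive (W ⧸ R') →+ Additive (W ⧸ R') →+ Additive (R i) :=
    AddMonoidHom.mk' (fun a => MonoidHom.toAdditive (f3 a.toMul)) (by
      intro x y
      apply AddMonoidHom.ext
      intro z
      change Additive.ofMul (f3 (x.toMul * y.toMul) z.toMul) =
        Additive.ofMul (f3 x.toMul z.toMul * f3 y.toMul z.toMul)
      rw [map_mul]
      rfl)
  let p : G → Additive (W ⧸ R') := fun g => if h : g ∈ W then Additive.ofMul (QuotientGroup.mk ⟨g, h⟩) else 0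
  let r : G → Additive (R i) := fun g => if h : g ∈ R i then Additive.ofMul ⟨g, h⟩ else 0
  have hp : ∀ (x : G) (hx : x ∈ W), p x = Additive.ofMul (QuotientGroup.mk ⟨x, hx⟩) := fun x hx => dif_pos hx
  have hr : ∀ (x : G) (hx : x ∈ R i), r x = Additive.ofMul ⟨x, hx⟩ := fun x hx => dif_pos hx
  refine ⟨Additive (W ⧸ R'), Additive (R i), inferInstance, inferInstance, aM, aB, p, r, f, ?_⟩
  refine
    { p_mul := fun x hx y hy => ?_
      p_ker := fun x hx => ?_
      p_surj := fun m => ?_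
      p_act := fun h x hx => ?_
      r_mul := fun x hx y hy => ?_
      r_ker := fun x hx => ?_
      r_surj := fun m => ?_
      r_act := fun h x hx => ?_
      f_eq := fun x hx y hy => ?_ }
  · rw [hp _ (mul_mem hx hy), hp _ hx, hp _ hy]; rfl
  · rw [hp _ hx]
    change (QuotientGroup.mk ⟨x, hx⟩ : W ⧸ R') = 1 ↔ _
    rw [QuotientGroup.eq_one_iff]
    rfl
  · obtain ⟨⟨x, hx⟩, h⟩ := QuotientGroup.mk_surjective m.toMul
    refine ⟨x, hx, ?_⟩
    rw [hp _ hx, h]
    rfl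
  · have h1 : (h : G) * x * (h : G)⁻¹ ∈ W := conj_mem_of_normalizer (hNW h.2) hx
    rw [hp _ hx, hp _ h1]; rfl
  · rw [hr _ (mul_mem hx hy), hr _ hx, hr _ hy]; rfl
  · rw [hr _ hx]
    change (⟨x, hx⟩ : R i) = 1 ↔ _
    rw [Subtype.ext_iff]
    rfl
  · refine ⟨(m.toMul : R i), m.toMul.2, ?_⟩
    rw [hr _ m.toMul.2]
    rfl
  · have h1 : (h : G) * x * (h : G)⁻¹ ∈ R i := conj_mem_of_normalizer h.2 hx
    rw [hr _ hx, hr _ h1]; rfl
  · rw [hp _ hx, hp _ hy, hr _ (b.WW_comm i hx hy)]; rfl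

end exist

namespace ModFr

variable {V : Subgroup G} {R : ι → Subgroup G} {i : ι} {M B : Type u} [AddCommGroup M] [AddCommGroup B]
  [DistribMulAction (NR R i) M] [DistribMulAction (NR R i) B] {p : G → M} {r : G → B}
  {f : M →+ M →+ B}

section basic

variable (m : ModFr V R i M B p r f)
include m

theorem p_one : p 1 = 0 := by
  have := m.p_mul 1 (one_mem _) 1 (one_mem _)
  rw [mul_one] at this
  exact left_eq_add.1 this

theorem p_inv {x : G} (hx : x ∈ WW V (R i)) : p x⁻¹ = - p x := by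
  rw [eq_neg_iff_add_eq_zero, ← m.p_mul _ (inv_mem hx) _ hx, inv_mul_cancel, m.p_one]

theorem p_eq_iff {x y : G} (hx : x ∈ WW V (R i)) (hy : y ∈ WW V (R i)) : p x = p y ↔ x * y⁻¹ ∈ R i := by
  rw [← m.p_ker _ (mul_mem hx (inv_mem hy)), m.p_mul _ hx _ (inv_mem hy), m.p_inv hy, ← sub_eq_add_neg,
    sub_eq_zero]

theorem r_one : r 1 = 0 := by
  have := m.r_mul 1 (one_mem _) 1 (one_mem _)
  rw [mul_one] at this
  exact left_eq_add.1 this

theorem r_inv {x : G} (hx : x ∈ R i) : r x⁻¹ = - r x := by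
  rw [eq_neg_iff_add_eq_zero, ← m.r_mul _ (inv_mem hx) _ hx, inv_mul_cancel, m.r_one]

theorem r_inj {x y : G} (hx : x ∈ R i) (hy : y ∈ R i) (h : r x = r y) : x = y := by
  have h1 : r (x * y⁻¹) = 0 := by rw [m.r_mul _ hx _ (inv_mem hy), m.r_inv hy, h, add_neg_cancel]
  rw [m.r_ker _ (mul_mem hx (inv_mem hy)), mul_inv_eq_one] at h1
  exact h1

/-- the subspace `X / R i` for a subgroup `X` of `W i` -/
def sb (X : Subgroup G) : AddSubgroup M where
  carrier := {a | ∃ x ∈ X, x ∈ WW V (R i) ∧ p x = a}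
  zero_mem' := ⟨1, one_mem _, one_mem _, m.p_one⟩
  add_mem' := by
    rintro _ _ ⟨x, hx, hx', rfl⟩ ⟨y, hy, hy', rfl⟩
    exact ⟨x * y, mul_mem hx hy, mul_mem hx' hy', m.p_mul x hx' y hy'⟩
  neg_mem' := by
    rintro _ ⟨x, hx, hx', rfl⟩
    exact ⟨x⁻¹, inv_mem hx, inv_mem hx', m.p_inv hx'⟩

theorem mem_sb {X : Subgroup G} {a : M} : a ∈ m.sb X ↔ ∃ x ∈ X, x ∈ WW V (R i) ∧ p x = a := Iff.rfl

theorem p_mem {X : Subgroup G} {x : G} (hx : x ∈ WW V (R i)) (h : x ∈ X) : p x ∈ m.sb X := ⟨x, h, hx, rfl⟩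

theorem p_mem_iff {X : Subgroup G} {x : G} (hx : x ∈ WW V (R i)) (hR : R i ≤ X) :
    p x ∈ m.sb X ↔ x ∈ X := by
  refine ⟨?_, m.p_mem hx⟩
  rintro ⟨y, hy, hy', e⟩
  have h1 := hR ((m.p_eq_iff hy' hx).1 e)
  have e2 : x = (y * x⁻¹)⁻¹ * y := by group
  rw [e2]
  exact mul_mem (inv_mem h1) hy

theorem sb_mono {X X' : Subgroup G} (h : X ≤ X') : m.sb X ≤ m.sb X' := by
  rintro _ ⟨x, hx, hx', rfl⟩
  exact ⟨x, h hx, hx', rfl⟩

theorem sb_smul {X : Subgroup G} {h : NR R i} (hX : (h : G) ∈ normalizer (X : Set G)) {a : M}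
    (ha : a ∈ m.sb X) : h • a ∈ m.sb X := by
  obtain ⟨x, hx, hx', rfl⟩ := ha
  rw [m.p_act h x hx']
  exact ⟨_, conj_mem_of_normalizer hX hx, conj_mem_of_normalizer (normalizer_le_WW V (R i) h.2) hx', rfl⟩

theorem sb_W : m.sb (WW V (R i)) = ⊤ := by
  rw [eq_top_iff]
  intro a _
  obtain ⟨x, hx, rfl⟩ := m.p_surj a
  exact ⟨x, hx, hx, rfl⟩

/-- `M = ⟨e^H⟩` -/
theorem gen {S : AddSubgroup M} (hS : ∀ h : NR R i, ∀ a ∈ S, h • a ∈ S) (hV : m.sb V ≤ S) : S = ⊤ := by
  rw [eq_top_iff]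
  intro a _
  obtain ⟨x, hx, rfl⟩ := m.p_surj a
  let T : Subgroup G :=
    { carrier := {x | x ∈ WW V (R i) ∧ p x ∈ S}
      one_mem' := ⟨one_mem _, by rw [m.p_one]; exact zero_mem _⟩
      mul_mem' := by
        rintro x y ⟨hx, hx'⟩ ⟨hy, hy'⟩
        exact ⟨mul_mem hx hy, by rw [m.p_mul x hx y hy]; exact add_mem hx' hy'⟩
      inv_mem' := by
        rintro x ⟨hx, hx'⟩
        exact ⟨inv_mem hx, by rw [m.p_inv hx]; exact neg_mem hx'⟩ }
  have hT : WW V (R i) ≤ T := by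
    refine iSup_le fun h => ?_
    rintro _ ⟨v, hv, rfl⟩
    change (h : G) * v * (h : G)⁻¹ ∈ T
    have hvW := V_le_WW V (R i) hv
    refine ⟨cj_le_WW h.2 (conj_mem_cj hv), ?_⟩
    rw [← m.p_act h v hvW]
    exact hS h _ (hV ⟨v, hv, hvW, rfl⟩)
  exact (hT hx).2

end basic

section facts

variable (m : ModFr V R i M B p r f) (b : BT V R)
include m b

theorem two_M (a : M) : a + a = 0 := by
  obtain ⟨x, hx, rfl⟩ := m.p_surj a
  rw [← m.p_mul x hx x hx, m.p_ker _ (mul_mem hx hx)]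
  exact b.W_sq i hx

theorem two_B (a : B) : a + a = 0 := by
  obtain ⟨x, hx, rfl⟩ := m.r_surj a
  rw [← m.r_mul x hx x hx, m.r_ker _ (mul_mem hx hx)]
  exact b.V_sq x (b.R_le i hx)

theorem f_self (a : M) : f a a = 0 := by
  obtain ⟨x, hx, rfl⟩ := m.p_surj a
  rw [m.f_eq x hx x hx]
  have e : x * x * x⁻¹ * x⁻¹ = 1 := by group
  rw [e, m.r_one]

theorem f_symm (a c : M) : f a c = f c a := by
  have h := m.f_self b (a + c)
  rw [map_add, map_add, AddMonoidHom.add_apply, AddMonoidHom.add_apply, m.f_self b a, m.f_self b c, zero_add,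
    add_zero] at h
  have h2 := m.two_B b (f a c)
  rw [← h2] at h
  exact (add_right_cancel h).symm

theorem f_act (h : NR R i) (a c : M) : f (h • a) (h • c) = h • f a c := by
  obtain ⟨x, hx, rfl⟩ := m.p_surj a
  obtain ⟨y, hy, rfl⟩ := m.p_surj c
  have hN := normalizer_le_WW V (R i) h.2
  rw [m.p_act h x hx, m.p_act h y hy, m.f_eq _ (conj_mem_of_normalizer hN hx) _ (conj_mem_of_normalizer hN hy),
    m.f_eq x hx y hy, m.r_act h _ (b.WW_comm i hx hy)]
  congr 1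
  group

/-- `Q i` acts trivially on `M` -/
theorem Q_act {h : NR R i} (hh : (h : G) ∈ QQ (R i)) (a : M) : h • a = a := by
  obtain ⟨x, hx, rfl⟩ := m.p_surj a
  rw [m.p_act h x hx, m.p_eq_iff (conj_mem_of_normalizer (normalizer_le_WW V (R i) h.2) hx) hx]
  exact b.WQ i hh hx

/-- the kernel of the action on `M` is `K i` -/
theorem mem_K {h : NR R i} (hh : ∀ a : M, h • a = a) : (h : G) ∈ KK V R i := by
  have _ := b
  refine ⟨h.2, fun x hx => ?_⟩
  have h1 := hh (p x)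
  rwa [m.p_act h x hx, m.p_eq_iff (conj_mem_of_normalizer (normalizer_le_WW V (R i) h.2) hx) hx] at h1

/-- elements of `N(R i)` centralising `R i` act trivially on `B` -/
theorem act_B {h : NR R i} (hh : (h : G) ∈ centralizer (R i : Set G)) (β : B) : h • β = β := by
  have _ := b
  obtain ⟨x, hx, rfl⟩ := m.r_surj β
  rw [m.r_act h x hx, ← mem_centralizer_iff.1 hh x hx, mul_inv_cancel_right]

/-- `e^⊥ = U i / R i` -/
theorem perp_iff (a : M) : (∀ c ∈ m.sb V, f a c = 0) ↔ a ∈ m.sb (UU V R i) := by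
  obtain ⟨x, hx, rfl⟩ := m.p_surj a
  rw [m.p_mem_iff hx (b.R_le_U i)]
  constructor
  · intro h
    refine mem_inf.2 ⟨hx, ?_⟩
    rw [mem_centralizer_iff]
    intro v hv
    have hvW := V_le_WW V (R i) hv
    have h1 := h (p v) (m.p_mem hvW hv)
    rw [m.f_eq x hx v hvW, m.r_ker _ (b.WW_comm i hx hvW), mul_inv_eq_one, mul_inv_eq_iff_eq_mul] at h1
    exact h1.symm
  · rintro h _ ⟨v, hv, hvW, rfl⟩
    rw [m.f_eq x hx v hvW]
    have h1 := mem_centralizer_iff.1 (UU_le_cen i h) v hv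
    have e : x * v * x⁻¹ * v⁻¹ = 1 := by rw [← h1]; group
    rw [e, m.r_one]

theorem f_DD {a c : M} (ha : a ∈ m.sb (DD V R)) (hc : c ∈ m.sb (DD V R)) : f a c = 0 := by
  obtain ⟨x, hx, hx', rfl⟩ := ha
  obtain ⟨y, hy, hy', rfl⟩ := hc
  rw [m.f_eq x hx' y hy']
  have e : x * y * x⁻¹ * y⁻¹ = 1 := by rw [b.D_comm hx hy]; group
  rw [e, m.r_one]

theorem smul_sub_p {h : NR R i} {x : G} (hx : x ∈ WW V (R i)) :
    h • p x - p x = p (h * x * (h : G)⁻¹ * x⁻¹) := by
  have _ := b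
  have h1 := conj_mem_of_normalizer (normalizer_le_WW V (R i) h.2) hx
  rw [m.p_act h x hx, m.p_mul _ h1 _ (inv_mem hx), m.p_inv hx, sub_eq_add_neg]

theorem comm_mem_W {h : NR R i} {x : G} (hx : x ∈ WW V (R i)) : h * x * (h : G)⁻¹ * x⁻¹ ∈ WW V (R i) := by
  have _ := m
  have _ := b
  exact mul_mem (conj_mem_of_normalizer (normalizer_le_WW V (R i) h.2) hx) (inv_mem hx)

/-- `X ∩ N(R i)` is trivial on `D / V` -/
theorem X_D {h : NR R i} (hh : (h : G) ∈ XX V R) {a : M} (ha : a ∈ m.sb (DD V R)) : h • a - a ∈ m.sb V := by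
  obtain ⟨x, hx, hx', rfl⟩ := ha
  rw [m.smul_sub_p b hx']
  exact m.p_mem (m.comm_mem_W b hx') (b.XD hh hx)

theorem A_D {j : ι} {h : NR R i} (hh : (h : G) ∈ UU V R j) {a : M} (ha : a ∈ m.sb (DD V R)) :
    h • a - a ∈ m.sb V := m.X_D b (YY_le_XX (UU_le_YY j hh)) ha

/-- `[e^⊥, A] ≤ D / R` -/
theorem A_U {j : ι} {h : NR R i} (hh : (h : G) ∈ UU V R j) {a : M} (ha : a ∈ m.sb (UU V R i)) :
    h • a - a ∈ m.sb (DD V R) := by
  obtain ⟨x, hx, hx', rfl⟩ := ha
  rw [m.smul_sub_p b hx']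
  exact m.p_mem (m.comm_mem_W b hx') (b.Y_comm (UU_le_YY j hh) (UU_le_YY i hx))

/-- `[M, A] ≤ e^⊥` -/
theorem A_M {j : ι} {h : NR R i} (hh : (h : G) ∈ UU V R j) (a : M) : h • a - a ∈ m.sb (UU V R i) := by
  obtain ⟨x, hx, rfl⟩ := m.p_surj a
  rw [m.smul_sub_p b hx]
  refine m.p_mem (m.comm_mem_W b hx) ?_
  have e : h * x * (h : G)⁻¹ * x⁻¹ = (x * h * x⁻¹ * (h : G)⁻¹)⁻¹ := by group
  rw [e]
  exact inv_mem (b.WU' hx hh)

/-- `A` is semiregular outside `e^⊥`, modulo `D` -/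
theorem A_inj {j : ι} (hij : i ≠ j) {h : NR R i} (hh : (h : G) ∈ UU V R j) {a : M}
    (ha : a ∉ m.sb (UU V R i)) (hD : h • a - a ∈ m.sb (DD V R)) : (h : G) ∈ DD V R := by
  obtain ⟨x, hx, rfl⟩ := m.p_surj a
  rw [m.p_mem_iff hx (b.R_le_U i)] at ha
  rw [m.smul_sub_p b hx, m.p_mem_iff (m.comm_mem_W b hx) ((b.R_le i).trans (V_le_D V R))] at hD
  refine b.inj hij.symm hx ha hh ?_
  have e : x * h * x⁻¹ * (h : G)⁻¹ = (h * x * (h : G)⁻¹ * x⁻¹)⁻¹ := by group
  rw [e]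
  exact inv_mem hD

/-- `[M, A] + D = e^⊥` -/
theorem A_surj [Finite G] {j : ι} (hij : i ≠ j) {a : M} (ha : a ∉ m.sb (UU V R i)) {c : M}
    (hc : c ∈ m.sb (UU V R i)) : ∃ h : NR R i, (h : G) ∈ UU V R j ∧ h • a - a - c ∈ m.sb (DD V R) := by
  obtain ⟨x, hx, rfl⟩ := m.p_surj a
  rw [m.p_mem_iff hx (b.R_le_U i)] at ha
  obtain ⟨u, hu, huW, rfl⟩ := hc
  obtain ⟨y, hy, hyD⟩ := b.surj hij.symm hx ha (inv_mem hu)
  refine ⟨⟨y, b.cen_le_N i (UU_le_cen j hy)⟩, hy, ?_⟩
  have hW := m.comm_mem_W b (h := ⟨y, b.cen_le_N i (UU_le_cen j hy)⟩) hx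
  rw [m.smul_sub_p b hx, sub_eq_add_neg, ← m.p_inv huW, ← m.p_mul _ hW _ (inv_mem huW)]
  refine m.p_mem (mul_mem hW (inv_mem huW)) ?_
  -- `[y, x] u⁻¹ ∈ D` from `[x, y]⁻¹ u⁻¹ ∈ D`
  have e : (y * x * y⁻¹ * x⁻¹) * u⁻¹ = (x * y * x⁻¹ * y⁻¹)⁻¹ * u⁻¹ := by group
  change (y * x * y⁻¹ * x⁻¹) * u⁻¹ ∈ DD V R
  rw [e]
  exact hyD

/-- `C_M(A) ≤ e^⊥` -/
theorem C_A {j : ι} (hij : i ≠ j) (hA : ¬ UU V R j ≤ DD V R) {a : M}
    (ha : ∀ h : NR R i, (h : G) ∈ UU V R j → h • a = a) : a ∈ m.sb (UU V R i) := by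
  by_contra hc
  apply hA
  intro y hy
  have h1 := ha ⟨y, b.cen_le_N i (UU_le_cen j hy)⟩ hy
  exact m.A_inj b hij (h := ⟨y, b.cen_le_N i (UU_le_cen j hy)⟩) hy hc (by rw [h1, sub_self]; exact zero_mem _)

/-- `W i` and `C(V)` centralise `e` -/
theorem cen_e {h : NR R i} (hh : (h : G) ∈ centralizer (V : Set G)) {a : M} (ha : a ∈ m.sb V) : h • a = a := by
  have _ := b
  obtain ⟨x, hx, hx', rfl⟩ := ha
  rw [m.p_act h x hx', ← mem_centralizer_iff.1 hh x hx, mul_inv_cancel_right]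

theorem W_act {h : NR R i} (hh : (h : G) ∈ WW V (R i)) (a : M) : h • a = a :=
  m.Q_act b (b.W_le_Q i hh) a

end facts

section factsC

variable (m : ModFr V R i M B p r f) (b : BTC V R)
include m b

theorem mem_Q [Finite G] {h : NR R i} (hh : ∀ a : M, h • a = a) : (h : G) ∈ QQ (R i) := by
  rw [← b.K_eq i]
  exact m.mem_K b.toBT hh

/-- `C_M(A) ∩ D = e` -/
theorem C_A_D [Finite G] {j : ι} (hij : i ≠ j) {a : M} (ha : a ∈ m.sb (DD V R))
    (hA : ∀ h : NR R i, (h : G) ∈ UU V R j → h • a = a) : a ∈ m.sb V := by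
  obtain ⟨x, hx, hx', rfl⟩ := ha
  refine m.p_mem hx' (b.cen_DU (i := j) hx fun u hu => ?_)
  have h1 := hA ⟨u, b.cen_le_N i (UU_le_cen j hu)⟩ hu
  have h2 : p (u * x * u⁻¹ * x⁻¹) = 0 := by
    have h3 := m.smul_sub_p b.toBT (h := ⟨u, b.cen_le_N i (UU_le_cen j hu)⟩) hx'
    rw [h1, sub_self] at h3
    exact h3.symm
  have h4 : u * x * u⁻¹ * x⁻¹ ∈ R i :=
    (m.p_ker _ (m.comm_mem_W b.toBT (h := ⟨u, b.cen_le_N i (UU_le_cen j hu)⟩) hx')).1 h2
  have h5 : u * x * u⁻¹ * x⁻¹ ∈ R j := by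
    have h6 := b.DU hx hu
    have e : u * x * u⁻¹ * x⁻¹ = (x * u * x⁻¹ * u⁻¹)⁻¹ := by group
    rw [e]
    exact inv_mem h6
  have h6 := b.eq_one hij h4 h5
  rw [mul_inv_eq_one, mul_inv_eq_iff_eq_mul] at h6
  exact h6.symm

/-- `Rad f = 0` -/
theorem rad (hC : centralizer (WW V (R i) : Set G) ≤ R i) {a : M} (ha : ∀ c, f a c = 0) : a = 0 := by
  obtain ⟨x, hx, rfl⟩ := m.p_surj a
  rw [m.p_ker x hx]
  refine hC ?_
  rw [mem_centralizer_iff]
  intro w hw
  have h1 := ha (p w)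
  rw [m.f_eq x hx w hw, m.r_ker _ (b.WW_comm i hx hw), mul_inv_eq_one, mul_inv_eq_iff_eq_mul] at h1
  exact h1.symm

end factsC

section factsK

variable (m : ModFr V R i M B p r f) (b : BT V R)
include m b

/-- `Rad (ξ ∘ f) = Rad f` for every `ξ ≠ 0` (KEY (8.1) of #11043) -/
theorem rad_xi [Finite G] {E : Type*} [AddCommGroup E] (ξ : B →+ E) (hξ : ξ ≠ 0) {a : M}
    (ha : ∀ c, ξ (f a c) = 0) (c : M) : f a c = 0 := by
  obtain ⟨x, hx, rfl⟩ := m.p_surj a
  obtain ⟨y, hy, rfl⟩ := m.p_surj c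
  let R0 : Subgroup G :=
    { carrier := {z | z ∈ R i ∧ ξ (r z) = 0}
      one_mem' := ⟨one_mem _, by rw [m.r_one, map_zero]⟩
      mul_mem' := by
        rintro z z' ⟨hz, hz'⟩ ⟨h1, h2⟩
        exact ⟨mul_mem hz h1, by rw [m.r_mul z hz z' h1, map_add, hz', h2, add_zero]⟩
      inv_mem' := by
        rintro z ⟨hz, hz'⟩
        exact ⟨inv_mem hz, by rw [m.r_inv hz, map_neg, hz', neg_zero]⟩ }
  have hR0 : ¬ R i ≤ R0 := by
    intro h
    apply hξ
    apply AddMonoidHom.ext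
    intro β
    obtain ⟨z, hz, rfl⟩ := m.r_surj β
    exact (h hz).2
  have h1 := b.rad hx hR0 (fun w hw => ⟨b.WW_comm i hx hw, by rw [← m.f_eq x hx w hw]; exact ha _⟩) y hy
  rw [m.f_eq x hx y hy, m.r_ker _ (b.WW_comm i hx hy), mul_inv_eq_one, mul_inv_eq_iff_eq_mul]
  exact h1

end factsK

end ModFr

end Cfsg.Agent.Omega.BTwo

end

section


/-!
# `W / R` as a module, and the sum over a 2-group acting nilpotently

* `exists_quot`: the module `M = W / R` of a group `H` normalising `W` and `R`;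
* `sum_mem`: a 2-group `Q` with `2 ^ n ≤ |Q|`, `[F k, Q] ≤ F (k + 1)`: `∑ q • m ∈ F n`.
-/

set_option autoImplicit false

universe u v

namespace Cfsg.Agent.Omega.SQEnd

open Subgroup Cfsg.Agent.Omega.BTwo

variable {G : Type u} [Group G]

/-- `W / R` with the action of `H` -/
theorem exists_quot {R W H : Subgroup G} (RW : R ≤ W) (WW : ∀ g ∈ W, ∀ w ∈ W, g * w * g⁻¹ * w⁻¹ ∈ R)
    (HR : H ≤ normalizer (R : Set G)) (HW : H ≤ normalizer (W : Set G)) :
    ∃ (M : Type u) (_ : AddCommGroup M) (_ : DistribMulAction H M) (p : G → M),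
      (∀ x ∈ W, ∀ y ∈ W, p (x * y) = p x + p y) ∧ (∀ x ∈ W, (p x = 0 ↔ x ∈ R)) ∧
      (∀ m, ∃ x ∈ W, p x = m) ∧ ∀ (h : H), ∀ x ∈ W, h • p x = p (h * x * (h : G)⁻¹) := by
  classical
  set R' := R.subgroupOf W with hR'
  have hN : R'.Normal := ⟨by
    rintro ⟨x, hx⟩ hx' ⟨w, hw⟩
    change w * x * w⁻¹ ∈ R
    have hx'' : x ∈ R := hx'
    have e : w * x * w⁻¹ = w * x * w⁻¹ * x⁻¹ * x := by group
    rw [e]
    exact R.mul_mem (WW _ hw _ hx) hx''⟩
  have hmk : ∀ a c : W, (QuotientGroup.mk a : W ⧸ R') = QuotientGroup.mk c ↔ (a : G)⁻¹ * c ∈ R := by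
    intro a c
    rw [QuotientGroup.eq]
    rfl
  let cM : CommGroup (W ⧸ R') :=
    { (inferInstance : Group (W ⧸ R')) with
      mul_comm := by
        intro x y
        induction x using QuotientGroup.induction_on with
        | H x =>
          induction y using QuotientGroup.induction_on with
          | H y =>
            change (QuotientGroup.mk (x * y) : W ⧸ R') = QuotientGroup.mk (y * x)
            rw [hmk]
            have h1 := WW _ (W.inv_mem y.2) _ (W.inv_mem x.2)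
            have e : ((x * y : W) : G)⁻¹ * (y * x : W) = (y : G)⁻¹ * (x : G)⁻¹ * (y : G)⁻¹⁻¹ * (x : G)⁻¹⁻¹ := by
              push_cast; group
            rw [e]
            exact h1 }
  let φ : H → (W ⧸ R') →* (W ⧸ R') := fun n => QuotientGroup.map R' R' (conjHom HW n) (by
    rintro ⟨x, hx⟩ hx'
    exact conj_mem_of_normalizer (HR n.2) hx')
  have hφ : ∀ (n : H) (x : W), φ n (QuotientGroup.mk x) = QuotientGroup.mk (conjHom HW n x) :=
    fun n x => rfl
  let aM : DistribMulAction H (Additive (W ⧸ R')) :=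
    { smul := fun n m => Additive.ofMul (φ n m.toMul)
      one_smul := by
        intro m
        change Additive.ofMul (φ 1 m.toMul) = m
        have key : ∀ m : W ⧸ R', φ 1 m = m := by
          intro m
          induction m using QuotientGroup.induction_on with
          | H x =>
            rw [hφ]
            congr 1
            apply Subtype.ext
            change (1 : G) * x * (1 : G)⁻¹ = x
            group
        rw [key]
        rfl
      mul_smul := by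
        intro n n' m
        change Additive.ofMul (φ (n * n') m.toMul) = Additive.ofMul (φ n (φ n' m.toMul))
        have key : ∀ m : W ⧸ R', φ (n * n') m = φ n (φ n' m) := by
          intro m
          induction m using QuotientGroup.induction_on with
          | H x =>
            rw [hφ, hφ, hφ]
            congr 1
            apply Subtype.ext
            change ((n * n' : H) : G) * x * ((n * n' : H) : G)⁻¹ =
              n * (n' * x * (n' : G)⁻¹) * (n : G)⁻¹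
            push_cast
            group
        rw [key]
      smul_zero := fun n => map_one (φ n)
      smul_add := fun n x y => map_mul (φ n) x.toMul y.toMul }
  let p : G → Additive (W ⧸ R') := fun g => if h : g ∈ W then Additive.ofMul (QuotientGroup.mk ⟨g, h⟩) else 0
  have hp : ∀ (x : G) (hx : x ∈ W), p x = Additive.ofMul (QuotientGroup.mk ⟨x, hx⟩) := fun x hx => dif_pos hx
  refine ⟨Additive (W ⧸ R'), inferInstance, aM, p, fun x hx y hy => ?_, fun x hx => ?_, fun m => ?_,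
    fun h x hx => ?_⟩
  · rw [hp _ (mul_mem hx hy), hp _ hx, hp _ hy]; rfl
  · rw [hp _ hx]
    change (QuotientGroup.mk ⟨x, hx⟩ : W ⧸ R') = 1 ↔ _
    rw [QuotientGroup.eq_one_iff]
    rfl
  · obtain ⟨⟨x, hx⟩, h⟩ := QuotientGroup.mk_surjective m.toMul
    refine ⟨x, hx, ?_⟩
    rw [hp _ hx, h]
    rfl
  · have h1 : (h : G) * x * (h : G)⁻¹ ∈ W := conj_mem_of_normalizer (HW h.2) hx
    rw [hp _ hx, hp _ h1]; rfl

/-- a 2-group of order at least `2 ^ n` acting nilpotently -/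
theorem sum_mem {M : Type v} [AddCommGroup M] {F : ℕ → AddSubgroup M} (hF0 : F 0 = ⊤) (n : ℕ) :
    ∀ (Q : Type u) [Group Q] [Fintype Q] [DistribMulAction Q M], IsPGroup 2 Q → 2 ^ n ≤ Nat.card Q →
      (∀ k, ∀ q : Q, ∀ m ∈ F k, q • m + m ∈ F (k + 1)) → ∀ m : M, ∑ q : Q, q • m ∈ F n := by
  classical
  induction n with
  | zero => intro Q _ _ _ _ _ _ m; rw [hF0]; trivial
  | succ n ih =>
    intro Q _ _ _ hQ hc hstep m
    haveI : Fact (Nat.Prime 2) := ⟨Nat.prime_two⟩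
    obtain ⟨k, hk⟩ := IsPGroup.iff_card.1 hQ
    have hnk : n + 1 ≤ k := (Nat.pow_le_pow_iff_right (by norm_num)).1 (hk ▸ hc)
    obtain ⟨H, hH⟩ := Sylow.exists_subgroup_card_pow_prime (G := Q) 2 (n := k - 1)
      (by rw [hk]; exact pow_dvd_pow 2 (by omega))
    have hidx : H.index = 2 := by
      have h1 := H.card_mul_index
      rw [hH, hk] at h1
      have h2 : 2 ^ k = 2 ^ (k - 1) * 2 := by rw [← pow_succ]; congr 1; omega
      rw [h2] at h1
      exact Nat.eq_of_mul_eq_mul_left (by positivity) h1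
    obtain ⟨b, hb⟩ : ∃ b : Q, b ∉ H := by
      by_contra hcon
      push Not at hcon
      have : H = ⊤ := eq_top_iff.2 fun x _ => hcon x
      rw [this, Subgroup.index_top] at hidx
      omega
    have h1 := ih H (hQ.to_subgroup H) (by rw [hH]; exact Nat.pow_le_pow_right (by norm_num) (by omega))
      (fun k q m hm => hstep k q m hm) m
    have h2 := hstep n b _ h1
    have h3 : ∑ q : Q, q • m = b • (∑ q : H, q • m) + ∑ q : H, q • m := by
      rw [← Fintype.sum_subtype_add_sum_subtype (fun q => q ∈ H), add_comm]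
      congr 1
      rw [Finset.smul_sum]
      have hbm : ∀ x : Q, b * x ∉ H ↔ x ∈ H := by
        intro x
        rw [Subgroup.mul_mem_iff_of_index_two hidx]
        tauto
      have hbi : b⁻¹ ∉ H := fun h => hb (by simpa using H.inv_mem h)
      have hbm' : ∀ x : Q, b⁻¹ * x ∈ H ↔ x ∉ H := by
        intro x
        rw [Subgroup.mul_mem_iff_of_index_two hidx]
        tauto
      refine (Fintype.sum_equiv
        { toFun := fun h : H => (⟨b * h, (hbm h).2 h.2⟩ : {x // ¬ x ∈ H})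
          invFun := fun x => (⟨b⁻¹ * x, (hbm' x).2 x.2⟩ : H)
          left_inv := fun h => Subtype.ext (by simp)
          right_inv := fun x => Subtype.ext (by simp) } _ _ fun h => ?_).symm
      exact (mul_smul b (h : Q) m).symm
    rw [h3]
    exact h2

end Cfsg.Agent.Omega.SQEnd

end

section


/-!
# The exceptional case of LEMMA NA (bb OMEGA #12947): quadratic modules for `SL₂(k)`, `k` of characteristic 2

`σ : SL₂(k) → End M`, `E = C_M(U)`, `[M, U] ≤ E`, `C_M(u) = E` for `1 ≠ u ∈ U`, `C_M(SL₂(k)) = 0`: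
`E` is a `k`-module (`sc`), `diag(a, 1/a)` acts on `E` as `a`, `M = E + w E`.
-/

set_option autoImplicit false
set_option linter.unusedSectionVars false

namespace Cfsg.Agent.Omega.SQEnd.Exc

open Cfsg.Agent.Lib.SL2Mat Cfsg.Agent.Lib.AutSL2 Cfsg.Agent.Lib.AutSL2Out

universe u

/-- `SL₂(k)` -/
abbrev SLk (k : Type u) [Field k] := Matrix.SpecialLinearGroup (Fin 2) k

section mat

variable {k : Type u} [Field k]

/-- the Weyl element -/
def wv (k : Type u) [Field k] : SLk k := wm 1 one_ne_zero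

theorem wm_eq_up (a : k) (ha : a ≠ 0) : wm a ha = up a * lo (-a⁻¹) * up a := by
  refine ext_ent ?_ ?_ ?_ ?_ <;> simp [ent_mul, ha]

theorem wm_eq_dg (a : k) (ha : a ≠ 0) : wm a ha = dg a ha * wv k := by
  unfold wv
  refine ext_ent ?_ ?_ ?_ ?_ <;> simp [ent_mul]

theorem dg_mul_wv (a : k) (ha : a ≠ 0) : dg a ha * wv k = wv k * dg a⁻¹ (inv_ne_zero ha) := by
  unfold wv
  refine ext_ent ?_ ?_ ?_ ?_ <;> simp [ent_mul]

theorem dg_mul_dg (a b : k) (ha : a ≠ 0) (hb : b ≠ 0) : dg a ha * dg b hb = dg (a * b) (mul_ne_zero ha hb) := by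
  refine ext_ent ?_ ?_ ?_ ?_ <;> simp [ent_mul, mul_comm]

theorem dg_one : dg (1 : k) one_ne_zero = 1 := by
  refine ext_ent ?_ ?_ ?_ ?_ <;> simp

theorem wv_up (x : k) : wv k * up x = lo (-x) * wv k := by
  unfold wv
  refine ext_ent ?_ ?_ ?_ ?_ <;> simp [ent_mul]

theorem dg_inv (a : k) (ha : a ≠ 0) : (dg a ha)⁻¹ = dg a⁻¹ (inv_ne_zero ha) := by
  rw [inv_eq_iff_mul_eq_one, dg_mul_dg]
  refine ext_ent ?_ ?_ ?_ ?_ <;> simp [ha]

/-- an element conjugating one `up` to an `up` is upper triangular -/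
theorem ent_eq_zero {s : SLk k} {x x' : k} (hx : x ≠ 0) (h : s * up x = up x' * s) : ent s 1 0 = 0 := by
  have h1 := congrArg (fun y => ent y 1 1) h
  simp only [ent_mul, up_01, up_11, up_10] at h1
  have h2 : ent s 1 0 * x = 0 := by linear_combination h1
  rcases mul_eq_zero.1 h2 with h3 | h3
  · exact h3
  · exact absurd h3 hx

theorem ent00_ne {s : SLk k} (h : ent s 1 0 = 0) : ent s 0 0 ≠ 0 := by
  intro h0
  have := det_eq s
  rw [h0, h] at this
  simp at this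

theorem ent11_eq {s : SLk k} (h : ent s 1 0 = 0) : ent s 1 1 = (ent s 0 0)⁻¹ := by
  have h1 := det_eq s
  rw [h, mul_zero, sub_zero] at h1
  exact eq_inv_of_mul_eq_one_right h1

/-- upper triangular matrices -/
theorem eq_up_dg {s : SLk k} (h : ent s 1 0 = 0) :
    s = up (ent s 0 1 * ent s 0 0) * dg (ent s 0 0) (ent00_ne h) := by
  have h1 := ent11_eq h
  have h0 := ent00_ne h
  refine ext_ent ?_ ?_ ?_ ?_ <;> simp [ent_mul, h, h1, h0]

theorem tri_up {s : SLk k} (h : ent s 1 0 = 0) (x : k) : s * up x * s⁻¹ = up ((ent s 0 0) ^ 2 * x) := by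
  rw [mul_inv_eq_iff_eq_mul]
  have h1 := ent11_eq h
  have h0 := ent00_ne h
  refine ext_ent ?_ ?_ ?_ ?_ <;> simp only [ent_mul, h, h1, up_00, up_01, up_10, up_11]
  all_goals (try field_simp)
  all_goals ring

theorem tri_dg {s : SLk k} (h : ent s 1 0 = 0) (a : k) (ha : a ≠ 0) :
    ∃ y, s * dg a ha * s⁻¹ = up y * dg a ha := by
  have h0 := ent00_ne h
  refine ⟨ent s 0 1 * ent s 0 0 * (1 - a ^ 2), ?_⟩
  rw [mul_inv_eq_iff_eq_mul]
  have h1 := ent11_eq h
  refine ext_ent ?_ ?_ ?_ ?_ <;>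
    simp only [ent_mul, h, h1, up_00, up_01, up_10, up_11, dg_00, dg_01, dg_10, dg_11]
  all_goals (try field_simp)
  all_goals ring

/-- `up x` is central only for `x = 0` -/
theorem eq_zero_of_conj {x : k} (h : ∀ s : SLk k, up x * s * (up x)⁻¹ = s) : x = 0 := by
  have h1 : up x ∈ Subgroup.center (SLk k) := by
    rw [Subgroup.mem_center_iff]
    intro s
    have := h s
    rw [mul_inv_eq_iff_eq_mul] at this
    exact this.symm
  have := (mem_center_offdiag h1).1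
  rwa [up_01] at this

variable [CharP k 2]

theorem wv_sq : wv k * wv k = 1 := by
  unfold wv
  have h : (-1 : k) = 1 := CharTwo.neg_eq 1
  refine ext_ent ?_ ?_ ?_ ?_ <;> simp [ent_mul, h]

theorem conj_wv_up (x : k) : wv k * up x * wv k = lo (-x) := by
  rw [wv_up, mul_assoc, wv_sq, mul_one]

/-- automorphisms of `SL₂(k)`, `k` finite of characteristic 2 -/
theorem aut_eq [Finite k] (α : MulAut (SLk k)) :
    ∃ (s : SLk k) (τ : k ≃+* k), ∀ x, α x = s * fieldAut τ x * s⁻¹ := by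
  obtain ⟨g, τ, h⟩ := exists_eq α
  have h2 : IsSquare (g.1.det) := FiniteField.isSquare_of_char_two (CharP.ringChar_of_prime_eq_zero Nat.prime_two
    (by exact_mod_cast CharTwo.two_eq_zero (R := k))) _
  obtain ⟨d, hd⟩ := h2
  have hg : g.1.det ≠ 0 := by
    have : IsUnit g.1.det := (Matrix.isUnit_iff_isUnit_det _).1 g.isUnit
    exact this.ne_zero
  have hd0 : d ≠ 0 := fun h0 => hg (by rw [hd, h0, mul_zero])
  obtain ⟨s, hs⟩ := conjGL_of_det_sq g d hd0 (by rw [hd, pow_two])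
  refine ⟨s, τ, fun x => ?_⟩
  rw [h, ← hs]
  rfl

end mat

section quad

variable {k : Type u} [Field k] {M : Type*} [AddCommGroup M]

/-- `C_M(U)` -/
def EE (σ : SLk k →* AddMonoid.End M) : AddSubgroup M where
  carrier := {m | ∀ x, σ (up x) m = m}
  zero_mem' := fun x => map_zero _
  add_mem' := fun {a b} ha hb x => by rw [map_add, ha x, hb x]
  neg_mem' := fun {a} ha x => by rw [map_neg, ha x]

theorem mem_EE {σ : SLk k →* AddMonoid.End M} {m : M} : m ∈ EE σ ↔ ∀ x, σ (up x) m = m := Iff.rfl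

/-- the hypotheses of this section -/
structure Quad (σ : SLk k →* AddMonoid.End M) : Prop where
  two : ∀ m : M, m + m = 0
  quad : ∀ x m, σ (up x) m - m ∈ EE σ
  reg : ∀ x, x ≠ 0 → ∀ m, σ (up x) m = m → m ∈ EE σ
  cen : ∀ m, (∀ s, σ s m = m) → m = 0

theorem σ_mul (σ : SLk k →* AddMonoid.End M) (s s' : SLk k) (m : M) : σ (s * s') m = σ s (σ s' m) := by
  rw [map_mul]; rfl

theorem σ_one (σ : SLk k →* AddMonoid.End M) (m : M) : σ 1 m = m := by rw [map_one]; rfl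

variable {σ : SLk k →* AddMonoid.End M}

/-- `N_x(m) = [m, up x]` -/
def NN (σ : SLk k →* AddMonoid.End M) (x : k) (m : M) : M := σ (up x) m - m

theorem NN_E {x : k} {m : M} (hm : m ∈ EE σ) : NN σ x m = 0 := by
  unfold NN; rw [hm x, sub_self]

theorem NN_add_right (x : k) (m m' : M) : NN σ x (m + m') = NN σ x m + NN σ x m' := by
  unfold NN; rw [map_add]; abel

theorem NN_sub_right (x : k) (m m' : M) : NN σ x (m - m') = NN σ x m - NN σ x m' := by
  unfold NN; rw [map_sub]; abel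

theorem NN_zero_left (m : M) : NN σ (0 : k) m = 0 := by
  unfold NN; rw [up_zero, σ_one, sub_self]

variable (q : Quad σ)
include q

namespace Quad

theorem neg (m : M) : -m = m := by
  rw [neg_eq_iff_add_eq_zero]; exact q.two m

theorem NN_mem (x : k) (m : M) : NN σ x m ∈ EE σ := q.quad x m

theorem NN_add_left (x y : k) (m : M) : NN σ (x + y) m = NN σ x m + NN σ y m := by
  have h1 := q.quad y m x
  rw [map_sub] at h1
  have h2 : σ (up (x + y)) m = σ (up x) (σ (up y) m) := by rw [← up_mul, σ_mul]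
  unfold NN
  rw [h2, sub_eq_iff_eq_add.1 h1]
  abel

theorem mem_of_NN {x : k} (hx : x ≠ 0) {m : M} (h : NN σ x m = 0) : m ∈ EE σ := q.reg x hx m (sub_eq_zero.1 h)

variable [CharP k 2]

theorem wv_wv (m : M) : σ (wv k) (σ (wv k) m) = m := by
  have _ := q
  rw [← σ_mul, wv_sq, σ_one]

theorem lo_wv (x : k) (m : M) : σ (lo (-x)) m = σ (wv k) (σ (up x) (σ (wv k) m)) := by
  have _ := q
  rw [← conj_wv_up, σ_mul, σ_mul]

/-- `E ∩ w E = 0` -/
theorem inf {m : M} (h1 : m ∈ EE σ) (h2 : σ (wv k) m ∈ EE σ) : m = 0 := by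
  apply q.cen
  have hlo : ∀ x : k, σ (lo x) m = m := by
    intro x
    have h3 := q.lo_wv (-x) m
    rw [neg_neg, h2, q.wv_wv] at h3
    exact h3
  intro s
  obtain ⟨a, b, c, d, rfl⟩ := exists_up_lo s
  rw [σ_mul, σ_mul, σ_mul, hlo, h1, hlo, h1]

/-- the scalar action -/
def sc (σ : SLk k →* AddMonoid.End M) (a : k) (m : M) : M := NN σ a (σ (wv k) m)

theorem sc_mem (a : k) (m : M) : sc σ a m ∈ EE σ := q.NN_mem _ _

theorem sc_zero (m : M) : sc σ (0 : k) m = 0 := by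
  have _ := q
  exact NN_zero_left _

theorem sc_add (a b : k) (m : M) : sc σ (a + b) m = sc σ a m + sc σ b m := q.NN_add_left _ _ _

theorem sc_add_right (a : k) (m m' : M) : sc σ a (m + m') = sc σ a m + sc σ a m' := by
  have _ := q
  unfold sc
  rw [map_add, NN_add_right]

omit q in
theorem up_eq (a : k) (m : M) : σ (up a) m = m + NN σ a m := by unfold NN; abel

theorem dg_mem (a : k) (ha : a ≠ 0) {m : M} (hm : m ∈ EE σ) : σ (dg a ha) m ∈ EE σ := by
  have _ := q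
  intro x
  have h1 : up x * dg a ha = dg a ha * up ((a⁻¹) ^ 2 * x) := by
    rw [dg_up]
    congr 2
    field_simp
  rw [← σ_mul, h1, σ_mul, hm]

/-- **`diag(a, 1/a)` acts on `E` as the scalar `a`** -/
theorem sc_eq_dg (a : k) (ha : a ≠ 0) {m : M} (hm : m ∈ EE σ) : sc σ a m = σ (dg a ha) m := by
  -- first for `a⁻¹`
  have key : ∀ (b : k) (hb : b ≠ 0), sc σ b⁻¹ m = σ (dg b⁻¹ (inv_ne_zero hb)) m := by
    intro b hb
    have e1 : σ (wm b hb) m = σ (wv k) (σ (dg b⁻¹ (inv_ne_zero hb)) m) := by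
      rw [wm_eq_dg, dg_mul_wv, σ_mul]
    have e2 : σ (wm b hb) m = m + σ (wv k) (sc σ b⁻¹ m) + sc σ b (sc σ b⁻¹ m) := by
      rw [wm_eq_up, σ_mul, σ_mul, hm, q.lo_wv, up_eq b⁻¹ (σ (wv k) m), map_add, q.wv_wv]
      change σ (up b) (m + σ (wv k) (sc σ b⁻¹ m)) = _
      rw [map_add, hm, up_eq b (σ (wv k) (sc σ b⁻¹ m))]
      change m + (σ (wv k) (sc σ b⁻¹ m) + sc σ b (sc σ b⁻¹ m)) = _
      rw [add_assoc]
    rw [e1] at e2
    -- `w (d m - sc m) = m + ...`
    have e3 : σ (wv k) (σ (dg b⁻¹ (inv_ne_zero hb)) m - sc σ b⁻¹ m) = m + sc σ b (sc σ b⁻¹ m) := by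
      rw [map_sub, e2]; abel
    have m1 : m + sc σ b (sc σ b⁻¹ m) ∈ EE σ := add_mem hm (q.sc_mem _ _)
    have m2 : σ (dg b⁻¹ (inv_ne_zero hb)) m - sc σ b⁻¹ m ∈ EE σ := sub_mem (q.dg_mem _ _ hm) (q.sc_mem _ _)
    have e4 := q.inf m2 (by rw [e3]; exact m1)
    exact (sub_eq_zero.1 e4).symm
  have h1 := key a⁻¹ (inv_ne_zero ha)
  have h2 : ∀ (c : k) (hc : c ≠ 0), c = a → σ (dg c hc) m = σ (dg a ha) m := by
    rintro c hc rfl; rfl
  rw [h2 _ _ (inv_inv a), inv_inv] at h1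
  exact h1

theorem sc_one {m : M} (hm : m ∈ EE σ) : sc σ (1 : k) m = m := by
  rw [q.sc_eq_dg 1 one_ne_zero hm, dg_one, σ_one]

theorem sc_mul (a b : k) {m : M} (hm : m ∈ EE σ) : sc σ (a * b) m = sc σ a (sc σ b m) := by
  by_cases ha : a = 0
  · subst ha
    rw [zero_mul, q.sc_zero, q.sc_zero]
  by_cases hb : b = 0
  · subst hb
    rw [mul_zero, q.sc_zero]
    have := q.sc_add_right a 0 0
    rw [add_zero] at this
    exact (left_eq_add.1 this).symm
  rw [q.sc_eq_dg a ha (q.sc_mem _ _), q.sc_eq_dg b hb hm, q.sc_eq_dg _ (mul_ne_zero ha hb) hm, ← σ_mul, dg_mul_dg]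

/-- upper triangular matrices act on `E` as scalars -/
theorem tri {s : SLk k} (hs : ent s 1 0 = 0) {m : M} (hm : m ∈ EE σ) : σ s m = sc σ (ent s 0 0) m := by
  have h1 : σ s m = σ (up (ent s 0 1 * ent s 0 0) * dg (ent s 0 0) (ent00_ne hs)) m := by rw [← eq_up_dg hs]
  rw [h1, σ_mul, q.sc_eq_dg _ (ent00_ne hs) hm]
  exact q.dg_mem _ _ hm _

/-- `E` is a `k`-module -/
@[reducible] def modE : Module k (EE σ) where
  smul a m := ⟨sc σ a m, q.sc_mem _ _⟩
  one_smul m := Subtype.ext (q.sc_one m.2)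
  mul_smul a b m := Subtype.ext (q.sc_mul a b m.2)
  smul_zero a := Subtype.ext (by
    have := q.sc_add_right a 0 0
    rw [add_zero] at this
    exact left_eq_add.1 this)
  smul_add a m m' := Subtype.ext (q.sc_add_right a m m')
  add_smul a b m := Subtype.ext (q.sc_add a b m)
  zero_smul m := Subtype.ext (q.sc_zero _)

/-- `M = E + w E` -/
theorem exists_add (m : M) : ∃ z ∈ EE σ, m = z + σ (wv k) (NN σ 1 m) := by
  refine ⟨m - σ (wv k) (NN σ 1 m), q.mem_of_NN one_ne_zero ?_, by abel⟩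
  rw [NN_sub_right]
  have h1 : NN σ 1 (σ (wv k) (NN σ 1 m)) = NN σ 1 m := q.sc_one (q.NN_mem _ _)
  rw [h1, sub_self]

/-- `N_a(m) = a N_1(m)` -/
theorem NN_eq_sc (a : k) (m : M) : NN σ a m = sc σ a (NN σ 1 m) := by
  obtain ⟨z, hz, h⟩ := q.exists_add m
  conv_lhs => rw [h]
  rw [NN_add_right, NN_E hz, zero_add]
  rfl

end Quad

end quad

end Cfsg.Agent.Omega.SQEnd.Exc

end

section


/-!
# The exceptional case of LEMMA NA (bb OMEGA #12947): the final argument

A group `Y` acts semilinearly on a plane `E = k x₀ + k x₁`, a normal subgroup `J` acts linearly and its 2-elements trivially,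
`z ∈ J` has different eigenvalues on `x₀`, `x₁`, the torus is transitive on the lines `≠ k x₀, k x₁`, and every 2-element
is conjugate to one fixing `k x₀`: then `Y` fixes `k x₀`.
-/

set_option autoImplicit false
set_option linter.unusedSectionVars false

namespace Cfsg.Agent.Omega.SQEnd.Exc

section lin

variable {k E : Type*} [Field k] [AddCommGroup E] [Module k E]

/-- eigenvectors of a diagonal map -/
theorem eigen_cases {y0 y1 : E} (hb : ∀ x, ∃ a b : k, x = a • y0 + b • y1)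
    (hi : ∀ a b : k, a • y0 + b • y1 = 0 → a = 0 ∧ b = 0) {A : E → E} (hadd : ∀ x y, A (x + y) = A x + A y)
    (hsm : ∀ (a : k) x, A (a • x) = a • A x) {α β : k} (h0 : A y0 = α • y0) (h1 : A y1 = β • y1) (hne : α ≠ β)
    {x : E} {γ : k} (hx : A x = γ • x) : (∃ a : k, x = a • y0) ∨ (∃ a : k, x = a • y1) := by
  obtain ⟨a, b, rfl⟩ := hb x
  rw [hadd, hsm, hsm, h0, h1] at hx
  have h2 := hi (a * α - γ * a) (b * β - γ * b) (by
    have : a • α • y0 + b • β • y1 - γ • (a • y0 + b • y1) = 0 := by rw [hx, sub_self]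
    rw [← this]; module)
  by_cases ha : a = 0
  · exact Or.inr ⟨b, by rw [ha]; simp⟩
  by_cases hbb : b = 0
  · exact Or.inl ⟨a, by rw [hbb]; simp⟩
  exfalso
  apply hne
  have e1 : α = γ := by
    have h3 : a * (α - γ) = 0 := by linear_combination h2.1
    rcases mul_eq_zero.1 h3 with h | h
    · exact absurd h ha
    · exact sub_eq_zero.1 h
  have e2 : β = γ := by
    have h3 : b * (β - γ) = 0 := by linear_combination h2.2
    rcases mul_eq_zero.1 h3 with h | h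
    · exact absurd h hbb
    · exact sub_eq_zero.1 h
  rw [e1, e2]

theorem eigen_zero {y0 y1 : E} (hb : ∀ x, ∃ a b : k, x = a • y0 + b • y1)
    (hi : ∀ a b : k, a • y0 + b • y1 = 0 → a = 0 ∧ b = 0) {A : E → E} (hadd : ∀ x y, A (x + y) = A x + A y)
    (hsm : ∀ (a : k) x, A (a • x) = a • A x) {α β : k} (h0 : A y0 = α • y0) (h1 : A y1 = β • y1) (hne : α ≠ β)
    {x : E} (hx : A x = α • x) : ∃ a : k, x = a • y0 := by
  obtain ⟨a, b, rfl⟩ := hb x
  rw [hadd, hsm, hsm, h0, h1] at hx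
  have h2 := hi (a * α - α * a) (b * β - α * b) (by
    have : a • α • y0 + b • β • y1 - α • (a • y0 + b • y1) = 0 := by rw [hx, sub_self]
    rw [← this]; module)
  have h3 : b * (β - α) = 0 := by linear_combination h2.2
  rcases mul_eq_zero.1 h3 with h | h
  · exact ⟨a, by rw [h]; simp⟩
  · exact absurd (sub_eq_zero.1 h).symm hne

end lin

/-- the situation -/
structure Fin2 (Y k E : Type*) [Group Y] [Field k] [AddCommGroup E] [Module k E] [DistribMulAction Y E]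
    (J : Subgroup Y) (x0 x1 : E) : Prop where
  semi : ∀ h : Y, ∃ τ : k ≃+* k, ∀ (a : k) (x : E), h • a • x = τ a • h • x
  nor : ∀ h : Y, ∀ j ∈ J, h * j * h⁻¹ ∈ J
  lin : ∀ j ∈ J, ∀ (a : k) (x : E), j • a • x = a • j • x
  J2 : ∀ j ∈ J, ∀ n : ℕ, j ^ 2 ^ n = 1 → ∀ x : E, j • x = x
  gen : ∀ x : E, ∃ a b : k, x = a • x0 + b • x1
  ind : ∀ a b : k, a • x0 + b • x1 = 0 → a = 0 ∧ b = 0
  z : ∃ z ∈ J, ∃ a b : k, z • x0 = a • x0 ∧ z • x1 = b • x1 ∧ a ≠ b
  tor : ∀ r : k, r ≠ 0 → ∃ t : Y, ∃ c d : k, c ≠ 0 ∧ d ≠ 0 ∧ c = r * d ∧ t • x0 = c • x0 ∧ t • x1 = d • x1 ∧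
    ∀ (a : k) (x : E), t • a • x = a • t • x
  syl : ∀ β : Y, ∀ n : ℕ, β ^ 2 ^ n = 1 → ∃ y : Y, ∃ c : k, (y * β * y⁻¹) • x0 = c • x0

namespace Fin2

variable {Y k E : Type*} [Group Y] [Field k] [AddCommGroup E] [Module k E] [DistribMulAction Y E]
  {J : Subgroup Y} {x0 x1 : E} (f : Fin2 Y k E J x0 x1)
include f

theorem ne0 : x0 ≠ 0 := fun h => by
  have := (f.ind 1 0 (by rw [h]; simp)).1
  exact one_ne_zero this

theorem ne1 : x1 ≠ 0 := fun h => by
  have := (f.ind 0 1 (by rw [h]; simp)).2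
  exact one_ne_zero this

theorem not01 (c : k) : x0 ≠ c • x1 := fun h => by
  have := (f.ind 1 (-c) (by rw [h]; simp)).1
  exact one_ne_zero this

theorem not10 (c : k) : x1 ≠ c • x0 := fun h => by
  have := (f.ind (-c) 1 (by rw [h]; simp)).2
  exact one_ne_zero this

theorem gen' (h : Y) (x : E) : ∃ a b : k, x = a • h • x0 + b • h • x1 := by
  obtain ⟨τ, hτ⟩ := f.semi h
  obtain ⟨a, b, hx⟩ := f.gen (h⁻¹ • x)
  refine ⟨τ a, τ b, ?_⟩
  rw [← hτ, ← hτ, ← smul_add, ← hx, smul_inv_smul]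

theorem ind' (h : Y) (a b : k) (hx : a • h • x0 + b • h • x1 = 0) : a = 0 ∧ b = 0 := by
  obtain ⟨τ, hτ⟩ := f.semi h
  have h1 : h • (τ.symm a • x0 + τ.symm b • x1) = 0 := by
    rw [smul_add, hτ, hτ, τ.apply_symm_apply, τ.apply_symm_apply, hx]
  have h2 : τ.symm a • x0 + τ.symm b • x1 = 0 := by
    have := congrArg (fun x => h⁻¹ • x) h1
    simpa using this
  have h3 := f.ind _ _ h2
  exact ⟨by simpa using h3.1, by simpa using h3.2⟩

/-- an element of `J` whose square is trivial on `E` is trivial on `E` -/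
theorem J2' [Finite Y] {u : Y} (hu : u ∈ J) (h : ∀ x : E, u • u • x = x) (x : E) : u • x = x := by
  obtain ⟨n, m, hm, hn⟩ := Nat.exists_eq_two_pow_mul_odd (orderOf_pos u).ne'
  have h1 : (u ^ m) ^ 2 ^ n = 1 := by
    rw [← pow_mul, mul_comm, ← hn, pow_orderOf_eq_one]
  have h2 := f.J2 (u ^ m) (J.pow_mem hu m) n h1 x
  obtain ⟨l, rfl⟩ := hm
  have h3 : ∀ l : ℕ, ∀ y : E, u ^ (2 * l) • y = y := by
    intro l
    induction l with
    | zero => intro y; simp
    | succ l ih =>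
      intro y
      have e : u ^ (2 * (l + 1)) = u ^ (2 * l) * (u * u) := by rw [mul_add, pow_add]; simp [pow_two]
      rw [e, mul_smul, mul_smul, h, ih]
  rw [pow_succ, mul_smul, h3] at h2
  exact h2

/-- two pairs of lines with a common line are equal -/
theorem star [Finite Y] [CharP k 2] (h : Y) {r s : E} (hr : r = h • x0 ∨ r = h • x1) (hs : s = x0 ∨ s = x1) {c : k}
    (hc : c ≠ 0) (hrs : r = c • s) :
    ((∃ a : k, x0 = a • h • x0) ∨ (∃ a : k, x0 = a • h • x1)) ∧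
      ((∃ a : k, x1 = a • h • x0) ∨ (∃ a : k, x1 = a • h • x1)) := by
  obtain ⟨z, hzJ, ξ0, ξ1, hz0, hz1, hne⟩ := f.z
  obtain ⟨τ, hτ⟩ := f.semi h
  set z' := h * z * h⁻¹ with hz'
  have hz'J : z' ∈ J := f.nor h z hzJ
  have e0 : z' • h • x0 = τ ξ0 • h • x0 := by
    rw [hz', ← mul_smul, inv_mul_cancel_right, mul_smul, hz0, hτ]
  have e1 : z' • h • x1 = τ ξ1 • h • x1 := by
    rw [hz', ← mul_smul, inv_mul_cancel_right, mul_smul, hz1, hτ]
  have hne' : τ ξ0 ≠ τ ξ1 := fun hh => hne (τ.injective hh)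
  clear_value z'
  -- `s` is a common eigenvector
  have hs0 : s ≠ 0 := by
    rcases hs with rfl | rfl
    · exact f.ne0
    · exact f.ne1
  obtain ⟨α, hα⟩ : ∃ α : k, z • s = α • s := by
    rcases hs with rfl | rfl
    · exact ⟨_, hz0⟩
    · exact ⟨_, hz1⟩
  obtain ⟨α', hα'⟩ : ∃ α' : k, z' • s = α' • s := by
    have h1 : ∃ α' : k, z' • r = α' • r := by
      rcases hr with rfl | rfl
      · exact ⟨_, e0⟩
      · exact ⟨_, e1⟩
    obtain ⟨α', h1⟩ := h1
    refine ⟨α', ?_⟩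
    rw [hrs, f.lin z' hz'J] at h1
    have h2 := congrArg (fun x => c⁻¹ • x) h1
    simp only [smul_smul] at h2
    rw [inv_mul_cancel₀ hc, one_smul] at h2
    rw [h2]
    congr 1
    field_simp
  have hα0 : α ≠ 0 := by
    rintro rfl
    rw [zero_smul, smul_eq_zero_iff_eq] at hα
    exact hs0 hα
  have hα'0 : α' ≠ 0 := by
    rintro rfl
    rw [zero_smul, smul_eq_zero_iff_eq] at hα'
    exact hs0 hα'
  obtain ⟨s', β, hs', hgen⟩ : ∃ (s' : E) (β : k), z • s' = β • s' ∧ ∀ x, ∃ a b : k, x = a • s + b • s' := by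
    rcases hs with rfl | rfl
    · exact ⟨x1, ξ1, hz1, f.gen⟩
    · refine ⟨x0, ξ0, hz0, fun x => ?_⟩
      obtain ⟨a, b, hx⟩ := f.gen x
      exact ⟨b, a, by rw [hx, add_comm]⟩
  have key : ∀ x : E, ∃ ν : k, z • z' • x = z' • z • x + ν • s := by
    intro x
    obtain ⟨a, b, rfl⟩ := hgen x
    obtain ⟨p, q, hpq⟩ := hgen (z' • s')
    refine ⟨b * (p * α - β * p), ?_⟩
    simp only [smul_add, f.lin z' hz'J, f.lin z hzJ, hα, hα', hs', hpq]
    module
  have hcom : z • z' • s = z' • z • s := by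
    rw [hα, hα', f.lin z hzJ, f.lin z' hz'J, hα, hα', smul_smul, smul_smul, mul_comm]
  set u := (z * z') * (z' * z)⁻¹ with hu
  have huJ : u ∈ J := J.mul_mem (J.mul_mem hzJ hz'J) (J.inv_mem (J.mul_mem hz'J hzJ))
  have hu1 : ∀ y : E, ∃ ν : k, u • y = y + ν • s := by
    intro y
    obtain ⟨ν, hν⟩ := key ((z' * z)⁻¹ • y)
    refine ⟨ν, ?_⟩
    rw [hu, mul_smul, mul_smul, hν]
    congr 1
    rw [← mul_smul z' z, smul_inv_smul]
  have hus : u • s = s := by
    have h1 : u • (z' * z) • s = (z' * z) • s := by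
      rw [hu, ← mul_smul, inv_mul_cancel_right, mul_smul, mul_smul, hcom]
    have h2 : (z' * z) • s = (α * α') • s := by
      rw [mul_smul, hα, f.lin z' hz'J, hα', smul_smul]
    rw [h2, f.lin u huJ] at h1
    have h3 := congrArg (fun x => (α * α')⁻¹ • x) h1
    simpa [smul_smul, hα0, hα'0] using h3
  have hu2 : ∀ y : E, u • u • y = y := by
    intro y
    obtain ⟨ν, hν⟩ := hu1 y
    rw [hν, smul_add, f.lin u huJ, hus, hν, add_assoc, ← add_smul, CharTwo.add_self_eq_zero, zero_smul, add_zero]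
  have hu3 := f.J2' huJ hu2
  have hcomm : ∀ x : E, z • z' • x = z' • z • x := by
    intro x
    have h1 := hu3 ((z' * z) • x)
    rw [hu, ← mul_smul, inv_mul_cancel_right, mul_smul, mul_smul] at h1
    exact h1
  have k0 : z • (z' • x0) = ξ0 • (z' • x0) := by rw [hcomm, hz0, f.lin z' hz'J]
  have k1 : z • (z' • x1) = ξ1 • (z' • x1) := by rw [hcomm, hz1, f.lin z' hz'J]
  obtain ⟨γ0, g0⟩ := eigen_zero f.gen f.ind (A := fun x => z • x) (fun x y => smul_add z x y)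
    (fun a x => f.lin z hzJ a x) hz0 hz1 hne k0
  obtain ⟨γ1, g1⟩ := eigen_zero (y0 := x1) (y1 := x0) (fun x => by
      obtain ⟨a, b, hx⟩ := f.gen x
      exact ⟨b, a, by rw [hx, add_comm]⟩) (fun a b hab => (f.ind b a (by rw [add_comm]; exact hab)).symm)
    (A := fun x => z • x) (fun x y => smul_add z x y)
    (fun a x => f.lin z hzJ a x) hz1 hz0 hne.symm k1
  exact ⟨eigen_cases (f.gen' h) (f.ind' h) (A := fun x => z' • x) (fun x y => smul_add z' x y)
    (fun a x => f.lin z' hz'J a x) e0 e1 hne' g0, eigen_cases (f.gen' h) (f.ind' h) (A := fun x => z' • x)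
    (fun x y => smul_add z' x y) (fun a x => f.lin z' hz'J a x) e0 e1 hne' g1⟩

/-- every `h` fixes `k x₀` or exchanges `k x₀` and `k x₁` -/
theorem swap [Finite Y] [CharP k 2] (h : Y) :
    (∃ a : k, h • x0 = a • x0) ∨ ((∃ a : k, h • x0 = a • x1) ∧ ∃ a : k, h • x1 = a • x0) := by
  obtain ⟨τ, hτ⟩ := f.semi h
  obtain ⟨α, β, h0⟩ := f.gen (h • x0)
  obtain ⟨γ, δ, h1⟩ := f.gen (h • x1)
  have hn0 : h • x0 ≠ 0 := fun hh => f.ne0 ((smul_eq_zero_iff_eq h).1 hh)
  have hn1 : h • x1 ≠ 0 := fun hh => f.ne1 ((smul_eq_zero_iff_eq h).1 hh)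
  -- lines
  have inv_line : ∀ {x y : E}, x ≠ 0 → (∃ a : k, x = a • y) → ∃ a : k, y = a • x := by
    rintro x y hx ⟨a, rfl⟩
    have ha : a ≠ 0 := fun h => hx (by rw [h, zero_smul])
    exact ⟨a⁻¹, by rw [smul_smul, inv_mul_cancel₀ ha, one_smul]⟩
  have trans_line : ∀ {x y z : E}, (∃ a : k, x = a • y) → (∃ a : k, y = a • z) → ∃ a : k, x = a • z := by
    rintro x y z ⟨a, rfl⟩ ⟨b, rfl⟩
    exact ⟨a * b, by rw [smul_smul]⟩
  have n01 : ¬ ∃ a : k, x0 = a • x1 := fun ⟨a, ha⟩ => f.not01 a ha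
  have n10 : ¬ ∃ a : k, x1 = a • x0 := fun ⟨a, ha⟩ => f.not10 a ha
  by_cases hβ : β = 0
  · left; exact ⟨α, by rw [h0, hβ]; simp⟩
  have hx0 : ¬ ∃ a : k, h • x0 = a • x0 := by
    rintro ⟨a, ha⟩
    rw [h0] at ha
    have := (f.ind (α - a) β (by
      have h2 : α • x0 + β • x1 - a • x0 = 0 := by rw [ha, sub_self]
      rw [← h2]; module)).2
    exact hβ this
  right
  by_cases hα : α = 0
  · have e0 : h • x0 = β • x1 := by rw [h0, hα]; simp
    refine ⟨⟨β, e0⟩, ?_⟩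
    rcases (f.star h (Or.inl rfl) (Or.inr rfl) hβ e0).1 with hh | hh
    · exact absurd (trans_line hh ⟨β, e0⟩) n01
    · exact inv_line f.ne0 hh
  exfalso
  by_cases hγ : γ = 0
  · have e1 : h • x1 = δ • x1 := by rw [h1, hγ]; simp
    have hδ : δ ≠ 0 := fun hh => hn1 (by rw [e1, hh, zero_smul])
    rcases (f.star h (Or.inr rfl) (Or.inr rfl) hδ e1).1 with hh | hh
    · exact hx0 (inv_line f.ne0 hh)
    · exact n01 (trans_line hh ⟨δ, e1⟩)
  by_cases hδ : δ = 0
  · have e1 : h • x1 = γ • x0 := by rw [h1, hδ]; simp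
    rcases (f.star h (Or.inr rfl) (Or.inl rfl) hγ e1).2 with hh | hh
    · obtain ⟨a, ha⟩ := inv_line f.ne1 hh
      rw [h0] at ha
      have := (f.ind α (β - a) (by
        have h2 : α • x0 + β • x1 - a • x1 = 0 := by rw [ha, sub_self]
        rw [← h2]; module)).1
      exact hα this
    · exact n10 (trans_line hh ⟨γ, e1⟩)
  -- all coordinates nonzero
  obtain ⟨t, c, d, hc, hd, hcd, ht0, ht1, htl⟩ := f.tor (β * γ / (α * δ))
    (div_ne_zero (mul_ne_zero hβ hγ) (mul_ne_zero hα hδ))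
  have hcd' : c * (α * δ) = d * (β * γ) := by
    rw [hcd]; field_simp
  -- `t h x₀ = (c α / γ) h x₁`
  have e0 : t • h • x0 = (c * α / γ) • h • x1 := by
    rw [h0, h1, smul_add, htl, htl, ht0, ht1, smul_add, smul_smul, smul_smul, smul_smul, smul_smul]
    congr 2
    · field_simp
    · field_simp
      linear_combination -hcd'
  obtain ⟨τ', hτ'⟩ := f.semi h⁻¹
  have e1 : (h⁻¹ * t * h) • x0 = τ' (c * α / γ) • x1 := by
    rw [mul_smul, mul_smul, e0, hτ', inv_smul_smul]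
  have hne : τ' (c * α / γ) ≠ 0 := by
    rw [ne_eq, map_eq_zero]
    exact div_ne_zero (mul_ne_zero hc hα) hγ
  rcases (f.star (h⁻¹ * t * h) (Or.inl rfl) (Or.inr rfl) hne e1).1 with hh | hh
  · exact n01 (trans_line hh ⟨_, e1⟩)
  · obtain ⟨a, ha⟩ := inv_line f.ne0 hh
    have e2 : t • h • x1 = τ a • h • x0 := by
      rw [← hτ, ← ha, mul_smul, mul_smul, smul_inv_smul]
    rw [h0, h1, smul_add, htl, htl, ht0, ht1] at e2
    have h5 := f.ind (γ * c - τ a * α) (δ * d - τ a * β) (by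
      have h2 : γ • c • x0 + δ • d • x1 - τ a • (α • x0 + β • x1) = 0 := by rw [e2, sub_self]
      rw [← h2]; module)
    have h6 : c * (β * γ) = d * (α * δ) := by linear_combination β * h5.1 - α * h5.2
    -- `(c / d)² = 1`
    have h7 : (c + d) ^ 2 = 0 := by
      have h8 : (c ^ 2 - d ^ 2) * (α * δ * (β * γ)) = 0 := by
        linear_combination (c * (β * γ)) * hcd' + (d * (β * γ)) * h6
      have h9 : c ^ 2 - d ^ 2 = 0 := by
        rcases mul_eq_zero.1 h8 with h | h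
        · exact h
        · exact absurd h (mul_ne_zero (mul_ne_zero hα hδ) (mul_ne_zero hβ hγ))
      rw [CharTwo.add_sq]
      rw [CharTwo.sub_eq_add] at h9
      exact h9
    have h8 : c = d := CharTwo.add_eq_zero.1 ((pow_eq_zero_iff two_ne_zero).1 h7)
    rw [h8] at h6
    have h9 : β * γ = α * δ := mul_left_cancel₀ hd h6
    have h10 := f.ind' h δ (-β) (by
      rw [h0, h1]
      have h11 : δ • (α • x0 + β • x1) + -β • (γ • x0 + δ • x1) = (α * δ - β * γ) • x0 := by module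
      rw [h11, h9, sub_self, zero_smul])
    exact hδ h10.1

/-- **the group `Y` fixes `k x₀`** -/
theorem fixed [Finite Y] [CharP k 2] (h : Y) : ∃ a : k, h • x0 = a • x0 := by
  rcases f.swap h with hh | ⟨⟨a, ha⟩, b, hb⟩
  · exact hh
  exfalso
  obtain ⟨τ, hτ⟩ := f.semi h
  -- odd powers exchange the lines
  have hodd : ∀ l : ℕ, (∃ c : k, h ^ (2 * l + 1) • x0 = c • x1) ∧ ∃ c : k, h ^ (2 * l + 1) • x1 = c • x0 := by
    intro l
    induction l with
    | zero => exact ⟨⟨a, by simpa using ha⟩, ⟨b, by simpa using hb⟩⟩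
    | succ l ih =>
      obtain ⟨⟨c, hc⟩, ⟨d, hd⟩⟩ := ih
      have e : h ^ (2 * (l + 1) + 1) = h * h * h ^ (2 * l + 1) := by
        rw [← pow_two, ← pow_add]; congr 1; ring
      constructor
      · refine ⟨τ (τ c * b) * a, ?_⟩
        rw [e, mul_smul, hc, mul_smul, hτ, hb, smul_smul, hτ, ha, smul_smul]
      · refine ⟨τ (τ d * a) * b, ?_⟩
        rw [e, mul_smul, hd, mul_smul, hτ, ha, smul_smul, hτ, hb, smul_smul]
  obtain ⟨n, m, hm, hn⟩ := Nat.exists_eq_two_pow_mul_odd (orderOf_pos h).ne'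
  have h1 : (h ^ m) ^ 2 ^ n = 1 := by
    rw [← pow_mul, mul_comm, ← hn, pow_orderOf_eq_one]
  obtain ⟨y, c, hy⟩ := f.syl (h ^ m) n h1
  obtain ⟨l, rfl⟩ := hm
  obtain ⟨⟨c0, hc0⟩, ⟨c1, hc1⟩⟩ := hodd l
  set g := h ^ (2 * l + 1) with hg
  obtain ⟨τ', hτ'⟩ := f.semi y⁻¹
  obtain ⟨τg, hτg⟩ := f.semi g
  have hy2 : g • y⁻¹ • x0 = τ' c • y⁻¹ • x0 := by
    rw [← hτ', ← hy, mul_smul, mul_smul, inv_smul_smul]
  have hne : y⁻¹ • x0 ≠ 0 := fun hh => f.ne0 ((smul_eq_zero_iff_eq _).1 hh)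
  rcases f.swap y⁻¹ with ⟨d, hd⟩ | ⟨⟨d, hd⟩, -⟩
  · have hd0 : d ≠ 0 := fun hh => hne (by rw [hd, hh, zero_smul])
    rw [hd, hτg, hc0, smul_smul, smul_smul] at hy2
    have h3 := f.ind (-(τ' c * d)) (τg d * c0) (by
      have : (τg d * c0) • x1 - (τ' c * d) • x0 = 0 := by rw [hy2, sub_self]
      rw [← this]; module)
    have h4 : c0 = 0 := by
      rcases mul_eq_zero.1 h3.2 with h | h
      · exact absurd ((map_eq_zero τg).1 h) hd0
      · exact h
    rw [h4, zero_smul] at hc0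
    exact f.ne0 ((smul_eq_zero_iff_eq _).1 hc0)
  · have hd0 : d ≠ 0 := fun hh => hne (by rw [hd, hh, zero_smul])
    rw [hd, hτg, hc1, smul_smul, smul_smul] at hy2
    have h3 := f.ind (τg d * c1) (-(τ' c * d)) (by
      have : (τg d * c1) • x0 - (τ' c * d) • x1 = 0 := by rw [hy2, sub_self]
      rw [← this]; module)
    have h4 : c1 = 0 := by
      rcases mul_eq_zero.1 h3.1 with h | h
      · exact absurd ((map_eq_zero τg).1 h) hd0
      · exact h
    rw [h4, zero_smul] at hc1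
    exact f.ne1 ((smul_eq_zero_iff_eq _).1 hc1)

end Fin2

end Cfsg.Agent.Omega.SQEnd.Exc

end

section


/-!
# The exceptional case of LEMMA NA (bb OMEGA #12947): the abstract contradiction

`H` acts on `M` and `B`, `f : M × M → B` an `H`-form; `θ : H → Aut SL₂(k)`, `σ : SL₂(k) → End M` a quadratic module.
-/

set_option autoImplicit false
set_option linter.unusedSectionVars false

namespace Cfsg.Agent.Omega.SQEnd.Exc

open Cfsg.Agent.Lib.SL2Mat Cfsg.Agent.Lib.AutSL2 Cfsg.Agent.Lib.AutSL2Out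
open Quad (sc)

universe u

/-- the normaliser of `U` in `H` -/
def Yg {H : Type*} [Group H] {k : Type u} [Field k] (θ : H →* MulAut (SLk k)) : Subgroup H where
  carrier := {h | ∀ s, θ h s ∈ upG k ↔ s ∈ upG k}
  one_mem' := fun s => by rw [map_one]; rfl
  mul_mem' := fun {a b} ha hb s => by
    rw [map_mul]
    exact (ha (θ b s)).trans (hb s)
  inv_mem' := fun {a} ha s => by
    have h := ha (θ a⁻¹ s)
    have e : θ a (θ a⁻¹ s) = s := by
      have : (θ a * θ a⁻¹) s = s := by rw [← map_mul, mul_inv_cancel, map_one]; rfl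
      exact this
    rw [e] at h
    exact h.symm

section aut

variable {H : Type*} [Group H] {k : Type u} [Field k] [CharP k 2] [Finite k] {θ : H →* MulAut (SLk k)}

theorem mem_Yg_of {h : H} (hh : ∀ x, ∃ x', θ h (up x) = up x') : h ∈ Yg θ := by
  intro s
  constructor
  · choose g hg using hh
    have hinj : Function.Injective g := by
      intro x y hxy
      have h1 : θ h (up x) = θ h (up y) := by rw [hg, hg, hxy]
      exact up_inj ((θ h).injective h1)
    have hsurj := Finite.surjective_of_injective hinj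
    rintro ⟨x', hx'⟩
    obtain ⟨x, rfl⟩ := hsurj x'
    exact ⟨x, (θ h).injective (by rw [hg, hx'])⟩
  · rintro ⟨x, rfl⟩
    obtain ⟨x', hx'⟩ := hh x
    exact ⟨x', hx'.symm⟩

/-- the automorphisms normalising `U` -/
theorem exists_tri {h : H} (hh : h ∈ Yg θ) : ∃ (s : SLk k) (τ : k ≃+* k), ent s 1 0 = 0 ∧
    ∀ x, θ h x = s * fieldAut τ x * s⁻¹ := by
  obtain ⟨s, τ, hs⟩ := aut_eq (θ h)
  refine ⟨s, τ, ?_, hs⟩
  obtain ⟨x', hx'⟩ := (hh (up 1)).2 ⟨1, rfl⟩
  rw [hs, fieldAut_up, map_one, eq_mul_inv_iff_mul_eq] at hx'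
  exact ent_eq_zero one_ne_zero hx'.symm

theorem fieldAut_dg (τ : k ≃+* k) (a : k) (ha : a ≠ 0) :
    fieldAut τ (dg a ha) = dg (τ a) ((map_ne_zero τ).2 ha) := by
  refine ext_ent ?_ ?_ ?_ ?_ <;> simp

end aut

section core

variable {H : Type*} [Group H] [Finite H] {M B : Type*} [AddCommGroup M] [AddCommGroup B] [DistribMulAction H M]
  [DistribMulAction H B] {k : Type u} [Field k] {F : Type*} [Field F] {N : Type*} [AddCommGroup N] [Module F N]

/-- the exceptional configuration -/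
structure Core (θ : H →* MulAut (SLk k)) (σ : SLk k →* AddMonoid.End M) (f : M →+ M →+ B) (e D P : AddSubgroup M)
    (ω : M →+ F) (t : Fˣ → H) (n : k → N) (HV : Subgroup H) : Prop extends Quad σ where
  comp : ∀ (h : H) s m, h • σ s m = σ (θ h s) (h • m)
  lift : ∀ s, ∃ g : H, (∀ m : M, g • m = σ s m) ∧ (∀ β : B, g • β = β) ∧ ∀ x, θ g x = s * x * s⁻¹
  f_act : ∀ (h : H) a c, f (h • a) (h • c) = h • f a c
  f_symm : ∀ a c, f a c = f c a
  eE : e ≤ EE σ
  eD : e ≤ D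
  DP : D ≤ P
  ND : ∀ d ∈ D, ∀ x, NN σ x d ∈ e
  exD : ∃ d ∈ D, d ∉ EE σ
  card_e : Nat.card e = Nat.card k
  NP : ∀ m, m ∉ P → NN σ 1 m ∉ D
  ω_ker : ∀ m, ω m = 0 ↔ m ∈ P
  ω_ne : ∃ m, ω m ≠ 0
  ω_t : ∀ (a : Fˣ) m, ω (t a • m) = (a : F) ^ 2 * ω m
  tD : ∀ a, ∀ d ∈ D, t a • d - d ∈ e
  fP : ∀ m ∈ P, ∀ ε ∈ e, f m ε = 0
  f_surj : ∀ ε ∈ e, ε ≠ 0 → ∀ β, ∃ m, f m ε = β
  n_inj : Function.Injective n
  n_add : ∀ x y, n (x + y) = n x + n y
  t_up : ∀ (a : Fˣ) x, ∃ x', θ (t a) (up x) = up x' ∧ n x' = (a : F)⁻¹ • n x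
  t_mul : ∀ a a', ∀ y ∈ EE σ, t a • t a' • y = t (a * a') • y
  card_F : Nat.card F = Nat.card k
  exF : ∃ a : Fˣ, a ≠ 1
  g0 : ∃ g ∈ Yg θ, (∀ ε ∈ e, g • ε ∈ e → ε = 0) ∧ ∀ y ∈ EE σ, ∃ ε ∈ e, ∃ ε' ∈ e, y = ε + g • ε'
  HVe : ∀ h ∈ HV, ∀ ε ∈ e, h • ε ∈ e
  syl1 : ∀ (β : H) (n : ℕ), β ^ 2 ^ n = 1 → ∃ y : H, y * β * y⁻¹ ∈ HV
  syl2 : ∀ β ∈ Yg θ, ∀ (n : ℕ), β ^ 2 ^ n = 1 → ∃ y ∈ Yg θ, y * β * y⁻¹ ∈ HV
  tors : ∀ j ∈ HV, θ j = 1 → (∀ β : B, j • β = β) → (∀ ε ∈ e, j • ε = ε) →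
    ∃ c : H, θ c = 1 ∧ (∀ m : M, c • m = j • m) ∧ ∀ a, ∃ x,
      (∀ s, θ (c * t a * c⁻¹ * (t a)⁻¹) s = up x * s * (up x)⁻¹) ∧
      ∀ m : M, (c * t a * c⁻¹ * (t a)⁻¹) • m = σ (up x) m

namespace Core

variable {θ : H →* MulAut (SLk k)} {σ : SLk k →* AddMonoid.End M} {f : M →+ M →+ B} {e D P : AddSubgroup M}
  {ω : M →+ F} {t : Fˣ → H} {n : k → N} {HV : Subgroup H} (c : Core θ σ f e D P ω t n HV)
include c

theorem f_inv (s : SLk k) (a b : M) : f (σ s a) (σ s b) = f a b := by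
  obtain ⟨g, hg, hg', -⟩ := c.lift s
  rw [← hg, ← hg, c.f_act, hg']

variable [CharP k 2] [Finite k]

/-- `f(E, E) = 0` -/
theorem f_EE {x y : M} (hx : x ∈ EE σ) (hy : y ∈ EE σ) : f x y = 0 := by
  have h1 : x = σ (up 1) (σ (wv k) x) - σ (wv k) x := (c.toQuad.sc_one hx).symm
  have h2 := c.f_inv (up 1) (σ (wv k) x) y
  rw [hy 1] at h2
  rw [h1, map_sub, AddMonoidHom.sub_apply, h2, sub_self]

theorem smul_EE {h : H} (hh : h ∈ Yg θ) {y : M} (hy : y ∈ EE σ) : h • y ∈ EE σ := by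
  intro x
  obtain ⟨x', hx'⟩ := ((Yg θ).inv_mem hh (up x)).2 ⟨x, rfl⟩
  have e : θ h (up x') = up x := by
    rw [hx']
    have : (θ h * θ h⁻¹) (up x) = up x := by rw [← map_mul, mul_inv_cancel, map_one]; rfl
    exact this
  rw [← e, ← c.comp, hy]

/-- semilinearity -/
theorem semi {h : H} (hh : h ∈ Yg θ) : ∃ τ : k ≃+* k, ∀ (a : k), ∀ y ∈ EE σ, h • sc σ a y = sc σ (τ a) (h • y) := by
  obtain ⟨s, τ, hs, hx⟩ := exists_tri hh
  refine ⟨τ, fun a y hy => ?_⟩
  by_cases ha : a = 0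
  · subst ha
    rw [map_zero, c.toQuad.sc_zero, c.toQuad.sc_zero, smul_zero]
  have ha' : τ a ≠ 0 := (map_ne_zero τ).2 ha
  obtain ⟨y', hy'⟩ := tri_dg hs (τ a) ha'
  rw [c.toQuad.sc_eq_dg a ha hy, c.toQuad.sc_eq_dg (τ a) ha' (c.smul_EE hh hy), c.comp, hx, fieldAut_dg, hy', σ_mul]
  exact c.toQuad.dg_mem _ _ (c.smul_EE hh hy) _

theorem t_mem (a : Fˣ) : t a ∈ Yg θ := mem_Yg_of fun x => by
  obtain ⟨x', hx', -⟩ := c.t_up a x
  exact ⟨x', hx'⟩

/-- the torus acts linearly: `θ(t a)` is inner -/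
theorem t_inner [CharP F 2] (a : Fˣ) : ∃ s : SLk k, ent s 1 0 = 0 ∧ ∀ x, θ (t a) x = s * x * s⁻¹ := by
  obtain ⟨s, τ, hs, hx⟩ := exists_tri (c.t_mem a)
  refine ⟨s, hs, ?_⟩
  have hup : ∀ x : k, n ((ent s 0 0) ^ 2 * τ x) = (a : F)⁻¹ • n x := by
    intro x
    obtain ⟨x', hx', hn⟩ := c.t_up a x
    rw [hx, fieldAut_up, tri_up hs] at hx'
    rw [up_inj hx', hn]
  set p := (ent s 0 0) ^ 2 with hp
  have hp0 : p ≠ 0 := pow_ne_zero _ (ent00_ne hs)
  have hτ : ∀ x, τ x = x := by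
    by_cases ha : (a : F) = 1
    · have h1 : ∀ x, p * τ x = x := fun x => c.n_inj (by rw [hup, ha, inv_one, one_smul])
      have h2 := h1 1
      rw [map_one, mul_one] at h2
      intro x
      have h3 := h1 x
      rwa [h2, one_mul] at h3
    · have hb : 1 + (a : F)⁻¹ ≠ 0 := by
        intro h
        apply ha
        have : (a : F)⁻¹ = 1 := by
          have h2 := CharTwo.add_eq_zero.1 h
          exact h2.symm
        rw [inv_eq_one] at this
        exact this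
      obtain ⟨s', τ', hs', hx'⟩ := exists_tri (c.t_mem (Units.mk0 _ hb)⁻¹)
      have hup' : ∀ x : k, (ent s' 0 0) ^ 2 * τ' x = x + p * τ x := by
        intro x
        apply c.n_inj
        obtain ⟨y, hy, hn⟩ := c.t_up (Units.mk0 _ hb)⁻¹ x
        rw [hx', fieldAut_up, tri_up hs'] at hy
        rw [up_inj hy, hn, c.n_add, hup, Units.val_inv_eq_inv_val, inv_inv, Units.val_mk0, add_smul, one_smul]
      set p' := (ent s' 0 0) ^ 2
      intro x
      have h1 := hup' 1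
      have h2 := hup' x
      have h3 := hup' (x * x)
      rw [map_one, map_one, mul_one, mul_one] at h1
      rw [map_mul, map_mul] at h3
      have h4 : p * (x + τ x) ^ 2 = 0 := by
        rw [CharTwo.add_sq]
        have e1 : (x + p * τ x) ^ 2 = (1 + p) * (x * x + p * (τ x * τ x)) := by
          rw [← h2, ← h3, ← h1]; ring
        have two : (2 : k) = 0 := CharTwo.two_eq_zero
        linear_combination (-1) * e1 + (p * x * τ x) * two
      rcases mul_eq_zero.1 h4 with h | h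
      · exact absurd h hp0
      · exact (CharTwo.add_eq_zero.1 ((pow_eq_zero_iff two_ne_zero).1 h)).symm
  intro x
  have h0 : fieldAut τ x = x := by
    refine ext_ent ?_ ?_ ?_ ?_ <;> rw [fieldAut_ent, hτ]
  rw [hx, h0]

/-- `θ(t a)(up x) = up (c x)` and `t a` is `k`-linear on `E` -/
theorem t_lin [CharP F 2] (a : Fˣ) : ∃ r : k, r ≠ 0 ∧ (∀ x, θ (t a) (up x) = up (r * x)) ∧
    ∀ (b : k), ∀ y ∈ EE σ, t a • sc σ b y = sc σ b (t a • y) := by
  obtain ⟨s, hs, hx⟩ := c.t_inner a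
  refine ⟨(ent s 0 0) ^ 2, pow_ne_zero _ (ent00_ne hs), fun x => by rw [hx, tri_up hs], fun b y hy => ?_⟩
  by_cases hb : b = 0
  · subst hb
    rw [c.toQuad.sc_zero, c.toQuad.sc_zero, smul_zero]
  obtain ⟨y', hy'⟩ := tri_dg hs b hb
  rw [c.toQuad.sc_eq_dg b hb hy, c.toQuad.sc_eq_dg b hb (c.smul_EE (c.t_mem a) hy), c.comp, hx, hy', σ_mul]
  exact c.toQuad.dg_mem _ _ (c.smul_EE (c.t_mem a) hy) _

/-- `h N_x(m) = N_x'(h m)` -/
theorem smul_NN {h : H} {x x' : k} (hx : θ h (up x) = up x') (m : M) : h • NN σ x m = NN σ x' (h • m) := by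
  unfold NN
  rw [smul_sub, c.comp, hx]

/-- the vector `x₀` with `e = k x₀` -/
theorem exists_x0 [CharP F 2] : ∃ x0 ∈ e, x0 ≠ 0 ∧ (∀ ε ∈ e, ∃ a, ε = sc σ a x0) ∧ (∀ a, sc σ a x0 ∈ e) ∧
    (∃ d ∈ D, x0 = NN σ 1 d) ∧
    ∀ (a : Fˣ) (r : k), (∀ x, θ (t a) (up x) = up (r * x)) → t a • x0 = sc σ r x0 := by
  obtain ⟨d, hd, hdE⟩ := c.exD
  have hx0 : NN σ 1 d ≠ 0 := fun h => hdE (c.toQuad.mem_of_NN one_ne_zero h)
  have hmem : NN σ 1 d ∈ EE σ := c.toQuad.NN_mem _ _
  have hsc : ∀ a, sc σ a (NN σ 1 d) ∈ e := fun a => by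
    rw [← c.toQuad.NN_eq_sc]; exact c.ND d hd a
  refine ⟨NN σ 1 d, c.ND d hd 1, hx0, ?_, hsc, ⟨d, hd, rfl⟩, fun a r hr => ?_⟩
  · -- counting
    have hfin : Finite e := Nat.finite_of_card_ne_zero (by rw [c.card_e]; exact Nat.card_ne_zero.2 ⟨⟨0⟩, inferInstance⟩)
    let g : k → e := fun a => ⟨sc σ a (NN σ 1 d), hsc a⟩
    have hinj : Function.Injective g := by
      intro a b hab
      have h1 : sc σ a (NN σ 1 d) = sc σ b (NN σ 1 d) := congrArg Subtype.val hab
      by_contra hne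
      have h2 : sc σ (a - b) (NN σ 1 d) = 0 := by
        have h3 := c.toQuad.sc_add (a - b) b (NN σ 1 d)
        rw [sub_add_cancel, h1] at h3
        exact (right_eq_add.1 h3)
      have h3 := c.toQuad.sc_mul (a - b)⁻¹ (a - b) hmem
      rw [inv_mul_cancel₀ (sub_ne_zero.2 hne), c.toQuad.sc_one hmem, h2] at h3
      apply hx0
      rw [h3]
      have h4 := c.toQuad.sc_add_right (a - b)⁻¹ 0 0
      rw [add_zero] at h4
      exact left_eq_add.1 h4
    have hbij := (Function.Injective.bijective_of_nat_card_le hinj (le_of_eq c.card_e))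
    intro ε hε
    obtain ⟨a, ha⟩ := hbij.2 ⟨ε, hε⟩
    exact ⟨a, (congrArg Subtype.val ha).symm⟩
  · rw [c.smul_NN (x' := r) (by rw [hr, mul_one])]
    have h1 : t a • d = d + (t a • d - d) := by abel
    rw [h1, NN_add_right, NN_E (c.eE (c.tD a d hd)), add_zero, c.toQuad.NN_eq_sc]

/-- `t a` is not a scalar modulo `e` -/
theorem t_ne [CharP F 2] {a : Fˣ} {r : k} (hr0 : r ≠ 0) (hr : ∀ x, θ (t a) (up x) = up (r * x))
    (hE : ∀ y ∈ EE σ, t a • y - sc σ r y ∈ e) (hsc : ∀ ε ∈ e, ∀ b : k, sc σ b ε ∈ e) : a = 1 := by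
  obtain ⟨m, hm⟩ := c.ω_ne
  have h1 : NN σ 1 (t a • m) = sc σ r⁻¹ (t a • NN σ 1 m) := by
    rw [← c.smul_NN (x := r⁻¹) (x' := 1) (by rw [hr, mul_inv_cancel₀ hr0]), c.toQuad.NN_eq_sc]
    obtain ⟨r', hr', h2, h3⟩ := c.t_lin a
    exact h3 _ _ (c.toQuad.NN_mem _ _)
  have h2 : NN σ 1 (t a • m - m) ∈ e := by
    rw [NN_sub_right, h1]
    have h3 := hE _ (c.toQuad.NN_mem 1 m)
    have h4 : t a • NN σ 1 m = (t a • NN σ 1 m - sc σ r (NN σ 1 m)) + sc σ r (NN σ 1 m) := by abel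
    rw [h4, c.toQuad.sc_add_right, ← c.toQuad.sc_mul r⁻¹ r (c.toQuad.NN_mem 1 m), inv_mul_cancel₀ hr0,
      c.toQuad.sc_one (c.toQuad.NN_mem 1 m), add_sub_cancel_right]
    exact hsc _ h3 _
  have h3 : t a • m - m ∈ P := by
    by_contra h
    exact c.NP _ h (c.eD h2)
  have h4 := (c.ω_ker _).2 h3
  rw [map_sub, c.ω_t, sub_eq_zero] at h4
  have h5 : (a : F) ^ 2 = 1 := mul_right_cancel₀ hm (h4.trans (one_mul _).symm)
  have h6 : ((a : F) + 1) ^ 2 = 0 := by
    rw [CharTwo.add_sq, h5, one_pow, CharTwo.add_self_eq_zero]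
  have h7 := CharTwo.add_eq_zero.1 ((pow_eq_zero_iff two_ne_zero).1 h6)
  exact Units.ext h7

theorem smul_wv {j : H} (hj : θ j = 1) (m : M) (s : SLk k) : j • σ s m = σ s (j • m) := by
  rw [c.comp, hj]; rfl

theorem ker_Yg {j : H} (hj : θ j = 1) : j ∈ Yg θ := fun s => by rw [hj]; rfl

theorem ker_lin {j : H} (hj : θ j = 1) (a : k) {y : M} (hy : y ∈ EE σ) : j • sc σ a y = sc σ a (j • y) := by
  by_cases ha : a = 0
  · subst ha
    rw [c.toQuad.sc_zero, c.toQuad.sc_zero, smul_zero]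
  rw [c.toQuad.sc_eq_dg a ha hy, c.toQuad.sc_eq_dg a ha (c.smul_EE (c.ker_Yg hj) hy), c.smul_wv hj]

/-- the 2-elements of `J` act trivially -/
theorem J_two [CharP F 2] {x0 x1 : M} (hx0 : x0 ∈ e) (hx1 : x1 ∈ EE σ) (he : ∀ ε ∈ e, ∃ a, ε = sc σ a x0)
    (he' : ∀ a, sc σ a x0 ∈ e)
    (hd : ∃ d ∈ D, x0 = NN σ 1 d) (gen : ∀ y ∈ EE σ, ∃ a b, y = sc σ a x0 + sc σ b x1)
    (ind : ∀ a b, sc σ a x0 + sc σ b x1 = 0 → a = 0 ∧ b = 0) {a0 : Fˣ} {r κ : k} (hne : r ≠ κ)
    (h0 : t a0 • x0 = sc σ r x0) (h1 : t a0 • x1 = sc σ κ x1) {j : H} (hj : θ j = 1) {l : ℕ} (hl : j ^ 2 ^ l = 1)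
    (m : M) : j • m = m := by
  obtain ⟨y, hy⟩ := c.syl1 j l hl
  -- it is enough to prove it for the conjugate
  suffices h : ∀ j : H, θ j = 1 → j ^ 2 ^ l = 1 → j ∈ HV → ∀ m : M, j • m = m by
    have h2 := h (y * j * y⁻¹) (by rw [map_mul, map_mul, hj, mul_one, ← map_mul, mul_inv_cancel, map_one])
      (by rw [conj_pow, hl, mul_one, mul_inv_cancel]) hy (y • m)
    rw [← mul_smul, inv_mul_cancel_right, mul_smul] at h2
    exact smul_left_cancel y h2
  clear hy y m hl hj j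
  intro j hj hl hHV
  let _ := c.toQuad.modE
  let X0 : EE σ := ⟨x0, c.eE hx0⟩
  let X1 : EE σ := ⟨x1, hx1⟩
  let A : EE σ → EE σ := fun y => ⟨j • (y : M), c.smul_EE (c.ker_Yg hj) y.2⟩
  have Aadd : ∀ y z, A (y + z) = A y + A z := fun y z => Subtype.ext (smul_add j (y : M) (z : M))
  have Asm : ∀ (b : k) (y : EE σ), A (b • y) = b • A y := fun b y => Subtype.ext (c.ker_lin hj b y.2)
  have Gen : ∀ y : EE σ, ∃ a b : k, y = a • X0 + b • X1 := by
    intro y
    obtain ⟨a, b, h⟩ := gen y y.2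
    exact ⟨a, b, Subtype.ext h⟩
  have Ind : ∀ a b : k, a • X0 + b • X1 = 0 → a = 0 ∧ b = 0 := fun a b h => ind a b (congrArg Subtype.val h)
  have hiter : ∀ q : ℕ, ∀ y : EE σ, ((A^[q] y : EE σ) : M) = j ^ q • (y : M) := by
    intro q
    induction q with
    | zero => intro y; simp
    | succ q ih =>
      intro y
      rw [Function.iterate_succ_apply', pow_succ', mul_smul, ← ih]
  have hA1 : ∀ y : EE σ, A^[2 ^ l] y = y := fun y => Subtype.ext (by rw [hiter, hl, one_smul])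
  -- on `x₀`
  obtain ⟨ξ, hξ⟩ : ∃ ξ : k, A X0 = ξ • X0 := by
    obtain ⟨a, ha⟩ := he _ (c.HVe j hHV x0 hx0)
    exact ⟨a, Subtype.ext ha⟩
  have hone : ∀ ξ : k, ξ ^ 2 ^ l = 1 → ξ = 1 := by
    intro ξ h
    have h2 : (ξ + 1) ^ 2 ^ l = 0 := by
      rw [add_pow_char_pow, h, one_pow, CharTwo.add_self_eq_zero]
    exact CharTwo.add_eq_zero.1 ((pow_eq_zero_iff (by positivity)).1 h2)
  have hξ1 : ξ = 1 := by
    apply hone
    have h2 : ∀ q : ℕ, A^[q] X0 = ξ ^ q • X0 := by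
      intro q
      induction q with
      | zero => simp
      | succ q ih => rw [Function.iterate_succ_apply', ih, Asm, hξ, smul_smul, pow_succ]
    have h3 := h2 (2 ^ l)
    rw [hA1] at h3
    have h4 := Ind (ξ ^ 2 ^ l - 1) 0 (by rw [sub_smul, ← h3]; simp)
    exact sub_eq_zero.1 h4.1
  rw [hξ1, one_smul] at hξ
  obtain ⟨ζ, η, hη⟩ := Gen (A X1)
  have hη1 : η = 1 := by
    apply hone
    have h2 : ∀ q : ℕ, ∃ b : k, A^[q] X1 = b • X0 + η ^ q • X1 := by
      intro q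
      induction q with
      | zero => exact ⟨0, by simp⟩
      | succ q ih =>
        obtain ⟨b, hb⟩ := ih
        refine ⟨b + η ^ q * ζ, ?_⟩
        rw [Function.iterate_succ_apply', hb, Aadd, Asm, Asm, hξ, hη]
        module
    obtain ⟨b, h3⟩ := h2 (2 ^ l)
    rw [hA1] at h3
    have h4 := Ind b (η ^ 2 ^ l - 1) (by rw [sub_smul, one_smul, ← add_sub_assoc, ← h3, sub_self])
    exact sub_eq_zero.1 h4.2
  rw [hη1, one_smul] at hη
  have je : ∀ ε ∈ e, j • ε = ε := by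
    intro ε hε
    obtain ⟨a, rfl⟩ := he ε hε
    rw [c.ker_lin hj a (c.eE hx0)]
    congr 1
    exact congrArg Subtype.val hξ
  have jE : ∀ y ∈ EE σ, j • y - y ∈ e := by
    intro y hy
    obtain ⟨a, b, h⟩ := Gen ⟨y, hy⟩
    have h2 : A ⟨y, hy⟩ - ⟨y, hy⟩ = (b * ζ) • X0 := by
      rw [h, Aadd, Asm, Asm, hξ, hη]; module
    have h3 : j • y - y = sc σ (b * ζ) x0 := congrArg Subtype.val h2
    rw [h3]
    exact he' _
  -- trivial on `B`
  have hw0 : ∀ ε ∈ e, f ε (σ (wv k) x0) = 0 := by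
    intro ε hε
    obtain ⟨d, hdD, hd1⟩ := hd
    obtain ⟨z, hz, h⟩ := c.toQuad.exists_add d
    have h2 : σ (wv k) x0 = d - z := by rw [hd1, eq_sub_iff_add_eq, add_comm]; exact h.symm
    rw [h2, map_sub, c.f_symm ε d, c.fP d (c.DP hdD) ε hε, c.f_EE (c.eE hε) hz, sub_zero]
  have hx0ne : x0 ≠ 0 := fun h => by
    have := (Ind 1 0 (by
      have h2 : X0 = 0 := Subtype.ext h
      rw [h2]; simp)).1
    exact one_ne_zero this
  have jB : ∀ β : B, j • β = β := by
    intro β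
    obtain ⟨m, rfl⟩ := c.f_surj x0 hx0 hx0ne β
    obtain ⟨z, hz, h⟩ := c.toQuad.exists_add m
    have hy := c.toQuad.NN_mem 1 m
    set y := NN σ 1 m
    have e1 : f m x0 = f y (σ (wv k) x0) := by
      rw [h, map_add, AddMonoidHom.add_apply, c.f_EE hz (c.eE hx0), zero_add, ← c.f_inv (wv k), c.toQuad.wv_wv]
    rw [e1, ← c.f_act, c.smul_wv hj, je x0 hx0]
    have e2 : j • y = y + (j • y - y) := by abel
    rw [e2, map_add, AddMonoidHom.add_apply, hw0 _ (jE y hy), add_zero]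
  obtain ⟨c', hc1, hc2, hc3⟩ := c.tors j hHV hj jB je
  obtain ⟨x, hx1', hx2⟩ := hc3 a0
  have hx0' : x = 0 := by
    apply eq_zero_of_conj
    intro s
    rw [← hx1', map_mul, map_mul, map_mul, hc1, one_mul, map_inv, map_inv, hc1, inv_one, mul_one, mul_inv_cancel]
    rfl
  have hcom : ∀ m : M, j • t a0 • m = t a0 • j • m := by
    intro m
    have h2 := hx2 (t a0 • c' • m)
    rw [hx0', up_zero, σ_one] at h2
    rw [← hc2, ← hc2, ← h2, ← mul_smul, ← mul_smul, ← mul_smul]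
    congr 1
    group
  have hζ : ζ = 0 := by
    have h2 := hcom x1
    have h3 : j • x1 = sc σ ζ x0 + x1 := congrArg Subtype.val hη
    obtain ⟨r', hr', -, hlin⟩ := c.t_lin a0
    rw [h1, c.ker_lin hj _ hx1, h3, smul_add, hlin _ _ (c.eE hx0), h0, h1] at h2
    have h4 : κ • (ζ • X0 + X1) = ζ • r • X0 + κ • X1 := Subtype.ext h2
    have h5 := (Ind (ζ * (κ - r)) 0 (by
      have : κ • (ζ • X0 + X1) - (ζ • r • X0 + κ • X1) = 0 := by rw [h4, sub_self]
      rw [← this]; module)).1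
    rcases mul_eq_zero.1 h5 with h | h
    · exact h
    · exact absurd (sub_eq_zero.1 h).symm hne
  have jE' : ∀ y ∈ EE σ, j • y = y := by
    intro y hy
    obtain ⟨a, b, h⟩ := Gen ⟨y, hy⟩
    have h2 : A ⟨y, hy⟩ = ⟨y, hy⟩ := by
      rw [h, Aadd, Asm, Asm, hξ, hη, hζ]; module
    exact congrArg Subtype.val h2
  intro m
  obtain ⟨z, hz, h⟩ := c.toQuad.exists_add m
  rw [h, smul_add, jE' z hz, c.smul_wv hj, jE' _ (c.toQuad.NN_mem 1 m)]

/-- the action of `Y` on `E` -/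
@[reducible] def actE : DistribMulAction (Yg θ) (EE σ) where
  smul h y := ⟨(h : H) • (y : M), c.smul_EE h.2 y.2⟩
  one_smul y := Subtype.ext (one_smul H (y : M))
  mul_smul h h' y := Subtype.ext (mul_smul (h : H) (h' : H) (y : M))
  smul_zero h := Subtype.ext (smul_zero (h : H))
  smul_add h y y' := Subtype.ext (smul_add (h : H) (y : M) (y' : M))

/-- **the exceptional configuration does not exist** -/
theorem false [CharP F 2] : False := by
  let _ := c.toQuad.modE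
  let _ := c.actE
  obtain ⟨x0', hx0e, hx0ne, he, he', hd, hx0t⟩ := c.exists_x0
  let x0 : EE σ := ⟨x0', c.eE hx0e⟩
  let T : Fˣ → Yg θ := fun a => ⟨t a, c.t_mem a⟩
  choose r hr0 hrup hrlin using c.t_lin
  have Tlin : ∀ (a : Fˣ) (b : k) (y : EE σ), T a • b • y = b • T a • y := fun a b y => Subtype.ext (hrlin a b y y.2)
  have Tx0 : ∀ a : Fˣ, T a • x0 = r a • x0 := fun a => Subtype.ext (hx0t a (r a) (hrup a))
  have Tmul : ∀ (a b : Fˣ) (y : EE σ), T a • T b • y = T (a * b) • y := fun a b y => Subtype.ext (c.t_mul a b y y.2)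
  obtain ⟨g, hgY, hg1, hg2⟩ := c.g0
  let g0 : Yg θ := ⟨g, hgY⟩
  obtain ⟨τ, hτ⟩ := c.semi hgY
  have g0semi : ∀ (b : k) (y : EE σ), g0 • b • y = τ b • g0 • y := fun b y => Subtype.ext (hτ b y y.2)
  obtain ⟨ρ, hρ⟩ : ∃ ρ : EE σ, ρ = g0 • x0 := ⟨_, rfl⟩
  have mem_e : ∀ y : EE σ, (y : M) ∈ e ↔ ∃ a : k, y = a • x0 := by
    intro y
    constructor
    · intro h
      obtain ⟨a, ha⟩ := he _ h
      exact ⟨a, Subtype.ext ha⟩
    · rintro ⟨a, rfl⟩
      exact he' a
  have gρ : ∀ y : EE σ, ∃ a b : k, y = a • x0 + b • ρ := by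
    intro y
    obtain ⟨ε, hε, ε', hε', h⟩ := hg2 y y.2
    obtain ⟨a, ha⟩ := (mem_e ⟨ε, c.eE hε⟩).1 hε
    obtain ⟨b, hb⟩ := (mem_e ⟨ε', c.eE hε'⟩).1 hε'
    refine ⟨a, τ b, ?_⟩
    rw [← ha, hρ, ← g0semi, ← hb]
    exact Subtype.ext h
  have hρe : ∀ a : k, ρ ≠ a • x0 := by
    intro a ha
    apply hx0ne
    apply hg1 x0' hx0e
    have h2 : (ρ : M) ∈ e := (mem_e ρ).2 ⟨a, ha⟩
    rw [hρ] at h2
    exact h2
  have hx0' : x0 ≠ 0 := fun h => hx0ne (congrArg Subtype.val h)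
  have iρ : ∀ a b : k, a • x0 + b • ρ = 0 → a = 0 ∧ b = 0 := by
    intro a b h
    have hb : b = 0 := by
      by_contra hb
      apply hρe (-(b⁻¹ * a))
      have h2 := congrArg (fun y => b⁻¹ • y) h
      simp only [smul_add, smul_smul, inv_mul_cancel₀ hb, one_smul, smul_zero] at h2
      rw [neg_smul, eq_neg_iff_add_eq_zero, add_comm]
      exact h2
    rw [hb, zero_smul, add_zero] at h
    exact ⟨(smul_eq_zero.1 h).resolve_right hx0', hb⟩
  obtain ⟨a0, ha0⟩ := c.exF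
  obtain ⟨ν, κ, hκ⟩ := gρ (T a0 • ρ)
  -- a scalar modulo `e` is trivial
  have tne : ∀ (a : Fˣ), (∀ y : EE σ, ∃ b : k, T a • y - r a • y = b • x0) → a = 1 := by
    intro a h
    refine c.t_ne (hr0 a) (hrup a) (fun y hy => ?_) (fun ε hε b => ?_)
    · obtain ⟨b, hb⟩ := h ⟨y, hy⟩
      exact (mem_e _).2 ⟨b, hb⟩
    · obtain ⟨a, ha⟩ := (mem_e ⟨ε, c.eE hε⟩).1 hε
      refine (mem_e (b • ⟨ε, c.eE hε⟩)).2 ⟨b * a, ?_⟩
      rw [ha, smul_smul]
  have hne : r a0 ≠ κ := by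
    intro h
    apply ha0
    apply tne
    intro y
    obtain ⟨a, b, rfl⟩ := gρ y
    refine ⟨b * ν, ?_⟩
    rw [smul_add, Tlin, Tlin, Tx0, hκ, h]
    module
  have hsub : κ - r a0 ≠ 0 := sub_ne_zero.2 hne.symm
  obtain ⟨x1, hx1⟩ : ∃ x1 : EE σ, x1 = ρ + ((κ - r a0)⁻¹ * ν) • x0 := ⟨_, rfl⟩
  have hTx1 : T a0 • x1 = κ • x1 := by
    rw [hx1, smul_add, Tlin, Tx0, hκ]
    have h2 : ν = (κ - r a0) * ((κ - r a0)⁻¹ * ν) := by rw [← mul_assoc, mul_inv_cancel₀ hsub, one_mul]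
    generalize (κ - r a0)⁻¹ * ν = q at h2 ⊢
    rw [h2]
    module
  have gen : ∀ y : EE σ, ∃ a b : k, y = a • x0 + b • x1 := by
    intro y
    obtain ⟨a, b, h⟩ := gρ y
    refine ⟨a - b * ((κ - r a0)⁻¹ * ν), b, ?_⟩
    rw [h, hx1]; module
  have ind : ∀ a b : k, a • x0 + b • x1 = 0 → a = 0 ∧ b = 0 := by
    intro a b h
    rw [hx1] at h
    have h2 := iρ (a + b * ((κ - r a0)⁻¹ * ν)) b (by rw [← h]; module)
    refine ⟨?_, h2.2⟩
    have h3 := h2.1
    rw [h2.2, zero_mul, add_zero] at h3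
    exact h3
  have genr : ∀ y : EE σ, ∃ a b : k, y = a • x1 + b • x0 := fun y => by
    obtain ⟨a, b, h⟩ := gen y
    exact ⟨b, a, by rw [h, add_comm]⟩
  have indr : ∀ a b : k, a • x1 + b • x0 = 0 → a = 0 ∧ b = 0 := fun a b h =>
    (ind b a (by rw [add_comm]; exact h)).symm
  have hx1t : ∀ a : Fˣ, ∃ q : k, T a • x1 = q • x1 := by
    intro a
    refine eigen_zero genr indr (A := fun y => T a0 • y) (fun x y => smul_add _ x y) (fun b y => Tlin a0 b y)
      hTx1 (Tx0 a0) hne.symm ?_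
    change T a0 • T a • x1 = κ • T a • x1
    rw [Tmul, mul_comm, ← Tmul, hTx1, Tlin]
  choose K hK using hx1t
  have hx1ne : x1 ≠ 0 := fun h => by
    have := (ind 0 1 (by rw [h]; simp)).2
    exact one_ne_zero this
  have hK0 : ∀ a, K a ≠ 0 := by
    intro a h
    have h2 := hK a
    rw [h, zero_smul, smul_eq_zero_iff_eq] at h2
    exact hx1ne h2
  have smul_inj0 : ∀ {a b : k}, a • x0 = b • x0 → a = b := by
    intro a b h
    have h2 := (ind (a - b) 0 (by rw [sub_smul, h, sub_self]; simp)).1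
    exact sub_eq_zero.1 h2
  have smul_inj1 : ∀ {a b : k}, a • x1 = b • x1 → a = b := by
    intro a b h
    have h2 := (ind 0 (a - b) (by rw [sub_smul, h, sub_self]; simp)).2
    exact sub_eq_zero.1 h2
  have hKne : ∀ a, a ≠ 1 → K a ≠ r a := by
    intro a ha h
    apply ha
    apply tne
    intro y
    obtain ⟨p, q, rfl⟩ := gen y
    refine ⟨0, ?_⟩
    rw [smul_add, Tlin, Tlin, Tx0, hK, h]
    module
  have hrmul : ∀ a b, r (a * b) = r a * r b := by
    intro a b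
    apply smul_inj0
    rw [← Tx0, ← Tmul, Tx0, Tlin, Tx0, smul_smul, mul_comm]
  have hKmul : ∀ a b, K (a * b) = K a * K b := by
    intro a b
    apply smul_inj1
    rw [← hK, ← Tmul, hK, Tlin, hK, smul_smul, mul_comm]
  -- surjectivity of `r / K`
  have hFfin : Finite F := Nat.finite_of_card_ne_zero (by
    rw [c.card_F]; exact Nat.card_ne_zero.2 ⟨⟨0⟩, inferInstance⟩)
  have hsurj : ∀ x : k, x ≠ 0 → ∃ a : Fˣ, r a = x * K a := by
    let χ : Fˣ → kˣ := fun a => Units.mk0 (r a / K a) (div_ne_zero (hr0 a) (hK0 a))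
    have hinj : Function.Injective χ := by
      intro a b hab
      have h1 : r a / K a = r b / K b := congrArg Units.val hab
      by_contra hne
      have h2 : a * b⁻¹ ≠ 1 := fun h => hne (mul_inv_eq_one.1 h)
      apply hKne _ h2
      have h3 : r (a * b⁻¹) * r b = r a := by rw [← hrmul, inv_mul_cancel_right]
      have h4 : K (a * b⁻¹) * K b = K a := by rw [← hKmul, inv_mul_cancel_right]
      rw [div_eq_div_iff (hK0 a) (hK0 b), ← h3, ← h4] at h1
      have h5 : (K (a * b⁻¹) - r (a * b⁻¹)) * (r b * K b) = 0 := by linear_combination -h1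
      rcases mul_eq_zero.1 h5 with h | h
      · exact sub_eq_zero.1 h
      · exact absurd h (mul_ne_zero (hr0 b) (hK0 b))
    have hcard : Nat.card kˣ ≤ Nat.card Fˣ := by
      rw [Nat.card_units, Nat.card_units, c.card_F]
    have hb := Function.Injective.bijective_of_nat_card_le hinj hcard
    intro x hx
    obtain ⟨a, ha⟩ := hb.2 (Units.mk0 x hx)
    refine ⟨a, ?_⟩
    have h1 : r a / K a = x := congrArg Units.val ha
    rw [← h1, div_mul_cancel₀ _ (hK0 a)]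
  -- the element `z`
  obtain ⟨s, hs, hsx⟩ := c.t_inner a0
  obtain ⟨gz, hgz1, -, hgz3⟩ := c.lift s
  have hp := ent00_ne hs
  have hθ : θ (gz⁻¹ * t a0) = 1 := by
    have h1 : θ (t a0) = θ gz := MulEquiv.ext fun x => by rw [hsx, hgz3]
    rw [map_mul, h1, ← map_mul, inv_mul_cancel, map_one]
  have hgzE : ∀ y ∈ EE σ, gz⁻¹ • y = sc σ (ent s 0 0)⁻¹ y := by
    intro y hy
    have h1 : gz • sc σ (ent s 0 0)⁻¹ y = y := by
      rw [hgz1, c.toQuad.tri hs (c.toQuad.sc_mem _ _), ← c.toQuad.sc_mul _ _ hy, mul_inv_cancel₀ hp,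
        c.toQuad.sc_one hy]
    rw [inv_smul_eq_iff, h1]
  let z : Yg θ := ⟨gz⁻¹ * t a0, c.ker_Yg hθ⟩
  have hz : ∀ y : EE σ, z • y = (ent s 0 0)⁻¹ • T a0 • y := by
    intro y
    apply Subtype.ext
    change (gz⁻¹ * t a0) • (y : M) = sc σ (ent s 0 0)⁻¹ (t a0 • (y : M))
    rw [mul_smul, hgzE _ (c.smul_EE (c.t_mem a0) y.2)]
  -- assemble
  let J : Subgroup (Yg θ) := (θ.comp (Yg θ).subtype).ker
  have memJ : ∀ {h : Yg θ}, h ∈ J ↔ θ (h : H) = 1 := Iff.rfl
  have hfin : Fin2 (Yg θ) k (EE σ) J x0 x1 :=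
    { semi := fun h => by
        obtain ⟨τ, hτ⟩ := c.semi h.2
        exact ⟨τ, fun a y => Subtype.ext (hτ a y y.2)⟩
      nor := fun h j hj => by
        have hj' : θ (j : H) = 1 := hj
        show θ ((h * j * h⁻¹ : Yg θ) : H) = 1
        push_cast
        rw [map_mul, map_mul, hj', mul_one, ← map_mul, mul_inv_cancel, map_one]
      lin := fun j hj a y => Subtype.ext (c.ker_lin hj a y.2)
      J2 := fun j hj n hn y => Subtype.ext (by
        refine c.J_two hx0e x1.2 he he' hd (fun y hy => ?_) (fun a b h => ind a b (Subtype.ext h)) hne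
          (hx0t a0 _ (hrup a0)) (congrArg Subtype.val hTx1) hj (l := n) ?_ y
        · obtain ⟨a, b, h⟩ := gen ⟨y, hy⟩
          exact ⟨a, b, congrArg Subtype.val h⟩
        · have := congrArg Subtype.val hn
          simpa using this)
      gen := gen
      ind := ind
      z := ⟨z, hθ, (ent s 0 0)⁻¹ * r a0, (ent s 0 0)⁻¹ * κ, by rw [hz, Tx0, smul_smul],
        by rw [hz, hTx1, smul_smul], fun h => hne (mul_left_cancel₀ (inv_ne_zero hp) h)⟩
      tor := fun x hx => by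
        obtain ⟨a, ha⟩ := hsurj x hx
        exact ⟨T a, r a, K a, hr0 a, hK0 a, ha, Tx0 a, hK a, Tlin a⟩
      syl := fun β n hn => by
        obtain ⟨y, hy, hyV⟩ := c.syl2 β β.2 n (by
          have := congrArg Subtype.val hn
          simpa using this)
        obtain ⟨a, ha⟩ := he _ (c.HVe _ hyV x0' hx0e)
        exact ⟨⟨y, hy⟩, a, Subtype.ext ha⟩ }
  obtain ⟨a, ha⟩ := hfin.fixed g0
  rw [← hρ] at ha
  exact hρe a ha

end Core

end core

end Cfsg.Agent.Omega.SQEnd.Exc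

end
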