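import Cfsg.Agent.Mrg.Omega.BTwo.Basic
import Cfsg.Agent.Mrg.Omega.BTwo.Str
import Cfsg.Agent.Lib.SL2Mat
import Cfsg.Agent.Mrg.Omega.Lie.TorD

section


/-!
Group form of `Quad.lean`: two abelian subgroups `A1, A2` of a group `Γ`, and elements `w1 a, w2 a`.
-/

set_option autoImplicit false

namespace Cfsg.Agent.Omega.BTwo

universe u v

/-- `w1 a * w2 a⁻¹ * w1 a` -/
def nn {Γ : Type u} [Group Γ] {F : Type v} [Field F] (w1 w2 : F → Γ) (a : F) : Γ :=
  w1 a * w2 a⁻¹ * w1 a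

/-- `n(a) n(1)` -/
def hh {Γ : Type u} [Group Γ] {F : Type v} [Field F] (w1 w2 : F → Γ) (a : F) : Γ :=
  nn w1 w2 a * nn w1 w2 1

/-- exact form of the quadratic situation -/
structure QuadEx {Γ : Type u} [Group Γ] {F : Type v} [Field F] (A1 A2 : Subgroup Γ)
    (w1 w2 : F → Γ) : Prop where
  comm1 : ∀ x ∈ A1, ∀ y ∈ A1, x * y = y * x
  comm2 : ∀ x ∈ A2, ∀ y ∈ A2, x * y = y * x
  comm12 : ∀ x ∈ A1, ∀ y ∈ A2, x * y = y * x
  inf : ∀ x ∈ A1, x ∈ A2 → x = 1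
  sq1 : ∀ x ∈ A1, x * x = 1
  sq2 : ∀ x ∈ A2, x * x = 1
  c1 : ∀ a, ∀ x ∈ A1, w1 a * x = x * w1 a
  c2 : ∀ a, ∀ x ∈ A2, w2 a * x = x * w2 a
  m1 : ∀ a, ∀ x ∈ A2, w1 a * x * (w1 a)⁻¹ * x⁻¹ ∈ A1
  m2 : ∀ a, ∀ x ∈ A1, w2 a * x * (w2 a)⁻¹ * x⁻¹ ∈ A2
  add1 : ∀ a b, ∀ x ∈ A2, w1 (a + b) * x * (w1 (a + b))⁻¹ = (w1 a * w1 b) * x * (w1 a * w1 b)⁻¹
  zero2 : ∀ x ∈ A1, w2 0 * x = x * w2 0
  n12 : ∀ a, a ≠ 0 → ∀ x ∈ A1, nn w1 w2 a * x * (nn w1 w2 a)⁻¹ ∈ A2
  n21 : ∀ a, a ≠ 0 → ∀ x ∈ A2, nn w1 w2 a * x * (nn w1 w2 a)⁻¹ ∈ A1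
  tor : ∀ a, a ≠ 0 → ∀ b, ∀ x ∈ A2,
    (hh w1 w2 a * w1 b * (hh w1 w2 a)⁻¹) * x * (hh w1 w2 a * w1 b * (hh w1 w2 a)⁻¹)⁻¹ =
      w1 (a ^ 2 * b) * x * (w1 (a ^ 2 * b))⁻¹

namespace QuadEx

variable {Γ : Type u} [Group Γ] {F : Type v} [Field F] {A1 A2 : Subgroup Γ} {w1 w2 : F → Γ}
  (q : QuadEx A1 A2 w1 w2)
include q

/-- `φ1 a` as an element of `Γ` -/
theorem conj1 (a : F) {x : Γ} : w1 a * x * (w1 a)⁻¹ = (w1 a * x * (w1 a)⁻¹ * x⁻¹) * x := by
  have _ := q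
  group

theorem inv1 {x : Γ} (hx : x ∈ A1) : x⁻¹ = x := inv_eq_of_mul_eq_one_left (q.sq1 x hx)
theorem inv2 {x : Γ} (hx : x ∈ A2) : x⁻¹ = x := inv_eq_of_mul_eq_one_left (q.sq2 x hx)

theorem mul1 (a : F) {x y : Γ} (hx : x ∈ A2) (hy : y ∈ A2) :
    w1 a * (x * y) * (w1 a)⁻¹ * (x * y)⁻¹ =
      (w1 a * x * (w1 a)⁻¹ * x⁻¹) * (w1 a * y * (w1 a)⁻¹ * y⁻¹) := by
  have h := q.comm12 _ (q.m1 a y hy) x hx
  calc w1 a * (x * y) * (w1 a)⁻¹ * (x * y)⁻¹
      = (w1 a * x * (w1 a)⁻¹ * x⁻¹) * (x * (w1 a * y * (w1 a)⁻¹ * y⁻¹)) * x⁻¹ := by group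
    _ = (w1 a * x * (w1 a)⁻¹ * x⁻¹) * ((w1 a * y * (w1 a)⁻¹ * y⁻¹) * x) * x⁻¹ := by rw [h]
    _ = (w1 a * x * (w1 a)⁻¹ * x⁻¹) * (w1 a * y * (w1 a)⁻¹ * y⁻¹) := by group

theorem mul2 (a : F) {x y : Γ} (hx : x ∈ A1) (hy : y ∈ A1) :
    w2 a * (x * y) * (w2 a)⁻¹ * (x * y)⁻¹ =
      (w2 a * x * (w2 a)⁻¹ * x⁻¹) * (w2 a * y * (w2 a)⁻¹ * y⁻¹) := by
  have h := q.comm12 x hx _ (q.m2 a y hy)
  calc w2 a * (x * y) * (w2 a)⁻¹ * (x * y)⁻¹
      = (w2 a * x * (w2 a)⁻¹ * x⁻¹) * (x * (w2 a * y * (w2 a)⁻¹ * y⁻¹)) * x⁻¹ := by group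
    _ = (w2 a * x * (w2 a)⁻¹ * x⁻¹) * ((w2 a * y * (w2 a)⁻¹ * y⁻¹) * x) * x⁻¹ := by rw [h]
    _ = (w2 a * x * (w2 a)⁻¹ * x⁻¹) * (w2 a * y * (w2 a)⁻¹ * y⁻¹) := by group

/-- `φ1 a : A2 → A1` -/
def phi1 (a : F) : ↥A2 →* ↥A1 where
  toFun x := ⟨w1 a * x * (w1 a)⁻¹ * (x : Γ)⁻¹, q.m1 a x x.2⟩
  map_one' := by apply Subtype.ext; simp
  map_mul' x y := by apply Subtype.ext; exact q.mul1 a x.2 y.2

/-- `φ2 a : A1 → A2` -/
def phi2 (a : F) : ↥A1 →* ↥A2 where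
  toFun x := ⟨w2 a * x * (w2 a)⁻¹ * (x : Γ)⁻¹, q.m2 a x x.2⟩
  map_one' := by apply Subtype.ext; simp
  map_mul' x y := by apply Subtype.ext; exact q.mul2 a x.2 y.2

theorem w1_conj (a : F) (x : ↥A2) : w1 a * x * (w1 a)⁻¹ = (q.phi1 a x : Γ) * x := by
  change _ = (w1 a * x * (w1 a)⁻¹ * (x : Γ)⁻¹) * x
  group

theorem w2_conj (a : F) (x : ↥A1) : w2 a * x * (w2 a)⁻¹ = (q.phi2 a x : Γ) * x := by
  change _ = (w2 a * x * (w2 a)⁻¹ * (x : Γ)⁻¹) * x
  group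

theorem w1_conj1 (a : F) (x : ↥A1) : w1 a * x * (w1 a)⁻¹ = x := by
  rw [q.c1 a x x.2]; group

theorem w2_conj2 (a : F) (x : ↥A2) : w2 a * x * (w2 a)⁻¹ = x := by
  rw [q.c2 a x x.2]; group

/-- the action of `n a` on `A1` before simplification -/
theorem nn_conj1 (a : F) (x : ↥A1) : nn w1 w2 a * x * (nn w1 w2 a)⁻¹ =
    (q.phi1 a (q.phi2 a⁻¹ x) : Γ) * (q.phi2 a⁻¹ x : Γ) * x := by
  unfold nn
  calc w1 a * w2 a⁻¹ * w1 a * x * (w1 a * w2 a⁻¹ * w1 a)⁻¹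
      = w1 a * (w2 a⁻¹ * (w1 a * x * (w1 a)⁻¹) * (w2 a⁻¹)⁻¹) * (w1 a)⁻¹ := by group
    _ = w1 a * ((q.phi2 a⁻¹ x : Γ) * x) * (w1 a)⁻¹ := by rw [q.w1_conj1, q.w2_conj]
    _ = (w1 a * (q.phi2 a⁻¹ x : Γ) * (w1 a)⁻¹) * (w1 a * x * (w1 a)⁻¹) := by group
    _ = _ := by rw [q.w1_conj1, q.w1_conj]

theorem phi12 (a : F) (ha : a ≠ 0) (x : ↥A1) : q.phi1 a (q.phi2 a⁻¹ x) = x := by
  have h := q.n12 a ha x x.2
  rw [q.nn_conj1] at h
  -- (φ1 φ2 x) * x ∈ A2
  have h2 : (q.phi1 a (q.phi2 a⁻¹ x) : Γ) * x ∈ A2 := by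
    have e : (q.phi1 a (q.phi2 a⁻¹ x) : Γ) * x =
        (q.phi1 a (q.phi2 a⁻¹ x) : Γ) * (q.phi2 a⁻¹ x : Γ) * x * (q.phi2 a⁻¹ x : Γ)⁻¹ := by
      have := q.comm12 x x.2 _ (q.phi2 a⁻¹ x).2
      calc (q.phi1 a (q.phi2 a⁻¹ x) : Γ) * x
          = (q.phi1 a (q.phi2 a⁻¹ x) : Γ) * (x * (q.phi2 a⁻¹ x : Γ)) * (q.phi2 a⁻¹ x : Γ)⁻¹ := by
            group
        _ = (q.phi1 a (q.phi2 a⁻¹ x) : Γ) * ((q.phi2 a⁻¹ x : Γ) * x) * (q.phi2 a⁻¹ x : Γ)⁻¹ := by
            rw [this]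
        _ = _ := by group
    rw [e]
    exact A2.mul_mem h (A2.inv_mem (q.phi2 a⁻¹ x).2)
  have h3 := q.inf _ (A1.mul_mem (q.phi1 a (q.phi2 a⁻¹ x)).2 x.2) h2
  apply Subtype.ext
  have h4 := q.sq1 x x.2
  have : (q.phi1 a (q.phi2 a⁻¹ x) : Γ) * x * x = x := by rw [h3, one_mul]
  rwa [mul_assoc, h4, mul_one] at this

theorem nn_conj1' (a : F) (ha : a ≠ 0) (x : ↥A1) : nn w1 w2 a * x * (nn w1 w2 a)⁻¹ =
    (q.phi2 a⁻¹ x : Γ) := by
  rw [q.nn_conj1, q.phi12 a ha]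
  have := q.comm12 x x.2 _ (q.phi2 a⁻¹ x).2
  rw [this, mul_assoc, q.sq1 x x.2, mul_one]

/-- the action of `n a` on `A2` before simplification -/
theorem nn_conj2 (a : F) (x : ↥A2) : nn w1 w2 a * x * (nn w1 w2 a)⁻¹ =
    (q.phi1 a (q.phi2 a⁻¹ (q.phi1 a x)) : Γ) * (q.phi2 a⁻¹ (q.phi1 a x) : Γ) * (q.phi1 a x : Γ) *
      ((q.phi1 a x : Γ) * x) := by
  unfold nn
  calc w1 a * w2 a⁻¹ * w1 a * x * (w1 a * w2 a⁻¹ * w1 a)⁻¹
      = w1 a * (w2 a⁻¹ * (w1 a * x * (w1 a)⁻¹) * (w2 a⁻¹)⁻¹) * (w1 a)⁻¹ := by group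
    _ = w1 a * (w2 a⁻¹ * ((q.phi1 a x : Γ) * x) * (w2 a⁻¹)⁻¹) * (w1 a)⁻¹ := by rw [q.w1_conj]
    _ = w1 a * ((w2 a⁻¹ * (q.phi1 a x : Γ) * (w2 a⁻¹)⁻¹) * (w2 a⁻¹ * x * (w2 a⁻¹)⁻¹)) *
        (w1 a)⁻¹ := by group
    _ = w1 a * (((q.phi2 a⁻¹ (q.phi1 a x) : Γ) * (q.phi1 a x : Γ)) * x) * (w1 a)⁻¹ := by
        rw [q.w2_conj, q.w2_conj2]
    _ = (w1 a * (q.phi2 a⁻¹ (q.phi1 a x) : Γ) * (w1 a)⁻¹) *
        (w1 a * (q.phi1 a x : Γ) * (w1 a)⁻¹) * (w1 a * x * (w1 a)⁻¹) := by group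
    _ = _ := by rw [q.w1_conj1, q.w1_conj, q.w1_conj]

theorem phi21 (a : F) (ha : a ≠ 0) (x : ↥A2) : q.phi2 a⁻¹ (q.phi1 a x) = x := by
  have h := q.n21 a ha x x.2
  rw [q.nn_conj2, q.phi12 a ha] at h
  set y := q.phi1 a x with hy
  set z := q.phi2 a⁻¹ y with hz
  -- y z y (y x) ∈ A1
  have hzx : (z : Γ) * x ∈ A1 := by
    have e1 : (y : Γ) * z * y * (y * x) = y * (z * x) := by
      have := q.sq1 y y.2
      calc (y : Γ) * z * y * (y * x) = y * z * (y * y) * x := by group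
        _ = y * (z * x) := by rw [this]; group
    rw [e1] at h
    have := A1.mul_mem (A1.inv_mem y.2) h
    rwa [inv_mul_cancel_left] at this
  have h3 := q.inf _ hzx (A2.mul_mem z.2 x.2)
  apply Subtype.ext
  have h4 := q.sq2 x x.2
  have : (z : Γ) * x * x = x := by rw [h3, one_mul]
  rwa [mul_assoc, h4, mul_one] at this

theorem nn_conj2' (a : F) (ha : a ≠ 0) (x : ↥A2) : nn w1 w2 a * x * (nn w1 w2 a)⁻¹ =
    (q.phi1 a x : Γ) := by
  rw [q.nn_conj2, q.phi21 a ha]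
  set y := q.phi1 a x
  have h1 := q.sq1 y y.2
  have h2 := q.sq2 x x.2
  calc (y : Γ) * x * y * (y * x) = y * x * (y * y) * x := by group
    _ = y * (x * x) := by rw [h1]; group
    _ = y := by rw [h2, mul_one]

theorem phi_tor (a : F) (ha : a ≠ 0) (b : F) (x : ↥A2) :
    q.phi1 a (q.phi2 1 (q.phi1 b (q.phi2 1 (q.phi1 a x)))) = q.phi1 (a ^ 2 * b) x := by
  have ht := q.tor a ha b x x.2
  rw [q.w1_conj] at ht
  set z := q.phi2 1 (q.phi1 a x) with hz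
  -- h z h⁻¹ = x
  have e1 : nn w1 w2 1 * z * (nn w1 w2 1)⁻¹ = (q.phi1 a x : Γ) := by
    rw [q.nn_conj2' 1 one_ne_zero, hz]
    have := q.phi12 1 one_ne_zero (q.phi1 a x)
    rw [inv_one] at this
    rw [this]
  have e2 : nn w1 w2 a * (q.phi1 a x : Γ) * (nn w1 w2 a)⁻¹ = x := by
    rw [q.nn_conj1' a ha, q.phi21 a ha]
  have e3 : hh w1 w2 a * z * (hh w1 w2 a)⁻¹ = x := by
    unfold hh
    calc nn w1 w2 a * nn w1 w2 1 * z * (nn w1 w2 a * nn w1 w2 1)⁻¹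
        = nn w1 w2 a * (nn w1 w2 1 * z * (nn w1 w2 1)⁻¹) * (nn w1 w2 a)⁻¹ := by group
      _ = x := by rw [e1, e2]
  have e4 : ∀ y : ↥A1, hh w1 w2 a * y * (hh w1 w2 a)⁻¹ = (q.phi1 a (q.phi2 1 y) : Γ) := by
    intro y
    unfold hh
    calc nn w1 w2 a * nn w1 w2 1 * y * (nn w1 w2 a * nn w1 w2 1)⁻¹
        = nn w1 w2 a * (nn w1 w2 1 * y * (nn w1 w2 1)⁻¹) * (nn w1 w2 a)⁻¹ := by group
      _ = nn w1 w2 a * (q.phi2 1 y : Γ) * (nn w1 w2 a)⁻¹ := by
          rw [q.nn_conj1' 1 one_ne_zero, inv_one]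
      _ = _ := by rw [q.nn_conj2' a ha]
  have e5 : hh w1 w2 a * w1 b * (hh w1 w2 a)⁻¹ * x * (hh w1 w2 a * w1 b * (hh w1 w2 a)⁻¹)⁻¹ =
      (q.phi1 a (q.phi2 1 (q.phi1 b z)) : Γ) * x := by
    calc hh w1 w2 a * w1 b * (hh w1 w2 a)⁻¹ * x * (hh w1 w2 a * w1 b * (hh w1 w2 a)⁻¹)⁻¹
        = hh w1 w2 a * w1 b * (hh w1 w2 a)⁻¹ * (hh w1 w2 a * z * (hh w1 w2 a)⁻¹) *
          (hh w1 w2 a * w1 b * (hh w1 w2 a)⁻¹)⁻¹ := by rw [e3]
      _ = hh w1 w2 a * (w1 b * z * (w1 b)⁻¹) * (hh w1 w2 a)⁻¹ := by group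
      _ = hh w1 w2 a * ((q.phi1 b z : Γ) * z) * (hh w1 w2 a)⁻¹ := by rw [q.w1_conj]
      _ = (hh w1 w2 a * (q.phi1 b z : Γ) * (hh w1 w2 a)⁻¹) *
          (hh w1 w2 a * z * (hh w1 w2 a)⁻¹) := by group
      _ = _ := by rw [e3, e4]
  rw [e5] at ht
  apply Subtype.ext
  exact mul_right_cancel ht

theorem phi1_add (a b : F) (x : ↥A2) : q.phi1 (a + b) x = q.phi1 a x * q.phi1 b x := by
  apply Subtype.ext
  have h := q.add1 a b x x.2
  rw [q.w1_conj] at h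
  have e : (w1 a * w1 b) * x * (w1 a * w1 b)⁻¹ = (q.phi1 b x : Γ) * ((q.phi1 a x : Γ) * x) := by
    calc (w1 a * w1 b) * x * (w1 a * w1 b)⁻¹ = w1 a * (w1 b * x * (w1 b)⁻¹) * (w1 a)⁻¹ := by group
      _ = w1 a * ((q.phi1 b x : Γ) * x) * (w1 a)⁻¹ := by rw [q.w1_conj]
      _ = (w1 a * (q.phi1 b x : Γ) * (w1 a)⁻¹) * (w1 a * x * (w1 a)⁻¹) := by group
      _ = _ := by rw [q.w1_conj1, q.w1_conj]
  rw [e, ← mul_assoc] at h
  have := mul_right_cancel h
  rw [this]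
  exact q.comm1 _ (q.phi1 b x).2 _ (q.phi1 a x).2

theorem phi2_zero (x : ↥A1) : q.phi2 0 x = 1 := by
  apply Subtype.ext
  change w2 0 * x * (w2 0)⁻¹ * (x : Γ)⁻¹ = 1
  rw [q.zero2 x x.2]; group

/-- the main statement: `A1` and `A2` are identified with one vector space over `F` -/
theorem exists_module [CharP F 2] (hperf : ∀ a : F, ∃ b, b ^ 2 = a) :
    ∃ (M : Type u) (_ : AddCommGroup M) (_ : Module F M) (p1 p2 : Γ → M),
      (∀ x ∈ A1, ∀ y ∈ A1, p1 (x * y) = p1 x + p1 y) ∧ (∀ x ∈ A1, p1 x = 0 → x = 1) ∧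
      (∀ m, ∃ x ∈ A1, p1 x = m) ∧
      (∀ x ∈ A2, ∀ y ∈ A2, p2 (x * y) = p2 x + p2 y) ∧ (∀ x ∈ A2, p2 x = 0 → x = 1) ∧
      (∀ m, ∃ x ∈ A2, p2 x = m) ∧
      (∀ a, ∀ x ∈ A2, p1 (w1 a * x * (w1 a)⁻¹ * x⁻¹) = a • p2 x) ∧
      (∀ a, ∀ x ∈ A1, p2 (w2 a * x * (w2 a)⁻¹ * x⁻¹) = a • p1 x) := by
  classical
  let g1 : CommGroup ↥A1 :=
    { (inferInstance : Group ↥A1) with
      mul_comm := fun x y => Subtype.ext (q.comm1 x x.2 y y.2) }
  let g2 : CommGroup ↥A2 :=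
    { (inferInstance : Group ↥A2) with
      mul_comm := fun x y => Subtype.ext (q.comm2 x x.2 y y.2) }
  let Q : QuadAdd F (Additive ↥A1) (Additive ↥A2) :=
    { φ1 := fun a => MonoidHom.toAdditive (q.phi1 a)
      φ2 := fun a => MonoidHom.toAdditive (q.phi2 a)
      add1 := fun a b => AddMonoidHom.ext fun x =>
        congrArg Additive.ofMul (q.phi1_add a b (Additive.toMul x))
      zero2 := AddMonoidHom.ext fun x =>
        congrArg Additive.ofMul (q.phi2_zero (Additive.toMul x))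
      two := fun x => by
        apply Additive.toMul.injective
        exact Subtype.ext (q.sq1 _ (Additive.toMul x).2)
      inv12 := fun a ha x => congrArg Additive.ofMul (q.phi12 a ha (Additive.toMul x))
      inv21 := fun a ha x => congrArg Additive.ofMul (q.phi21 a ha (Additive.toMul x))
      tor := fun a b ha x => congrArg Additive.ofMul (q.phi_tor a ha b (Additive.toMul x)) }
  let mod : Module F (Additive ↥A1) := Q.module hperf
  refine ⟨Additive ↥A1, inferInstance, mod,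
    fun x => if h : x ∈ A1 then Additive.ofMul ⟨x, h⟩ else 0,
    fun x => if h : x ∈ A2 then Q.ι2 (Additive.ofMul ⟨x, h⟩) else 0, ?_, ?_, ?_, ?_, ?_, ?_, ?_, ?_⟩
  · intro x hx y hy
    simp only [dif_pos hx, dif_pos hy, dif_pos (A1.mul_mem hx hy)]
    rfl
  · intro x hx h
    simp only [dif_pos hx] at h
    have : (⟨x, hx⟩ : ↥A1) = 1 := by
      have := congrArg Additive.toMul h
      exact this
    exact congrArg Subtype.val this
  · intro m
    refine ⟨(Additive.toMul m : ↥A1), (Additive.toMul m).2, ?_⟩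
    simp only [dif_pos (Additive.toMul m).2]
    rfl
  · intro x hx y hy
    simp only [dif_pos hx, dif_pos hy, dif_pos (A2.mul_mem hx hy)]
    rw [← map_add]
    rfl
  · intro x hx h
    simp only [dif_pos hx] at h
    have h1 : Additive.ofMul (⟨x, hx⟩ : ↥A2) = 0 := by
      apply Q.ι2_bij.1
      rw [h]; exact (map_zero Q.ι2).symm
    have : (⟨x, hx⟩ : ↥A2) = 1 := congrArg Additive.toMul h1
    exact congrArg Subtype.val this
  · intro m
    obtain ⟨y, hy⟩ := Q.ι2_bij.2 m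
    refine ⟨(Additive.toMul y : ↥A2), (Additive.toMul y).2, ?_⟩
    simp only [dif_pos (Additive.toMul y).2]
    exact hy
  · intro a x hx
    simp only [dif_pos hx, dif_pos (q.m1 a x hx)]
    exact Q.φ1_eq a (Additive.ofMul ⟨x, hx⟩)
  · intro a x hx
    simp only [dif_pos hx, dif_pos (q.m2 a x hx)]
    exact Q.ι2_φ2 hperf a (Additive.ofMul ⟨x, hx⟩)

end QuadEx

end Cfsg.Agent.Omega.BTwo

end

section


/-!
Version of `QuadGrp.lean` modulo a subgroup `D` of `G` (everything happens in `N(D)/D`).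
-/

set_option autoImplicit false

namespace Cfsg.Agent.Omega.BTwo

open Subgroup

universe u v

/-- the structure delivered: `U1 / D` and `U2 / D` are one and the same `F`-space `M` -/
structure YMod {G : Type u} [Group G] {F : Type v} [Field F] (D U1 U2 : Subgroup G)
    (w1 w2 : F → G) (M : Type u) [AddCommGroup M] [Module F M] (p1 p2 : G → M) : Prop where
  mul1 : ∀ x ∈ U1, ∀ y ∈ U1, p1 (x * y) = p1 x + p1 y
  mul2 : ∀ x ∈ U2, ∀ y ∈ U2, p2 (x * y) = p2 x + p2 y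
  ker1 : ∀ x ∈ U1, (p1 x = 0 ↔ x ∈ D)
  ker2 : ∀ x ∈ U2, (p2 x = 0 ↔ x ∈ D)
  surj1 : ∀ m, ∃ x ∈ U1, p1 x = m
  surj2 : ∀ m, ∃ x ∈ U2, p2 x = m
  act12 : ∀ a, ∀ x ∈ U2, p1 (w1 a * x * (w1 a)⁻¹ * x⁻¹) = a • p2 x
  act21 : ∀ a, ∀ x ∈ U1, p2 (w2 a * x * (w2 a)⁻¹ * x⁻¹) = a • p1 x

/-- the quadratic situation modulo `D` -/
structure QuadMod {G : Type u} [Group G] {F : Type v} [Field F] (D U1 U2 : Subgroup G)
    (w1 w2 : F → G) : Prop where
  D1 : D ≤ U1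
  D2 : D ≤ U2
  N1 : U1 ≤ normalizer (D : Set G)
  N2 : U2 ≤ normalizer (D : Set G)
  K1 : ∀ a, w1 a ∈ normalizer (D : Set G)
  K2 : ∀ a, w2 a ∈ normalizer (D : Set G)
  inf : ∀ x ∈ U1, x ∈ U2 → x ∈ D
  comm1 : ∀ x ∈ U1, ∀ y ∈ U1, x * y * x⁻¹ * y⁻¹ ∈ D
  comm2 : ∀ x ∈ U2, ∀ y ∈ U2, x * y * x⁻¹ * y⁻¹ ∈ D
  comm12 : ∀ x ∈ U1, ∀ y ∈ U2, x * y * x⁻¹ * y⁻¹ ∈ D
  sq1 : ∀ x ∈ U1, x * x ∈ D
  sq2 : ∀ x ∈ U2, x * x ∈ D
  c1 : ∀ a, ∀ x ∈ U1, w1 a * x * (w1 a)⁻¹ * x⁻¹ ∈ D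
  c2 : ∀ a, ∀ x ∈ U2, w2 a * x * (w2 a)⁻¹ * x⁻¹ ∈ D
  m1 : ∀ a, ∀ x ∈ U2, w1 a * x * (w1 a)⁻¹ * x⁻¹ ∈ U1
  m2 : ∀ a, ∀ x ∈ U1, w2 a * x * (w2 a)⁻¹ * x⁻¹ ∈ U2
  add1 : ∀ a b, ∀ x ∈ U2,
    (w1 (a + b) * x * (w1 (a + b))⁻¹) * ((w1 a * w1 b) * x * (w1 a * w1 b)⁻¹)⁻¹ ∈ D
  zero2 : ∀ x ∈ U1, w2 0 * x * (w2 0)⁻¹ * x⁻¹ ∈ D
  n12 : ∀ a, a ≠ 0 → ∀ x ∈ U1, nn w1 w2 a * x * (nn w1 w2 a)⁻¹ ∈ U2
  n21 : ∀ a, a ≠ 0 → ∀ x ∈ U2, nn w1 w2 a * x * (nn w1 w2 a)⁻¹ ∈ U1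
  tor : ∀ a, a ≠ 0 → ∀ b, ∀ x ∈ U2,
    ((hh w1 w2 a * w1 b * (hh w1 w2 a)⁻¹) * x * (hh w1 w2 a * w1 b * (hh w1 w2 a)⁻¹)⁻¹) *
      (w1 (a ^ 2 * b) * x * (w1 (a ^ 2 * b))⁻¹)⁻¹ ∈ D

section bar

variable {G : Type u} [Group G] (D : Subgroup G)

/-- `N(D)/D` -/
abbrev Gam : Type u :=
  ↥(normalizer (D : Set G)) ⧸ (D.subgroupOf (normalizer (D : Set G)))

instance : (D.subgroupOf (normalizer (D : Set G))).Normal := Subgroup.normal_in_normalizer

open Classical in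
/-- reduction of an element of `G` modulo `D` (`1` outside `N(D)`) -/
noncomputable def bar (g : G) : Gam D :=
  if h : g ∈ normalizer (D : Set G) then QuotientGroup.mk ⟨g, h⟩ else 1

variable {D}

theorem bar_of {g : G} (h : g ∈ normalizer (D : Set G)) :
    bar D g = QuotientGroup.mk ⟨g, h⟩ := by
  unfold bar; rw [dif_pos h]

theorem bar_mul {g h : G} (hg : g ∈ normalizer (D : Set G)) (hh : h ∈ normalizer (D : Set G)) :
    bar D (g * h) = bar D g * bar D h := by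
  rw [bar_of hg, bar_of hh, bar_of (mul_mem hg hh)]; rfl

theorem bar_inv {g : G} (hg : g ∈ normalizer (D : Set G)) : bar D g⁻¹ = (bar D g)⁻¹ := by
  rw [bar_of hg, bar_of (inv_mem hg)]; rfl

theorem bar_eq_one {g : G} (hg : g ∈ normalizer (D : Set G)) : bar D g = 1 ↔ g ∈ D := by
  rw [bar_of hg, QuotientGroup.eq_one_iff, Subgroup.mem_subgroupOf]

theorem bar_conj {g x : G} (hg : g ∈ normalizer (D : Set G)) (hx : x ∈ normalizer (D : Set G)) :
    bar D (g * x * g⁻¹) = bar D g * bar D x * (bar D g)⁻¹ := by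
  rw [bar_mul (mul_mem hg hx) (inv_mem hg), bar_mul hg hx, bar_inv hg]

theorem bar_comm {g x : G} (hg : g ∈ normalizer (D : Set G)) (hx : x ∈ normalizer (D : Set G)) :
    bar D (g * x * g⁻¹ * x⁻¹) = bar D g * bar D x * (bar D g)⁻¹ * (bar D x)⁻¹ := by
  rw [bar_mul (mul_mem (mul_mem hg hx) (inv_mem hg)) (inv_mem hx), bar_conj hg hx, bar_inv hx]

theorem bar_eq_iff {g h : G} (hg : g ∈ normalizer (D : Set G)) (hh : h ∈ normalizer (D : Set G)) :
    bar D g = bar D h ↔ g * h⁻¹ ∈ D := by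
  rw [← bar_eq_one (mul_mem hg (inv_mem hh)), bar_mul hg (inv_mem hh), bar_inv hh,
    mul_inv_eq_one]

/-- the image of a subgroup -/
def barS (U : Subgroup G) (h : U ≤ normalizer (D : Set G)) : Subgroup (Gam D) where
  carrier := {x | ∃ u ∈ U, bar D u = x}
  one_mem' := ⟨1, U.one_mem, (bar_eq_one (one_mem _)).2 (one_mem _)⟩
  mul_mem' := by
    rintro _ _ ⟨x, hx, rfl⟩ ⟨y, hy, rfl⟩
    exact ⟨x * y, U.mul_mem hx hy, bar_mul (h hx) (h hy)⟩
  inv_mem' := by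
    rintro _ ⟨x, hx, rfl⟩
    exact ⟨x⁻¹, U.inv_mem hx, bar_inv (h hx)⟩

theorem bar_mem_barS {U : Subgroup G} {h : U ≤ normalizer (D : Set G)} {u : G} (hu : u ∈ U) :
    bar D u ∈ barS U h := ⟨u, hu, rfl⟩

/-- membership in `barS` for a subgroup containing `D` -/
theorem mem_of_bar_mem {U : Subgroup G} {h : U ≤ normalizer (D : Set G)} (hD : D ≤ U) {g : G}
    (hg : g ∈ normalizer (D : Set G)) (hb : bar D g ∈ barS U h) : g ∈ U := by
  obtain ⟨u, hu, e⟩ := hb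
  have := (bar_eq_iff (h hu) hg).1 e
  have h2 : g * u⁻¹ ∈ U := by
    have := U.inv_mem (hD this)
    rwa [mul_inv_rev, inv_inv] at this
  have e3 : g = g * u⁻¹ * u := by group
  rw [e3]; exact U.mul_mem h2 hu

end bar

namespace QuadMod

variable {G : Type u} [Group G] {F : Type v} [Field F] {D U1 U2 : Subgroup G} {w1 w2 : F → G}
  (q : QuadMod D U1 U2 w1 w2)
include q

theorem nn_mem (a : F) : nn w1 w2 a ∈ normalizer (D : Set G) :=
  mul_mem (mul_mem (q.K1 a) (q.K2 _)) (q.K1 a)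

theorem hh_mem (a : F) : hh w1 w2 a ∈ normalizer (D : Set G) :=
  mul_mem (q.nn_mem a) (q.nn_mem 1)

theorem bar_nn (a : F) : bar D (nn w1 w2 a) = nn (fun a => bar D (w1 a)) (fun a => bar D (w2 a)) a := by
  unfold nn
  rw [bar_mul (mul_mem (q.K1 a) (q.K2 _)) (q.K1 a), bar_mul (q.K1 a) (q.K2 _)]

theorem bar_hh (a : F) : bar D (hh w1 w2 a) = hh (fun a => bar D (w1 a)) (fun a => bar D (w2 a)) a := by
  unfold hh
  rw [bar_mul (q.nn_mem a) (q.nn_mem 1), q.bar_nn, q.bar_nn]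

theorem quadEx : QuadEx (barS U1 q.N1) (barS U2 q.N2) (fun a => bar D (w1 a))
    (fun a => bar D (w2 a)) where
  comm1 := by
    rintro _ ⟨x, hx, rfl⟩ _ ⟨y, hy, rfl⟩
    have h := (bar_eq_one (mul_mem (mul_mem (mul_mem (q.N1 hx) (q.N1 hy)) (inv_mem (q.N1 hx)))
      (inv_mem (q.N1 hy)))).2 (q.comm1 x hx y hy)
    rw [bar_comm (q.N1 hx) (q.N1 hy)] at h
    rw [mul_inv_eq_one, mul_inv_eq_iff_eq_mul] at h
    exact h
  comm2 := by
    rintro _ ⟨x, hx, rfl⟩ _ ⟨y, hy, rfl⟩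
    have h := (bar_eq_one (mul_mem (mul_mem (mul_mem (q.N2 hx) (q.N2 hy)) (inv_mem (q.N2 hx)))
      (inv_mem (q.N2 hy)))).2 (q.comm2 x hx y hy)
    rw [bar_comm (q.N2 hx) (q.N2 hy)] at h
    rw [mul_inv_eq_one, mul_inv_eq_iff_eq_mul] at h
    exact h
  comm12 := by
    rintro _ ⟨x, hx, rfl⟩ _ ⟨y, hy, rfl⟩
    have h := (bar_eq_one (mul_mem (mul_mem (mul_mem (q.N1 hx) (q.N2 hy)) (inv_mem (q.N1 hx)))
      (inv_mem (q.N2 hy)))).2 (q.comm12 x hx y hy)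
    rw [bar_comm (q.N1 hx) (q.N2 hy)] at h
    rw [mul_inv_eq_one, mul_inv_eq_iff_eq_mul] at h
    exact h
  inf := by
    rintro _ ⟨x, hx, rfl⟩ h2
    rw [bar_eq_one (q.N1 hx)]
    exact q.inf x hx (mem_of_bar_mem q.D2 (q.N1 hx) h2)
  sq1 := by
    rintro _ ⟨x, hx, rfl⟩
    rw [← bar_mul (q.N1 hx) (q.N1 hx), bar_eq_one (mul_mem (q.N1 hx) (q.N1 hx))]
    exact q.sq1 x hx
  sq2 := by
    rintro _ ⟨x, hx, rfl⟩
    rw [← bar_mul (q.N2 hx) (q.N2 hx), bar_eq_one (mul_mem (q.N2 hx) (q.N2 hx))]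
    exact q.sq2 x hx
  c1 := by
    rintro a _ ⟨x, hx, rfl⟩
    have h := (bar_eq_one (mul_mem (mul_mem (mul_mem (q.K1 a) (q.N1 hx)) (inv_mem (q.K1 a)))
      (inv_mem (q.N1 hx)))).2 (q.c1 a x hx)
    rw [bar_comm (q.K1 a) (q.N1 hx)] at h
    rw [mul_inv_eq_one, mul_inv_eq_iff_eq_mul] at h
    exact h
  c2 := by
    rintro a _ ⟨x, hx, rfl⟩
    have h := (bar_eq_one (mul_mem (mul_mem (mul_mem (q.K2 a) (q.N2 hx)) (inv_mem (q.K2 a)))
      (inv_mem (q.N2 hx)))).2 (q.c2 a x hx)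
    rw [bar_comm (q.K2 a) (q.N2 hx)] at h
    rw [mul_inv_eq_one, mul_inv_eq_iff_eq_mul] at h
    exact h
  m1 := by
    rintro a _ ⟨x, hx, rfl⟩
    exact ⟨_, q.m1 a x hx, bar_comm (q.K1 a) (q.N2 hx)⟩
  m2 := by
    rintro a _ ⟨x, hx, rfl⟩
    exact ⟨_, q.m2 a x hx, bar_comm (q.K2 a) (q.N1 hx)⟩
  add1 := by
    rintro a b _ ⟨x, hx, rfl⟩
    have h := (bar_eq_iff (mul_mem (mul_mem (q.K1 (a + b)) (q.N2 hx)) (inv_mem (q.K1 (a + b))))
      (mul_mem (mul_mem (mul_mem (q.K1 a) (q.K1 b)) (q.N2 hx))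
        (inv_mem (mul_mem (q.K1 a) (q.K1 b))))).2 (q.add1 a b x hx)
    rw [bar_conj (q.K1 (a + b)) (q.N2 hx), bar_conj (mul_mem (q.K1 a) (q.K1 b)) (q.N2 hx),
      bar_mul (q.K1 a) (q.K1 b)] at h
    exact h
  zero2 := by
    rintro _ ⟨x, hx, rfl⟩
    have h := (bar_eq_one (mul_mem (mul_mem (mul_mem (q.K2 0) (q.N1 hx)) (inv_mem (q.K2 0)))
      (inv_mem (q.N1 hx)))).2 (q.zero2 x hx)
    rw [bar_comm (q.K2 0) (q.N1 hx)] at h
    rw [mul_inv_eq_one, mul_inv_eq_iff_eq_mul] at h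
    exact h
  n12 := by
    rintro a ha _ ⟨x, hx, rfl⟩
    rw [← q.bar_nn, ← bar_conj (q.nn_mem a) (q.N1 hx)]
    exact ⟨_, q.n12 a ha x hx, rfl⟩
  n21 := by
    rintro a ha _ ⟨x, hx, rfl⟩
    rw [← q.bar_nn, ← bar_conj (q.nn_mem a) (q.N2 hx)]
    exact ⟨_, q.n21 a ha x hx, rfl⟩
  tor := by
    rintro a ha b _ ⟨x, hx, rfl⟩
    have hk : hh w1 w2 a * w1 b * (hh w1 w2 a)⁻¹ ∈ normalizer (D : Set G) :=
      mul_mem (mul_mem (q.hh_mem a) (q.K1 b)) (inv_mem (q.hh_mem a))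
    have h := (bar_eq_iff (mul_mem (mul_mem hk (q.N2 hx)) (inv_mem hk))
      (mul_mem (mul_mem (q.K1 (a ^ 2 * b)) (q.N2 hx)) (inv_mem (q.K1 (a ^ 2 * b))))).2
      (q.tor a ha b x hx)
    rw [bar_conj hk (q.N2 hx), bar_conj (q.K1 (a ^ 2 * b)) (q.N2 hx),
      bar_conj (q.hh_mem a) (q.K1 b), q.bar_hh] at h
    exact h

/-- **Theorem.** `Y / D = N ⊗ M`. -/
theorem exists_yMod [CharP F 2] (hperf : ∀ a : F, ∃ b, b ^ 2 = a) :
    ∃ (M : Type u) (_ : AddCommGroup M) (_ : Module F M) (p1 p2 : G → M),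
      YMod D U1 U2 w1 w2 M p1 p2 := by
  obtain ⟨M, i1, i2, p1, p2, h1, h2, h3, h4, h5, h6, h7, h8⟩ := q.quadEx.exists_module hperf
  refine ⟨M, i1, i2, fun g => p1 (bar D g), fun g => p2 (bar D g), ?_⟩
  refine
    { mul1 := fun x hx y hy => ?_
      mul2 := fun x hx y hy => ?_
      ker1 := fun x hx => ?_
      ker2 := fun x hx => ?_
      surj1 := fun m => ?_
      surj2 := fun m => ?_
      act12 := fun a x hx => ?_
      act21 := fun a x hx => ?_ }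
  · rw [bar_mul (q.N1 hx) (q.N1 hy)]
    exact h1 _ ⟨x, hx, rfl⟩ _ ⟨y, hy, rfl⟩
  · rw [bar_mul (q.N2 hx) (q.N2 hy)]
    exact h4 _ ⟨x, hx, rfl⟩ _ ⟨y, hy, rfl⟩
  · rw [← bar_eq_one (q.N1 hx)]
    constructor
    · exact h2 _ ⟨x, hx, rfl⟩
    · intro h
      rw [h]
      have := h1 1 (one_mem _) 1 (one_mem _)
      rw [mul_one] at this
      exact left_eq_add.1 this
  · rw [← bar_eq_one (q.N2 hx)]
    constructor
    · exact h5 _ ⟨x, hx, rfl⟩
    · intro h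
      rw [h]
      have := h4 1 (one_mem _) 1 (one_mem _)
      rw [mul_one] at this
      exact left_eq_add.1 this
  · obtain ⟨_, ⟨x, hx, rfl⟩, e⟩ := h3 m
    exact ⟨x, hx, e⟩
  · obtain ⟨_, ⟨x, hx, rfl⟩, e⟩ := h6 m
    exact ⟨x, hx, e⟩
  · rw [bar_comm (q.K1 a) (q.N2 hx)]
    exact h7 a _ ⟨x, hx, rfl⟩
  · rw [bar_comm (q.K2 a) (q.N1 hx)]
    exact h8 a _ ⟨x, hx, rfl⟩

end QuadMod

end Cfsg.Agent.Omega.BTwo

end

section


/-!
# SQ3, `b = 2`: coordinates on `V`, and `Y / D = N ⊗ M` (end of (4) of #10337)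

`Coord`: `V = F²`, `R i = {v b 0}`, `R j = {v 0 c}`, `W i` acts by `(b, c) ↦ (b + a c, c)`, `W j` by
`(b, c) ↦ (b, c + a b)`.  `Coord.exists_yMod`: then `U i / D` and `U j / D` are one and the same `F`-space `M`.
-/

set_option autoImplicit false
set_option linter.unusedSectionVars false

namespace Cfsg.Agent.Omega.BTwo

open Subgroup

universe u v w

variable {G : Type u} [Group G] {ι : Type w}

/-- coordinates on `V` -/
structure Coord (V : Subgroup G) (R : ι → Subgroup G) (i j : ι) {F : Type v} [Field F]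
    (v : F → F → G) (w1 w2 : F → G) : Prop where
  ne : i ≠ j
  v_add : ∀ b c b' c', v (b + b') (c + c') = v b c * v b' c'
  v_one : ∀ b c, v b c = 1 → b = 0 ∧ c = 0
  mem_V : ∀ x, x ∈ V ↔ ∃ b c, v b c = x
  mem_R1 : ∀ x, x ∈ R i ↔ ∃ b, v b 0 = x
  mem_R2 : ∀ x, x ∈ R j ↔ ∃ c, v 0 c = x
  w1_mem : ∀ a, w1 a ∈ WW V (R i)
  w2_mem : ∀ a, w2 a ∈ WW V (R j)
  w1_act : ∀ a b c, w1 a * v b c * (w1 a)⁻¹ = v (b + a * c) c
  w2_act : ∀ a b c, w2 a * v b c * (w2 a)⁻¹ = v b (c + a * b)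
  W1_act : ∀ x ∈ WW V (R i), ∃ a, ∀ b c, x * v b c * x⁻¹ = v (b + a * c) c
  W2_act : ∀ x ∈ WW V (R j), ∃ a, ∀ b c, x * v b c * x⁻¹ = v b (c + a * b)

/-- two elements of `W i` with the same action on `V` act in the same way on `Y / D` -/
theorem BT.same {V : Subgroup G} {R : ι → Subgroup G} (b : BT V R) {i : ι} {x x' y : G}
    (hx : x ∈ WW V (R i)) (hx' : x' ∈ WW V (R i)) (h : ∀ v ∈ V, x * v * x⁻¹ = x' * v * x'⁻¹)
    (hy : y ∈ YY V R) : (x * y * x⁻¹) * (x' * y * x'⁻¹)⁻¹ ∈ DD V R := by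
  have hu : x * x'⁻¹ ∈ UU V R i := by
    refine mem_inf.2 ⟨mul_mem hx (inv_mem hx'), ?_⟩
    rw [mem_centralizer_iff]
    intro v hv
    have hv' : x'⁻¹ * v * x' ∈ V := conj_inv_mem_of_normalizer (b.W_le_NV i hx') hv
    have h1 := h _ hv'
    have h2 : x' * (x'⁻¹ * v * x') * x'⁻¹ = v := by group
    rw [h2] at h1
    calc v * (x * x'⁻¹) = x * (x'⁻¹ * v * x') * x⁻¹ * (x * x'⁻¹) := by rw [h1]
      _ = x * x'⁻¹ * v := by group
  have hy' : x' * y * x'⁻¹ ∈ YY V R := conj_mem_of_normalizer (b.NV_le_NY (b.W_le_NV i hx')) hy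
  have h3 := b.Y_comm (UU_le_YY i hu) hy'
  have e : x * x'⁻¹ * (x' * y * x'⁻¹) * (x * x'⁻¹)⁻¹ * (x' * y * x'⁻¹)⁻¹ =
      (x * y * x⁻¹) * (x' * y * x'⁻¹)⁻¹ := by group
  rwa [e] at h3

namespace Coord

variable {V : Subgroup G} {R : ι → Subgroup G} {i j : ι} {F : Type v} [Field F]
  {v : F → F → G} {w1 w2 : F → G}

section

variable (c : Coord V R i j v w1 w2)
include c

theorem v_zero : v 0 0 = 1 := by
  have := c.v_add 0 0 0 0
  rw [add_zero] at this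
  exact left_eq_mul.1 this

theorem v_inj {a b a' b' : F} (h : v a b = v a' b') : a = a' ∧ b = b' := by
  have h1 := c.v_add (a - a') (b - b') a' b'
  rw [sub_add_cancel, sub_add_cancel, h] at h1
  have h2 := c.v_one _ _ (right_eq_mul.1 h1)
  exact ⟨sub_eq_zero.1 h2.1, sub_eq_zero.1 h2.2⟩

theorem v_mem (a b : F) : v a b ∈ V := (c.mem_V _).2 ⟨a, b, rfl⟩

theorem symm : Coord V R j i (fun a b => v b a) w2 w1 where
  ne := c.ne.symm
  v_add := fun b d b' d' => c.v_add d b d' b'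
  v_one := fun b d h => (c.v_one d b h).symm
  mem_V := fun x => by rw [c.mem_V]; exact exists_comm
  mem_R1 := c.mem_R2
  mem_R2 := c.mem_R1
  w1_mem := c.w2_mem
  w2_mem := c.w1_mem
  w1_act := fun a b d => c.w2_act a d b
  w2_act := fun a b d => c.w1_act a d b
  W1_act := fun x hx => by
    obtain ⟨a, ha⟩ := c.W2_act x hx
    exact ⟨a, fun b d => ha d b⟩
  W2_act := fun x hx => by
    obtain ⟨a, ha⟩ := c.W1_act x hx
    exact ⟨a, fun b d => ha d b⟩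

/-- the action of `n(a) = w1(a) w2(1/a) w1(a)` -/
theorem nn_act [CharP F 2] {a : F} (ha : a ≠ 0) (b d : F) :
    nn w1 w2 a * v b d * (nn w1 w2 a)⁻¹ = v (a * d) (a⁻¹ * b) := by
  have e : nn w1 w2 a * v b d * (nn w1 w2 a)⁻¹ =
      w1 a * (w2 a⁻¹ * (w1 a * v b d * (w1 a)⁻¹) * (w2 a⁻¹)⁻¹) * (w1 a)⁻¹ := by
    unfold nn; group
  rw [e, c.w1_act, c.w2_act, c.w1_act]
  have h1 : d + a⁻¹ * (b + a * d) = a⁻¹ * b := by
    rw [mul_add, ← mul_assoc, inv_mul_cancel₀ ha, one_mul, add_comm (a⁻¹ * b), ← add_assoc,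
      CharTwo.add_self_eq_zero, zero_add]
  have h2 : b + a * d + a * (a⁻¹ * b) = a * d := by
    rw [← mul_assoc, mul_inv_cancel₀ ha, one_mul, add_comm b, add_assoc, CharTwo.add_self_eq_zero,
      add_zero]
  rw [h1, h2]

/-- the action of `h(a) = n(a) n(1)` -/
theorem hh_act [CharP F 2] {a : F} (ha : a ≠ 0) (b d : F) :
    hh w1 w2 a * v b d * (hh w1 w2 a)⁻¹ = v (a * b) (a⁻¹ * d) := by
  have e : hh w1 w2 a * v b d * (hh w1 w2 a)⁻¹ =
      nn w1 w2 a * (nn w1 w2 1 * v b d * (nn w1 w2 1)⁻¹) * (nn w1 w2 a)⁻¹ := by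
    unfold hh; group
  rw [e, c.nn_act one_ne_zero, c.nn_act ha, inv_one, one_mul, one_mul]

theorem hh_act_inv [CharP F 2] {a : F} (ha : a ≠ 0) (b d : F) :
    (hh w1 w2 a)⁻¹ * v b d * hh w1 w2 a = v (a⁻¹ * b) (a * d) := by
  have h1 := c.hh_act ha (a⁻¹ * b) (a * d)
  rw [← mul_assoc, ← mul_assoc, mul_inv_cancel₀ ha, inv_mul_cancel₀ ha, one_mul, one_mul] at h1
  rw [← h1]; group

end

section

variable (c : Coord V R i j v w1 w2) (b : BT V R)
include c b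

theorem nn_mem_X (a : F) : nn w1 w2 a ∈ XX V R :=
  mul_mem (mul_mem (W_le_X V R i (c.w1_mem a)) (W_le_X V R j (c.w2_mem _))) (W_le_X V R i (c.w1_mem a))

theorem hh_mem_X (a : F) : hh w1 w2 a ∈ XX V R := mul_mem (c.nn_mem_X b a) (c.nn_mem_X b 1)

theorem nn_R1 [CharP F 2] {a : F} (ha : a ≠ 0) : cj (nn w1 w2 a) (R i) = R j := by
  ext x
  rw [mem_cj, c.mem_R1, c.mem_R2]
  constructor
  · rintro ⟨d, hd⟩
    refine ⟨a⁻¹ * d, ?_⟩
    have h1 := c.nn_act ha d 0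
    rw [mul_zero] at h1
    rw [← h1, hd]; group
  · rintro ⟨d, rfl⟩
    refine ⟨a * d, ?_⟩
    have h1 := c.nn_act ha (a * d) 0
    rw [mul_zero, ← mul_assoc, inv_mul_cancel₀ ha, one_mul] at h1
    rw [← h1]; group

theorem nn_R2 [CharP F 2] {a : F} (ha : a ≠ 0) : cj (nn w1 w2 a) (R j) = R i := by
  ext x
  rw [mem_cj, c.mem_R1, c.mem_R2]
  constructor
  · rintro ⟨d, hd⟩
    refine ⟨a * d, ?_⟩
    have h1 := c.nn_act ha 0 d
    rw [mul_zero] at h1
    rw [← h1, hd]; group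
  · rintro ⟨d, rfl⟩
    refine ⟨a⁻¹ * d, ?_⟩
    have h1 := c.nn_act ha 0 (a⁻¹ * d)
    rw [mul_zero, ← mul_assoc, mul_inv_cancel₀ ha, one_mul] at h1
    rw [← h1]; group

theorem hh_R1 [CharP F 2] {a : F} (ha : a ≠ 0) : cj (hh w1 w2 a) (R i) = R i := by
  unfold hh
  rw [cj_mul, c.nn_R1 b one_ne_zero, c.nn_R2 b ha]

theorem hh_R2 [CharP F 2] {a : F} (ha : a ≠ 0) : cj (hh w1 w2 a) (R j) = R j := by
  unfold hh
  rw [cj_mul, c.nn_R2 b one_ne_zero, c.nn_R1 b ha]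

/-- `h(a) w1(t) h(a)⁻¹` acts on `V` as `w1(a² t)` -/
theorem hh_w1_act [CharP F 2] {a : F} (ha : a ≠ 0) (t : F) {x : G} (hx : x ∈ V) :
    (hh w1 w2 a * w1 t * (hh w1 w2 a)⁻¹) * x * (hh w1 w2 a * w1 t * (hh w1 w2 a)⁻¹)⁻¹ =
      w1 (a ^ 2 * t) * x * (w1 (a ^ 2 * t))⁻¹ := by
  obtain ⟨d, f, rfl⟩ := (c.mem_V x).1 hx
  have _ := b
  have e : (hh w1 w2 a * w1 t * (hh w1 w2 a)⁻¹) * v d f * (hh w1 w2 a * w1 t * (hh w1 w2 a)⁻¹)⁻¹ =
      hh w1 w2 a * (w1 t * ((hh w1 w2 a)⁻¹ * v d f * hh w1 w2 a) * (w1 t)⁻¹) * (hh w1 w2 a)⁻¹ := by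
    group
  rw [e, c.hh_act_inv ha, c.w1_act, c.hh_act ha, c.w1_act]
  congr 1
  · rw [mul_add, ← mul_assoc, mul_inv_cancel₀ ha, one_mul]; ring
  · rw [← mul_assoc, inv_mul_cancel₀ ha, one_mul]

/-- **the quadratic situation** -/
theorem quadMod [CharP F 2] : QuadMod (DD V R) (UU V R i) (UU V R j) w1 w2 where
  D1 := b.D_le_U i
  D2 := b.D_le_U j
  N1 := (UU_le_YY i).trans b.Y_le_ND
  N2 := (UU_le_YY j).trans b.Y_le_ND
  K1 := fun a => b.NV_le_ND (b.W_le_NV i (c.w1_mem a))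
  K2 := fun a => b.NV_le_ND (b.W_le_NV j (c.w2_mem a))
  inf := fun x h1 h2 => by
    rw [← b.UU_inf c.ne]
    exact ⟨h1, h2⟩
  comm1 := fun x hx y hy => b.Y_comm (UU_le_YY i hx) (UU_le_YY i hy)
  comm2 := fun x hx y hy => b.Y_comm (UU_le_YY j hx) (UU_le_YY j hy)
  comm12 := fun x hx y hy => b.UU_comm c.ne hx hy
  sq1 := fun x hx => b.Y_sq (UU_le_YY i hx)
  sq2 := fun x hx => b.Y_sq (UU_le_YY j hx)
  c1 := fun a x hx => V_le_D V R (b.R_le i (b.WU (c.w1_mem a) hx))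
  c2 := fun a x hx => V_le_D V R (b.R_le j (b.WU (c.w2_mem a) hx))
  m1 := fun a x hx => b.WU' (c.w1_mem a) hx
  m2 := fun a x hx => b.WU' (c.w2_mem a) hx
  add1 := fun a d x hx => by
    refine b.same (c.w1_mem _) (mul_mem (c.w1_mem a) (c.w1_mem d)) ?_ (UU_le_YY j hx)
    intro y hy
    obtain ⟨e, f, rfl⟩ := (c.mem_V y).1 hy
    have e1 : w1 a * w1 d * v e f * (w1 a * w1 d)⁻¹ = w1 a * (w1 d * v e f * (w1 d)⁻¹) * (w1 a)⁻¹ := by
      group
    rw [e1, c.w1_act, c.w1_act, c.w1_act]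
    congr 1
    ring
  zero2 := fun x hx => by
    refine b.Y_comm (UU_le_YY j ?_) (UU_le_YY i hx)
    refine mem_inf.2 ⟨c.w2_mem 0, ?_⟩
    rw [mem_centralizer_iff]
    intro y hy
    obtain ⟨e, f, rfl⟩ := (c.mem_V y).1 hy
    have h1 := c.w2_act 0 e f
    rw [zero_mul, add_zero, mul_inv_eq_iff_eq_mul] at h1
    exact h1.symm
  n12 := fun a ha x hx => by
    rw [← b.cj_UU (b.X_le_NV (c.nn_mem_X b a)) (c.nn_R1 b ha)]
    exact conj_mem_cj hx
  n21 := fun a ha x hx => by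
    rw [← b.cj_UU (b.X_le_NV (c.nn_mem_X b a)) (c.nn_R2 b ha)]
    exact conj_mem_cj hx
  tor := fun a ha t x hx => by
    refine b.same (i := i) ?_ (c.w1_mem _) (fun y hy => c.hh_w1_act b ha t hy) (UU_le_YY j hx)
    have h1 := conj_mem_cj (g := hh w1 w2 a) (c.w1_mem t)
    rwa [b.cj_WW (c.hh_R1 b ha)] at h1

/-- **`Y / D = N ⊗ M`** -/
theorem exists_yMod [Finite F] [CharP F 2] :
    ∃ (M : Type u) (_ : AddCommGroup M) (_ : Module F M) (p1 p2 : G → M),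
      YMod (DD V R) (UU V R i) (UU V R j) w1 w2 M p1 p2 := by
  refine (c.quadMod b).exists_yMod fun a => ?_
  have h := (Finite.injective_iff_surjective (f := fun x : F => x ^ 2)).1 (by
    intro x y hxy
    have h1 : (x - y) ^ 2 = 0 := by
      have h2 : x ^ 2 = y ^ 2 := hxy
      have h3 : (x - y) ^ 2 = x ^ 2 - y ^ 2 := by
        rw [CharTwo.sub_eq_add, CharTwo.sub_eq_add, CharTwo.add_sq]
      rw [h3, h2, sub_self]
    exact sub_eq_zero.1 (pow_eq_zero_iff two_ne_zero |>.1 h1))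
  exact h a

end

end Coord

end Cfsg.Agent.Omega.BTwo

end

section


/-!
# SQ3, `b = 2`: the coordinates `P1, P2 : Y → M` of `Y / D = N ⊗ M`, and `λ : D → M*`

`YPair`: `Y / D ≅ M × M` with the action of `W i`, `W j`, of `n(a)` and of the torus `h(a)`;
`YPair.lam`: `[d, y] = v (λ_d (P1 y)) (λ_d (P2 y))` for `d ∈ D`, `y ∈ Y`, with `λ_d : M → F` linear.
-/

set_option autoImplicit false
set_option linter.unusedSectionVars false

namespace Cfsg.Agent.Omega.BTwo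

open Subgroup
open scoped Pointwise

universe u v w

variable {G : Type u} [Group G] {ι : Type w}

/-- the coordinates of `Y / D` -/
structure YPair (V : Subgroup G) (R : ι → Subgroup G) (i j : ι) {F : Type v} [Field F] (w1 w2 : F → G)
    (M : Type u) [AddCommGroup M] [Module F M] (P1 P2 : G → M) : Prop where
  mul1 : ∀ x ∈ YY V R, ∀ y ∈ YY V R, P1 (x * y) = P1 x + P1 y
  mul2 : ∀ x ∈ YY V R, ∀ y ∈ YY V R, P2 (x * y) = P2 x + P2 y
  mem_D : ∀ x ∈ YY V R, (x ∈ DD V R ↔ P1 x = 0 ∧ P2 x = 0)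
  mem_U1 : ∀ x ∈ YY V R, (x ∈ UU V R i ↔ P2 x = 0)
  mem_U2 : ∀ x ∈ YY V R, (x ∈ UU V R j ↔ P1 x = 0)
  surj : ∀ m m', ∃ x ∈ YY V R, P1 x = m ∧ P2 x = m'
  w11 : ∀ a, ∀ x ∈ YY V R, P1 (w1 a * x * (w1 a)⁻¹) = P1 x + a • P2 x
  w12 : ∀ a, ∀ x ∈ YY V R, P2 (w1 a * x * (w1 a)⁻¹) = P2 x
  w21 : ∀ a, ∀ x ∈ YY V R, P1 (w2 a * x * (w2 a)⁻¹) = P1 x
  w22 : ∀ a, ∀ x ∈ YY V R, P2 (w2 a * x * (w2 a)⁻¹) = P2 x + a • P1 x

section exist

variable {V : Subgroup G} {R : ι → Subgroup G} {i j : ι} {F : Type v} [Field F]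

/-- `Y = U i U j` -/
theorem BT.exists_mul_Y (b : BT V R) (hij : i ≠ j) {y : G} (hy : y ∈ YY V R) :
    ∃ x1 ∈ UU V R i, ∃ x2 ∈ UU V R j, y = x1 * x2 := by
  rw [b.Y_eq hij] at hy
  have h1 : ((UU V R i ⊔ UU V R j : Subgroup G) : Set G) = (UU V R i : Set G) * (UU V R j : Set G) :=
    coe_mul_of_left_le_normalizer_right _ _ ((UU_le_cen i).trans (b.cen_le_NU j))
  have h2 : y ∈ ((UU V R i ⊔ UU V R j : Subgroup G) : Set G) := hy
  rw [h1] at h2
  obtain ⟨x1, h1, x2, h2, e⟩ := h2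
  exact ⟨x1, h1, x2, h2, e.symm⟩

theorem YMod.p_one1 {D U1 U2 : Subgroup G} {w1 w2 : F → G} {M : Type u} [AddCommGroup M] [Module F M]
    {p1 p2 : G → M} (y : YMod D U1 U2 w1 w2 M p1 p2) : p1 1 = 0 := by
  have := y.mul1 1 (one_mem _) 1 (one_mem _)
  rw [mul_one] at this
  exact left_eq_add.1 this

theorem YMod.p_one2 {D U1 U2 : Subgroup G} {w1 w2 : F → G} {M : Type u} [AddCommGroup M] [Module F M]
    {p1 p2 : G → M} (y : YMod D U1 U2 w1 w2 M p1 p2) : p2 1 = 0 := by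
  have := y.mul2 1 (one_mem _) 1 (one_mem _)
  rw [mul_one] at this
  exact left_eq_add.1 this

/-- the coordinates -/
theorem YMod.exists_yPair (b : BT V R) {v : F → F → G} {w1 w2 : F → G} (c : Coord V R i j v w1 w2)
    {M : Type u} [AddCommGroup M] [Module F M] {p1 p2 : G → M}
    (y : YMod (DD V R) (UU V R i) (UU V R j) w1 w2 M p1 p2) :
    ∃ P1 P2 : G → M, YPair V R i j w1 w2 M P1 P2 ∧ (∀ x ∈ UU V R i, P1 x = p1 x) ∧
      (∀ x ∈ UU V R j, P2 x = p2 x) := by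
  classical
  have hD1 : ∀ x ∈ DD V R, p1 x = 0 := fun x hx => (y.ker1 x (b.D_le_U i hx)).2 hx
  have hD2 : ∀ x ∈ DD V R, p2 x = 0 := fun x hx => (y.ker2 x (b.D_le_U j hx)).2 hx
  have hdec : ∀ x ∈ YY V R, ∃ z : G × G, z.1 ∈ UU V R i ∧ z.2 ∈ UU V R j ∧ x = z.1 * z.2 := by
    intro x hx
    obtain ⟨x1, h1, x2, h2, e⟩ := b.exists_mul_Y c.ne hx
    exact ⟨(x1, x2), h1, h2, e⟩
  have wd : ∀ x1 ∈ UU V R i, ∀ x1' ∈ UU V R i, ∀ x2 ∈ UU V R j, ∀ x2' ∈ UU V R j,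
      x1 * x2 = x1' * x2' → p1 x1 = p1 x1' ∧ p2 x2 = p2 x2' := by
    intro x1 h1 x1' h1' x2 h2 x2' h2' e
    have h3 : x1'⁻¹ * x1 ∈ DD V R := by
      rw [← b.UU_inf c.ne]
      refine mem_inf.2 ⟨mul_mem (inv_mem h1') h1, ?_⟩
      have e1 : x1'⁻¹ * x1 = x2' * x2⁻¹ := by
        calc x1'⁻¹ * x1 = x1'⁻¹ * (x1 * x2) * x2⁻¹ := by group
          _ = x1'⁻¹ * (x1' * x2') * x2⁻¹ := by rw [e]
          _ = x2' * x2⁻¹ := by group
      rw [e1]
      exact mul_mem h2' (inv_mem h2)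
    constructor
    · have e1 : x1 = x1' * (x1'⁻¹ * x1) := by group
      rw [e1, y.mul1 _ h1' _ (b.D_le_U i h3), hD1 _ h3, add_zero]
    · have e1 : x2' = x1'⁻¹ * x1 * x2 := by
        calc x2' = x1'⁻¹ * (x1' * x2') := by group
          _ = x1'⁻¹ * x1 * x2 := by rw [← e]; group
      rw [e1, y.mul2 _ (b.D_le_U j h3) _ h2, hD2 _ h3, zero_add]
  let P1 : G → M := fun x => if h : x ∈ YY V R then p1 (hdec x h).choose.1 else 0
  let P2 : G → M := fun x => if h : x ∈ YY V R then p2 (hdec x h).choose.2 else 0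
  have hP : ∀ x1 ∈ UU V R i, ∀ x2 ∈ UU V R j, P1 (x1 * x2) = p1 x1 ∧ P2 (x1 * x2) = p2 x2 := by
    intro x1 h1 x2 h2
    have hx : x1 * x2 ∈ YY V R := mul_mem (UU_le_YY i h1) (UU_le_YY j h2)
    obtain ⟨h3, h4, h5⟩ := (hdec _ hx).choose_spec
    have h6 := wd _ h3 _ h1 _ h4 _ h2 h5.symm
    constructor
    · show (if h : x1 * x2 ∈ YY V R then p1 (hdec _ h).choose.1 else 0) = p1 x1
      rw [dif_pos hx]
      exact h6.1
    · show (if h : x1 * x2 ∈ YY V R then p2 (hdec _ h).choose.2 else 0) = p2 x2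
      rw [dif_pos hx]
      exact h6.2
  have hU1 : ∀ x ∈ UU V R i, P1 x = p1 x ∧ P2 x = 0 := by
    intro x hx
    have h := hP x hx 1 (one_mem _)
    rwa [mul_one, y.p_one2] at h
  have hU2 : ∀ x ∈ UU V R j, P1 x = 0 ∧ P2 x = p2 x := by
    intro x hx
    have h := hP 1 (one_mem _) x hx
    rwa [one_mul, y.p_one1] at h
  have hmul : ∀ x ∈ YY V R, ∀ x' ∈ YY V R, P1 (x * x') = P1 x + P1 x' ∧ P2 (x * x') = P2 x + P2 x' := by
    intro x hx x' hx'
    obtain ⟨x1, h1, x2, h2, rfl⟩ := b.exists_mul_Y c.ne hx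
    obtain ⟨x1', h1', x2', h2', rfl⟩ := b.exists_mul_Y c.ne hx'
    have h3 : x1'⁻¹ * x2 * x1'⁻¹⁻¹ * x2⁻¹ ∈ DD V R := b.UU_comm c.ne (inv_mem h1') h2
    have h4 : x1'⁻¹ * x2 * x1'⁻¹⁻¹ * x2⁻¹ * x2 ∈ UU V R j := mul_mem (b.D_le_U j h3) h2
    have e : x1 * x2 * (x1' * x2') = (x1 * x1') * ((x1'⁻¹ * x2 * x1'⁻¹⁻¹ * x2⁻¹ * x2) * x2') := by group
    obtain ⟨k1, k2⟩ := hP _ (mul_mem h1 h1') _ (mul_mem h4 h2')
    rw [e, k1, k2, (hP x1 h1 x2 h2).1, (hP x1 h1 x2 h2).2, (hP x1' h1' x2' h2').1, (hP x1' h1' x2' h2').2,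
      y.mul1 _ h1 _ h1', y.mul2 _ h4 _ h2', y.mul2 _ (b.D_le_U j h3) _ h2, hD2 _ h3, zero_add]
    exact ⟨rfl, rfl⟩
  have hYV1 : ∀ a, ∀ x ∈ YY V R, w1 a * x * (w1 a)⁻¹ ∈ YY V R := fun a x hx =>
    conj_mem_of_normalizer (b.NV_le_NY (b.W_le_NV i (c.w1_mem a))) hx
  have hYV2 : ∀ a, ∀ x ∈ YY V R, w2 a * x * (w2 a)⁻¹ ∈ YY V R := fun a x hx =>
    conj_mem_of_normalizer (b.NV_le_NY (b.W_le_NV j (c.w2_mem a))) hx
  have hw1 : ∀ a, ∀ x ∈ YY V R, P1 (w1 a * x * (w1 a)⁻¹) = P1 x + a • P2 x ∧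
      P2 (w1 a * x * (w1 a)⁻¹) = P2 x := by
    intro a x hx
    obtain ⟨x1, h1, x2, h2, rfl⟩ := b.exists_mul_Y c.ne hx
    have h3 : w1 a * x1 * (w1 a)⁻¹ * x1⁻¹ ∈ DD V R := V_le_D V R (b.R_le i (b.WU (c.w1_mem a) h1))
    have h4 : w1 a * x2 * (w1 a)⁻¹ * x2⁻¹ ∈ UU V R i := b.WU' (c.w1_mem a) h2
    have e : w1 a * (x1 * x2) * (w1 a)⁻¹ =
        (w1 a * x1 * (w1 a)⁻¹ * x1⁻¹) * x1 * (w1 a * x2 * (w1 a)⁻¹ * x2⁻¹) * x2 := by group
    have h5 := mul_mem (b.D_le_U i h3) h1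
    obtain ⟨k1, k2⟩ := hP _ (mul_mem h5 h4) _ h2
    rw [e, k1, k2, (hP x1 h1 x2 h2).1, (hP x1 h1 x2 h2).2, y.mul1 _ h5 _ h4,
      y.mul1 _ (b.D_le_U i h3) _ h1, hD1 _ h3, zero_add, y.act12 a x2 h2]
    exact ⟨rfl, rfl⟩
  have hw2 : ∀ a, ∀ x ∈ YY V R, P1 (w2 a * x * (w2 a)⁻¹) = P1 x ∧
      P2 (w2 a * x * (w2 a)⁻¹) = P2 x + a • P1 x := by
    intro a x hx
    obtain ⟨x1, h1, x2, h2, rfl⟩ := b.exists_mul_Y c.ne hx
    have h3 : w2 a * x2 * (w2 a)⁻¹ * x2⁻¹ ∈ DD V R := V_le_D V R (b.R_le j (b.WU (c.w2_mem a) h2))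
    have h4 : w2 a * x1 * (w2 a)⁻¹ * x1⁻¹ ∈ UU V R j := b.WU' (c.w2_mem a) h1
    have e : w2 a * (x1 * x2) * (w2 a)⁻¹ =
        (w2 a * x1 * (w2 a)⁻¹ * x1⁻¹) * (x1 * ((w2 a * x2 * (w2 a)⁻¹ * x2⁻¹) * x2)) := by group
    have h5 := mul_mem (b.D_le_U j h3) h2
    have h6 : x1 * ((w2 a * x2 * (w2 a)⁻¹ * x2⁻¹) * x2) ∈ YY V R := mul_mem (UU_le_YY i h1) (UU_le_YY j h5)
    obtain ⟨k1, k2⟩ := hmul _ (UU_le_YY j h4) _ h6
    rw [e, k1, k2, (hU2 _ h4).1, (hU2 _ h4).2, (hP x1 h1 x2 h2).1, (hP x1 h1 x2 h2).2, (hP _ h1 _ h5).1,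
      (hP _ h1 _ h5).2, zero_add, y.act21 a x1 h1, y.mul2 _ (b.D_le_U j h3) _ h2, hD2 _ h3, zero_add]
    exact ⟨rfl, add_comm _ _⟩
  refine ⟨P1, P2, ?_, fun x hx => (hU1 x hx).1, fun x hx => (hU2 x hx).2⟩
  refine
    { mul1 := fun x hx x' hx' => (hmul x hx x' hx').1
      mul2 := fun x hx x' hx' => (hmul x hx x' hx').2
      mem_D := fun x hx => ?_
      mem_U1 := fun x hx => ?_
      mem_U2 := fun x hx => ?_
      surj := fun m m' => ?_
      w11 := fun a x hx => (hw1 a x hx).1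
      w12 := fun a x hx => (hw1 a x hx).2
      w21 := fun a x hx => (hw2 a x hx).1
      w22 := fun a x hx => (hw2 a x hx).2 }
  · constructor
    · intro h
      exact ⟨by rw [(hU1 x (b.D_le_U i h)).1, hD1 x h], (hU1 x (b.D_le_U i h)).2⟩
    · rintro ⟨h1, h2⟩
      obtain ⟨x1, k1, x2, k2, rfl⟩ := b.exists_mul_Y c.ne hx
      rw [(hP x1 k1 x2 k2).1, y.ker1 _ k1] at h1
      rw [(hP x1 k1 x2 k2).2, y.ker2 _ k2] at h2
      exact mul_mem h1 h2
  · constructor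
    · exact fun h => (hU1 x h).2
    · intro h
      obtain ⟨x1, k1, x2, k2, rfl⟩ := b.exists_mul_Y c.ne hx
      rw [(hP x1 k1 x2 k2).2, y.ker2 _ k2] at h
      exact mul_mem k1 (b.D_le_U i h)
  · constructor
    · exact fun h => (hU2 x h).1
    · intro h
      obtain ⟨x1, k1, x2, k2, rfl⟩ := b.exists_mul_Y c.ne hx
      rw [(hP x1 k1 x2 k2).1, y.ker1 _ k1] at h
      exact mul_mem (b.D_le_U j h) k2
  · obtain ⟨x1, k1, e1⟩ := y.surj1 m
    obtain ⟨x2, k2, e2⟩ := y.surj2 m'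
    refine ⟨x1 * x2, mul_mem (UU_le_YY i k1) (UU_le_YY j k2), ?_, ?_⟩
    · rw [(hP x1 k1 x2 k2).1, e1]
    · rw [(hP x1 k1 x2 k2).2, e2]

/-- **`Y / D = N ⊗ M`**, coordinates -/
theorem Coord.exists_yPair [Finite F] [CharP F 2] (b : BT V R) {v : F → F → G} {w1 w2 : F → G}
    (c : Coord V R i j v w1 w2) :
    ∃ (M : Type u) (_ : AddCommGroup M) (_ : Module F M) (P1 P2 : G → M), YPair V R i j w1 w2 M P1 P2 := by
  obtain ⟨M, i1, i2, p1, p2, y⟩ := c.exists_yMod b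
  obtain ⟨P1, P2, h, -⟩ := YMod.exists_yPair b c y
  exact ⟨M, i1, i2, P1, P2, h⟩

end exist

namespace YPair

variable {V : Subgroup G} {R : ι → Subgroup G} {i j : ι} {F : Type v} [Field F] {w1 w2 : F → G}
  {M : Type u} [AddCommGroup M] [Module F M] {P1 P2 : G → M}

theorem M_two [CharP F 2] (M : Type u) [AddCommGroup M] [Module F M] (m : M) : m + m = 0 := by
  rw [← two_smul F, CharTwo.two_eq_zero, zero_smul]

section

variable (y : YPair V R i j w1 w2 M P1 P2)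
include y

theorem one1 : P1 1 = 0 := by
  have := y.mul1 1 (one_mem _) 1 (one_mem _)
  rw [mul_one] at this
  exact left_eq_add.1 this

theorem one2 : P2 1 = 0 := by
  have := y.mul2 1 (one_mem _) 1 (one_mem _)
  rw [mul_one] at this
  exact left_eq_add.1 this

theorem inv1 {x : G} (hx : x ∈ YY V R) : P1 x⁻¹ = - P1 x := by
  rw [eq_neg_iff_add_eq_zero, ← y.mul1 _ (inv_mem hx) _ hx, inv_mul_cancel, y.one1]

theorem inv2 {x : G} (hx : x ∈ YY V R) : P2 x⁻¹ = - P2 x := by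
  rw [eq_neg_iff_add_eq_zero, ← y.mul2 _ (inv_mem hx) _ hx, inv_mul_cancel, y.one2]

theorem eq_iff {x x' : G} (hx : x ∈ YY V R) (hx' : x' ∈ YY V R) :
    x'⁻¹ * x ∈ DD V R ↔ P1 x = P1 x' ∧ P2 x = P2 x' := by
  rw [y.mem_D _ (mul_mem (inv_mem hx') hx), y.mul1 _ (inv_mem hx') _ hx, y.mul2 _ (inv_mem hx') _ hx,
    y.inv1 hx', y.inv2 hx', neg_add_eq_zero, neg_add_eq_zero, eq_comm (a := P1 x'), eq_comm (a := P2 x')]

/-- `P : Y → M × M` -/
def hom : YY V R →* Multiplicative (M × M) where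
  toFun x := Multiplicative.ofAdd (P1 x, P2 x)
  map_one' := by
    rw [← ofAdd_zero]
    congr 1
    exact Prod.ext y.one1 y.one2
  map_mul' := fun a b => by
    rw [← ofAdd_add]
    congr 1
    exact Prod.ext (y.mul1 _ a.2 _ b.2) (y.mul2 _ a.2 _ b.2)

theorem hom_apply (x : YY V R) : y.hom x = Multiplicative.ofAdd (P1 (x : G), P2 (x : G)) := rfl

theorem ker_hom : y.hom.ker = (DD V R).subgroupOf (YY V R) := by
  ext x
  rw [MonoidHom.mem_ker, mem_subgroupOf, y.mem_D _ x.2, y.hom_apply, ofAdd_eq_one, Prod.mk_eq_zero]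

theorem hom_surjective : Function.Surjective y.hom := by
  intro m
  obtain ⟨x, hx, h1, h2⟩ := y.surj (Multiplicative.toAdd m).1 (Multiplicative.toAdd m).2
  refine ⟨⟨x, hx⟩, ?_⟩
  rw [y.hom_apply, h1, h2]
  rfl

theorem finite_M [Finite G] : Finite M := by
  have h1 := Finite.of_surjective _ y.hom_surjective
  have h2 : Finite (M × M) := h1
  exact Finite.of_surjective (Prod.fst : M × M → M) Prod.fst_surjective

theorem index_D_Y : (DD V R).relIndex (YY V R) = Nat.card M ^ 2 := by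
  have h1 : y.hom.range = ⊤ := MonoidHom.range_eq_top.2 y.hom_surjective
  have h2 := index_ker y.hom
  rw [y.ker_hom, h1, card_top] at h2
  have h3 : Nat.card (Multiplicative (M × M)) = Nat.card M ^ 2 := by
    rw [Nat.card_congr Multiplicative.toAdd, Nat.card_prod, sq]
  rw [h3] at h2
  exact h2

/-- `P1 : U i → M` -/
def hom1 : UU V R i →* Multiplicative M where
  toFun x := Multiplicative.ofAdd (P1 x)
  map_one' := by
    rw [← ofAdd_zero]
    congr 1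
    exact y.one1
  map_mul' := fun a b => by
    rw [← ofAdd_add]
    congr 1
    exact y.mul1 _ (UU_le_YY i a.2) _ (UU_le_YY i b.2)

theorem index_D_U : (DD V R).relIndex (UU V R i) = Nat.card M := by
  have h1 : y.hom1.range = ⊤ := by
    rw [MonoidHom.range_eq_top]
    intro m
    obtain ⟨x, hx, h1, h2⟩ := y.surj (Multiplicative.toAdd m) 0
    refine ⟨⟨x, (y.mem_U1 x hx).2 h2⟩, ?_⟩
    show Multiplicative.ofAdd (P1 x) = m
    rw [h1]; rfl
  have h2 : y.hom1.ker = (DD V R).subgroupOf (UU V R i) := by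
    ext x
    rw [MonoidHom.mem_ker, mem_subgroupOf, y.mem_D _ (UU_le_YY i x.2)]
    have h3 := (y.mem_U1 _ (UU_le_YY i x.2)).1 x.2
    constructor
    · intro h
      exact ⟨ofAdd_eq_one.1 h, h3⟩
    · intro h
      exact ofAdd_eq_one.2 h.1
  have h3 := index_ker y.hom1
  rw [h2, h1, card_top, Nat.card_congr Multiplicative.toAdd] at h3
  exact h3

/-- `|U i : D| = q ^ c` -/
theorem card_M [Finite G] : Nat.card M = Nat.card F ^ Module.finrank F M := by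
  have := y.finite_M
  have : Module.Finite F M := inferInstance
  exact Module.natCard_eq_pow_finrank

end

section

variable (y : YPair V R i j w1 w2 M P1 P2) (b : BT V R) {v : F → F → G} (c : Coord V R i j v w1 w2)
include y b c

theorem X_Y {x z : G} (hx : x ∈ XX V R) (hz : z ∈ YY V R) : x * z * x⁻¹ ∈ YY V R :=
  conj_mem_of_normalizer (b.NV_le_NY (b.X_le_NV hx)) hz

theorem nn1 [CharP F 2] {a : F} (ha : a ≠ 0) {x : G} (hx : x ∈ YY V R) :
    P1 (nn w1 w2 a * x * (nn w1 w2 a)⁻¹) = a • P2 x ∧ P2 (nn w1 w2 a * x * (nn w1 w2 a)⁻¹) = a⁻¹ • P1 x := by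
  have e : nn w1 w2 a * x * (nn w1 w2 a)⁻¹ =
      w1 a * (w2 a⁻¹ * (w1 a * x * (w1 a)⁻¹) * (w2 a⁻¹)⁻¹) * (w1 a)⁻¹ := by
    unfold nn; group
  have k1 := y.X_Y b c (W_le_X V R i (c.w1_mem a)) hx
  have k2 := y.X_Y b c (W_le_X V R j (c.w2_mem a⁻¹)) k1
  have h1 : P2 x + a⁻¹ • (P1 x + a • P2 x) = a⁻¹ • P1 x := by
    rw [smul_add, smul_smul, inv_mul_cancel₀ ha, one_smul, add_comm (a⁻¹ • P1 x), ← add_assoc,
      M_two (F := F) M, zero_add]
  rw [e, y.w11 _ _ k2, y.w12 _ _ k2, y.w21 _ _ k1, y.w22 _ _ k1, y.w11 _ _ hx, y.w12 _ _ hx, h1, smul_smul,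
    mul_inv_cancel₀ ha, one_smul, add_comm (P1 x), add_assoc, M_two (F := F) M, add_zero]
  exact ⟨rfl, rfl⟩

/-- the torus -/
theorem hh1 [CharP F 2] {a : F} (ha : a ≠ 0) {x : G} (hx : x ∈ YY V R) :
    P1 (hh w1 w2 a * x * (hh w1 w2 a)⁻¹) = a • P1 x ∧ P2 (hh w1 w2 a * x * (hh w1 w2 a)⁻¹) = a⁻¹ • P2 x := by
  have e : hh w1 w2 a * x * (hh w1 w2 a)⁻¹ =
      nn w1 w2 a * (nn w1 w2 1 * x * (nn w1 w2 1)⁻¹) * (nn w1 w2 a)⁻¹ := by
    unfold hh; group
  have k1 := y.X_Y b c (c.nn_mem_X b 1) hx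
  obtain ⟨h1, h2⟩ := y.nn1 b c ha k1
  obtain ⟨h3, h4⟩ := y.nn1 b c one_ne_zero hx
  rw [e, h1, h2, h3, h4, inv_one, one_smul, one_smul]
  exact ⟨rfl, rfl⟩

/-! ### `λ` -/

theorem br_congr {d x x' : G} (hd : d ∈ DD V R) (hx : x ∈ YY V R) (hx' : x' ∈ YY V R) (h1 : P1 x = P1 x')
    (h2 : P2 x = P2 x') : d * x * d⁻¹ * x⁻¹ = d * x' * d⁻¹ * x'⁻¹ := by
  have h3 := (y.eq_iff hx hx').2 ⟨h1, h2⟩
  have h4 := b.lam_mul hd hx' (b.D_le_Y h3)
  rw [b.lam_D hd h3, mul_one] at h4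
  rw [← h4]; group

theorem exists_lam0 [CharP F 2] {d : G} (hd : d ∈ DD V R) : ∃ f : M → F,
    ∀ x ∈ YY V R, d * x * d⁻¹ * x⁻¹ = v (f (P1 x)) (f (P2 x)) := by
  have h1 : ∀ m : M, ∃ μ : F, ∀ x ∈ YY V R, P1 x = m → P2 x = 0 → d * x * d⁻¹ * x⁻¹ = v μ 0 := by
    intro m
    obtain ⟨x, hx, e1, e2⟩ := y.surj m 0
    obtain ⟨μ, hμ⟩ := (c.mem_R1 _).1 (b.DU hd ((y.mem_U1 x hx).2 e2))
    refine ⟨μ, fun x' hx' e1' e2' => ?_⟩
    rw [hμ]
    exact y.br_congr b c hd hx' hx (e1'.trans e1.symm) (e2'.trans e2.symm)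
  choose f hf using h1
  have h2 : ∀ x ∈ YY V R, P1 x = 0 → d * x * d⁻¹ * x⁻¹ = v 0 (f (P2 x)) := by
    intro x hx e1
    obtain ⟨μ, hμ⟩ := (c.mem_R2 _).1 (b.DU hd ((y.mem_U2 x hx).2 e1))
    have hw := W_le_X V R i (c.w1_mem 1)
    have hx' := y.X_Y b c hw hx
    obtain ⟨z, hz, k1, k2⟩ := y.surj (P2 x) 0
    have h3 := b.lam_conj hw hd hx
    rw [← hμ, c.w1_act, one_mul, zero_add] at h3
    have h4 : d * (w1 1 * x * (w1 1)⁻¹) * d⁻¹ * (w1 1 * x * (w1 1)⁻¹)⁻¹ = d * (z * x) * d⁻¹ * (z * x)⁻¹ := by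
      refine y.br_congr b c hd hx' (mul_mem hz hx) ?_ ?_
      · rw [y.w11 _ _ hx, y.mul1 _ hz _ hx, k1, one_smul, add_comm]
      · rw [y.w12 _ _ hx, y.mul2 _ hz _ hx, k2, zero_add]
    rw [h4, b.lam_mul hd hz hx, hf _ z hz k1 k2, ← hμ, ← c.v_add, add_zero, zero_add] at h3
    rw [← hμ]
    congr 1
    exact (c.v_inj h3).1
  refine ⟨f, fun x hx => ?_⟩
  obtain ⟨x1, k1, x2, k2, rfl⟩ := b.exists_mul_Y c.ne hx
  have m1 := UU_le_YY i k1
  have m2 := UU_le_YY j k2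
  have e1 := (y.mem_U1 x1 m1).1 k1
  have e2 := (y.mem_U2 x2 m2).1 k2
  rw [b.lam_mul hd m1 m2, hf _ x1 m1 rfl e1, h2 x2 m2 e2, y.mul1 _ m1 _ m2, y.mul2 _ m1 _ m2, e1, e2,
    ← c.v_add, add_zero, zero_add, zero_add, add_zero]

theorem exists_lam1 [CharP F 2] {d : G} (hd : d ∈ DD V R) : ∃ f : M →ₗ[F] F,
    ∀ x ∈ YY V R, d * x * d⁻¹ * x⁻¹ = v (f (P1 x)) (f (P2 x)) := by
  obtain ⟨f, hf⟩ := y.exists_lam0 b c hd
  have f0 : f 0 = 0 := by
    have h1 := hf 1 (one_mem _)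
    rw [y.one1, y.one2] at h1
    have h2 : d * 1 * d⁻¹ * 1⁻¹ = 1 := by group
    rw [h2] at h1
    exact (c.v_one _ _ h1.symm).1
  refine ⟨{ toFun := f, map_add' := fun m m' => ?_, map_smul' := fun a m => ?_ }, hf⟩
  · obtain ⟨x, hx, e1, e2⟩ := y.surj m 0
    obtain ⟨x', hx', e1', e2'⟩ := y.surj m' 0
    have h1 := hf _ (mul_mem hx hx')
    rw [b.lam_mul hd hx hx', hf x hx, hf x' hx', ← c.v_add, y.mul1 _ hx _ hx', e1, e1'] at h1
    exact (c.v_inj h1).1.symm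
  · rw [RingHom.id_apply, smul_eq_mul]
    obtain ⟨x, hx, e1, e2⟩ := y.surj 0 m
    have hw := W_le_X V R i (c.w1_mem a)
    have h1 := b.lam_conj hw hd hx
    rw [hf x hx, hf _ (y.X_Y b c hw hx), c.w1_act, y.w11 _ _ hx, y.w12 _ _ hx, e1, e2, f0, zero_add,
      zero_add] at h1
    exact (c.v_inj h1).1.symm

open Classical in
/-- `λ` -/
noncomputable def lam [CharP F 2] (d : G) : M →ₗ[F] F :=
  if h : d ∈ DD V R then (y.exists_lam1 b c h).choose else 0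

theorem lam_spec [CharP F 2] {d x : G} (hd : d ∈ DD V R) (hx : x ∈ YY V R) :
    d * x * d⁻¹ * x⁻¹ = v (y.lam b c d (P1 x)) (y.lam b c d (P2 x)) := by
  unfold lam
  rw [dif_pos hd]
  exact (y.exists_lam1 b c hd).choose_spec x hx

theorem lam_unique [CharP F 2] {d : G} (hd : d ∈ DD V R) {f : M → F}
    (hf : ∀ x ∈ YY V R, P2 x = 0 → d * x * d⁻¹ * x⁻¹ = v (f (P1 x)) 0) (m : M) : y.lam b c d m = f m := by
  obtain ⟨x, hx, e1, e2⟩ := y.surj m 0
  have h1 := y.lam_spec b c hd hx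
  rw [hf x hx e2, e1, e2, map_zero] at h1
  exact (c.v_inj h1).1.symm

theorem lam_mul [CharP F 2] {d d' : G} (hd : d ∈ DD V R) (hd' : d' ∈ DD V R) :
    y.lam b c (d * d') = y.lam b c d + y.lam b c d' := by
  ext m
  refine y.lam_unique b c (mul_mem hd hd') (f := fun m => y.lam b c d m + y.lam b c d' m) (fun x hx e2 => ?_) m
  rw [b.lam_mul_left hd hd' hx, y.lam_spec b c hd hx, y.lam_spec b c hd' hx, ← c.v_add, e2, map_zero,
    map_zero, add_zero]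

theorem lam_eq_zero [CharP F 2] {d : G} (hd : d ∈ DD V R) :
    y.lam b c d = 0 ↔ d ∈ centralizer (YY V R : Set G) := by
  rw [mem_centralizer_iff]
  constructor
  · intro h x hx
    have h1 := y.lam_spec b c hd hx
    rw [h, LinearMap.zero_apply, LinearMap.zero_apply, c.v_zero, mul_inv_eq_one, mul_inv_eq_iff_eq_mul] at h1
    exact h1.symm
  · intro h
    ext m
    refine y.lam_unique b c hd (f := fun _ => 0) (fun x hx _ => ?_) m
    rw [c.v_zero, ← h x hx, mul_inv_cancel_right, mul_inv_cancel]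

theorem lam_V [CharP F 2] {d : G} (hd : d ∈ V) : y.lam b c d = 0 := by
  rw [y.lam_eq_zero b c (V_le_D V R hd), mem_centralizer_iff]
  intro x hx
  exact (mem_centralizer_iff.1 (YY_le_cen hx) d hd).symm

/-- `X` acts trivially on `D / V` -/
theorem lam_conj [CharP F 2] {d x : G} (hd : d ∈ DD V R) (hx : x ∈ XX V R) :
    y.lam b c (x * d * x⁻¹) = y.lam b c d := by
  have h1 := b.XD hx hd
  have e : x * d * x⁻¹ = x * d * x⁻¹ * d⁻¹ * d := by group
  rw [e, y.lam_mul b c (V_le_D V R h1) hd, y.lam_V b c h1, zero_add]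

/-- `D → M*` -/
noncomputable def lamHom [CharP F 2] : DD V R →* Multiplicative (M →ₗ[F] F) where
  toFun d := Multiplicative.ofAdd (y.lam b c d)
  map_one' := by
    rw [← ofAdd_zero]
    congr 1
    exact y.lam_V b c (one_mem _)
  map_mul' := fun d d' => by
    rw [← ofAdd_add]
    congr 1
    exact y.lam_mul b c d.2 d'.2

theorem ker_lamHom [CharP F 2] : (y.lamHom b c).ker = (centralizer (YY V R : Set G)).subgroupOf (DD V R) := by
  ext d
  rw [MonoidHom.mem_ker, mem_subgroupOf, ← y.lam_eq_zero b c d.2]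
  exact ofAdd_eq_one

/-- `|D : C_D(Y)| ≤ |M|` -/
theorem index_cen_le [CharP F 2] [Finite G] :
    (centralizer (YY V R : Set G)).relIndex (DD V R) ∣ Nat.card M := by
  have := y.finite_M
  have : Finite F := by
    refine Finite.of_injective (fun a => v a 0) fun a a' h => (c.v_inj h).1
  have h1 := index_ker (y.lamHom b c)
  rw [y.ker_lamHom b c] at h1
  have h2 : Nat.card (Multiplicative (M →ₗ[F] F)) = Nat.card M := by
    rw [Nat.card_congr Multiplicative.toAdd]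
    have : Module.Finite F M := inferInstance
    exact (Nat.card_congr (Module.finBasis F M).toDualEquiv.toEquiv).symm
  have : Finite (Multiplicative (M →ₗ[F] F)) := Nat.finite_of_card_ne_zero (by
    rw [h2]; exact Nat.card_pos.ne')
  have h3 := card_subgroup_dvd_card (y.lamHom b c).range
  rw [h2, ← h1] at h3
  exact h3

end

end YPair

end Cfsg.Agent.Omega.BTwo

end

section


/-!
# SQ3, `b = 2`: `X / Y = SL₂(F)`

`YPair.exists_acts`: every `x ∈ X` acts on `V = N` and on `Y / D = N ⊗ M` by the same matrix; `YPair.rho : X → SL₂(F)` is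
onto; `YPair.cen_X_V`: `C_X(V) = Y` (on `BTC`, all `q`); so `X / Y ≅ SL₂(F)`.
-/

set_option autoImplicit false
set_option linter.unusedSectionVars false

namespace Cfsg.Agent.Omega.BTwo

open Subgroup Cfsg.Agent.Lib.SL2Mat
open scoped commutatorElement

universe u v w

section abs

/-- a central 2-subgroup which is a direct factor of a subgroup of odd index meets the commutator subgroup trivially -/
theorem central_eq_bot {Γ : Type u} [Group Γ] [Finite Γ] (Z P : Subgroup Γ) (hZ : Z ≤ center Γ)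
    (hPZ : ∀ x ∈ P, x ∈ Z → x = 1) (hidx : Odd (P ⊔ Z).index) (h2 : IsPGroup 2 Z) (hc : Z ≤ commutator Γ) :
    Z = ⊥ := by
  set H := P ⊔ Z with hH
  have hPH : P ≤ H := le_sup_left
  have hZH : Z ≤ H := le_sup_right
  have hdec : ∀ x ∈ H, ∃ p ∈ P, ∃ z ∈ Z, x = p * z := by
    intro x hx
    have hn : Z.Normal := ⟨fun n hn g => by
      have h1 := mem_center_iff.1 (hZ hn) g
      rw [h1, mul_inv_cancel_right]; exact hn⟩
    have h1 : x ∈ ((P ⊔ Z : Subgroup Γ) : Set Γ) := hx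
    rw [mul_normal] at h1
    obtain ⟨p, hp, z, hz, e⟩ := h1
    exact ⟨p, hp, z, hz, e.symm⟩
  have hcen : ∀ z ∈ Z, ∀ g : Γ, g * z = z * g := fun z hz g => mem_center_iff.1 (hZ hz) g
  have hPn : (P.subgroupOf H).Normal := by
    refine ⟨?_⟩
    rintro ⟨n, hn⟩ hn' ⟨g, hg⟩
    rw [mem_subgroupOf] at hn' ⊢
    have hn'' : n ∈ P := hn'
    show g * n * g⁻¹ ∈ P
    obtain ⟨p, hp, z, hz, rfl⟩ := hdec g hg
    have e : p * z * n * (p * z)⁻¹ = p * n * p⁻¹ := by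
      rw [mul_inv_rev, mul_assoc p z n, ← hcen z hz n]; group
    rw [e]
    exact mul_mem (mul_mem hp hn'') (inv_mem hp)
  let A := H ⧸ P.subgroupOf H
  let _ : CommGroup A :=
    { (inferInstance : Group A) with
      mul_comm := by
        intro a b
        induction a using QuotientGroup.induction_on with
        | H a =>
          induction b using QuotientGroup.induction_on with
          | H b =>
            rw [← QuotientGroup.mk_mul, ← QuotientGroup.mk_mul, QuotientGroup.eq, mem_subgroupOf]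
            obtain ⟨p, hp, z, hz, ea⟩ := hdec a a.2
            obtain ⟨p', hp', z', hz', eb⟩ := hdec b b.2
            show ((a : Γ) * b)⁻¹ * ((b : Γ) * a) ∈ P
            rw [ea, eb]
            have e : (p * z * (p' * z'))⁻¹ * (p' * z' * (p * z)) = (p * p')⁻¹ * (p' * p) := by
              have e1 : p * z * (p' * z') = p * p' * (z * z') := by
                rw [mul_assoc p z, ← mul_assoc z, ← hcen z hz p']; group
              have e2 : p' * z' * (p * z) = p' * p * (z * z') := by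
                rw [mul_assoc p' z', ← mul_assoc z', ← hcen z' hz' p, mul_assoc p z' z, hcen z hz z']; group
              have e3 := hcen _ (inv_mem (mul_mem hz hz')) ((p * p')⁻¹ * (p' * p))
              calc (p * z * (p' * z'))⁻¹ * (p' * z' * (p * z))
                  = (z * z')⁻¹ * ((p * p')⁻¹ * (p' * p)) * (z * z') := by rw [e1, e2]; group
                _ = (p * p')⁻¹ * (p' * p) := by rw [← e3, inv_mul_cancel_right]
            rw [e]
            exact mul_mem (inv_mem (mul_mem hp hp')) (mul_mem hp' hp) }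
  let φ : H →* A := QuotientGroup.mk' (P.subgroupOf H)
  rw [eq_bot_iff]
  intro z hz
  rw [mem_bot]
  -- the transfer
  have h1 : MonoidHom.transfer φ z = 1 := by
    have h3 : commutator Γ ≤ (MonoidHom.transfer φ).ker := by
      rw [_root_.commutator_def, commutator_le]
      intro a _ b _
      rw [MonoidHom.mem_ker, map_commutatorElement, commutatorElement_eq_one_iff_mul_comm]
      exact mul_comm _ _
    exact h3 (hc hz)
  have h3 := MonoidHom.transfer_eq_pow φ z (by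
    intro k g _
    have := hcen _ (pow_mem hz k) g⁻¹
    rw [this]; group)
  rw [h1] at h3
  have h4 : z ^ H.index ∈ P := by
    have h5 := (QuotientGroup.eq_one_iff _).1 h3.symm
    exact h5
  have h5 := hPZ _ h4 (pow_mem hz _)
  obtain ⟨k, hk⟩ := h2 ⟨z, hz⟩
  have hk' : z ^ 2 ^ k = 1 := congrArg Subtype.val hk
  have h6 : orderOf z ∣ H.index := orderOf_dvd_of_pow_eq_one h5
  have h7 : orderOf z ∣ 2 ^ k := orderOf_dvd_of_pow_eq_one hk'
  have h8 : Nat.Coprime H.index (2 ^ k) := (Nat.coprime_two_right.2 hidx).pow_right k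
  have h9 := Nat.eq_one_of_dvd_coprimes h8 h6 h7
  exact orderOf_eq_one_iff.1 h9

end abs

variable {G : Type u} [Group G] {ι : Type w} {V : Subgroup G} {R : ι → Subgroup G} {i j : ι} {F : Type v} [Field F]
  {w1 w2 : F → G} {M : Type u} [AddCommGroup M] [Module F M] {P1 P2 : G → M} {v : F → F → G}

/-- `x` acts on `V = N` by the matrix `A` -/
def ActV (v : F → F → G) (x : G) (A : Matrix.SpecialLinearGroup (Fin 2) F) : Prop :=
  ∀ b c, x * v b c * x⁻¹ = v (ent A 0 0 * b + ent A 0 1 * c) (ent A 1 0 * b + ent A 1 1 * c)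

/-- `x` acts on `Y / D = N ⊗ M` by the matrix `A` -/
def ActY (V : Subgroup G) (R : ι → Subgroup G) (P1 P2 : G → M) (x : G)
    (A : Matrix.SpecialLinearGroup (Fin 2) F) : Prop :=
  ∀ z ∈ YY V R, P1 (x * z * x⁻¹) = ent A 0 0 • P1 z + ent A 0 1 • P2 z ∧
    P2 (x * z * x⁻¹) = ent A 1 0 • P1 z + ent A 1 1 • P2 z

theorem ActV.mul {x x' : G} {A A' : Matrix.SpecialLinearGroup (Fin 2) F} (h : ActV v x A) (h' : ActV v x' A') :
    ActV v (x * x') (A * A') := by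
  intro b c
  have e : x * x' * v b c * (x * x')⁻¹ = x * (x' * v b c * x'⁻¹) * x⁻¹ := by group
  rw [e, h', h, ent_mul, ent_mul, ent_mul, ent_mul]
  congr 1 <;> ring

theorem ActV.one : ActV v 1 (1 : Matrix.SpecialLinearGroup (Fin 2) F) := by
  intro b c
  rw [ent_one_00, ent_one_01, ent_one_10, ent_one_11]
  simp

theorem ActV.inv {x : G} {A : Matrix.SpecialLinearGroup (Fin 2) F} (h : ActV v x A) : ActV v x⁻¹ A⁻¹ := by
  intro b c
  have hd := det_eq A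
  rw [ent_inv A, mk_00, mk_01, mk_10, mk_11]
  have h1 := h (ent A 1 1 * b + -ent A 0 1 * c) (-ent A 1 0 * b + ent A 0 0 * c)
  have e1 : ent A 0 0 * (ent A 1 1 * b + -ent A 0 1 * c) + ent A 0 1 * (-ent A 1 0 * b + ent A 0 0 * c) = b := by
    linear_combination b * hd
  have e2 : ent A 1 0 * (ent A 1 1 * b + -ent A 0 1 * c) + ent A 1 1 * (-ent A 1 0 * b + ent A 0 0 * c) = c := by
    linear_combination c * hd
  rw [e1, e2] at h1
  rw [← h1]; group

theorem ActY.mul (b : BT V R) {x x' : G} {A A' : Matrix.SpecialLinearGroup (Fin 2) F}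
    (hx' : x' ∈ normalizer (V : Set G)) (h : ActY V R P1 P2 x A) (h' : ActY V R P1 P2 x' A') :
    ActY V R P1 P2 (x * x') (A * A') := by
  intro z hz
  have hz' : x' * z * x'⁻¹ ∈ YY V R := conj_mem_of_normalizer (b.NV_le_NY hx') hz
  have e : x * x' * z * (x * x')⁻¹ = x * (x' * z * x'⁻¹) * x⁻¹ := by group
  obtain ⟨h1, h2⟩ := h _ hz'
  obtain ⟨h3, h4⟩ := h' z hz
  rw [e, h1, h2, h3, h4, ent_mul, ent_mul, ent_mul, ent_mul]
  simp only [smul_add, add_smul, mul_smul]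
  constructor <;> abel

theorem ActY.one : ActY V R P1 P2 1 (1 : Matrix.SpecialLinearGroup (Fin 2) F) := by
  intro z hz
  rw [ent_one_00, ent_one_01, ent_one_10, ent_one_11]
  simp

theorem ActY.inv (b : BT V R) {x : G} {A : Matrix.SpecialLinearGroup (Fin 2) F}
    (hx : x ∈ normalizer (V : Set G)) (h : ActY V R P1 P2 x A) : ActY V R P1 P2 x⁻¹ A⁻¹ := by
  intro z hz
  have hd := det_eq A
  have hz' : x⁻¹ * z * x⁻¹⁻¹ ∈ YY V R := conj_mem_of_normalizer (b.NV_le_NY (inv_mem hx)) hz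
  obtain ⟨h1, h2⟩ := h _ hz'
  have e : x * (x⁻¹ * z * x⁻¹⁻¹) * x⁻¹ = z := by group
  rw [e] at h1 h2
  rw [ent_inv A, mk_00, mk_01, mk_10, mk_11, h1, h2]
  generalize P1 (x⁻¹ * z * x⁻¹⁻¹) = m
  generalize P2 (x⁻¹ * z * x⁻¹⁻¹) = n
  constructor
  · have e1 : ent A 1 1 • (ent A 0 0 • m + ent A 0 1 • n) + -ent A 0 1 • (ent A 1 0 • m + ent A 1 1 • n) =
        (ent A 0 0 * ent A 1 1 - ent A 0 1 * ent A 1 0) • m := by module
    rw [e1, hd, one_smul]
  · have e1 : -ent A 1 0 • (ent A 0 0 • m + ent A 0 1 • n) + ent A 0 0 • (ent A 1 0 • m + ent A 1 1 • n) =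
        (ent A 0 0 * ent A 1 1 - ent A 0 1 * ent A 1 0) • n := by module
    rw [e1, hd, one_smul]

namespace Coord

variable (c : Coord V R i j v w1 w2)
include c

theorem actV_unique {x : G} {A A' : Matrix.SpecialLinearGroup (Fin 2) F} (h : ActV v x A) (h' : ActV v x A') :
    A = A' := by
  have h1 := (h 1 0).symm.trans (h' 1 0)
  have h2 := (h 0 1).symm.trans (h' 0 1)
  simp only [mul_one, mul_zero, add_zero, zero_add] at h1 h2
  obtain ⟨k1, k2⟩ := c.v_inj h1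
  obtain ⟨k3, k4⟩ := c.v_inj h2
  exact ext_ent k1 k3 k2 k4

theorem actV_one_iff {x : G} : ActV v x (1 : Matrix.SpecialLinearGroup (Fin 2) F) ↔
    x ∈ centralizer (V : Set G) := by
  rw [mem_centralizer_iff]
  constructor
  · intro h z hz
    obtain ⟨b, d, rfl⟩ := (c.mem_V z).1 hz
    have h1 := h b d
    rw [ent_one_00, ent_one_01, ent_one_10, ent_one_11, one_mul, zero_mul, add_zero, zero_mul, one_mul, zero_add,
      mul_inv_eq_iff_eq_mul] at h1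
    exact h1.symm
  · intro h b d
    rw [ent_one_00, ent_one_01, ent_one_10, ent_one_11, one_mul, zero_mul, add_zero, zero_mul, one_mul, zero_add,
      mul_inv_eq_iff_eq_mul]
    exact (h _ (c.v_mem b d)).symm

theorem actV_w1 (a : F) : ActV v (w1 a) (up a) := by
  intro b d
  rw [c.w1_act, up_00, up_01, up_10, up_11, one_mul, one_mul, zero_mul, zero_add]

theorem actV_w2 (a : F) : ActV v (w2 a) (lo a) := by
  intro b d
  rw [c.w2_act, lo_00, lo_01, lo_10, lo_11, one_mul, one_mul, zero_mul, add_zero, add_comm d]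

theorem exists_up {x : G} (hx : x ∈ WW V (R i)) : ∃ a, ActV v x (up a) := by
  obtain ⟨a, ha⟩ := c.W1_act x hx
  refine ⟨a, fun b d => ?_⟩
  rw [ha, up_00, up_01, up_10, up_11, one_mul, one_mul, zero_mul, zero_add]

theorem exists_lo {x : G} (hx : x ∈ WW V (R j)) : ∃ a, ActV v x (lo a) := by
  obtain ⟨a, ha⟩ := c.W2_act x hx
  refine ⟨a, fun b d => ?_⟩
  rw [ha, lo_00, lo_01, lo_10, lo_11, one_mul, one_mul, zero_mul, add_zero, add_comm d]

/-- every element of `X` acts on `V` as an element of `SL₂(F)` -/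
theorem exists_actV (b : BT V R) {x : G} (hx : x ∈ XX V R) : ∃ A, ActV v x A := by
  let T : Subgroup G :=
    { carrier := {x | ∃ A, ActV v x A}
      one_mem' := ⟨1, ActV.one⟩
      mul_mem' := by
        rintro x y ⟨A, hA⟩ ⟨B, hB⟩
        exact ⟨A * B, hA.mul hB⟩
      inv_mem' := by
        rintro x ⟨A, hA⟩
        exact ⟨A⁻¹, hA.inv⟩ }
  have h : XX V R ≤ T := by
    rw [b.X_eq c.ne]
    refine sup_le (fun w hw => ?_) fun w hw => ?_
    · obtain ⟨a, ha⟩ := c.exists_up hw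
      exact ⟨_, ha⟩
    · obtain ⟨a, ha⟩ := c.exists_lo hw
      exact ⟨_, ha⟩
  exact h hx

/-- the homomorphism `X → SL₂(F)` -/
noncomputable def rho (b : BT V R) : XX V R →* Matrix.SpecialLinearGroup (Fin 2) F where
  toFun x := (c.exists_actV b x.2).choose
  map_one' := c.actV_unique (c.exists_actV b (1 : XX V R).2).choose_spec ActV.one
  map_mul' := fun x y => c.actV_unique (c.exists_actV b (x * y).2).choose_spec
    ((c.exists_actV b x.2).choose_spec.mul (c.exists_actV b y.2).choose_spec)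

theorem rho_spec (b : BT V R) (x : XX V R) : ActV v (x : G) (c.rho b x) := (c.exists_actV b x.2).choose_spec

theorem rho_eq (b : BT V R) {x : XX V R} {A : Matrix.SpecialLinearGroup (Fin 2) F} (h : ActV v (x : G) A) :
    c.rho b x = A := c.actV_unique (c.rho_spec b x) h

theorem rho_w1 (b : BT V R) (a : F) : c.rho b ⟨w1 a, W_le_X V R i (c.w1_mem a)⟩ = up a :=
  c.rho_eq b (c.actV_w1 a)

theorem rho_w2 (b : BT V R) (a : F) : c.rho b ⟨w2 a, W_le_X V R j (c.w2_mem a)⟩ = lo a :=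
  c.rho_eq b (c.actV_w2 a)

theorem rho_surjective (b : BT V R) : Function.Surjective (c.rho b) := by
  intro A
  obtain ⟨p, q, r, s, rfl⟩ := exists_up_lo A
  exact ⟨⟨w1 p, W_le_X V R i (c.w1_mem p)⟩ * ⟨w2 q, W_le_X V R j (c.w2_mem q)⟩ *
    ⟨w1 r, W_le_X V R i (c.w1_mem r)⟩ * ⟨w2 s, W_le_X V R j (c.w2_mem s)⟩, by
    rw [map_mul, map_mul, map_mul, c.rho_w1, c.rho_w1, c.rho_w2, c.rho_w2]⟩

theorem rho_eq_one (b : BT V R) {x : XX V R} : c.rho b x = 1 ↔ (x : G) ∈ centralizer (V : Set G) := by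
  rw [← c.actV_one_iff]
  constructor
  · intro h
    rw [← h]
    exact c.rho_spec b x
  · exact fun h => c.rho_eq b h

end Coord

/-- `[C(V), X] ≤ Y` -/
theorem BT.cen_comm_X (b : BT V R) {g x : G} (hg : g ∈ centralizer (V : Set G)) (hx : x ∈ XX V R) :
    g * x * g⁻¹ * x⁻¹ ∈ YY V R := by
  have h1 : XX V R ≤ cenMod (YY V R) (centralizer (V : Set G)) := by
    refine iSup_le fun k w hw => ⟨b.NV_le_NY (b.W_le_NV k hw), fun g hg => UU_le_YY k ?_⟩
    refine mem_inf.2 ⟨?_, mul_mem (conj_mem_of_normalizer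
      (normalizer_le_normalizer_centralizer V (b.W_le_NV k hw)) hg) (inv_mem hg)⟩
    have e : w * g * w⁻¹ * g⁻¹ = w * (g * w⁻¹ * g⁻¹) := by group
    rw [e]
    exact mul_mem hw (conj_mem_of_normalizer (b.cen_le_NW k hg) (inv_mem hw))
  have h2 := (h1 hx).2 g hg
  have e : g * x * g⁻¹ * x⁻¹ = (x * g * x⁻¹ * g⁻¹)⁻¹ := by group
  rw [e]
  exact inv_mem h2

namespace YPair

variable (y : YPair V R i j w1 w2 M P1 P2) (c : Coord V R i j v w1 w2)
include y c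

/-- elements of `W i` with the same action on `V` act equally on `Y / D` -/
theorem P_same (b : BT V R) {k : ι} {x x' z : G} (hx : x ∈ WW V (R k)) (hx' : x' ∈ WW V (R k))
    (h : ∀ v ∈ V, x * v * x⁻¹ = x' * v * x'⁻¹) (hz : z ∈ YY V R) :
    P1 (x * z * x⁻¹) = P1 (x' * z * x'⁻¹) ∧ P2 (x * z * x⁻¹) = P2 (x' * z * x'⁻¹) := by
  have m1 := y.X_Y b c (W_le_X V R k hx) hz
  have m2 := y.X_Y b c (W_le_X V R k hx') hz
  have h1 := b.same hx hx' h hz
  rw [← y.eq_iff m1 m2]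
  have e : (x' * z * x'⁻¹)⁻¹ * (x * z * x⁻¹) =
      (x' * z * x'⁻¹)⁻¹ * (x * z * x⁻¹ * (x' * z * x'⁻¹)⁻¹) * (x' * z * x'⁻¹)⁻¹⁻¹ := by group
  rw [e]
  exact conj_mem_of_normalizer (b.Y_le_ND (inv_mem m2)) h1

theorem actY_of_W1 (b : BT V R) {x : G} (hx : x ∈ WW V (R i)) {a : F} (ha : ActV v x (up a)) :
    ActY V R P1 P2 x (up a) := by
  intro z hz
  obtain ⟨h1, h2⟩ := y.P_same c b hx (c.w1_mem a) (fun q hq => by
    obtain ⟨b', d', rfl⟩ := (c.mem_V q).1 hq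
    rw [ha, c.actV_w1 a]) hz
  rw [h1, h2, y.w11 a z hz, y.w12 a z hz, up_00, up_01, up_10, up_11, one_smul, one_smul, zero_smul, zero_add]
  exact ⟨rfl, rfl⟩

theorem actY_of_W2 (b : BT V R) {x : G} (hx : x ∈ WW V (R j)) {a : F} (ha : ActV v x (lo a)) :
    ActY V R P1 P2 x (lo a) := by
  intro z hz
  obtain ⟨h1, h2⟩ := y.P_same c b hx (c.w2_mem a) (fun q hq => by
    obtain ⟨b', d', rfl⟩ := (c.mem_V q).1 hq
    rw [ha, c.actV_w2 a]) hz
  rw [h1, h2, y.w21 a z hz, y.w22 a z hz, lo_00, lo_01, lo_10, lo_11, one_smul, one_smul, zero_smul, add_zero]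
  exact ⟨rfl, add_comm _ _⟩

/-- every element of `X` acts on `V` and on `Y / D` by the same matrix -/
theorem exists_act (b : BT V R) {x : G} (hx : x ∈ XX V R) : ∃ A, ActV v x A ∧ ActY V R P1 P2 x A := by
  let T : Subgroup G :=
    { carrier := {x | x ∈ normalizer (V : Set G) ∧ ∃ A, ActV v x A ∧ ActY V R P1 P2 x A}
      one_mem' := ⟨one_mem _, 1, ActV.one, ActY.one⟩
      mul_mem' := by
        rintro x y ⟨hx, A, hA, hA'⟩ ⟨hy, B, hB, hB'⟩
        exact ⟨mul_mem hx hy, A * B, hA.mul hB, hA'.mul b hy hB'⟩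
      inv_mem' := by
        rintro x ⟨hx, A, hA, hA'⟩
        exact ⟨inv_mem hx, A⁻¹, hA.inv, hA'.inv b hx⟩ }
  have h : XX V R ≤ T := by
    rw [b.X_eq c.ne]
    refine sup_le (fun w hw => ?_) fun w hw => ?_
    · obtain ⟨a, ha⟩ := c.exists_up hw
      exact ⟨b.W_le_NV i hw, _, ha, y.actY_of_W1 c b hw ha⟩
    · obtain ⟨a, ha⟩ := c.exists_lo hw
      exact ⟨b.W_le_NV j hw, _, ha, y.actY_of_W2 c b hw ha⟩
  exact (h hx).2

theorem rho_Y (b : BT V R) (x : XX V R) : ActY V R P1 P2 (x : G) (c.rho b x) := by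
  obtain ⟨A, hA, hA'⟩ := y.exists_act c b x.2
  rw [c.rho_eq b hA]
  exact hA'

/-- `C_X(V)` is trivial on `Y / D` -/
theorem cen_Y_D (b : BT V R) {x z : G} (hx : x ∈ XX V R) (hxV : x ∈ centralizer (V : Set G)) (hz : z ∈ YY V R) :
    x * z * x⁻¹ * z⁻¹ ∈ DD V R := by
  obtain ⟨A, hA, hA'⟩ := y.exists_act c b hx
  have h1 : A = 1 := c.actV_unique hA (c.actV_one_iff.2 hxV)
  subst h1
  obtain ⟨h2, h3⟩ := hA' z hz
  rw [ent_one_00, ent_one_01, one_smul, zero_smul, add_zero] at h2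
  rw [ent_one_10, ent_one_11, one_smul, zero_smul, zero_add] at h3
  have m1 := y.X_Y b c hx hz
  have h4 := (y.eq_iff m1 hz).2 ⟨h2, h3⟩
  have e : x * z * x⁻¹ * z⁻¹ = z * (z⁻¹ * (x * z * x⁻¹)) * z⁻¹ := by group
  rw [e]
  exact conj_mem_of_normalizer (b.Y_le_ND hz) h4

/-- `C_X(V)` is a 2-group -/
theorem cen_X_V_isPGroup [Finite G] (b : BTC V R) : IsPGroup 2 (XX V R ⊓ centralizer (V : Set G) : Subgroup G) := by
  refine isPGroup_of_odd fun x hx ho => ?_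
  obtain ⟨hxX, hxV⟩ := mem_inf.1 hx
  obtain ⟨k⟩ := b.nonempty
  have hV : IsPGroup 2 V := (b.W_isPGroup k).to_le (V_le_WW V (R k))
  have hD : IsPGroup 2 (DD V R) := (b.W_isPGroup k).to_le (D_le_W V R k)
  have h1 : ∀ d ∈ DD V R, x * d = d * x := fun d hd => by
    have h2 := b.XD hxX hd
    exact comm_of_odd ho hV h2 (mem_centralizer_iff.1 hxV _ h2).symm
  have h2 : ∀ z ∈ YY V R, x * z = z * x := fun z hz => by
    have h3 := y.cen_Y_D c b.toBT hxX hxV hz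
    exact comm_of_odd ho hD h3 (h1 _ h3)
  have h3 : x ∈ centralizer (XX V R : Set G) := by
    have h4 : XX V R ≤ centralizer {x} := iSup_le fun k w hw => by
      rw [mem_centralizer_iff]
      intro x' hx'
      rw [Set.mem_singleton_iff.1 hx']
      have h5 : x * w * x⁻¹ * w⁻¹ ∈ UU V R k := by
        refine mem_inf.2 ⟨mul_mem (conj_mem_of_normalizer (b.cen_le_NW k hxV) hw) (inv_mem hw), ?_⟩
        have e : x * w * x⁻¹ * w⁻¹ = x * (w * x⁻¹ * w⁻¹) := by group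
        rw [e]
        exact mul_mem hxV (conj_mem_of_normalizer (normalizer_le_normalizer_centralizer V (b.W_le_NV k hw))
          (inv_mem hxV))
      exact comm_of_odd ho (b.U_isPGroup k) h5 (h2 _ (UU_le_YY k h5))
    rw [mem_centralizer_iff]
    intro z hz
    exact (mem_centralizer_iff.1 (h4 hz) x rfl).symm
  rw [b.cen_X] at h3
  exact mem_bot.1 h3

end YPair

/-! ### `C_X(V) = Y` -/

section count

/-- the stabiliser of the vector `(1, 0)` in `SL₂(F)` -/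
def upG (F : Type v) [Field F] : Subgroup (Matrix.SpecialLinearGroup (Fin 2) F) where
  carrier := {A | ∃ a, A = up a}
  one_mem' := ⟨0, up_zero.symm⟩
  mul_mem' := by
    rintro _ _ ⟨a, rfl⟩ ⟨b, rfl⟩
    exact ⟨a + b, up_mul a b⟩
  inv_mem' := by
    rintro _ ⟨a, rfl⟩
    exact ⟨-a, up_inv a⟩

theorem mem_upG {A : Matrix.SpecialLinearGroup (Fin 2) F} : A ∈ upG F ↔ ent A 0 0 = 1 ∧ ent A 1 0 = 0 := by
  constructor
  · rintro ⟨a, rfl⟩
    exact ⟨rfl, rfl⟩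
  · rintro ⟨h1, h2⟩
    have h3 := det_eq A
    rw [h1, h2, one_mul, mul_zero, sub_zero] at h3
    exact ⟨ent A 0 1, ext_ent h1 rfl h2 h3⟩

theorem odd_index_upG [Finite F] [CharP F 2] : Odd (upG F).index := by
  classical
  let f : (Matrix.SpecialLinearGroup (Fin 2) F) ⧸ upG F → {p : F × F // p ≠ 0} :=
    Quotient.lift (s := QuotientGroup.leftRel (upG F)) (fun A => ⟨(ent A 0 0, ent A 1 0), by
      intro h
      have h1 : ent A 0 0 = 0 := congrArg Prod.fst h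
      have h2 : ent A 1 0 = 0 := congrArg Prod.snd h
      have h3 := det_eq A
      rw [h1, h2, zero_mul, mul_zero, sub_zero] at h3
      exact zero_ne_one h3⟩) (by
      intro A B hAB
      have hAB' : A⁻¹ * B ∈ upG F := QuotientGroup.leftRel_apply.1 hAB
      obtain ⟨a, ha⟩ := hAB'
      have hB : B = A * up a := by rw [← ha]; group
      apply Subtype.ext
      apply Prod.ext
      · show ent A 0 0 = ent B 0 0
        rw [hB, ent_mul, up_00, up_10, mul_one, mul_zero, add_zero]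
      · show ent A 1 0 = ent B 1 0
        rw [hB, ent_mul, up_00, up_10, mul_one, mul_zero, add_zero])
  have hf : Function.Bijective f := by
    constructor
    · intro A B h
      induction A using QuotientGroup.induction_on with
      | H A =>
        induction B using QuotientGroup.induction_on with
        | H B =>
          have h0 := congrArg Subtype.val h
          have h1 : ent A 0 0 = ent B 0 0 := congrArg Prod.fst h0
          have h2 : ent A 1 0 = ent B 1 0 := congrArg Prod.snd h0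
          rw [QuotientGroup.eq, mem_upG, ent_mul, ent_mul, ent_inv A, mk_00, mk_01, mk_10, mk_11, ← h1, ← h2]
          have h3 := det_eq A
          constructor
          · linear_combination h3
          · ring
    · rintro ⟨⟨p, r⟩, h⟩
      by_cases hp : p = 0
      · have hr : r ≠ 0 := fun hr => h (by rw [hp, hr]; rfl)
        refine ⟨QuotientGroup.mk (mk p (-r⁻¹) r 0 (by rw [neg_mul, inv_mul_cancel₀ hr]; ring)), ?_⟩
        rfl
      · refine ⟨QuotientGroup.mk (mk p 0 r p⁻¹ (by rw [mul_inv_cancel₀ hp]; ring)), ?_⟩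
        rfl
  have h1 : (upG F).index = Nat.card {p : F × F // p ≠ 0} := Nat.card_congr (Equiv.ofBijective f hf)
  rw [h1]
  have _ := Fintype.ofFinite F
  have h2 : Nat.card {p : F × F // p ≠ 0} = Nat.card (F × F) - 1 := by
    rw [Nat.card_eq_fintype_card, Nat.card_eq_fintype_card, Fintype.card_subtype_compl,
      Fintype.card_subtype_eq]
  rw [h2, Nat.card_prod]
  have h3 : 2 ∣ Nat.card F := by
    obtain ⟨n, -, hn⟩ := FiniteField.card F 2
    rw [Nat.card_eq_fintype_card, hn]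
    exact dvd_pow_self 2 n.pos.ne'
  have h4 : 0 < Nat.card F := Nat.card_pos
  have h5 : Even (Nat.card F * Nat.card F) := (even_iff_two_dvd.2 h3).mul_left _
  exact Nat.Even.sub_odd (Nat.mul_pos h4 h4) h5 odd_one

end count

namespace Coord

variable (c : Coord V R i j v w1 w2)
include c

/-- the image of `W i` in `X / Y` is perfect-like: `w ∈ [h, W i] U i` -/
theorem exists_comm_hh [CharP F 2] (b : BT V R) {a : F} (ha : a ≠ 0) (ha1 : a ≠ 1) {x : G} (hx : x ∈ WW V (R i)) :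
    ∃ t : F, (hh w1 w2 a * w1 t * (hh w1 w2 a)⁻¹ * (w1 t)⁻¹)⁻¹ * x ∈ UU V R i := by
  obtain ⟨s, hs⟩ := c.exists_up hx
  have h1 : a ^ 2 + 1 ≠ 0 := by
    intro h
    have h2 : (a + 1) ^ 2 = 0 := by rw [CharTwo.add_sq, one_pow]; exact h
    have h3 := pow_eq_zero_iff (two_ne_zero) |>.1 h2
    exact ha1 (CharTwo.add_eq_zero.1 h3)
  refine ⟨(a ^ 2 + 1)⁻¹ * s, ?_⟩
  set t := (a ^ 2 + 1)⁻¹ * s with ht
  have hm : hh w1 w2 a * w1 t * (hh w1 w2 a)⁻¹ ∈ WW V (R i) := by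
    have := conj_mem_cj (g := hh w1 w2 a) (c.w1_mem t)
    rwa [b.cj_WW (c.hh_R1 b ha)] at this
  refine mem_inf.2 ⟨mul_mem (inv_mem (mul_mem hm (inv_mem (c.w1_mem t)))) hx, ?_⟩
  have h2 : ActV v (hh w1 w2 a * w1 t * (hh w1 w2 a)⁻¹) (up (a ^ 2 * t)) := by
    intro p r
    rw [c.hh_w1_act b ha t (c.v_mem p r), c.actV_w1]
  have h3 := ((h2.mul (c.actV_w1 t).inv).inv).mul hs
  rw [up_inv, up_mul, up_inv, up_mul] at h3
  have e : -(a ^ 2 * t + -t) + s = 0 := by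
    have h4 : (a ^ 2 + 1) * t = s := by rw [ht, ← mul_assoc, mul_inv_cancel₀ h1, one_mul]
    have h5 : a ^ 2 * t + -t = s := by rw [CharTwo.neg_eq]; linear_combination h4
    rw [h5, neg_add_cancel]
  rw [e, up_zero] at h3
  exact c.actV_one_iff.1 h3

end Coord

namespace YPair

variable (y : YPair V R i j w1 w2 M P1 P2) (c : Coord V R i j v w1 w2)
include y c

/-- **`C_X(V) = Y`**, assuming that `C_X(V)` is in `Y X'` -/
theorem cen_X_V_aux [Finite G] [Finite F] [CharP F 2] (b : BTC V R)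
    (hc : ∀ x ∈ XX V R, x ∈ centralizer (V : Set G) → ∃ z ∈ YY V R, x * z ∈ ⁅XX V R, XX V R⁆) :
    XX V R ⊓ centralizer (V : Set G) = YY V R := by
  have hYX : YY V R ≤ XX V R := YY_le_XX
  have hn : ((YY V R).subgroupOf (XX V R)).Normal :=
    ⟨fun n hn g => conj_mem_of_normalizer (g := (g : G)) (x := (n : G)) (b.NV_le_NY (b.X_le_NV g.2)) hn⟩
  let Γ := XX V R ⧸ (YY V R).subgroupOf (XX V R)
  let π : XX V R →* Γ := QuotientGroup.mk' ((YY V R).subgroupOf (XX V R))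
  have hπ : Function.Surjective π := QuotientGroup.mk'_surjective _
  have hπ1 : ∀ x : XX V R, π x = 1 ↔ (x : G) ∈ YY V R := fun x => QuotientGroup.eq_one_iff x
  let C : Subgroup (XX V R) := (c.rho b.toBT).ker
  have hC : ∀ x : XX V R, x ∈ C ↔ (x : G) ∈ centralizer (V : Set G) := fun x => c.rho_eq_one b.toBT
  let W : Subgroup (XX V R) := (WW V (R i)).subgroupOf (XX V R)
  have hYC : (YY V R).subgroupOf (XX V R) ≤ C := fun x hx => (hC x).2 (YY_le_cen hx)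
  have hZ : C.map π ≤ center Γ := by
    rintro _ ⟨x, hx, rfl⟩
    rw [mem_center_iff]
    intro g
    obtain ⟨g, rfl⟩ := hπ g
    rw [← map_mul, ← map_mul]
    have h1 := b.cen_comm_X ((hC x).1 hx) g.2
    have h2 : π (x * g * x⁻¹ * g⁻¹) = 1 := (hπ1 _).2 h1
    rw [map_mul, map_mul, map_mul, map_inv, map_inv, mul_inv_eq_one, mul_inv_eq_iff_eq_mul] at h2
    rw [map_mul, map_mul]
    exact h2.symm
  have hPZ : ∀ x ∈ W.map π, x ∈ C.map π → x = 1 := by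
    rintro _ ⟨w, hw, rfl⟩ ⟨x, hx, e⟩
    rw [hπ1]
    have h1 : π (w⁻¹ * x) = 1 := by rw [map_mul, map_inv, e, inv_mul_cancel]
    have h2 : (w⁻¹ * x : XX V R) ∈ C := hYC ((hπ1 _).1 h1)
    have h3 : w ∈ C := by
      have h4 := mul_mem hx (inv_mem h2)
      have e2 : x * (w⁻¹ * x)⁻¹ = w := by group
      rwa [e2] at h4
    exact UU_le_YY i (mem_inf.2 ⟨hw, (hC w).1 h3⟩)
  have hidx : Odd (W.map π ⊔ C.map π).index := by
    rw [← Subgroup.map_sup]
    have h1 : W ⊔ C = (upG F).comap (c.rho b.toBT) := by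
      apply le_antisymm
      · refine sup_le (fun w hw => ?_) fun x hx => ?_
        · obtain ⟨a, ha⟩ := c.exists_up (x := (w : G)) hw
          exact ⟨a, c.rho_eq b.toBT ha⟩
        · have h2 : c.rho b.toBT x = 1 := hx
          rw [mem_comap, h2]
          exact one_mem _
      · rintro x ⟨a, ha⟩
        have h2 : (⟨w1 a, W_le_X V R i (c.w1_mem a)⟩ : XX V R)⁻¹ * x ∈ C := by
          show c.rho b.toBT _ = 1
          rw [map_mul, map_inv, c.rho_w1, ha, inv_mul_cancel]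
        have h3 : (⟨w1 a, W_le_X V R i (c.w1_mem a)⟩ : XX V R) ∈ W := c.w1_mem a
        have h4 := mul_mem ((le_sup_left : W ≤ W ⊔ C) h3) ((le_sup_right : C ≤ W ⊔ C) h2)
        rwa [mul_inv_cancel_left] at h4
    have h2 : (W ⊔ C).index = (upG F).index := by
      rw [h1]
      exact index_comap_of_surjective _ (c.rho_surjective b.toBT)
    have h3 : ((W ⊔ C).map π).index = (W ⊔ C).index := by
      rw [index_map, (MonoidHom.range_eq_top.2 hπ), index_top, mul_one]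
      congr 1
      rw [sup_eq_left, QuotientGroup.ker_mk']
      exact hYC.trans le_sup_right
    rw [h3, h2]
    exact odd_index_upG
  have h2 : IsPGroup 2 (C.map π) := by
    refine IsPGroup.map ?_ π
    have h3 := y.cen_X_V_isPGroup c b
    have h4 : C.map (XX V R).subtype ≤ XX V R ⊓ centralizer (V : Set G) := by
      rintro _ ⟨x, hx, rfl⟩
      exact mem_inf.2 ⟨x.2, (hC x).1 hx⟩
    have h5 := h3.to_le h4
    exact h5.of_injective (C.equivMapOfInjective _ (XX V R).subtype_injective).toMonoidHom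
      (C.equivMapOfInjective _ (XX V R).subtype_injective).injective
  have hcm : C.map π ≤ _root_.commutator Γ := by
    rintro _ ⟨x, hx, rfl⟩
    obtain ⟨z, hz, hxz⟩ := hc x x.2 ((hC x).1 hx)
    have h3 : π x = π (x * ⟨z, hYX hz⟩) := by
      rw [map_mul, (hπ1 ⟨z, hYX hz⟩).2 hz, mul_one]
    rw [h3]
    have h4 : (x * ⟨z, hYX hz⟩ : XX V R) ∈ _root_.commutator (XX V R) := by
      have h5 : (_root_.commutator (XX V R)).map (XX V R).subtype = ⁅XX V R, XX V R⁆ := by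
        rw [_root_.commutator_def, Subgroup.map_commutator, ← MonoidHom.range_eq_map, range_subtype]
      rw [← h5] at hxz
      obtain ⟨q, hq, e⟩ := hxz
      have e2 : q = x * ⟨z, hYX hz⟩ := Subtype.ext e
      rwa [e2] at hq
    have h5 : (_root_.commutator (XX V R)).map π ≤ _root_.commutator Γ := by
      rw [_root_.commutator_def, Subgroup.map_commutator, _root_.commutator_def]
      exact commutator_mono le_top le_top
    exact h5 ⟨_, h4, rfl⟩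
  have key := central_eq_bot (C.map π) (W.map π) hZ hPZ hidx h2 hcm
  apply le_antisymm
  · rintro x hx
    obtain ⟨hxX, hxV⟩ := mem_inf.1 hx
    have h3 : π ⟨x, hxX⟩ ∈ C.map π := ⟨_, (hC ⟨x, hxX⟩).2 hxV, rfl⟩
    rw [key, mem_bot] at h3
    exact (hπ1 ⟨x, hxX⟩).1 h3
  · exact le_inf hYX YY_le_cen

/-- **`C_X(V) = Y`**, `q ≥ 4` -/
theorem cen_X_V_four [Finite G] [Finite F] [CharP F 2] (b : BTC V R) {a : F} (ha : a ≠ 0) (ha1 : a ≠ 1) :
    XX V R ⊓ centralizer (V : Set G) = YY V R := by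
  refine y.cen_X_V_aux c b fun x hx _ => ?_
  -- `X = X' Y`
  have hn : YY V R ≤ normalizer ((⁅XX V R, XX V R⁆ : Subgroup G) : Set G) := by
    refine le_normalizer_of fun k hk z hz => ?_
    have h1 : ⁅XX V R, XX V R⁆ ≤ XX V R := commutator_le.2 fun p hp r hr =>
      mul_mem (mul_mem (mul_mem hp hr) (inv_mem hp)) (inv_mem hr)
    have h2 : ⁅k, z⁆ ∈ ⁅XX V R, XX V R⁆ := commutator_mem_commutator (YY_le_XX hk) (h1 hz)
    have e : k * z * k⁻¹ = ⁅k, z⁆ * z := by rw [commutatorElement_def]; group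
    rw [e]
    exact mul_mem h2 hz
  have half : ∀ {i j : ι} {v : F → F → G} {w1 w2 : F → G}, Coord V R i j v w1 w2 →
      WW V (R i) ≤ ⁅XX V R, XX V R⁆ ⊔ YY V R := by
    intro i j v w1 w2 c w hw
    obtain ⟨t, ht⟩ := c.exists_comm_hh b.toBT ha ha1 hw
    have h1 : hh w1 w2 a * w1 t * (hh w1 w2 a)⁻¹ * (w1 t)⁻¹ ∈ ⁅XX V R, XX V R⁆ :=
      commutator_mem_commutator (c.hh_mem_X b.toBT a) (W_le_X V R i (c.w1_mem t))
    have h2 := mul_mem ((le_sup_left : _ ≤ ⁅XX V R, XX V R⁆ ⊔ YY V R) h1)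
      ((le_sup_right : _ ≤ ⁅XX V R, XX V R⁆ ⊔ YY V R) (UU_le_YY i ht))
    rwa [mul_inv_cancel_left] at h2
  have h1 : XX V R ≤ ⁅XX V R, XX V R⁆ ⊔ YY V R := by
    conv_lhs => rw [b.X_eq c.ne]
    exact sup_le (half c) (half c.symm)
  have h2 : x ∈ ((⁅XX V R, XX V R⁆ ⊔ YY V R : Subgroup G) : Set G) := h1 hx
  rw [coe_mul_of_right_le_normalizer_left _ _ hn] at h2
  obtain ⟨q, hq, z, hz, e⟩ := h2
  refine ⟨z⁻¹, inv_mem hz, ?_⟩
  have e' : x = q * z := e.symm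
  rw [e', mul_inv_cancel_right]
  exact hq

end YPair

/-! ### `q = 2` -/

section two

/-- the action of `SL₂(F)` on `F²` -/
def actEnd (F : Type v) [Field F] : Matrix.SpecialLinearGroup (Fin 2) F →* Function.End (F × F) where
  toFun A := fun p => (ent A 0 0 * p.1 + ent A 0 1 * p.2, ent A 1 0 * p.1 + ent A 1 1 * p.2)
  map_one' := by
    funext p
    simp only [ent_one_00, ent_one_01, ent_one_10, ent_one_11, one_mul, zero_mul, add_zero, zero_add]
    rfl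
  map_mul' := fun A B => by
    funext p
    show _ = (_ : Function.End (F × F)) (_ : F × F)
    simp only [ent_mul]
    refine Prod.ext ?_ ?_
    · show _ = ent A 0 0 * (ent B 0 0 * p.1 + ent B 0 1 * p.2) + ent A 0 1 * (ent B 1 0 * p.1 + ent B 1 1 * p.2)
      ring
    · show _ = ent A 1 0 * (ent B 0 0 * p.1 + ent B 0 1 * p.2) + ent A 1 1 * (ent B 1 0 * p.1 + ent B 1 1 * p.2)
      ring

theorem up_one_notMem [Finite F] [CharP F 2] (h2 : ∀ a : F, a = 0 ∨ a = 1) :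
    (up 1 : Matrix.SpecialLinearGroup (Fin 2) F) ∉ _root_.commutator (Matrix.SpecialLinearGroup (Fin 2) F) := by
  classical
  intro h
  have _ := Fintype.ofFinite F
  let f : Matrix.SpecialLinearGroup (Fin 2) F →* ℤˣ := Equiv.Perm.sign.comp (MonoidHom.toHomPerm (actEnd F))
  have h3 : _root_.commutator (Matrix.SpecialLinearGroup (Fin 2) F) ≤ f.ker := by
    rw [_root_.commutator_def, commutator_le]
    intro a _ b _
    rw [MonoidHom.mem_ker, map_commutatorElement, commutatorElement_eq_one_iff_mul_comm]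
    exact mul_comm _ _
  have h4 : f (up 1) = 1 := h3 h
  have h5 : MonoidHom.toHomPerm (actEnd F) (up 1) = Equiv.swap ((0, 1) : F × F) (1, 1) := by
    ext1 p
    show (ent (up (1 : F)) 0 0 * p.1 + ent (up (1 : F)) 0 1 * p.2,
      ent (up (1 : F)) 1 0 * p.1 + ent (up (1 : F)) 1 1 * p.2) = _
    rw [up_00, up_01, up_10, up_11]
    obtain ⟨p, r⟩ := p
    have h01 : (0 : F) ≠ 1 := zero_ne_one
    rcases h2 r with rfl | rfl
    · rw [Equiv.swap_apply_of_ne_of_ne (by simp) (by simp)]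
      simp
    · rcases h2 p with rfl | rfl
      · rw [Equiv.swap_apply_left]; simp
      · rw [Equiv.swap_apply_right]
        simp [CharTwo.add_self_eq_zero]
  have h6 : f (up 1) = -1 := by
    show Equiv.Perm.sign (MonoidHom.toHomPerm (actEnd F) (up 1)) = -1
    rw [h5]
    exact Equiv.Perm.sign_swap (by simp)
  rw [h4] at h6
  exact absurd h6 (by decide)

end two

namespace YPair

variable (y : YPair V R i j w1 w2 M P1 P2) (c : Coord V R i j v w1 w2)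
include y c

/-- **`C_X(V) = Y`**, `q = 2` -/
theorem cen_X_V_two [Finite G] [Finite F] [CharP F 2] (b : BTC V R) (hF : ∀ a : F, a = 0 ∨ a = 1) :
    XX V R ⊓ centralizer (V : Set G) = YY V R := by
  refine y.cen_X_V_aux c b fun x hx hxV => ?_
  have hXX : ⁅XX V R, XX V R⁆ ≤ XX V R := commutator_le.2 fun p hp r hr =>
      mul_mem (mul_mem (mul_mem hp hr) (inv_mem hp)) (inv_mem hr)
  have hnorm : ∀ K : Subgroup G, K ≤ XX V R → K ≤ normalizer ((⁅XX V R, XX V R⁆ : Subgroup G) : Set G) := by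
    intro K hK
    refine le_normalizer_of fun k hk z hz => ?_
    have h2 : ⁅k, z⁆ ∈ ⁅XX V R, XX V R⁆ := commutator_mem_commutator (hK hk) (hXX hz)
    have e : k * z * k⁻¹ = ⁅k, z⁆ * z := by rw [commutatorElement_def]; group
    rw [e]
    exact mul_mem h2 hz
  have hn := hnorm _ (YY_le_XX (V := V) (R := R))
  set B := ⁅XX V R, XX V R⁆ ⊔ YY V R with hB
  have hBX : B ≤ XX V R := sup_le hXX YY_le_XX
  have hcB : ∀ p ∈ XX V R, ∀ r ∈ XX V R, p * r * p⁻¹ * r⁻¹ ∈ B := fun p hp r hr =>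
    (le_sup_left : _ ≤ B) (commutator_mem_commutator hp hr)
  have hYB : YY V R ≤ B := le_sup_right
  have m1 : w1 1 ∈ XX V R := W_le_X V R i (c.w1_mem 1)
  have m2 : w2 1 ∈ XX V R := W_le_X V R j (c.w2_mem 1)
  -- `T = B ∪ w1(1) B`
  have hsq : w1 1 * w1 1 ∈ B := hYB (UU_le_YY i (b.R_le_U i (b.W_sq i (c.w1_mem 1))))
  let T : Subgroup G :=
    { carrier := {x | x ∈ XX V R ∧ (x ∈ B ∨ (w1 1)⁻¹ * x ∈ B)}
      one_mem' := ⟨one_mem _, Or.inl (one_mem _)⟩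
      mul_mem' := by
        rintro p r ⟨hp, hp'⟩ ⟨hr, hr'⟩
        refine ⟨mul_mem hp hr, ?_⟩
        rcases hp' with hp' | hp' <;> rcases hr' with hr' | hr'
        · exact Or.inl (mul_mem hp' hr')
        · right
          have h1 := hcB _ (inv_mem m1) _ hp
          have e : (w1 1)⁻¹ * (p * r) = ((w1 1)⁻¹ * p * (w1 1)⁻¹⁻¹ * p⁻¹) * p * ((w1 1)⁻¹ * r) := by group
          rw [e]
          exact mul_mem (mul_mem h1 hp') hr'
        · right
          rw [← mul_assoc]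
          exact mul_mem hp' hr'
        · left
          have h1 := hcB _ (inv_mem m1) _ (hBX hp')
          have e : p * r = (w1 1 * w1 1) * ((w1 1)⁻¹ * ((w1 1)⁻¹ * p) * (w1 1)⁻¹⁻¹ * ((w1 1)⁻¹ * p)⁻¹) *
            ((w1 1)⁻¹ * p) * ((w1 1)⁻¹ * r) := by group
          rw [e]
          exact mul_mem (mul_mem (mul_mem hsq h1) hp') hr'
      inv_mem' := by
        rintro p ⟨hp, hp'⟩
        refine ⟨inv_mem hp, ?_⟩
        rcases hp' with hp' | hp'
        · exact Or.inl (inv_mem hp')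
        · right
          have h2 := hcB _ hp _ m1
          -- `w⁻¹ p⁻¹ = (p w)⁻¹`, `p w = [p, w] w p = [p, w] w² (w⁻¹ p)`
          have e : (w1 1)⁻¹ * p⁻¹ = ((p * w1 1 * p⁻¹ * (w1 1)⁻¹) * (w1 1 * w1 1) * ((w1 1)⁻¹ * p))⁻¹ := by group
          rw [e]
          exact inv_mem (mul_mem (mul_mem h2 hsq) hp') }
  have hT : XX V R ≤ T := by
    conv_lhs => rw [b.X_eq c.ne]
    refine sup_le (fun w hw => ⟨W_le_X V R i hw, ?_⟩) fun w hw => ⟨W_le_X V R j hw, ?_⟩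
    · obtain ⟨a, ha⟩ := c.exists_up hw
      rcases hF a with rfl | rfl
      · left
        rw [up_zero] at ha
        exact hYB (UU_le_YY i (mem_inf.2 ⟨hw, c.actV_one_iff.1 ha⟩))
      · right
        refine hYB (UU_le_YY i (mem_inf.2 ⟨mul_mem (inv_mem (c.w1_mem 1)) hw, c.actV_one_iff.1 ?_⟩))
        have h1 := (c.actV_w1 1).inv.mul ha
        rwa [inv_mul_cancel] at h1
    · obtain ⟨a, ha⟩ := c.exists_lo hw
      rcases hF a with rfl | rfl
      · left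
        rw [lo_zero] at ha
        exact hYB (UU_le_YY j (mem_inf.2 ⟨hw, c.actV_one_iff.1 ha⟩))
      · right
        -- `n w1(1) n⁻¹ ∈ W j` acts as `w2(1)`
        have hnX := c.nn_mem_X b.toBT 1
        have h1 : nn w1 w2 1 * w1 1 * (nn w1 w2 1)⁻¹ ∈ WW V (R j) := by
          have := conj_mem_cj (g := nn w1 w2 1) (c.w1_mem 1)
          rwa [b.cj_WW (c.nn_R1 b.toBT one_ne_zero)] at this
        have h2 : ActV v (nn w1 w2 1 * w1 1 * (nn w1 w2 1)⁻¹) (lo 1) := by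
          intro p r
          have h3 := c.nn_act one_ne_zero r p
          rw [inv_one, one_mul, one_mul] at h3
          have e : nn w1 w2 1 * w1 1 * (nn w1 w2 1)⁻¹ * v p r * (nn w1 w2 1 * w1 1 * (nn w1 w2 1)⁻¹)⁻¹ =
              nn w1 w2 1 * (w1 1 * ((nn w1 w2 1)⁻¹ * v p r * nn w1 w2 1) * (w1 1)⁻¹) * (nn w1 w2 1)⁻¹ := by
            group
          have e2 : (nn w1 w2 1)⁻¹ * v p r * nn w1 w2 1 = v r p := by rw [← h3]; group
          rw [e, e2, c.w1_act, c.nn_act one_ne_zero, lo_00, lo_01, lo_10, lo_11, inv_one]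
          congr 1 <;> ring
        have h3 : (nn w1 w2 1 * w1 1 * (nn w1 w2 1)⁻¹)⁻¹ * w ∈ YY V R := by
          refine UU_le_YY j (mem_inf.2 ⟨mul_mem (inv_mem h1) hw, c.actV_one_iff.1 ?_⟩)
          have h4 := h2.inv.mul ha
          rwa [inv_mul_cancel] at h4
        have h4 := hcB _ (inv_mem m1) _ hnX
        have e : (w1 1)⁻¹ * w = ((w1 1)⁻¹ * nn w1 w2 1 * (w1 1)⁻¹⁻¹ * (nn w1 w2 1)⁻¹) *
            ((nn w1 w2 1 * w1 1 * (nn w1 w2 1)⁻¹)⁻¹ * w) := by group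
        rw [e]
        exact mul_mem h4 (hYB h3)
  have hxB : x ∈ B := by
    rcases (hT hx).2 with h | h
    · exact h
    · exfalso
      -- `rho` maps `B` into the commutator subgroup
      have h1 : ∀ q (hq : q ∈ XX V R), q ∈ B → c.rho b.toBT ⟨q, hq⟩ ∈
          _root_.commutator (Matrix.SpecialLinearGroup (Fin 2) F) := by
        have h2 : B ≤ (((_root_.commutator (Matrix.SpecialLinearGroup (Fin 2) F)).comap
            (c.rho b.toBT)).map (XX V R).subtype) := by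
          refine sup_le ?_ fun z hz => ?_
          · have h3 : (_root_.commutator (XX V R)).map (XX V R).subtype = ⁅XX V R, XX V R⁆ := by
              rw [_root_.commutator_def, Subgroup.map_commutator, ← MonoidHom.range_eq_map, range_subtype]
            rw [← h3]
            refine Subgroup.map_mono ?_
            rw [← Subgroup.map_le_iff_le_comap, _root_.commutator_def, Subgroup.map_commutator,
              _root_.commutator_def]
            exact commutator_mono le_top le_top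
          · refine ⟨⟨z, YY_le_XX hz⟩, ?_, rfl⟩
            show c.rho b.toBT ⟨z, YY_le_XX hz⟩ ∈
              _root_.commutator (Matrix.SpecialLinearGroup (Fin 2) F)
            rw [(c.rho_eq_one b.toBT (x := ⟨z, YY_le_XX hz⟩)).2 (YY_le_cen hz)]
            exact one_mem _
        intro q hq hqB
        obtain ⟨q', hq', e⟩ := h2 hqB
        have e2 : q' = ⟨q, hq⟩ := Subtype.ext e
        rw [← e2]
        exact hq'
      have h2 := h1 _ (hBX h) h
      have h3 : c.rho b.toBT ⟨(w1 1)⁻¹ * x, hBX h⟩ = (up 1)⁻¹ := by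
        refine c.rho_eq b.toBT ?_
        have h4 := (c.actV_w1 1).inv.mul (c.actV_one_iff.2 hxV)
        rwa [mul_one] at h4
      rw [h3] at h2
      exact up_one_notMem hF ((inv_mem_iff).1 h2)
  have h2 : x ∈ ((⁅XX V R, XX V R⁆ ⊔ YY V R : Subgroup G) : Set G) := hxB
  rw [coe_mul_of_right_le_normalizer_left _ _ hn] at h2
  obtain ⟨q, hq, z, hz, e⟩ := h2
  refine ⟨z⁻¹, inv_mem hz, ?_⟩
  have e' : x = q * z := e.symm
  rw [e', mul_inv_cancel_right]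
  exact hq

/-- **`C_X(V) = Y`**, all `q` -/
theorem cen_X_V [Finite G] [Finite F] [CharP F 2] (b : BTC V R) :
    XX V R ⊓ centralizer (V : Set G) = YY V R := by
  by_cases h : ∃ a : F, a ≠ 0 ∧ a ≠ 1
  · obtain ⟨a, h0, h1⟩ := h
    exact y.cen_X_V_four c b h0 h1
  · push Not at h
    refine y.cen_X_V_two c b fun a => ?_
    by_cases h0 : a = 0
    · exact Or.inl h0
    · exact Or.inr (h a h0)

/-- the kernel of `X → SL₂(F)` is `Y` -/
theorem ker_rho [Finite G] [Finite F] [CharP F 2] (b : BTC V R) :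
    (c.rho b.toBT).ker = (YY V R).subgroupOf (XX V R) := by
  ext x
  rw [MonoidHom.mem_ker, c.rho_eq_one, mem_subgroupOf]
  constructor
  · intro h
    rw [← y.cen_X_V c b]
    exact mem_inf.2 ⟨x.2, h⟩
  · exact fun h => YY_le_cen h

/-- `|X : Y| = |SL₂(F)|` -/
theorem index_Y_X [Finite G] [Finite F] [CharP F 2] (b : BTC V R) :
    (YY V R).relIndex (XX V R) = Nat.card (Matrix.SpecialLinearGroup (Fin 2) F) := by
  have h1 := index_ker (c.rho b.toBT)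
  rw [y.ker_rho c b, MonoidHom.range_eq_top.2 (c.rho_surjective b.toBT), card_top] at h1
  exact h1

/-- **`X / Y ≅ SL₂(F)`** -/
noncomputable def xyEquiv [Finite G] [Finite F] [CharP F 2] (b : BTC V R) :
    (XX V R ⧸ (c.rho b.toBT).ker) ≃* Matrix.SpecialLinearGroup (Fin 2) F :=
  QuotientGroup.quotientKerEquivOfSurjective _ (c.rho_surjective b.toBT)

end YPair

end Cfsg.Agent.Omega.BTwo

end

section


/-!
# NODE LIE: existence of the torus (#10745 (A2), #11263 (0))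

From `BT` + coordinates of `V` + `Y/D = N ⊗ M` (`YMod`): every element of `X` acts on `V` and on `Y/D` by the
same matrix (`Mat`); hence `C_X(V)` is a 2-group and `X` contains a torus of order `q - 1`.
-/

set_option autoImplicit false
set_option linter.unusedSectionVars false

namespace Cfsg.Agent.Omega.Lie

open Subgroup Cfsg.Agent.Omega.BTwo

universe u v w

variable {G : Type u} [Group G] {ι : Type w} {F : Type v} [Field F]

/-- coordinates on `V` adapted to the points `R i`, `R j`, with root elements `w1 a ∈ W i`, `w2 a ∈ W j` -/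
structure Crd (V : Subgroup G) (R : ι → Subgroup G) (i j : ι) (v : F → F → G) (w1 w2 : F → G) : Prop where
  ne : i ≠ j
  v_add : ∀ b c b' c', v (b + b') (c + c') = v b c * v b' c'
  v_inj : ∀ b c, v b c = 1 → b = 0 ∧ c = 0
  v_mem : ∀ g, g ∈ V ↔ ∃ b c, v b c = g
  Ri : ∀ g, g ∈ R i ↔ ∃ b, v b 0 = g
  Rj : ∀ g, g ∈ R j ↔ ∃ c, v 0 c = g
  W1 : ∀ a, w1 a ∈ WW V (R i)
  W2 : ∀ a, w2 a ∈ WW V (R j)
  a1 : ∀ a b c, w1 a * v b c * (w1 a)⁻¹ = v (b + a * c) c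
  a2 : ∀ a b c, w2 a * v b c * (w2 a)⁻¹ = v b (c + a * b)
  f1 : ∀ w ∈ WW V (R i), ∃ a, ∀ b c, w * v b c * w⁻¹ = v (b + a * c) c
  f2 : ∀ w ∈ WW V (R j), ∃ a, ∀ b c, w * v b c * w⁻¹ = v b (c + a * b)

namespace Crd

variable {V : Subgroup G} {R : ι → Subgroup G} {i j : ι} {v : F → F → G} {w1 w2 : F → G}

theorem eq_of (C : Crd V R i j v w1 w2) {b c b' c' : F} (h : v b c = v b' c') : b = b' ∧ c = c' := by
  have h1 := C.v_add (b - b') (c - c') b' c'
  rw [sub_add_cancel, sub_add_cancel, h] at h1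
  obtain ⟨h2, h3⟩ := C.v_inj _ _ (right_eq_mul.mp h1)
  exact ⟨sub_eq_zero.1 h2, sub_eq_zero.1 h3⟩

theorem swap (C : Crd V R i j v w1 w2) : Crd V R j i (fun b c => v c b) w2 w1 where
  ne := C.ne.symm
  v_add b c b' c' := C.v_add c b c' b'
  v_inj b c h := (C.v_inj c b h).symm
  v_mem g := by
    rw [C.v_mem]
    exact ⟨fun ⟨b, c, h⟩ => ⟨c, b, h⟩, fun ⟨b, c, h⟩ => ⟨c, b, h⟩⟩
  Ri := C.Rj
  Rj := C.Ri
  W1 := C.W2
  W2 := C.W1
  a1 a b c := C.a2 a c b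
  a2 a b c := C.a1 a c b
  f1 w hw := by
    obtain ⟨a, ha⟩ := C.f2 w hw
    exact ⟨a, fun b c => ha c b⟩
  f2 w hw := by
    obtain ⟨a, ha⟩ := C.f1 w hw
    exact ⟨a, fun b c => ha c b⟩

/-- an element acting trivially in coordinates centralises `V` -/
theorem mem_cen (C : Crd V R i j v w1 w2) {g : G} (h : ∀ b c, g * v b c * g⁻¹ = v b c) :
    g ∈ centralizer (V : Set G) := by
  rw [mem_centralizer_iff]
  intro x hx
  obtain ⟨b, c, rfl⟩ := (C.v_mem x).1 hx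
  exact (mul_inv_eq_iff_eq_mul.1 (h b c)).symm

theorem of_mem_cen (C : Crd V R i j v w1 w2) {g : G} (h : g ∈ centralizer (V : Set G)) (b c : F) :
    g * v b c * g⁻¹ = v b c := by
  rw [mul_inv_eq_iff_eq_mul]
  exact (mem_centralizer_iff.1 h (v b c) ((C.v_mem _).2 ⟨b, c, rfl⟩)).symm

/-- `W i = {w1 a} U i` -/
theorem fact (C : Crd V R i j v w1 w2) {w : G} (hw : w ∈ WW V (R i)) :
    ∃ a, ∃ k ∈ UU V R i, w = w1 a * k := by
  obtain ⟨a, ha⟩ := C.f1 w hw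
  refine ⟨a, (w1 a)⁻¹ * w, ?_, by group⟩
  refine mem_inf.2 ⟨mul_mem (inv_mem (C.W1 a)) hw, C.mem_cen fun b c => ?_⟩
  have e1 : (w1 a)⁻¹ * v (b + a * c) c * w1 a = v b c := by
    rw [← C.a1 a b c]
    group
  calc (w1 a)⁻¹ * w * v b c * ((w1 a)⁻¹ * w)⁻¹ = (w1 a)⁻¹ * (w * v b c * w⁻¹) * w1 a := by group
    _ = v b c := by rw [ha, e1]

end Crd

/-! ### coordinates of `Y/D` -/

section rep

variable {V : Subgroup G} {R : ι → Subgroup G} {i j : ι} {v : F → F → G} {w1 w2 : F → G}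
  {M : Type u} [AddCommGroup M] [Module F M] {p1 p2 : G → M}

/-- `y ∈ Y` has the coordinates `(m, n)` modulo `D` -/
def Rep (D U1 U2 : Subgroup G) (p1 p2 : G → M) (y : G) (m n : M) : Prop :=
  ∃ u1 ∈ U1, ∃ u2 ∈ U2, y * (u1 * u2)⁻¹ ∈ D ∧ p1 u1 = m ∧ p2 u2 = n

variable (b : BT V R) (C : Crd V R i j v w1 w2)
  (y : YMod (DD V R) (UU V R i) (UU V R j) w1 w2 M p1 p2)

theorem _root_.Cfsg.Agent.Omega.BTwo.YMod.swap {D U1 U2 : Subgroup G}
    (y : YMod D U1 U2 w1 w2 M p1 p2) : YMod D U2 U1 w2 w1 M p2 p1 :=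
  ⟨y.mul2, y.mul1, y.ker2, y.ker1, y.surj2, y.surj1, y.act21, y.act12⟩

include b in
theorem conjD {g x : G} (hg : g ∈ normalizer (V : Set G)) (hx : x ∈ DD V R) : g * x * g⁻¹ ∈ DD V R :=
  conj_mem_of_normalizer (b.NV_le_ND hg) hx

include b C y in
/-- equality of first coordinates, modulo `D` -/
theorem p1_eq {a c : G} (ha : a ∈ UU V R i) (hc : c ∈ UU V R i) (h : a * c⁻¹ ∈ DD V R) : p1 a = p1 c := by
  have h1 : a = (a * c⁻¹) * c := by group
  rw [h1, y.mul1 _ (b.D_le_U i h) _ hc, (y.ker1 _ (b.D_le_U i h)).2 h, zero_add]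

include b C y in
theorem p1_conj {g u' : G} (hg : g ∈ WW V (R i)) (hu : u' ∈ UU V R i) : p1 (g * u' * g⁻¹) = p1 u' := by
  have h1 : g * u' * g⁻¹ ∈ UU V R i := by
    have e : g * u' * g⁻¹ = g * u' * g⁻¹ * u'⁻¹ * u' := by group
    rw [e]
    exact mul_mem (b.R_le_U i (b.WU hg hu)) hu
  refine p1_eq b C y h1 hu ?_
  have e : g * u' * g⁻¹ * u'⁻¹ ∈ R i := b.WU hg hu
  exact V_le_D V R (b.R_le i e)

include b C in
theorem rep_swap {x : G} {m n : M} (h : Rep (DD V R) (UU V R i) (UU V R j) p1 p2 x m n) :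
    Rep (DD V R) (UU V R j) (UU V R i) p2 p1 x n m := by
  obtain ⟨u1, h1, u2, h2, h3, h4, h5⟩ := h
  refine ⟨u2, h2, u1, h1, ?_, h5, h4⟩
  have e : x * (u2 * u1)⁻¹ = x * (u1 * u2)⁻¹ * (u1 * u2 * u1⁻¹ * u2⁻¹) := by group
  rw [e]
  exact mul_mem h3 (b.UU_comm C.ne h1 h2)

include b C y in
theorem rep_unique {x : G} {m n m' n' : M} (h : Rep (DD V R) (UU V R i) (UU V R j) p1 p2 x m n)
    (h' : Rep (DD V R) (UU V R i) (UU V R j) p1 p2 x m' n') : m = m' ∧ n = n' := by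
  have key : ∀ {i j : ι} {v : F → F → G} {w1 w2 : F → G} {p1 p2 : G → M},
      Crd V R i j v w1 w2 → YMod (DD V R) (UU V R i) (UU V R j) w1 w2 M p1 p2 → ∀ {x : G} {m n m' n' : M},
      Rep (DD V R) (UU V R i) (UU V R j) p1 p2 x m n → Rep (DD V R) (UU V R i) (UU V R j) p1 p2 x m' n' →
      m = m' := by
    intro i j v w1 w2 p1 p2 C y x m n m' n' h h'
    obtain ⟨u1, h1, u2, h2, h3, rfl, h5⟩ := h
    obtain ⟨u1', h1', u2', h2', h3', rfl, h5'⟩ := h'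
    have hd : (u1' * u2') * (u1 * u2)⁻¹ ∈ DD V R := by
      have e : (u1' * u2') * (u1 * u2)⁻¹ = (x * (u1' * u2')⁻¹)⁻¹ * (x * (u1 * u2)⁻¹) := by group
      rw [e]
      exact mul_mem (inv_mem h3') h3
    -- `u1⁻¹ u1' ∈ U j`
    have hx : u1' * u1⁻¹ ∈ UU V R j := by
      have e : u1' * u1⁻¹ = ((u1' * u2') * (u1 * u2)⁻¹) * (u1 * (u2 * u2'⁻¹) * u1⁻¹) := by group
      rw [e]
      exact mul_mem (b.D_le_U j hd) (conj_mem_of_normalizer (b.cen_le_NU j (UU_le_cen i h1))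
        (mul_mem h2 (inv_mem h2')))
    have hxi : u1' * u1⁻¹ ∈ UU V R i := mul_mem h1' (inv_mem h1)
    have hxD : u1' * u1⁻¹ ∈ DD V R := by
      rw [← b.UU_inf C.ne]
      exact mem_inf.2 ⟨hxi, hx⟩
    exact (p1_eq b C y h1' h1 hxD).symm
  exact ⟨key C y h h', key C.swap y.swap (rep_swap b C h) (rep_swap b C h')⟩

include b C in
theorem rep_U {x : G} (hx : x ∈ UU V R i) : Rep (DD V R) (UU V R i) (UU V R j) p1 p2 x (p1 x) (p2 1) :=
  ⟨x, hx, 1, one_mem _, by rw [mul_one, mul_inv_cancel]; exact one_mem _, rfl, rfl⟩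

theorem p2_one {D U1 U2 : Subgroup G} (y : YMod D U1 U2 w1 w2 M p1 p2) : p2 1 = 0 := by
  have := y.mul2 1 (one_mem _) 1 (one_mem _)
  rw [mul_one] at this
  exact left_eq_add.1 this

theorem p1_one {D U1 U2 : Subgroup G} (y : YMod D U1 U2 w1 w2 M p1 p2) : p1 1 = 0 := p2_one y.swap

include b C y in
theorem rep_mul {x x' : G} {m n m' n' : M} (h : Rep (DD V R) (UU V R i) (UU V R j) p1 p2 x m n)
    (h' : Rep (DD V R) (UU V R i) (UU V R j) p1 p2 x' m' n') :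
    Rep (DD V R) (UU V R i) (UU V R j) p1 p2 (x * x') (m + m') (n + n') := by
  obtain ⟨u1, h1, u2, h2, h3, rfl, rfl⟩ := h
  obtain ⟨u1', h1', u2', h2', h3', rfl, rfl⟩ := h'
  refine ⟨u1 * u1', mul_mem h1 h1', u2 * u2', mul_mem h2 h2', ?_, y.mul1 _ h1 _ h1', y.mul2 _ h2 _ h2'⟩
  have hN : u1 * u2 ∈ normalizer (DD V R : Set G) :=
    mul_mem (b.Y_le_ND (UU_le_YY i h1)) (b.Y_le_ND (UU_le_YY j h2))
  have e : x * x' * (u1 * u1' * (u2 * u2'))⁻¹ =
      (x * (u1 * u2)⁻¹) * ((u1 * u2) * (x' * (u1' * u2')⁻¹) * (u1 * u2)⁻¹) *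
        (u1 * (u2 * u1' * u2⁻¹ * u1'⁻¹) * u1⁻¹) * ((u1 * u1' * u2 * u2') * (u1 * u1' * (u2 * u2'))⁻¹) := by
    group
  rw [e]
  refine mul_mem (mul_mem (mul_mem h3 (conj_mem_of_normalizer hN h3')) ?_) ?_
  · refine conj_mem_of_normalizer (b.Y_le_ND (UU_le_YY i h1)) ?_
    exact b.UU_comm C.ne.symm h2 h1'
  · have e2 : (u1 * u1' * u2 * u2') * (u1 * u1' * (u2 * u2'))⁻¹ = 1 := by group
    rw [e2]
    exact one_mem _

include b C y in
theorem rep_inv {x : G} {m n : M} (h : Rep (DD V R) (UU V R i) (UU V R j) p1 p2 x m n) :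
    Rep (DD V R) (UU V R i) (UU V R j) p1 p2 x⁻¹ (-m) (-n) := by
  obtain ⟨u1, h1, u2, h2, h3, rfl, rfl⟩ := h
  refine ⟨u1⁻¹, inv_mem h1, u2⁻¹, inv_mem h2, ?_, ?_, ?_⟩
  · have hN : u1 * u2 ∈ normalizer (DD V R : Set G) :=
      mul_mem (b.Y_le_ND (UU_le_YY i h1)) (b.Y_le_ND (UU_le_YY j h2))
    have e : x⁻¹ * (u1⁻¹ * u2⁻¹)⁻¹ =
        ((u1 * u2)⁻¹ * (x * (u1 * u2)⁻¹)⁻¹ * ((u1 * u2)⁻¹)⁻¹) * (u2⁻¹ * u1⁻¹ * u2 * u1) := by group
    rw [e]
    refine mul_mem (conj_mem_of_normalizer (inv_mem hN) (inv_mem h3)) ?_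
    have := b.UU_comm C.ne.symm (inv_mem h2) (inv_mem h1)
    rwa [inv_inv, inv_inv] at this
  · have := y.mul1 _ h1 _ (inv_mem h1)
    rw [mul_inv_cancel, p1_one y] at this
    exact (neg_eq_of_add_eq_zero_right this.symm).symm
  · have := y.mul2 _ h2 _ (inv_mem h2)
    rw [mul_inv_cancel, p2_one y] at this
    exact (neg_eq_of_add_eq_zero_right this.symm).symm

include b C y in
theorem rep_exists {x : G} (hx : x ∈ YY V R) :
    ∃ m n, Rep (DD V R) (UU V R i) (UU V R j) p1 p2 x m n := by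
  rw [b.Y_eq C.ne, sup_eq_closure] at hx
  induction hx using closure_induction with
  | mem x hx =>
    rcases hx with hx | hx
    · exact ⟨_, _, rep_U b C hx⟩
    · exact ⟨_, _, rep_swap b C.swap (rep_U b C.swap hx)⟩
  | one => exact ⟨_, _, rep_U b C (one_mem _)⟩
  | mul x y' _ _ hx hy =>
    obtain ⟨m, n, h⟩ := hx
    obtain ⟨m', n', h'⟩ := hy
    exact ⟨_, _, rep_mul b C y h h'⟩
  | inv x _ hx =>
    obtain ⟨m, n, h⟩ := hx
    exact ⟨_, _, rep_inv b C y h⟩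

/-- `x` acts on `V` and on `Y/D` by the matrix `(α β; γ δ)` of determinant `1` -/
structure Mat (V : Subgroup G) (R : ι → Subgroup G) (i j : ι) (v : F → F → G) (p1 p2 : G → M) (x : G)
    (α β γ δ : F) : Prop where
  norm : x ∈ normalizer (V : Set G)
  det : α * δ - β * γ = 1
  act : ∀ b c, x * v b c * x⁻¹ = v (α * b + β * c) (γ * b + δ * c)
  rep : ∀ z m n, Rep (DD V R) (UU V R i) (UU V R j) p1 p2 z m n →
    Rep (DD V R) (UU V R i) (UU V R j) p1 p2 (x * z * x⁻¹) (α • m + β • n) (γ • m + δ • n)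

include b C y in
theorem mat_w1 (a : F) : Mat V R i j v p1 p2 (w1 a) 1 a 0 1 where
  norm := b.W_le_NV i (C.W1 a)
  det := by ring
  act b' c := by rw [C.a1]; congr 1 <;> ring
  rep := by
    rintro z m n ⟨u1, h1, u2, h2, h3, rfl, rfl⟩
    have hw := C.W1 a
    have hwU : w1 a * u2 * (w1 a)⁻¹ * u2⁻¹ ∈ UU V R i := b.WU' hw h2
    have hw1 : w1 a * u1 * (w1 a)⁻¹ ∈ UU V R i := by
      have e : w1 a * u1 * (w1 a)⁻¹ = w1 a * u1 * (w1 a)⁻¹ * u1⁻¹ * u1 := by group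
      rw [e]
      exact mul_mem (b.R_le_U i (b.WU hw h1)) h1
    refine ⟨(w1 a * u1 * (w1 a)⁻¹) * (w1 a * u2 * (w1 a)⁻¹ * u2⁻¹), mul_mem hw1 hwU, u2, h2, ?_, ?_, ?_⟩
    · have e : w1 a * z * (w1 a)⁻¹ * (w1 a * u1 * (w1 a)⁻¹ * (w1 a * u2 * (w1 a)⁻¹ * u2⁻¹) * u2)⁻¹ =
          w1 a * (z * (u1 * u2)⁻¹) * (w1 a)⁻¹ := by group
      rw [e]
      exact conjD b (b.W_le_NV i hw) h3
    · rw [y.mul1 _ hw1 _ hwU, y.act12 a u2 h2, p1_conj b C y hw h1, one_smul]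
    · rw [zero_smul, one_smul, zero_add]

include b C y in
theorem mat_Y {k : G} (hk : k ∈ UU V R i) : Mat V R i j v p1 p2 k 1 0 0 1 where
  norm := cen_le_NV V (UU_le_cen i hk)
  det := by ring
  act b' c := by rw [C.of_mem_cen (UU_le_cen i hk)]; congr 1 <;> ring
  rep := by
    rintro z m n h
    have hz : z ∈ YY V R := by
      obtain ⟨u1, h1, u2, h2, h3, -, -⟩ := h
      have e : z = (z * (u1 * u2)⁻¹) * (u1 * u2) := by group
      rw [e]
      exact mul_mem (b.D_le_Y h3) (mul_mem (UU_le_YY i h1) (UU_le_YY j h2))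
    obtain ⟨u1, h1, u2, h2, h3, rfl, rfl⟩ := h
    refine ⟨u1, h1, u2, h2, ?_, by rw [one_smul, zero_smul, add_zero], by rw [one_smul, zero_smul, zero_add]⟩
    have e : k * z * k⁻¹ * (u1 * u2)⁻¹ = (k * z * k⁻¹ * z⁻¹) * (z * (u1 * u2)⁻¹) := by group
    rw [e]
    exact mul_mem (b.Y_comm (UU_le_YY i hk) hz) h3

include b C in
theorem Mat.swap {x : G} {α β γ δ : F} (h : Mat V R i j v p1 p2 x α β γ δ) :
    Mat V R j i (fun b c => v c b) p2 p1 x δ γ β α where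
  norm := h.norm
  det := by rw [← h.det]; ring
  act b' c := by
    change x * v c b' * x⁻¹ = v (β * b' + α * c) (δ * b' + γ * c)
    rw [h.act, add_comm (α * c), add_comm (γ * c)]
  rep z m n hz := by
    have h1 := rep_swap b C (h.rep z n m (rep_swap b C.swap hz))
    rwa [add_comm (α • n), add_comm (γ • n)] at h1

include b C y in
theorem Mat.mul {x x' : G} {α β γ δ α' β' γ' δ' : F} (h : Mat V R i j v p1 p2 x α β γ δ)
    (h' : Mat V R i j v p1 p2 x' α' β' γ' δ') :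
    Mat V R i j v p1 p2 (x * x') (α * α' + β * γ') (α * β' + β * δ') (γ * α' + δ * γ')
      (γ * β' + δ * δ') where
  norm := mul_mem h.norm h'.norm
  det := by linear_combination (α' * δ' - β' * γ') * h.det + h'.det
  act b' c := by
    calc x * x' * v b' c * (x * x')⁻¹ = x * (x' * v b' c * x'⁻¹) * x⁻¹ := by group
      _ = _ := by
        rw [h'.act, h.act]
        congr 1 <;> ring
  rep z m n hz := by
    have h1 := h.rep _ _ _ (h'.rep z m n hz)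
    have e : x * x' * z * (x * x')⁻¹ = x * (x' * z * x'⁻¹) * x⁻¹ := by group
    rw [e]
    have e1 : α • (α' • m + β' • n) + β • (γ' • m + δ' • n) = (α * α' + β * γ') • m + (α * β' + β * δ') • n := by
      module
    have e2 : γ • (α' • m + β' • n) + δ • (γ' • m + δ' • n) = (γ * α' + δ * γ') • m + (γ * β' + δ * δ') • n := by
      module
    rwa [e1, e2] at h1

include b C y in
theorem Mat.inv {x : G} {α β γ δ : F} (h : Mat V R i j v p1 p2 x α β γ δ) :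
    Mat V R i j v p1 p2 x⁻¹ δ (-β) (-γ) α where
  norm := inv_mem h.norm
  det := by rw [← h.det]; ring
  act b' c := by
    rw [inv_inv]
    have h1 := h.act (δ * b' + -β * c) (-γ * b' + α * c)
    have e1 : α * (δ * b' + -β * c) + β * (-γ * b' + α * c) = b' := by linear_combination b' * h.det
    have e2 : γ * (δ * b' + -β * c) + δ * (-γ * b' + α * c) = c := by linear_combination c * h.det
    rw [e1, e2] at h1
    rw [← h1]
    group
  rep z m n hz := by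
    rw [inv_inv]
    have hzY : z ∈ YY V R := by
      obtain ⟨u1, h1, u2, h2, h3, -, -⟩ := hz
      have e : z = (z * (u1 * u2)⁻¹) * (u1 * u2) := by group
      rw [e]
      exact mul_mem (b.D_le_Y h3) (mul_mem (UU_le_YY i h1) (UU_le_YY j h2))
    have hzY' : x⁻¹ * z * x ∈ YY V R := by
      have := conj_mem_of_normalizer (b.NV_le_NY (inv_mem h.norm)) hzY
      rwa [inv_inv] at this
    obtain ⟨m', n', h1⟩ := rep_exists b C y hzY'
    have h2 := h.rep _ _ _ h1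
    have e : x * (x⁻¹ * z * x) * x⁻¹ = z := by group
    rw [e] at h2
    obtain ⟨e1, e2⟩ := rep_unique b C y hz h2
    have d : α * δ - β * γ = 1 := h.det
    have e3 : δ • m + (-β) • n = m' := by
      rw [e1, e2]
      have : δ • (α • m' + β • n') + (-β) • (γ • m' + δ • n') = (α * δ - β * γ) • m' := by module
      rw [this, d, one_smul]
    have e4 : (-γ) • m + α • n = n' := by
      rw [e1, e2]
      have : (-γ) • (α • m' + β • n') + α • (γ • m' + δ • n') = (α * δ - β * γ) • n' := by module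
      rw [this, d, one_smul]
    rwa [e3, e4]

include b C y in
/-- every element of `X` acts by a matrix -/
theorem exists_mat {x : G} (hx : x ∈ XX V R) : ∃ α β γ δ, Mat V R i j v p1 p2 x α β γ δ := by
  rw [b.X_eq C.ne, sup_eq_closure] at hx
  have h1 : ∀ {i j : ι} {v : F → F → G} {w1 w2 : F → G} {p1 p2 : G → M},
      Crd V R i j v w1 w2 → YMod (DD V R) (UU V R i) (UU V R j) w1 w2 M p1 p2 → ∀ w ∈ WW V (R i),
      ∃ α β γ δ, Mat V R i j v p1 p2 w α β γ δ := by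
    intro i j v w1 w2 p1 p2 C y w hw
    obtain ⟨a, k, hk, rfl⟩ := C.fact hw
    exact ⟨_, _, _, _, (mat_w1 b C y a).mul b C y (mat_Y b C y hk)⟩
  induction hx using closure_induction with
  | mem x hx =>
    rcases hx with hx | hx
    · exact h1 C y x hx
    · obtain ⟨α, β, γ, δ, h⟩ := h1 C.swap y.swap x hx
      exact ⟨_, _, _, _, h.swap b C.swap⟩
  | one =>
    exact ⟨_, _, _, _, mat_Y b C y (one_mem _)⟩
  | mul x x' _ _ hx hx' =>
    obtain ⟨α, β, γ, δ, h⟩ := hx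
    obtain ⟨α', β', γ', δ', h'⟩ := hx'
    exact ⟨_, _, _, _, h.mul b C y h'⟩
  | inv x _ hx =>
    obtain ⟨α, β, γ, δ, h⟩ := hx
    exact ⟨_, _, _, _, h.inv b C y⟩

include C in
theorem Mat.eq_one {x : G} {α β γ δ : F} (h : Mat V R i j v p1 p2 x α β γ δ)
    (hx : x ∈ centralizer (V : Set G)) : α = 1 ∧ β = 0 ∧ γ = 0 ∧ δ = 1 := by
  have h1 := h.act 1 0
  have h2 := h.act 0 1
  rw [C.of_mem_cen hx] at h1 h2
  obtain ⟨e1, e2⟩ := C.eq_of h1
  obtain ⟨e3, e4⟩ := C.eq_of h2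
  refine ⟨?_, ?_, ?_, ?_⟩
  · rw [mul_one, mul_zero, add_zero] at e1; exact e1.symm
  · rw [mul_one, mul_zero, zero_add] at e3; exact e3.symm
  · rw [mul_one, mul_zero, add_zero] at e2; exact e2.symm
  · rw [mul_one, mul_zero, zero_add] at e4; exact e4.symm

include b C y in
/-- `C_X(V)` centralises `Y/D` -/
theorem cen_Y {x z : G} (hx : x ∈ XX V R) (hxV : x ∈ centralizer (V : Set G)) (hz : z ∈ YY V R) :
    x * z * x⁻¹ * z⁻¹ ∈ DD V R := by
  obtain ⟨α, β, γ, δ, h⟩ := exists_mat b C y hx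
  obtain ⟨rfl, rfl, rfl, rfl⟩ := h.eq_one C hxV
  obtain ⟨m, n, hr⟩ := rep_exists b C y hz
  have h1 := h.rep z m n hr
  rw [one_smul, one_smul, zero_smul, zero_smul, add_zero, zero_add] at h1
  have h2 := rep_mul b C y h1 (rep_inv b C y hr)
  rw [add_neg_cancel, add_neg_cancel] at h2
  obtain ⟨u1, k1, u2, k2, k3, k4, k5⟩ := h2
  have k4' := (y.ker1 u1 k1).1 k4
  have k5' := (y.ker2 u2 k2).1 k5
  have e : x * z * x⁻¹ * z⁻¹ = (x * z * x⁻¹ * z⁻¹ * (u1 * u2)⁻¹) * (u1 * u2) := by group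
  rw [e]
  exact mul_mem k3 (mul_mem k4' k5')

end rep

end Cfsg.Agent.Omega.Lie

end

section


/-!
# NODE LIE: existence of the torus (#10745 (A2), #11263 (0)), part 2

`C_X(V)` is a 2-group; `X` contains a torus of order `q - 1` (`exists_torD`).
-/

set_option autoImplicit false
set_option linter.unusedSectionVars false

namespace Cfsg.Agent.Omega.Lie

open Subgroup Cfsg.Agent.Omega.BTwo

universe u v w

variable {G : Type u} [Group G] {ι : Type w} {F : Type v} [Field F]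
  {V : Subgroup G} {R : ι → Subgroup G} {i j : ι} {v : F → F → G} {w1 w2 : F → G}
  {M : Type u} [AddCommGroup M] [Module F M] {p1 p2 : G → M}

section odd

variable (b : BT V R) (C : Crd V R i j v w1 w2)
  (y : YMod (DD V R) (UU V R i) (UU V R j) w1 w2 M p1 p2)

theorem isPGroup_V (b : BT V R) : IsPGroup 2 V := by
  rintro ⟨a, ha⟩
  refine ⟨1, Subtype.ext ?_⟩
  change a ^ 2 ^ 1 = 1
  rw [pow_one, pow_two]
  exact b.V_sq a ha

theorem isPGroup_D (b : BT V R) : IsPGroup 2 (DD V R) := by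
  rintro ⟨a, ha⟩
  refine ⟨1, Subtype.ext ?_⟩
  change a ^ 2 ^ 1 = 1
  rw [pow_one, pow_two]
  exact b.D_sq ha

include b C y in
/-- an element of odd order of `C_X(V)` is trivial (`C(W i)` a 2-group) -/
theorem odd_cen_V (hp : IsPGroup 2 (centralizer (WW V (R i) : Set G))) {c : G} (hc : c ∈ XX V R)
    (hcV : c ∈ centralizer (V : Set G)) (ho : Odd (orderOf c)) : c = 1 := by
  have hV : ∀ g ∈ V, c * g = g * c := fun g hg => (mem_centralizer_iff.1 hcV g hg).symm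
  have hD : ∀ d ∈ DD V R, c * d = d * c := fun d hd =>
    comm_of_odd ho (isPGroup_V b) (b.XD hc hd) (hV _ (b.XD hc hd))
  have hU : ∀ u ∈ UU V R i, c * u = u * c := fun u hu => by
    have h := cen_Y b C y hc hcV (UU_le_YY i hu)
    exact comm_of_odd ho (isPGroup_D b) h (hD _ h)
  have hW : ∀ w ∈ WW V (R i), c * w = w * c := fun w hw => by
    have h : c * w * c⁻¹ * w⁻¹ ∈ UU V R i := by
      refine mem_inf.2 ⟨?_, ?_⟩
      · exact mul_mem (conj_mem_of_normalizer (b.cen_le_NW i hcV) hw) (inv_mem hw)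
      · have e : c * w * c⁻¹ * w⁻¹ = c * (w * c⁻¹ * w⁻¹) := by group
        rw [e]
        refine mul_mem hcV ?_
        have hN : normalizer (V : Set G) ≤ normalizer (centralizer (V : Set G) : Set G) := by
          intro g hg
          rw [← cj_eq_self_iff, ← centralizer_cj, cj_eq_self_iff.2 hg]
        exact conj_mem_of_normalizer (hN (b.W_le_NV i hw)) (inv_mem hcV)
    exact comm_of_odd ho (b.U_isPGroup i) h (hU _ h)
  have h1 : c ∈ centralizer (WW V (R i) : Set G) := by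
    rw [mem_centralizer_iff]
    exact fun w hw => (hW w hw).symm
  obtain ⟨n, hn⟩ := hp ⟨c, h1⟩
  have hn' : c ^ 2 ^ n = 1 := congrArg Subtype.val hn
  have hd := Nat.dvd_gcd (dvd_refl (orderOf c)) (orderOf_dvd_of_pow_eq_one hn')
  have hco : Nat.gcd (orderOf c) (2 ^ n) = 1 := (Nat.coprime_two_right.2 ho).pow_right n
  rw [hco, Nat.dvd_one, orderOf_eq_one_iff] at hd
  exact hd

include b C y in
/-- `C_X(V)` is a 2-group -/
theorem cen_X_V_isPGroup' [Finite G] (hp : IsPGroup 2 (centralizer (WW V (R i) : Set G))) :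
    IsPGroup 2 (XX V R ⊓ centralizer (V : Set G) : Subgroup G) :=
  isPGroup_of_odd fun _ hc ho => odd_cen_V b C y hp hc.1 hc.2 ho

/-- `C_X(V)` is a 2-group -/
theorem cen_X_V_isPGroup [Finite G] (b : BTC V R) (C : Crd V R i j v w1 w2)
    (y : YMod (DD V R) (UU V R i) (UU V R j) w1 w2 M p1 p2) :
    IsPGroup 2 (XX V R ⊓ centralizer (V : Set G) : Subgroup G) :=
  cen_X_V_isPGroup' b.toBT C y (b.cen_W_isPGroup i)

end odd

section tor

variable (b : BT V R) (C : Crd V R i j v w1 w2)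
  (y : YMod (DD V R) (UU V R i) (UU V R j) w1 w2 M p1 p2)

include b C y in
/-- `h(a) = n(a) n(1)` acts as `diag(a, a⁻¹)` -/
theorem mat_hh [CharP F 2] {a : F} (ha : a ≠ 0) : Mat V R i j v p1 p2 (hh w1 w2 a) a 0 0 a⁻¹ := by
  have h2 : (1 : F) + 1 = 0 := CharTwo.add_self_eq_zero 1
  have hn : ∀ a : F, a ≠ 0 → Mat V R i j v p1 p2 (nn w1 w2 a) 0 a a⁻¹ 0 := by
    intro a ha
    have h1 := mat_w1 b C y a
    have h3 := (mat_w1 b C.swap y.swap a⁻¹).swap b C.swap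
    have h4 := (h1.mul b C y h3).mul b C y h1
    have e1 : (1 * 1 + a * a⁻¹) * 1 + (1 * 0 + a * 1) * 0 = (0 : F) := by
      rw [mul_inv_cancel₀ ha]
      linear_combination h2
    have e2 : (1 * 1 + a * a⁻¹) * a + (1 * 0 + a * 1) * 1 = a := by
      rw [mul_inv_cancel₀ ha]
      linear_combination a * h2
    have e3 : (0 * 1 + 1 * a⁻¹) * 1 + (0 * 0 + 1 * 1) * 0 = a⁻¹ := by ring
    have e4 : (0 * 1 + 1 * a⁻¹) * a + (0 * 0 + 1 * 1) * 1 = (0 : F) := by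
      rw [zero_mul, zero_add, one_mul, inv_mul_cancel₀ ha]
      linear_combination h2
    rw [e1, e2, e3, e4] at h4
    unfold nn
    exact h4
  have h5 := (hn a ha).mul b C y (hn 1 one_ne_zero)
  have e1 : 0 * 0 + a * (1 : F)⁻¹ = a := by rw [inv_one]; ring
  have e2 : 0 * 1 + a * 0 = (0 : F) := by ring
  have e3 : a⁻¹ * 0 + 0 * (1 : F)⁻¹ = 0 := by ring
  have e4 : a⁻¹ * 1 + 0 * 0 = a⁻¹ := by ring
  rw [e1, e2, e3, e4] at h5
  unfold hh
  exact h5

include b C y in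
theorem Mat.pow {x : G} {a : F} (h : Mat V R i j v p1 p2 x a 0 0 a⁻¹) (n : ℕ) :
    Mat V R i j v p1 p2 (x ^ n) (a ^ n) 0 0 (a ^ n)⁻¹ := by
  induction n with
  | zero =>
    have h1 := mat_Y b C y (one_mem (UU V R i))
    simpa using h1
  | succ n ih =>
    have h1 := ih.mul b C y h
    have e1 : a ^ n * a + 0 * 0 = a ^ (n + 1) := by ring
    have e2 : a ^ n * 0 + 0 * a⁻¹ = 0 := by ring
    have e3 : 0 * a + (a ^ n)⁻¹ * 0 = 0 := by ring
    have e4 : 0 * 0 + (a ^ n)⁻¹ * a⁻¹ = (a ^ (n + 1))⁻¹ := by rw [pow_succ, mul_inv]; ring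
    rw [e1, e2, e3, e4] at h1
    rw [pow_succ]
    exact h1

include C in
theorem hh_mem_X {a : F} : hh w1 w2 a ∈ XX V R := by
  have h1 : ∀ a, w1 a ∈ XX V R := fun a => W_le_X V R i (C.W1 a)
  have h2 : ∀ a, w2 a ∈ XX V R := fun a => W_le_X V R j (C.W2 a)
  exact mul_mem (mul_mem (mul_mem (h1 _) (h2 _)) (h1 _)) (mul_mem (mul_mem (h1 _) (h2 _)) (h1 _))

include b C y in
theorem rep_zero {x : G} (h : Rep (DD V R) (UU V R i) (UU V R j) p1 p2 x 0 0) : x ∈ DD V R := by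
  obtain ⟨u1, k1, u2, k2, k3, k4, k5⟩ := h
  have k4' := (y.ker1 u1 k1).1 k4
  have k5' := (y.ker2 u2 k2).1 k5
  have e : x = (x * (u1 * u2)⁻¹) * (u1 * u2) := by group
  rw [e]
  exact mul_mem k3 (mul_mem k4' k5')

include C in
/-- an element of `N(V)` acting as `diag(a, a⁻¹)` normalises `R i` -/
theorem Mat.normR {x : G} {a : F} (ha : a ≠ 0) (h : Mat V R i j v p1 p2 x a 0 0 a⁻¹) :
    x ∈ normalizer (R i : Set G) := by
  rw [mem_normalizer_iff]
  intro g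
  constructor
  · intro hg
    obtain ⟨c, rfl⟩ := (C.Ri g).1 hg
    rw [h.act]
    refine (C.Ri _).2 ⟨a * c, ?_⟩
    congr 1 <;> ring
  · intro hg
    obtain ⟨c, hc⟩ := (C.Ri _).1 hg
    have h1 := h.act (a⁻¹ * c) 0
    have e1 : a * (a⁻¹ * c) + 0 * 0 = c := by rw [mul_inv_cancel_left₀ ha]; ring
    have e2 : 0 * (a⁻¹ * c) + a⁻¹ * 0 = 0 := by ring
    rw [e1, e2, hc] at h1
    have h2 : v (a⁻¹ * c) 0 = g := by
      have := mul_right_cancel h1
      exact mul_left_cancel this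
    exact (C.Ri g).2 ⟨_, h2⟩

include b C in
/-- conjugation by `diag(a, a⁻¹)` multiplies root elements by `a²` -/
theorem act_conj {x w : G} {a r : F} (ha : a ≠ 0) (h : Mat V R i j v p1 p2 x a 0 0 a⁻¹)
    (hw : ∀ b c, w * v b c * w⁻¹ = v (b + r * c) c) (b' c : F) :
    (x * w * x⁻¹) * v b' c * (x * w * x⁻¹)⁻¹ = v (b' + a * a * r * c) c := by
  have h1 : x⁻¹ * v b' c * x = v (a⁻¹ * b') (a * c) := by
    have h2 := h.act (a⁻¹ * b') (a * c)
    have e1 : a * (a⁻¹ * b') + 0 * (a * c) = b' := by rw [mul_inv_cancel_left₀ ha]; ring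
    have e2 : 0 * (a⁻¹ * b') + a⁻¹ * (a * c) = c := by rw [inv_mul_cancel_left₀ ha]; ring
    rw [e1, e2] at h2
    rw [← h2]
    group
  calc (x * w * x⁻¹) * v b' c * (x * w * x⁻¹)⁻¹ = x * (w * (x⁻¹ * v b' c * x) * w⁻¹) * x⁻¹ := by group
    _ = v (b' + a * a * r * c) c := by
      rw [h1, hw, h.act]
      congr 1
      · field_simp
        ring
      · rw [inv_mul_cancel_left₀ ha]; ring

include C in
theorem mem_UU {w : G} (hw : w ∈ WW V (R i)) (h : ∀ b c, w * v b c * w⁻¹ = v b c) : w ∈ UU V R i :=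
  mem_inf.2 ⟨hw, C.mem_cen h⟩

include b C y in
theorem torD_of [CharP F 2] {t : F → G} (one : t 1 = 1)
    (mul : ∀ a b, a ≠ 0 → b ≠ 0 → t (a * b) = t a * t b) (memX : ∀ a, a ≠ 0 → t a ∈ XX V R)
    (odd : ∀ a, a ≠ 0 → Odd (orderOf (t a)))
    (mat : ∀ a, a ≠ 0 → Mat V R i j v p1 p2 (t a) a 0 0 a⁻¹) : TorD V R i j v t := by
  have inv : ∀ a, a ≠ 0 → t a⁻¹ = (t a)⁻¹ := by
    intro a ha
    have h := mul a a⁻¹ ha (inv_ne_zero ha)
    rw [mul_inv_cancel₀ ha, one] at h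
    exact eq_inv_of_mul_eq_one_right h.symm
  have keyU : ∀ {i j : ι} {v : F → F → G} {w1 w2 : F → G} {p1 p2 : G → M} {t : F → G},
      Crd V R i j v w1 w2 → YMod (DD V R) (UU V R i) (UU V R j) w1 w2 M p1 p2 →
      (∀ a, a ≠ 0 → Mat V R i j v p1 p2 (t a) a 0 0 a⁻¹) →
      ∀ a b, a ≠ 0 → b ≠ 0 → a + b ≠ 0 → ∀ u ∈ UU V R i,
      t (a + b) * u * (t (a + b))⁻¹ * (t a * u * (t a)⁻¹ * (t b * u * (t b)⁻¹))⁻¹ ∈ DD V R := by
    intro i j v w1 w2 p1 p2 t C y mat a c ha hc hac u hu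
    have hr := rep_U b C (p1 := p1) (p2 := p2) hu
    rw [p2_one y] at hr
    have h1 := (mat _ ha).rep u _ _ hr
    have h2 := (mat _ hc).rep u _ _ hr
    have h3 := (mat _ hac).rep u _ _ hr
    have h4 := rep_mul b C y h3 (rep_inv b C y (rep_mul b C y h1 h2))
    apply rep_zero b C y
    convert h4 using 1
    · module
    · module
  have keyW : ∀ {i j : ι} {v : F → F → G} {w1 w2 : F → G} {p1 p2 : G → M} {t : F → G},
      Crd V R i j v w1 w2 →
      (∀ a, a ≠ 0 → Mat V R i j v p1 p2 (t a) a 0 0 a⁻¹) →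
      ∀ a b, a ≠ 0 → b ≠ 0 → a + b ≠ 0 → ∀ w ∈ WW V (R i),
      t (a + b) * w * (t (a + b))⁻¹ * (t a * w * (t a)⁻¹ * (t b * w * (t b)⁻¹))⁻¹ ∈ UU V R i := by
    intro i j v w1 w2 p1 p2 t C mat a c ha hc hac w hw
    have hm : ∀ a, a ≠ 0 → t a * w * (t a)⁻¹ ∈ WW V (R i) := fun a ha =>
      conj_mem_of_normalizer (normalizer_le_WW V (R i) ((mat a ha).normR C ha)) hw
    refine mem_UU C (mul_mem (hm _ hac) (inv_mem (mul_mem (hm _ ha) (hm _ hc)))) ?_
    obtain ⟨r, hr⟩ := C.f1 w hw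
    have h1 := act_conj b C ha (mat a ha) hr
    have h2 := act_conj b C hc (mat c hc) hr
    have h3 := act_conj b C hac (mat _ hac) hr
    intro b' c'
    set A := t a * w * (t a)⁻¹ with hA
    set B := t c * w * (t c)⁻¹ with hB
    set E := t (a + c) * w * (t (a + c))⁻¹ with hE
    have h4 : (A * B)⁻¹ * v b' c' * (A * B) = v (b' - a * a * r * c' - c * c * r * c') c' := by
      have h5 := h2 (b' - a * a * r * c' - c * c * r * c') c'
      have h6 := h1 (b' - a * a * r * c') c'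
      have e1 : b' - a * a * r * c' - c * c * r * c' + c * c * r * c' = b' - a * a * r * c' := by ring
      have e2 : b' - a * a * r * c' + a * a * r * c' = b' := by ring
      rw [e1] at h5
      rw [e2] at h6
      rw [← h6, ← h5]
      group
    calc E * (A * B)⁻¹ * v b' c' * (E * (A * B)⁻¹)⁻¹ = E * ((A * B)⁻¹ * v b' c' * (A * B)) * E⁻¹ := by group
      _ = v b' c' := by
        rw [h4, h3]
        congr 1
        have h2 : (2 : F) = 0 := CharTwo.two_eq_zero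
        linear_combination (a * c * r * c') * h2
  have mat' : ∀ a, a ≠ 0 → Mat V R j i (fun b c => v c b) p2 p1 (t a)⁻¹ a 0 0 a⁻¹ := by
    intro a ha
    rw [← inv a ha]
    have h1 := (mat a⁻¹ (inv_ne_zero ha)).swap b C
    rwa [inv_inv] at h1
  exact
    { ne := C.ne
      v_add := C.v_add
      v_inj := C.v_inj
      v_mem := C.v_mem
      Ri := C.Ri
      Rj := C.Rj
      one := one
      mul := mul
      memX := memX
      odd := odd
      act := by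
        intro a b' c ha
        rw [(mat a ha).act]
        congr 1 <;> ring
      wU := keyU C y mat
      wU' := by
        intro a c ha hc hac u hu
        have h1 := keyU (t := fun a => (t a)⁻¹) C.swap y.swap mat' a c ha hc hac u hu
        simpa only [inv_inv] using h1
      wW := keyW C mat
      wW' := by
        intro a c ha hc hac u hu
        have h1 := keyW (t := fun a => (t a)⁻¹) C.swap mat' a c ha hc hac u hu
        simpa only [inv_inv] using h1 }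

end tor

section ex

variable (b : BT V R) (C : Crd V R i j v w1 w2)
  (y : YMod (DD V R) (UU V R i) (UU V R j) w1 w2 M p1 p2)

include b C y in
/-- **existence of the torus**, general form (`C(W i)` a 2-group) -/
theorem exists_torD' [Finite G] [Finite F] [CharP F 2]
    (hp : IsPGroup 2 (centralizer (WW V (R i) : Set G))) : ∃ t : F → G, TorD V R i j v t := by
  classical
  obtain ⟨g, hg⟩ := IsCyclic.exists_generator (α := Fˣ)
  set x := hh w1 w2 (g : F) with hx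
  obtain ⟨k, m, hm, hk⟩ := Nat.exists_eq_two_pow_mul_odd (orderOf_pos x).ne'
  have hodd : Odd (Nat.card Fˣ) := by
    rw [Nat.card_units]
    have h1 : 2 ∣ Nat.card F := by
      have := Fintype.ofFinite F
      rw [Nat.card_eq_fintype_card]
      obtain ⟨n, hp, hc⟩ := FiniteField.card F 2
      rw [hc]
      exact dvd_pow_self 2 n.ne_zero
    have h2 : 0 < Nat.card F := Nat.card_pos
    rw [← Nat.not_even_iff_odd]
    intro h3
    have h4 : Even (Nat.card F) := even_iff_two_dvd.2 h1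
    obtain ⟨r, hr⟩ := h3
    obtain ⟨s, hs⟩ := h4
    omega
  obtain ⟨e, he1, he2⟩ := Nat.chineseRemainder (n := 2 ^ k) (m := Nat.card Fˣ)
    ((Nat.coprime_two_left.2 hodd).pow_left k) 0 1
  have he1' : 2 ^ k ∣ e := (Nat.modEq_zero_iff_dvd).1 he1
  set x' := x ^ e with hx'
  have hge : (g : F) ^ e = g := by
    have h1 : g ^ e = g ^ 1 := by
      rw [pow_eq_pow_iff_modEq]
      have : orderOf g = Nat.card Fˣ := orderOf_eq_card_of_forall_mem_zpowers hg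
      rw [this]
      exact he2
    have h2 := congrArg Units.val h1
    simpa using h2
  have hmat : Mat V R i j v p1 p2 x' g 0 0 (g : F)⁻¹ := by
    have h1 := (mat_hh b C y (a := (g : F)) g.ne_zero).pow b C y e
    rw [hge] at h1
    exact h1
  have hxX : x' ∈ XX V R := pow_mem (hh_mem_X C) _
  have hord : Odd (orderOf x') := by
    obtain ⟨s, hs⟩ := he1'
    have h1 : x' ^ m = 1 := by
      rw [hx', ← pow_mul, hs, mul_right_comm, ← hk, pow_mul, pow_orderOf_eq_one, one_pow]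
    exact hm.of_dvd_nat (orderOf_dvd_of_pow_eq_one h1)
  have hpow : ∀ n, Odd (orderOf (x' ^ n)) := fun n => hord.of_dvd_nat (orderOf_pow_dvd n)
  have h1 : x' ^ Nat.card Fˣ = 1 := by
    refine odd_cen_V b C y hp (pow_mem hxX _) ?_ (hpow _)
    have h2 := hmat.pow b C y (Nat.card Fˣ)
    have h3 : (g : F) ^ Nat.card Fˣ = 1 := by
      have := congrArg Units.val (pow_card_eq_one' (x := g))
      rwa [Units.val_pow_eq_pow_val, Units.val_one] at this
    rw [h3] at h2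
    refine C.mem_cen fun b' c => ?_
    rw [h2.act]
    congr 1
    · ring
    · rw [inv_one]; ring
  have hlog : ∀ a : F, a ≠ 0 → ∃ n : ℕ, (g : F) ^ n = a := by
    intro a ha
    have h2 := hg (Units.mk0 a ha)
    rw [← mem_powers_iff_mem_zpowers] at h2
    obtain ⟨n, hn⟩ := h2
    refine ⟨n, ?_⟩
    have := congrArg Units.val hn
    simpa using this
  let t : F → G := fun a => if h : ∃ n : ℕ, (g : F) ^ n = a then x' ^ h.choose else 1
  have ht : ∀ n : ℕ, t ((g : F) ^ n) = x' ^ n := by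
    intro n
    have h : ∃ n' : ℕ, (g : F) ^ n' = (g : F) ^ n := ⟨n, rfl⟩
    have h2 : t ((g : F) ^ n) = x' ^ h.choose := dif_pos h
    rw [h2]
    have h3 := h.choose_spec
    rw [pow_eq_pow_iff_modEq]
    have h4 : g ^ h.choose = g ^ n := by
      apply Units.ext
      simpa using h3
    rw [pow_eq_pow_iff_modEq, orderOf_eq_card_of_forall_mem_zpowers hg] at h4
    exact h4.of_dvd (orderOf_dvd_of_pow_eq_one h1)
  refine ⟨t, torD_of b C y ?_ ?_ ?_ ?_ ?_⟩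
  · have := ht 0
    rwa [pow_zero, pow_zero] at this
  · intro a c ha hc
    obtain ⟨n, rfl⟩ := hlog a ha
    obtain ⟨n', rfl⟩ := hlog c hc
    rw [← pow_add, ht, ht, ht, pow_add]
  · intro a ha
    obtain ⟨n, rfl⟩ := hlog a ha
    rw [ht]
    exact pow_mem hxX _
  · intro a ha
    obtain ⟨n, rfl⟩ := hlog a ha
    rw [ht]
    exact hpow n
  · intro a ha
    obtain ⟨n, rfl⟩ := hlog a ha
    rw [ht]
    exact hmat.pow b C y n

/-- **existence of the torus** -/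
theorem exists_torD [Finite G] [Finite F] [CharP F 2] (b : BTC V R) (C : Crd V R i j v w1 w2)
    (y : YMod (DD V R) (UU V R i) (UU V R j) w1 w2 M p1 p2) : ∃ t : F → G, TorD V R i j v t :=
  exists_torD' b.toBT C y (b.cen_W_isPGroup i)

end ex

end Cfsg.Agent.Omega.Lie

end

section


/-!
# NODE LIE, #10745 (A2): the torus and a Sylow 2-subgroup

`[C(V), X] ≤ Y`; `S⁰ = P₀ W i` is `T`-invariant for every `P₀` with `Y ≤ P₀ ≤ C(V)`; every 2-subgroup of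
`C(R i) ∩ N(V)` containing `W i` is of this shape; `[S⁰, T] ≤ Y W i`; `U j = [U j, t] D`.
-/

set_option autoImplicit false
set_option linter.unusedSectionVars false

namespace Cfsg.Agent.Omega.Lie

open Subgroup Cfsg.Agent.Omega.BTwo

universe u v w

variable {G : Type u} [Group G] {ι : Type w} {V : Subgroup G} {R : ι → Subgroup G}

theorem NV_le_NC (V : Subgroup G) :
    normalizer (V : Set G) ≤ normalizer (centralizer (V : Set G) : Set G) := by
  intro g hg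
  rw [← cj_eq_self_iff, ← centralizer_cj, cj_eq_self_iff.2 hg]

section cen

variable (b : BT V R)
include b

/-- `[C(V), W i] ≤ U i` -/
theorem cen_V_W {i : ι} {g w : G} (hg : g ∈ centralizer (V : Set G)) (hw : w ∈ WW V (R i)) :
    g * w * g⁻¹ * w⁻¹ ∈ UU V R i := by
  refine mem_inf.2 ⟨mul_mem (conj_mem_of_normalizer (b.cen_le_NW i hg) hw) (inv_mem hw), ?_⟩
  have e : g * w * g⁻¹ * w⁻¹ = g * (w * g⁻¹ * w⁻¹) := by group
  rw [e]
  exact mul_mem hg (conj_mem_of_normalizer (NV_le_NC V (b.W_le_NV i hw)) (inv_mem hg))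

/-- `[C(V), X] ≤ Y` -/
theorem cen_V_X {g x : G} (hg : g ∈ centralizer (V : Set G)) (hx : x ∈ XX V R) :
    g * x * g⁻¹ * x⁻¹ ∈ YY V R := by
  let T : Subgroup G :=
    { carrier := {x | x ∈ normalizer (V : Set G) ∧ ∀ g ∈ centralizer (V : Set G), g * x * g⁻¹ * x⁻¹ ∈ YY V R}
      one_mem' := ⟨one_mem _, fun g _ => by
        have : g * 1 * g⁻¹ * 1⁻¹ = 1 := by group
        rw [this]; exact one_mem _⟩
      mul_mem' := by
        rintro x y ⟨hx, hx'⟩ ⟨hy, hy'⟩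
        refine ⟨mul_mem hx hy, fun g hg => ?_⟩
        have e : g * (x * y) * g⁻¹ * (x * y)⁻¹ =
            (g * x * g⁻¹ * x⁻¹) * (x * (g * y * g⁻¹ * y⁻¹) * x⁻¹) := by group
        rw [e]
        exact mul_mem (hx' g hg) (conj_mem_of_normalizer (b.NV_le_NY hx) (hy' g hg))
      inv_mem' := by
        rintro x ⟨hx, hx'⟩
        refine ⟨inv_mem hx, fun g hg => ?_⟩
        have e : g * x⁻¹ * g⁻¹ * x⁻¹⁻¹ = x⁻¹ * (g * x * g⁻¹ * x⁻¹)⁻¹ * x := by group
        rw [e]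
        exact conj_inv_mem_of_normalizer (b.NV_le_NY hx) (inv_mem (hx' g hg)) }
  have hT : XX V R ≤ T := iSup_le fun i w hw =>
    ⟨b.W_le_NV i hw, fun g hg => UU_le_YY i (cen_V_W b hg hw)⟩
  exact (hT hx).2 g hg

/-- `X` normalises every subgroup between `Y` and `C(V)` -/
theorem X_le_N {P : Subgroup G} (hP : P ≤ centralizer (V : Set G)) (hY : YY V R ≤ P) :
    XX V R ≤ normalizer (P : Set G) := by
  have key : ∀ x ∈ XX V R, ∀ p ∈ P, x * p * x⁻¹ ∈ P := by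
    intro x hx p hp
    have e : x * p * x⁻¹ = (p * x * p⁻¹ * x⁻¹)⁻¹ * p := by group
    rw [e]
    exact mul_mem (inv_mem (hY (cen_V_X b (hP hp) hx))) hp
  intro x hx
  rw [mem_normalizer_iff]
  intro p
  refine ⟨key x hx p, fun h => ?_⟩
  have := key x⁻¹ (inv_mem hx) _ h
  rwa [show x⁻¹ * (x * p * x⁻¹) * x⁻¹⁻¹ = p by group] at this

/-- `S⁰ = P₀ W i` is normalised by `N_X(R i)` -/
theorem X_norm_sup {P : Subgroup G} (hP : P ≤ centralizer (V : Set G)) (hY : YY V R ≤ P) (i : ι) {x : G}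
    (hx : x ∈ XX V R) (hR : x ∈ normalizer (R i : Set G)) :
    x ∈ normalizer ((P ⊔ WW V (R i) : Subgroup G) : Set G) := by
  rw [← cj_eq_self_iff, cj_sup, cj_eq_self_iff.2 (X_le_N b hP hY hx),
    cj_eq_self_iff.2 (normalizer_le_WW V (R i) hR)]

/-- `[C(V) W i, N_X(R i)] ≤ Y W i` -/
theorem comm_X_sup (i : ι) {s x : G} (hs : s ∈ centralizer (V : Set G) ⊔ WW V (R i))
    (hx : x ∈ XX V R) (hR : x ∈ normalizer (R i : Set G)) :
    s * x * s⁻¹ * x⁻¹ ∈ YY V R ⊔ WW V (R i) := by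
  have hY : (YY V R : Subgroup G) ≤ YY V R ⊔ WW V (R i) := le_sup_left
  have hW : (WW V (R i) : Subgroup G) ≤ YY V R ⊔ WW V (R i) := le_sup_right
  let T : Subgroup G :=
    { carrier := {s | s ∈ normalizer ((YY V R ⊔ WW V (R i) : Subgroup G) : Set G) ∧
        s * x * s⁻¹ * x⁻¹ ∈ YY V R ⊔ WW V (R i)}
      one_mem' := ⟨one_mem _, by
        have : 1 * x * 1⁻¹ * x⁻¹ = 1 := by group
        rw [this]; exact one_mem _⟩
      mul_mem' := by
        rintro s s' ⟨hs, hs'⟩ ⟨ht, ht'⟩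
        refine ⟨mul_mem hs ht, ?_⟩
        have e : (s * s') * x * (s * s')⁻¹ * x⁻¹ =
            (s * (s' * x * s'⁻¹ * x⁻¹) * s⁻¹) * (s * x * s⁻¹ * x⁻¹) := by group
        rw [e]
        exact mul_mem (conj_mem_of_normalizer hs ht') hs'
      inv_mem' := by
        rintro s ⟨hs, hs'⟩
        refine ⟨inv_mem hs, ?_⟩
        have e : s⁻¹ * x * s⁻¹⁻¹ * x⁻¹ = s⁻¹ * (s * x * s⁻¹ * x⁻¹)⁻¹ * s := by group
        rw [e]
        exact conj_inv_mem_of_normalizer hs (inv_mem hs') }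
  have hN : centralizer (V : Set G) ≤ normalizer ((YY V R ⊔ WW V (R i) : Subgroup G) : Set G) := by
    intro g hg
    rw [← cj_eq_self_iff, cj_sup, cj_eq_self_iff.2 (b.NV_le_NY (cen_le_NV V hg)),
      cj_eq_self_iff.2 (b.cen_le_NW i hg)]
  have hT : centralizer (V : Set G) ⊔ WW V (R i) ≤ T := by
    refine sup_le (fun g hg => ⟨hN hg, hY (cen_V_X b hg hx)⟩) (fun g hg => ⟨?_, hW ?_⟩)
    · exact le_normalizer (hW hg)
    · have e : g * x * g⁻¹ * x⁻¹ = g * (x * g⁻¹ * x⁻¹) := by group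
      rw [e]
      exact mul_mem hg (conj_mem_of_normalizer (normalizer_le_WW V (R i) hR) (inv_mem hg))
  exact (hT hs).2

/-- `Y W i = U j W i` -/
theorem Y_sup_W {i j : ι} (hij : i ≠ j) : YY V R ⊔ WW V (R i) = UU V R j ⊔ WW V (R i) := by
  rw [b.Y_eq hij, sup_comm (UU V R i), sup_assoc, sup_eq_right.2 (UU_le_WW i)]

end cen

section fact

variable {F : Type v} [Field F] {i j : ι} {v : F → F → G} {w1 w2 : F → G}

theorem Crd.two (b : BT V R) (C : Crd V R i j v w1 w2) (a : F) : a + a = 0 := by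
  have h : v (a + a) 0 = 1 := by
    have h1 := C.v_add a 0 a 0
    rw [add_zero] at h1
    rw [h1]
    exact b.V_sq _ ((C.v_mem _).2 ⟨_, _, rfl⟩)
  exact (C.v_inj _ _ h).1

/-- every 2-subgroup of `C(R i) ∩ N(V)` containing `W i` is `(P ∩ C(V)) W i` -/
theorem cen_fact (b : BT V R) (C : Crd V R i j v w1 w2) {P : Subgroup G} (hP : IsPGroup 2 P)
    (hPV : P ≤ normalizer (V : Set G)) (hPR : P ≤ centralizer (R i : Set G)) (hW : WW V (R i) ≤ P) {g : G}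
    (hg : g ∈ P) : ∃ w ∈ WW V (R i), w * g ∈ centralizer (V : Set G) := by
  -- choose `w` such that `w g` fixes `R j`
  obtain ⟨k, hk⟩ := b.perm g (hPV hg) j
  have hgi : cj g (R i) = R i := by
    rw [cj_eq_self_iff]
    exact centralizer_le_normalizer _ (hPR hg)
  have hki : k ≠ i := by
    rintro rfl
    exact C.ne (b.R_index (cj_injective (hgi.trans hk.symm)))
  obtain ⟨w, hw, ew⟩ := b.trans i hki C.ne.symm
  refine ⟨w, hw, ?_⟩
  set h := w * g with hh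
  have hhP : h ∈ P := mul_mem (hW hw) hg
  have hhj : cj h (R j) = R j := by rw [hh, cj_mul, hk, ew]
  have hhi : cj h (R i) = R i := by
    rw [cj_eq_self_iff]
    exact centralizer_le_normalizer _ (hPR hhP)
  -- `h` centralises `R i`
  have h1 : ∀ c, h * v c 0 * h⁻¹ = v c 0 := by
    intro c
    rw [mul_inv_eq_iff_eq_mul]
    exact (mem_centralizer_iff.1 (hPR hhP) (v c 0) ((C.Ri _).2 ⟨c, rfl⟩)).symm
  -- `h` on `R j`
  have h2 : ∀ c, ∃ c', h * v 0 c * h⁻¹ = v 0 c' := by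
    intro c
    have h3 : h * v 0 c * h⁻¹ ∈ R j := by
      rw [← hhj]
      exact conj_mem_cj ((C.Rj _).2 ⟨c, rfl⟩)
    obtain ⟨c', hc'⟩ := (C.Rj _).1 h3
    exact ⟨c', hc'.symm⟩
  choose φ hφ using h2
  -- the third point
  have h3 : ∃ μ : F, ∀ c, c = μ * φ c := by
    obtain ⟨m, hm⟩ := b.perm (w1 1) (b.W_le_NV i (C.W1 1)) j
    have hmi : m ≠ i := by
      rintro rfl
      exact C.ne (b.R_index (cj_injective ((cj_eq_self_iff.2 (b.W_le_N _ (C.W1 1))).trans hm.symm)))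
    obtain ⟨m', hm'⟩ := b.perm h (hPV hhP) m
    have hmi' : m' ≠ i := by
      rintro rfl
      exact hmi (b.R_index (cj_injective (hm'.trans hhi.symm)))
    obtain ⟨w', hw', ew'⟩ := b.trans i C.ne.symm hmi'
    obtain ⟨μ, hμ⟩ := C.f1 w' hw'
    refine ⟨μ, fun c => ?_⟩
    have h4 : h * v c c * h⁻¹ ∈ R m' := by
      rw [← hm', ← hm]
      refine conj_mem_cj ?_
      have h5 := conj_mem_cj (g := w1 1) ((C.Rj _).2 ⟨c, rfl⟩ : v 0 c ∈ R j)
      rw [C.a1, zero_add, one_mul] at h5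
      exact h5
    rw [← ew'] at h4
    obtain ⟨x, hx, ex⟩ := h4
    obtain ⟨c', rfl⟩ := (C.Rj _).1 hx
    have h5 : w' * v 0 c' * w'⁻¹ = h * v c c * h⁻¹ := ex
    have h6 : h * v c c * h⁻¹ = v c (φ c) := by
      have h7 := C.v_add c 0 0 c
      rw [add_zero, zero_add] at h7
      have h8 := C.v_add c 0 0 (φ c)
      rw [add_zero, zero_add] at h8
      rw [h8, ← h1 c, ← hφ c, h7]
      group
    rw [hμ, h6] at h5
    obtain ⟨e1, e2⟩ := C.eq_of h5
    rw [zero_add, e2] at e1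
    exact e1.symm
  obtain ⟨μ, hμ⟩ := h3
  have hμ0 : μ ≠ 0 := by
    rintro rfl
    have := hμ 1
    rw [zero_mul] at this
    exact one_ne_zero this
  have hφ' : ∀ c, φ c = μ⁻¹ * c := by
    intro c
    nth_rw 2 [hμ c]
    rw [inv_mul_cancel_left₀ hμ0]
  have hpow : ∀ n : ℕ, ∀ c, h ^ n * v 0 c * (h ^ n)⁻¹ = v 0 (μ⁻¹ ^ n * c) := by
    intro n
    induction n with
    | zero => intro c; simp
    | succ n ih =>
      intro c
      calc h ^ (n + 1) * v 0 c * (h ^ (n + 1))⁻¹ = h ^ n * (h * v 0 c * h⁻¹) * (h ^ n)⁻¹ := by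
            rw [pow_succ]; group
        _ = v 0 (μ⁻¹ ^ (n + 1) * c) := by
          rw [hφ, hφ', ih]
          congr 1
          ring
  obtain ⟨n, hn⟩ := hP ⟨h, hhP⟩
  have hn' : h ^ 2 ^ n = 1 := congrArg Subtype.val hn
  have h4 : μ⁻¹ ^ 2 ^ n = 1 := by
    have h5 := hpow (2 ^ n) 1
    rw [hn', one_mul, inv_one, mul_one, mul_one] at h5
    exact (C.eq_of h5).2.symm
  have h5 : μ⁻¹ = 1 := by
    have hc : CharP F 2 := CharTwo.of_one_ne_zero_of_two_eq_zero one_ne_zero (by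
      have := Crd.two b C (1 : F)
      rw [← this]; norm_num)
    have h6 : (μ⁻¹ - 1) ^ 2 ^ n = 0 := by
      rw [sub_pow_char_pow, h4, one_pow, sub_self]
    exact sub_eq_zero.1 (pow_eq_zero_iff (by positivity) |>.1 h6)
  refine C.mem_cen fun b' c => ?_
  have h7 := C.v_add b' 0 0 c
  rw [add_zero, zero_add] at h7
  calc h * v b' c * h⁻¹ = (h * v b' 0 * h⁻¹) * (h * v 0 c * h⁻¹) := by rw [h7]; group
    _ = v b' c := by
      rw [h1, hφ, hφ', h5, one_mul, ← h7]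

end fact

section tor

variable {F : Type v} [Field F] {i j : ι} {v : F → F → G} {t : F → G}

theorem TorD.two (b : BT V R) (τ : TorD V R i j v t) (a : F) : a + a = 0 := by
  have h : v (a + a) 0 = 1 := by
    have h1 := τ.v_add a 0 a 0
    rw [add_zero] at h1
    rw [h1]
    exact b.V_sq _ ((τ.v_mem _).2 ⟨_, _, rfl⟩)
  exact (τ.v_inj _ _ h).1

/-- fixed points of `t a` on `U j / D` -/
theorem TorD.fpf_U' (b : BT V R) (τ : TorD V R i j v t) {a : F} (ha : a ≠ 0) (ha1 : a ≠ 1) {u : G}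
    (hu : u ∈ UU V R j) (h : (t a)⁻¹ * u * t a * u⁻¹ ∈ DD V R) : u ∈ DD V R := by
  have hac : a + 1 ≠ 0 := by
    intro h0
    apply ha1
    have h2 := TorD.two b τ (1 : F)
    exact add_right_cancel (h0.trans h2.symm)
  have h1 := τ.wU' a 1 ha one_ne_zero hac u hu
  rw [τ.one, inv_one, one_mul, mul_one] at h1
  have hD : ∀ a, a ≠ 0 → t a ∈ normalizer (DD V R : Set G) := fun a ha =>
    b.NV_le_ND (b.X_le_NV (τ.memX a ha))
  -- `(t a)⁻¹ u (t a) u ∈ D`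
  have h2 : (t a)⁻¹ * u * t a * u ∈ DD V R := by
    have e : (t a)⁻¹ * u * t a * u = ((t a)⁻¹ * u * t a * u⁻¹) * (u * u) := by group
    rw [e]
    exact mul_mem h (b.Y_sq (UU_le_YY j hu))
  have h3 : (t (a + 1))⁻¹ * u * t (a + 1) ∈ DD V R := by
    have e : (t (a + 1))⁻¹ * u * t (a + 1) = ((t (a + 1))⁻¹ * u * t (a + 1) * ((t a)⁻¹ * u * t a * u)⁻¹) *
      ((t a)⁻¹ * u * t a * u) := by group
    rw [e]
    exact mul_mem h1 h2
  have h4 := conj_mem_of_normalizer (hD _ hac) h3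
  rwa [show t (a + 1) * ((t (a + 1))⁻¹ * u * t (a + 1)) * (t (a + 1))⁻¹ = u by group] at h4

/-- `U j = [U j, t a] D` -/
theorem TorD.exists_comm (b : BT V R) (τ : TorD V R i j v t) {a : F} (ha : a ≠ 0) (ha1 : a ≠ 1) {u : G}
    (hu : u ∈ UU V R j) : ∃ u' ∈ UU V R j, u * (t a * u' * (t a)⁻¹ * u'⁻¹)⁻¹ ∈ DD V R := by
  have htwo := TorD.two b τ
  have hac : a + 1 ≠ 0 := by
    intro h0
    exact ha1 (add_right_cancel (h0.trans (htwo 1).symm))
  -- `β = a / (a + 1)`, `1 + β = (a + 1)⁻¹`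
  set β := a * (a + 1)⁻¹ with hβ
  have hβ0 : β ≠ 0 := mul_ne_zero ha (inv_ne_zero hac)
  have hβ1 : β + 1 = (a + 1)⁻¹ := by
    rw [hβ]
    field_simp
    linear_combination htwo a
  have hN : ∀ a, a ≠ 0 → t a ∈ normalizer (UU V R j : Set G) := by
    intro a ha
    rw [← cj_eq_self_iff]
    exact b.cj_UU (b.X_le_NV (τ.memX a ha)) (cj_eq_self_iff.2 (τ.normR' ha))
  have h1 := τ.wU' β 1 hβ0 one_ne_zero (by rw [hβ1]; exact inv_ne_zero hac) u hu
  rw [τ.one, inv_one, one_mul, mul_one, hβ1, τ.inv hac, inv_inv] at h1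
  refine ⟨(t β)⁻¹ * u * t β, conj_inv_mem_of_normalizer (hN β hβ0) hu, ?_⟩
  have h2 : t a * (t β)⁻¹ = t (a + 1) := by
    rw [← τ.inv hβ0, ← τ.mul a _ ha (inv_ne_zero hβ0)]
    congr 1
    rw [hβ]
    field_simp
  have e : u * (t a * ((t β)⁻¹ * u * t β) * (t a)⁻¹ * ((t β)⁻¹ * u * t β)⁻¹)⁻¹ =
      u * (((t β)⁻¹ * u * t β) * ((t a * (t β)⁻¹) * u * (t a * (t β)⁻¹)⁻¹)⁻¹) := by group
  rw [e, h2]
  set u' := (t β)⁻¹ * u * t β with hu'
  set z := t (a + 1) * u * (t (a + 1))⁻¹ with hz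
  have hu'U : u' ∈ UU V R j := conj_inv_mem_of_normalizer (hN β hβ0) hu
  -- `h1 : z * (u' * u)⁻¹ ∈ D`
  have e2 : u * (u' * z⁻¹) = (u * u' * u⁻¹ * u'⁻¹) * (z * (u' * u)⁻¹)⁻¹ := by group
  rw [e2]
  exact mul_mem (b.Y_comm (UU_le_YY j hu) (UU_le_YY j hu'U)) (inv_mem h1)

end tor

end Cfsg.Agent.Omega.Lie

end

section


/-!
# SQ3, `b = 2`: the fields `odd₁`, `t₁` of `Hex.Loc`

`odd_WY`: `|N_X(R i) : W i Y|` is odd; `exists_t`: an element of odd order of `X ∩ N(R i)` fixed point free on `W i Y / Y`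
(`q ≥ 4`).
-/

set_option autoImplicit false
set_option linter.unusedSectionVars false

namespace Cfsg.Agent.Omega.BTwo

open Subgroup Cfsg.Agent.Lib.SL2Mat

universe u v w

variable {G : Type u} [Group G] {ι : Type w} {V : Subgroup G} {R : ι → Subgroup G} {i j : ι} {F : Type v} [Field F]
  {w1 w2 : F → G} {M : Type u} [AddCommGroup M] [Module F M] {P1 P2 : G → M} {v : F → F → G}

/-- `W i Y` is the preimage of the unitriangular group -/
theorem YPair.comap_upG [Finite G] [Finite F] [CharP F 2] (y : YPair V R i j w1 w2 M P1 P2)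
    (c : Coord V R i j v w1 w2) (b : BTC V R) :
    (upG F).comap (c.rho b.toBT) = (WW V (R i) ⊔ YY V R).subgroupOf (XX V R) := by
  apply le_antisymm
  · rintro x ⟨a, ha⟩
    have h1 : c.rho b.toBT ((⟨w1 a, W_le_X V R i (c.w1_mem a)⟩ : XX V R)⁻¹ * x) = 1 := by
      rw [map_mul, map_inv, c.rho_w1, ha, inv_mul_cancel]
    rw [c.rho_eq_one] at h1
    have h2 : (w1 a)⁻¹ * (x : G) ∈ YY V R := by
      rw [← y.cen_X_V c b]
      exact mem_inf.2 ⟨mul_mem (inv_mem (W_le_X V R i (c.w1_mem a))) x.2, h1⟩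
    have h3 := mul_mem ((le_sup_left : WW V (R i) ≤ WW V (R i) ⊔ YY V R) (c.w1_mem a))
      ((le_sup_right : YY V R ≤ WW V (R i) ⊔ YY V R) h2)
    rwa [mul_inv_cancel_left] at h3
  · have h1 : WW V (R i) ⊔ YY V R ≤ ((upG F).comap (c.rho b.toBT)).map (XX V R).subtype := by
      refine sup_le (fun w hw => ?_) fun z hz => ?_
      · obtain ⟨a, ha⟩ := c.exists_up hw
        exact ⟨⟨w, W_le_X V R i hw⟩, ⟨a, c.rho_eq b.toBT ha⟩, rfl⟩
      · refine ⟨⟨z, YY_le_XX hz⟩, ?_, rfl⟩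
        show c.rho b.toBT _ ∈ upG F
        rw [(c.rho_eq_one b.toBT (x := ⟨z, YY_le_XX hz⟩)).2 (YY_le_cen hz)]
        exact one_mem _
    intro x hx
    obtain ⟨x', hx', e⟩ := h1 hx
    have e2 : x' = x := Subtype.ext e
    rw [← e2]
    exact hx'

theorem YPair.odd_index_WY [Finite G] [Finite F] [CharP F 2] (y : YPair V R i j w1 w2 M P1 P2)
    (c : Coord V R i j v w1 w2) (b : BTC V R) : Odd ((WW V (R i) ⊔ YY V R).relIndex (XX V R)) := by
  have h1 : ((WW V (R i) ⊔ YY V R).subgroupOf (XX V R)).index = (upG F).index := by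
    rw [← y.comap_upG c b]
    exact index_comap_of_surjective _ (c.rho_surjective b.toBT)
  have h2 : (WW V (R i) ⊔ YY V R).relIndex (XX V R) = (upG F).index := h1
  rw [h2]
  exact odd_index_upG

/-- `|N_X(R i) : W i Y|` is odd -/
theorem YPair.odd_WY [Finite G] [Finite F] [CharP F 2] (y : YPair V R i j w1 w2 M P1 P2)
    (c : Coord V R i j v w1 w2) (b : BTC V R) :
    Odd ((WW V (R i) ⊔ YY V R).relIndex (XX V R ⊓ normalizer (R i : Set G))) := by
  have h0 : WW V (R i) ⊔ YY V R ≤ XX V R ⊓ normalizer (R i : Set G) :=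
    sup_le (le_inf (W_le_X V R i) (b.W_le_N i)) (le_inf YY_le_XX (YY_le_cen.trans (b.cen_le_N i)))
  have h1 := relIndex_mul_relIndex _ _ (XX V R) h0 inf_le_left
  have h2 := y.odd_index_WY c b
  rw [← h1] at h2
  exact Nat.Odd.of_mul_left h2

/-- an element of odd order acting as the torus, fixed point free on `W i Y / Y` -/
theorem Coord.exists_t [Finite G] [CharP F 2] (c : Coord V R i j v w1 w2) (b : BT V R)
    (hF : ∃ a : F, a ≠ 0 ∧ a ≠ 1) : ∃ t ∈ XX V R, t ∈ normalizer (R i : Set G) ∧ t ∈ normalizer (R j : Set G) ∧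
      Odd (orderOf t) ∧ ∀ w ∈ WW V (R i), t * w * t⁻¹ * w⁻¹ ∈ YY V R → w ∈ YY V R := by
  obtain ⟨a, ha, ha1⟩ := hF
  obtain ⟨k, m, hm, hk⟩ := Nat.exists_eq_two_pow_mul_odd (orderOf_pos (hh w1 w2 a)).ne'
  have hX := c.hh_mem_X b a
  have hV := b.X_le_NV hX
  -- powers of the torus element
  have hpow : ∀ n : ℕ, ∀ p r, hh w1 w2 a ^ n * v p r * (hh w1 w2 a ^ n)⁻¹ = v (a ^ n * p) ((a⁻¹) ^ n * r) := by
    intro n
    induction n with
    | zero => intro p r; rw [pow_zero, pow_zero, pow_zero, one_mul, inv_one, mul_one, one_mul, one_mul]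
    | succ n ih =>
      intro p r
      have e : hh w1 w2 a ^ (n + 1) * v p r * (hh w1 w2 a ^ (n + 1))⁻¹ =
          hh w1 w2 a * (hh w1 w2 a ^ n * v p r * (hh w1 w2 a ^ n)⁻¹) * (hh w1 w2 a)⁻¹ := by
        rw [pow_succ']; group
      rw [e, ih, c.hh_act ha, ← mul_assoc, ← mul_assoc, ← pow_succ', ← pow_succ']
  set t := hh w1 w2 a ^ 2 ^ k with ht
  have htX : t ∈ XX V R := pow_mem hX _
  have hi : hh w1 w2 a ∈ normalizer (R i : Set G) := cj_eq_self_iff.1 (c.hh_R1 b ha)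
  have hj : hh w1 w2 a ∈ normalizer (R j : Set G) := cj_eq_self_iff.1 (c.hh_R2 b ha)
  have hord : orderOf t = m := by
    rw [ht, orderOf_pow, hk, Nat.gcd_eq_right (Dvd.intro m rfl), Nat.mul_div_cancel_left _ (by positivity)]
  refine ⟨t, htX, pow_mem hi _, pow_mem hj _, by rw [hord]; exact hm, fun w hw hwt => ?_⟩
  obtain ⟨s, hs⟩ := c.W1_act w hw
  set γ := a ^ 2 ^ k with hγ
  have hγ0 : γ ≠ 0 := pow_ne_zero _ ha
  have hinv : (a⁻¹) ^ 2 ^ k = γ⁻¹ := by rw [inv_pow]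
  have htact : ∀ p r, t * v p r * t⁻¹ = v (γ * p) (γ⁻¹ * r) := fun p r => by rw [ht, hpow, hinv]
  have htact' : ∀ p r, t⁻¹ * v p r * t = v (γ⁻¹ * p) (γ * r) := fun p r => by
    have h1 := htact (γ⁻¹ * p) (γ * r)
    rw [← mul_assoc, ← mul_assoc, mul_inv_cancel₀ hγ0, inv_mul_cancel₀ hγ0, one_mul, one_mul] at h1
    rw [← h1]; group
  -- the commutator acts trivially on `v 0 1`
  have h1 : t * w * t⁻¹ * w⁻¹ * v s 1 * (t * w * t⁻¹ * w⁻¹)⁻¹ = v s 1 := by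
    have h2 := YY_le_cen hwt
    rw [← mem_centralizer_iff.1 h2 _ (c.v_mem s 1), mul_inv_cancel_right]
  have h2 : w⁻¹ * v s 1 * w = v 0 1 := by
    have h3 := hs 0 1
    rw [mul_one, zero_add] at h3
    rw [← h3]; group
  have e : t * w * t⁻¹ * w⁻¹ * v s 1 * (t * w * t⁻¹ * w⁻¹)⁻¹ =
      t * (w * (t⁻¹ * (w⁻¹ * v s 1 * w) * t) * w⁻¹) * t⁻¹ := by group
  rw [e, h2, htact', hs, htact] at h1
  have h3 := (c.v_inj h1).1
  rw [mul_zero, zero_add, mul_one] at h3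
  -- `γ (s γ) = s`
  have h4 : (γ + 1) ^ 2 * s = 0 := by
    rw [CharTwo.add_sq, one_pow, add_mul, one_mul, pow_two]
    have : γ * γ * s = s := by linear_combination h3
    rw [this, CharTwo.add_self_eq_zero]
  have hs0 : s = 0 := by
    rcases mul_eq_zero.1 h4 with h5 | h5
    · exfalso
      have h6 : γ = 1 := CharTwo.add_eq_zero.1 (pow_eq_zero_iff (two_ne_zero) |>.1 h5)
      -- `a ^ 2 ^ k = 1` implies `a = 1`
      have h7 : (a + 1) ^ 2 ^ k = 0 := by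
        rw [add_pow_char_pow, one_pow, ← hγ, h6, CharTwo.add_self_eq_zero]
      exact ha1 (CharTwo.add_eq_zero.1 ((pow_eq_zero_iff (by positivity)).1 h7))
    · exact h5
  refine UU_le_YY i (mem_inf.2 ⟨hw, ?_⟩)
  rw [mem_centralizer_iff]
  intro q hq
  obtain ⟨p, r, rfl⟩ := (c.mem_V q).1 hq
  have h5 := hs p r
  rw [hs0, zero_mul, add_zero, mul_inv_eq_iff_eq_mul] at h5
  exact h5.symm

end Cfsg.Agent.Omega.BTwo

end
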