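import Cfsg.Agent.Mrg.Omega.BTwo.ModT
import Cfsg.Agent.Mrg.Omega.BTwo.QuadGrp
import Cfsg.Agent.Mrg.Omega.Lie.TorD
import Cfsg.Agent.Mrg.Omega.Lie.Nodes.SigGrp

section


/-!
# SQ3, `b = 2`, rad = 0: the eigenspaces of the torus on `M = W i / R i` and the action of `A = U j` (#14331)

`h : FMod ..`, `τ : TorD ..` (torus), `y : YPair ..`; `e₁ = p (v 0 1)`.

* `FMod.M0`, `FMod.M1` : the eigenspaces `T = 1`, `T = t`;
* `FMod.exists_eig` : `Eig` = `D̄ = e ⊕ M₀`, `e^⊥ = e ⊕ M₀ ⊕ M₁`, `n : N ≃ M₁`,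
  `a d = d + φ(d, n a) e₁`, `a (n g) = n g + s(g, a) + q(a, g) e₁`.
-/

set_option autoImplicit false
set_option linter.unusedSectionVars false

namespace Cfsg.Agent.Omega.BTwo

open Subgroup

universe u v w

variable {G : Type u} [Group G] {ι : Type w} {V : Subgroup G} {R : ι → Subgroup G} {i j : ι}

/-- the torus element in `N(R i)` -/
def tT {F : Type v} [Field F] {v : F → F → G} {t : F → G} (τ : Lie.TorD V R i j v t) (a : Fˣ) : NR R i :=
  ⟨t a, τ.normR a.ne_zero⟩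

section tor

variable {F : Type v} [Field F] {v : F → F → G} {w1 w2 : F → G} {t : F → G} (τ : Lie.TorD V R i j v t)
include τ

theorem tT_mul (a b : Fˣ) : tT τ (a * b) = tT τ a * tT τ b := Subtype.ext (τ.mul _ _ a.ne_zero b.ne_zero)

theorem tT_comm (a b : Fˣ) : tT τ a * tT τ b = tT τ b * tT τ a := by rw [← tT_mul, mul_comm, tT_mul]

/-- the torus on `Y / D` -/
theorem YPair.tor {N : Type u} [AddCommGroup N] [Module F N] {P1 P2 : G → N} [Finite G] [Finite F] [CharP F 2]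
    (y : YPair V R i j w1 w2 N P1 P2) (c : Coord V R i j v w1 w2) (b : BTC V R) {a : F} (ha : a ≠ 0) {x : G}
    (hx : x ∈ YY V R) : P1 (t a * x * (t a)⁻¹) = a • P1 x ∧ P2 (t a * x * (t a)⁻¹) = a⁻¹ • P2 x := by
  have hX := mul_mem (inv_mem (c.hh_mem_X b.toBT a)) (τ.memX a ha)
  have hk : (hh w1 w2 a)⁻¹ * t a ∈ YY V R := by
    rw [← y.cen_X_V c b, mem_inf]
    refine ⟨hX, ?_⟩
    rw [mem_centralizer_iff]
    intro z hz
    obtain ⟨β, γ, rfl⟩ := (c.mem_V z).1 hz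
    have h1 := τ.act a β γ ha
    have h2 := c.hh_act ha β γ
    have h3 : t a * v β γ * (t a)⁻¹ = hh w1 w2 a * v β γ * (hh w1 w2 a)⁻¹ := by rw [h1, h2]
    calc v β γ * ((hh w1 w2 a)⁻¹ * t a)
        = (hh w1 w2 a)⁻¹ * (hh w1 w2 a * v β γ * (hh w1 w2 a)⁻¹) * t a := by group
      _ = (hh w1 w2 a)⁻¹ * (t a * v β γ * (t a)⁻¹) * t a := by rw [h3]
      _ = (hh w1 w2 a)⁻¹ * t a * v β γ := by group
  set k := (hh w1 w2 a)⁻¹ * t a with hkd
  have e : t a * x * (t a)⁻¹ = hh w1 w2 a * (k * x * k⁻¹) * (hh w1 w2 a)⁻¹ := by rw [hkd]; group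
  have hkx : k * x * k⁻¹ ∈ YY V R := mul_mem (mul_mem hk hx) (inv_mem hk)
  have h1 : P1 (k * x * k⁻¹) = P1 x := by
    rw [y.mul1 _ (mul_mem hk hx) _ (inv_mem hk), y.mul1 _ hk _ hx, y.inv1 hk]
    abel
  have h2 : P2 (k * x * k⁻¹) = P2 x := by
    rw [y.mul2 _ (mul_mem hk hx) _ (inv_mem hk), y.mul2 _ hk _ hx, y.inv2 hk]
    abel
  have h3 := y.hh1 b.toBT c ha hkx
  rw [e, h3.1, h3.2, h1, h2]
  exact ⟨rfl, rfl⟩

end tor

namespace FMod

variable {F : Type v} [Field F] [CharP F 2] {v : F → F → G} {w1 w2 : F → G}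
variable {M B : Type u} [AddCommGroup M] [AddCommGroup B] [DistribMulAction (NR R i) M]
  [DistribMulAction (NR R i) B] [Module F M] {p : G → M} {r : G → B} {f : M →+ M →+ B}
  {φ : M →ₗ[F] M →ₗ[F] F} {s : NR R i → (F ≃+* F)}
variable (h : FMod V R i j v w1 w2 M B p r f φ s)
include h

section basic

theorem bt : BT V R := h.btc.toBT

theorem phi_eq (a x : M) : φ a x = h.fr.ph h.co h.btc a x := (h.fr.ph_eq h.co h.btc (h.f_phi a x)).symm

theorem phi_of {a x : M} {β : F} (e : f a x = h.fr.bF h.co h.bt β) : φ a x = β := by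
  rw [h.phi_eq]
  exact h.fr.ph_eq h.co h.btc e

theorem phi_self (a : M) : φ a a = 0 := by rw [h.phi_eq, h.fr.ph_self h.co h.btc]

theorem phi_symm (a x : M) : φ a x = φ x a := by rw [h.phi_eq, h.phi_eq, h.fr.ph_symm h.co h.btc]

theorem ext {a a' : M} (e : ∀ x, φ a x = φ a' x) : a = a' :=
  h.fr.ph_ext h.co h.btc h.cenW fun x => by rw [← h.phi_eq, ← h.phi_eq, e]

theorem phi_act (g : NR R i) (a x : M) : φ (g • a) (g • x) = h.fr.sg h.co h.bt g (φ a x) := by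
  rw [h.phi_eq, h.phi_eq, h.fr.ph_act h.co h.btc]

theorem two (a : M) : a + a = 0 := h.fr.two_M h.bt a

/-- commutators in `W i` -/
theorem comm_eq {x z : G} (hx : x ∈ WW V (R i)) (hz : z ∈ WW V (R i)) :
    x * z * x⁻¹ * z⁻¹ = v (φ (p x) (p z)) 0 := by
  have h1 := h.f_phi (p x) (p z)
  rw [h.fr.f_eq x hx z hz, h.fr.bF_apply h.co h.bt] at h1
  exact h.fr.r_inj (h.bt.WW_comm i hx hz) (h.fr.v0_mem h.co h.bt _) h1

/-- an element acting on `R i` as the scalar `k` acts linearly -/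
theorem s_eq {g : NR R i} {k : F} (hk : k ≠ 0) (hg : ∀ β, (g : G) * v β 0 * (g : G)⁻¹ = v (k * β) 0) (l : F) :
    s g l = l ∧ h.fr.sg h.co h.bt g l = k * l := by
  have h1 : ∀ β, h.fr.sg h.co h.bt g β = k * β := fun β => h.fr.sg_eq h.co h.bt (by
    rw [h.fr.bF_apply h.co h.bt, h.fr.bF_apply h.co h.bt, h.fr.r_act g _ (h.fr.v0_mem h.co h.bt β), hg])
  refine ⟨?_, h1 l⟩
  have h2 := h.semi_B g l 1
  rw [h1, h1, mul_one, mul_one, mul_comm] at h2
  exact (mul_right_cancel₀ hk h2).symm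

theorem lin {g : NR R i} {k : F} (hk : k ≠ 0) (hg : ∀ β, (g : G) * v β 0 * (g : G)⁻¹ = v (k * β) 0) (l : F) (a : M) :
    g • (l • a) = l • (g • a) := by rw [h.semi, (h.s_eq hk hg l).1]

theorem phi_lin {g : NR R i} {k : F} (hk : k ≠ 0) (hg : ∀ β, (g : G) * v β 0 * (g : G)⁻¹ = v (k * β) 0) (a x : M) :
    φ (g • a) (g • x) = k * φ a x := by rw [h.phi_act, (h.s_eq hk hg _).2]

theorem cen_aux {g : NR R i} (hg : (g : G) ∈ centralizer (R i : Set G)) (β : F) :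
    (g : G) * v β 0 * (g : G)⁻¹ = v (1 * β) 0 := by
  rw [one_mul, ← mem_centralizer_iff.1 hg _ ((h.co.mem_R1 _).2 ⟨β, rfl⟩), mul_inv_cancel_right]

theorem lin_cen {g : NR R i} (hg : (g : G) ∈ centralizer (R i : Set G)) (l : F) (a : M) :
    g • (l • a) = l • (g • a) := h.lin one_ne_zero (h.cen_aux hg) l a

theorem phi_cen {g : NR R i} (hg : (g : G) ∈ centralizer (R i : Set G)) (a x : M) :
    φ (g • a) (g • x) = φ a x := by rw [h.phi_lin one_ne_zero (h.cen_aux hg), one_mul]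

theorem eF_eq (γ : F) : h.fr.eF h.co h.bt γ = γ • p (v 0 1) := by
  obtain ⟨ω, -, -, hω, -, -⟩ := h.fr.exists_omega h.co h.bt
  have h1 : ∀ γ x, φ (h.fr.eF h.co h.bt γ) x = ω x * γ := fun γ x => by
    rw [h.phi_symm]
    exact h.phi_of (hω x γ)
  apply h.ext
  intro x
  rw [h1, map_smul, LinearMap.smul_apply, smul_eq_mul, ← h.fr.eF_apply h.co h.bt, h1, mul_one, mul_comm]

theorem p_v (β γ : F) : p (v β γ) = γ • p (v 0 1) := by rw [h.fr.p_v h.co h.bt, h.eF_eq]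

theorem mem_V {a : M} : a ∈ h.fr.sb V ↔ ∃ γ : F, γ • p (v 0 1) = a := by
  rw [h.fr.mem_e h.co h.bt]
  exact exists_congr fun γ => by rw [h.eF_eq]

theorem e_smul_eq_zero {γ : F} (e : γ • p (v 0 1) = 0) : γ = 0 := by
  rw [← h.eF_eq] at e
  exact h.fr.eF_inj h.co h.bt (e.trans (map_zero _).symm)

theorem e_ne : p (v 0 1) ≠ 0 := fun e => one_ne_zero (h.e_smul_eq_zero (γ := (1 : F)) (by rw [e, smul_zero]))

theorem mem_U {a : M} : a ∈ h.fr.sb (UU V R i) ↔ φ a (p (v 0 1)) = 0 := by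
  rw [← h.fr.perp_iff h.bt]
  constructor
  · intro e
    apply h.phi_of
    rw [e _ (h.mem_V.2 ⟨1, one_smul _ _⟩), map_zero]
  · intro e x hx
    obtain ⟨γ, rfl⟩ := h.mem_V.1 hx
    rw [h.f_phi, map_smul, e, smul_zero, map_zero]

theorem phi_w1 (l : F) : φ (p (w1 l)) (p (v 0 1)) = l := by
  obtain ⟨ω, -, -, hω, -, hw⟩ := h.fr.exists_omega h.co h.bt
  apply h.phi_of
  have h1 := hω (p (w1 l)) 1
  rw [h.fr.eF_apply h.co h.bt, hw, mul_one] at h1
  exact h1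

end basic

section tor

variable {t : F → G} (τ : Lie.TorD V R i j v t)
include τ

theorem T_aux (a : Fˣ) (β : F) : (tT τ a : G) * v β 0 * (tT τ a : G)⁻¹ = v (a * β) 0 := by
  have h1 := τ.act a β 0 a.ne_zero
  rw [mul_zero] at h1
  exact h1

theorem T_lin (a : Fˣ) (l : F) (x : M) : tT τ a • (l • x) = l • (tT τ a • x) :=
  h.lin a.ne_zero (h.T_aux τ a) l x

theorem phi_T (a : Fˣ) (x z : M) : φ (tT τ a • x) (tT τ a • z) = a * φ x z :=
  h.phi_lin a.ne_zero (h.T_aux τ a) x z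

theorem T_T (a b : Fˣ) (x : M) : tT τ a • tT τ b • x = tT τ b • tT τ a • x := by
  rw [← mul_smul, tT_comm, mul_smul]

theorem T_e (a : Fˣ) : tT τ a • p (v 0 1) = (a : F)⁻¹ • p (v 0 1) := by
  rw [h.fr.p_act _ _ (h.fr.v_mem_W h.co h.bt 0 1)]
  change p (t a * v 0 1 * (t a)⁻¹) = _
  rw [τ.act a 0 1 a.ne_zero, h.p_v, mul_one]

theorem T_smul_e (a : Fˣ) (γ : F) : tT τ a • (γ • p (v 0 1)) = (γ * (a : F)⁻¹) • p (v 0 1) := by
  rw [h.T_lin τ, h.T_e τ, smul_smul]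

theorem phi_T_e (a : Fˣ) (x : M) : φ (tT τ a • x) (p (v 0 1)) = (a : F) ^ 2 * φ x (p (v 0 1)) := by
  have h1 := h.phi_T τ a x (p (v 0 1))
  rw [h.T_e τ, map_smul, smul_eq_mul] at h1
  have h2 : (a : F) * ((a : F)⁻¹ * φ (tT τ a • x) (p (v 0 1))) = (a : F) * (a * φ x (p (v 0 1))) := by rw [h1]
  rw [← mul_assoc, mul_inv_cancel₀ a.ne_zero, one_mul, ← mul_assoc, ← pow_two] at h2
  exact h2

theorem T_D (a : Fˣ) {x : M} (hx : x ∈ h.fr.sb (DD V R)) : ∃ γ : F, tT τ a • x = x + γ • p (v 0 1) := by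
  obtain ⟨γ, hγ⟩ := h.mem_V.1 (h.fr.X_D h.bt (h := tT τ a) (τ.memX a a.ne_zero) hx)
  exact ⟨γ, by rw [hγ]; abel⟩

/-- `C_M(T)` -/
def M0 : Submodule F M where
  carrier := {x | ∀ a : Fˣ, tT τ a • x = x}
  zero_mem' := fun a => smul_zero _
  add_mem' := fun {x z} hx hz a => by
    have h1 := hx a
    have h2 := hz a
    rw [smul_add, h1, h2]
  smul_mem' := fun l x hx a => by
    have h1 := hx a
    rw [h.T_lin τ, h1]

/-- the eigenspace of `T` for the weight 1 -/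
def M1 : Submodule F M where
  carrier := {x | ∀ a : Fˣ, tT τ a • x = (a : F) • x}
  zero_mem' := fun a => by rw [smul_zero, smul_zero]
  add_mem' := fun {x z} hx hz a => by
    have h1 := hx a
    have h2 := hz a
    rw [smul_add, smul_add, h1, h2]
  smul_mem' := fun l x hx a => by
    have h1 := hx a
    rw [h.T_lin τ, h1, smul_smul, smul_smul, mul_comm]

theorem mem_M0 {x : M} : x ∈ h.M0 τ ↔ ∀ a : Fˣ, tT τ a • x = x := Iff.rfl

theorem mem_M1 {x : M} : x ∈ h.M1 τ ↔ ∀ a : Fˣ, tT τ a • x = (a : F) • x := Iff.rfl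

omit τ in
theorem exists_unit : ∃ a : Fˣ, (a : F) ≠ 1 := by
  obtain ⟨a, h0, h1⟩ := h.four
  exact ⟨Units.mk0 a h0, h1⟩

omit τ in
theorem sub_inv_ne {a : F} (h0 : a ≠ 0) (h1 : a ≠ 1) : a - a⁻¹ ≠ 0 := by
  intro e
  apply h1
  have h2 : a * a = 1 := by
    rw [sub_eq_zero] at e
    nth_rewrite 2 [e]
    exact mul_inv_cancel₀ h0
  have h3 : (a + 1) * (a + 1) = 0 := by
    have h4 : (a + 1) * (a + 1) = a * a + (a + a) + 1 := by ring
    rw [h4, h2, CharTwo.add_self_eq_zero, add_zero, CharTwo.add_self_eq_zero]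
  have h5 : a + 1 = 0 := mul_self_eq_zero.1 h3
  rw [← CharTwo.sub_eq_add] at h5
  exact sub_eq_zero.1 h5

/-- `D̄ = e ⊕ C_{D̄}(T)` -/
theorem exists_M0 {x : M} (hx : x ∈ h.fr.sb (DD V R)) : ∃ γ : F, x + γ • p (v 0 1) ∈ h.M0 τ := by
  choose δ hδ using fun a => h.T_D τ a hx
  obtain ⟨b, hb⟩ := h.exists_unit
  have hb' : 1 - (b : F)⁻¹ ≠ 0 := by
    intro e
    apply hb
    rw [sub_eq_zero] at e
    rw [← inv_inv (b : F), ← e, inv_one]
  have key : ∀ a : Fˣ, δ a * (1 - (b : F)⁻¹) = δ b * (1 - (a : F)⁻¹) := by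
    intro a
    have h1 := h.T_T τ a b x
    rw [hδ b, hδ a, smul_add, smul_add, hδ a, hδ b, h.T_smul_e τ, h.T_smul_e τ, add_assoc, add_assoc,
      add_right_inj, ← add_smul, ← add_smul] at h1
    have h2 : (δ a + δ b * (a : F)⁻¹ - (δ b + δ a * (b : F)⁻¹)) • p (v 0 1) = 0 := by
      rw [sub_smul, h1, sub_self]
    have h3 := h.e_smul_eq_zero h2
    linear_combination h3
  refine ⟨δ b * (1 - (b : F)⁻¹)⁻¹, fun a => ?_⟩
  rw [smul_add, hδ a, h.T_smul_e τ, add_assoc, ← add_smul, add_right_inj]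
  congr 1
  have h1 : δ a = δ b * (1 - (b : F)⁻¹)⁻¹ * (1 - (a : F)⁻¹) := by
    have h2 := key a
    field_simp at h2 ⊢
    linear_combination h2
  rw [h1]
  ring

theorem e_mem_D : p (v 0 1) ∈ h.fr.sb (DD V R) :=
  h.fr.sb_mono (V_le_D V R) (h.mem_V.2 ⟨1, one_smul _ _⟩)

theorem D_smul_e (γ : F) : γ • p (v 0 1) ∈ h.fr.sb (DD V R) :=
  h.fr.sb_mono (V_le_D V R) (h.mem_V.2 ⟨γ, rfl⟩)

theorem e_M0 {γ : F} (e : γ • p (v 0 1) ∈ h.M0 τ) : γ = 0 := by
  obtain ⟨a, ha⟩ := h.exists_unit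
  have h1 := e a
  rw [h.T_smul_e τ] at h1
  have h2 : (γ * (a : F)⁻¹ - γ) • p (v 0 1) = 0 := by rw [sub_smul, h1, sub_self]
  have h3 := h.e_smul_eq_zero h2
  have h4 : γ * ((a : F)⁻¹ - 1) = 0 := by linear_combination h3
  rcases mul_eq_zero.1 h4 with h5 | h5
  · exact h5
  · exfalso
    apply ha
    rw [← inv_inv (a : F), sub_eq_zero.1 h5, inv_one]

end tor

section eig

variable [Finite G] [Finite F] {t : F → G} (τ : Lie.TorD V R i j v t) {N : Type u} [AddCommGroup N] [Module F N]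
  {P1 P2 : G → N} (y : YPair V R i j w1 w2 N P1 P2)
include τ y

/-- `C_M(T) ≤ D̄` -/
theorem M0_le {x : M} (hx : x ∈ h.M0 τ) : x ∈ h.fr.sb (DD V R) := by
  obtain ⟨a, ha⟩ := h.exists_unit
  have hxa := hx a
  have h1 := h.phi_T_e τ a x
  rw [hxa] at h1
  have h2 : φ x (p (v 0 1)) = 0 := by
    have h3 : ((a : F) ^ 2 - 1) * φ x (p (v 0 1)) = 0 := by linear_combination -h1
    rcases mul_eq_zero.1 h3 with h4 | h4
    · exfalso
      apply h.sub_inv_ne a.ne_zero ha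
      have h5 : (a : F) * ((a : F) - (a : F)⁻¹) = 0 := by
        rw [mul_sub, mul_inv_cancel₀ a.ne_zero]
        linear_combination h4
      exact (mul_eq_zero.1 h5).resolve_left a.ne_zero
    · exact h4
  obtain ⟨z, hz, hzW, rfl⟩ := h.mem_U.2 h2
  have hzY := UU_le_YY i hz
  have h3 := y.tor τ h.co h.btc a.ne_zero hzY
  have h4 : t a * z * (t a)⁻¹ ∈ UU V R i := by
    have h5 : cj (t a) (UU V R i) = UU V R i :=
      h.bt.cj_UU (h.bt.X_le_NV (τ.memX a a.ne_zero)) (cj_eq_self_iff.2 (τ.normR a.ne_zero))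
    rw [← h5]
    exact conj_mem_cj hz
  rw [h.fr.p_act _ _ hzW] at hxa
  have h5 := (h.fr.p_eq_iff (UU_le_WW i h4) hzW).1 hxa
  have h6 := (y.mem_D _ (mul_mem (UU_le_YY i h4) (inv_mem hzY))).1 ((h.bt.R_le i).trans (V_le_D V R) h5)
  rw [y.mul1 _ (UU_le_YY i h4) _ (inv_mem hzY), y.inv1 hzY, h3.1] at h6
  have h7 : ((a : F) - 1) • P1 z = 0 := by
    rw [sub_smul, one_smul, sub_eq_add_neg]
    exact h6.1
  have h8 : P1 z = 0 := (smul_eq_zero.1 h7).resolve_left (sub_ne_zero.2 ha)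
  exact h.fr.p_mem hzW ((y.mem_D z hzY).2 ⟨h8, (y.mem_U1 z hzY).1 hz⟩)

theorem mem_D {x : M} : x ∈ h.fr.sb (DD V R) ↔ ∃ γ : F, ∃ d ∈ h.M0 τ, x = γ • p (v 0 1) + d := by
  constructor
  · intro hx
    obtain ⟨γ, hγ⟩ := h.exists_M0 τ hx
    refine ⟨γ, _, hγ, ?_⟩
    have h1 := h.two (γ • p (v 0 1))
    rw [add_left_comm, h1, add_zero]
  · rintro ⟨γ, d, hd, rfl⟩
    exact add_mem (h.D_smul_e τ γ) (h.M0_le τ y hd)

theorem D_smul {x : M} (hx : x ∈ h.fr.sb (DD V R)) (l : F) : l • x ∈ h.fr.sb (DD V R) := by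
  obtain ⟨γ, d, hd, rfl⟩ := (h.mem_D τ y).1 hx
  exact (h.mem_D τ y).2 ⟨l * γ, l • d, (h.M0 τ).smul_mem l hd, by rw [smul_add, smul_smul]⟩

theorem D_T {x : M} (hx : x ∈ h.fr.sb (DD V R)) (a : Fˣ) : tT τ a • x ∈ h.fr.sb (DD V R) := by
  obtain ⟨γ, hγ⟩ := h.T_D τ a hx
  rw [hγ]
  exact add_mem hx (h.D_smul_e τ γ)

/-- no eigenvalue `a` on `D̄` -/
theorem eig_D {a : Fˣ} (ha : (a : F) ≠ 1) {x : M} (hx : x ∈ h.fr.sb (DD V R)) (e : tT τ a • x = (a : F) • x) :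
    x = 0 := by
  obtain ⟨γ, d, hd, rfl⟩ := (h.mem_D τ y).1 hx
  rw [smul_add, h.T_smul_e τ, hd a, smul_add, smul_smul] at e
  have h1 : (γ * (a : F)⁻¹ - a * γ) • p (v 0 1) = ((a : F) - 1) • d := by
    rw [sub_smul, sub_smul, one_smul]
    have h2 : (γ * (a : F)⁻¹) • p (v 0 1) = ((a : F) * γ) • p (v 0 1) + (a : F) • d - d := by rw [← e]; abel
    rw [h2]
    abel
  have h2 : γ * (a : F)⁻¹ - a * γ = 0 := by
    apply h.e_M0 τ
    rw [h1]
    exact (h.M0 τ).smul_mem _ hd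
  rw [h2, zero_smul] at h1
  have h3 : d = 0 := (smul_eq_zero.1 h1.symm).resolve_left (sub_ne_zero.2 ha)
  have h4 : γ * ((a : F) - (a : F)⁻¹) = 0 := by linear_combination -h2
  have h5 : γ = 0 := (mul_eq_zero.1 h4).resolve_right (h.sub_inv_ne a.ne_zero ha)
  rw [h3, h5, zero_smul, add_zero]

theorem M1_D {x : M} (hx : x ∈ h.M1 τ) (hD : x ∈ h.fr.sb (DD V R)) : x = 0 := by
  obtain ⟨a, ha⟩ := h.exists_unit
  exact h.eig_D τ y ha hD (hx a)

omit y in
theorem M1_U {x : M} (hx : x ∈ h.M1 τ) : φ x (p (v 0 1)) = 0 := by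
  obtain ⟨a, ha⟩ := h.exists_unit
  have h1 := h.phi_T_e τ a x
  rw [hx a, map_smul, LinearMap.smul_apply, smul_eq_mul] at h1
  have h2 : (a : F) * (((a : F) - 1) * φ x (p (v 0 1))) = 0 := by linear_combination -h1
  have h3 := (mul_eq_zero.1 h2).resolve_left a.ne_zero
  exact (mul_eq_zero.1 h3).resolve_left (sub_ne_zero.2 ha)

/-- the projection `e^⊥ → e^⊥ / D̄ = N` -/
theorem exists_pr : ∃ pr : M → N, (∀ z ∈ UU V R i, pr (p z) = P1 z) ∧
    (∀ x ∈ h.fr.sb (UU V R i), ∀ z ∈ h.fr.sb (UU V R i), pr (x + z) = pr x + pr z) ∧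
    (∀ x ∈ h.fr.sb (UU V R i), (pr x = 0 ↔ x ∈ h.fr.sb (DD V R))) ∧
    (∀ (g : NR R i), (g : G) ∈ UU V R j → ∀ m, pr (g • m - m) = φ m (p (v 0 1)) • P2 (g : G)) ∧
    (∀ x ∈ h.fr.sb (UU V R i), ∀ l : F, pr (l • x) = l • pr x) ∧
    (∀ x ∈ h.fr.sb (UU V R i), ∀ a : Fˣ, pr (tT τ a • x) = (a : F) • pr x) := by
  classical
  obtain ⟨π, -, hk, hP, -⟩ := h.fr.exists_pi h.co h.bt y
  obtain ⟨ω, -, -, hω, -, -⟩ := h.fr.exists_omega h.co h.bt
  have hωφ : ∀ m, ω m = φ m (p (v 0 1)) := fun m => by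
    symm
    apply h.phi_of
    have h1 := hω m 1
    rw [mul_one, h.fr.eF_apply h.co h.bt] at h1
    exact h1
  let pr : M → N := fun x => if hx : x ∈ h.fr.sb (UU V R i) then π ⟨x, hx⟩ else 0
  have hpr : ∀ x (hx : x ∈ h.fr.sb (UU V R i)), pr x = π ⟨x, hx⟩ := fun x hx => dif_pos hx
  have h1 : ∀ z ∈ UU V R i, pr (p z) = P1 z := fun z hz => by
    rw [hpr _ (h.fr.p_mem (UU_le_WW i hz) hz)]
    exact hP z hz
  have h2 : ∀ x ∈ h.fr.sb (UU V R i), ∀ z ∈ h.fr.sb (UU V R i), pr (x + z) = pr x + pr z := by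
    intro x hx z hz
    rw [hpr x hx, hpr z hz, hpr _ (add_mem hx hz), ← map_add]
    rfl
  have h3 : ∀ x ∈ h.fr.sb (UU V R i), (pr x = 0 ↔ x ∈ h.fr.sb (DD V R)) := fun x hx => by
    rw [hpr x hx]
    exact hk _
  have h4 : ∀ (g : NR R i), (g : G) ∈ UU V R j → ∀ m, pr (g • m - m) = φ m (p (v 0 1)) • P2 (g : G) := by
    intro g hg m
    rw [hpr _ (h.fr.A_M h.bt hg m), ← hωφ]
    exact h.fr.A_pi h.co h.bt y hω hP hg m
  refine ⟨pr, h1, h2, h3, h4, ?_, ?_⟩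
  · intro x hx l
    obtain ⟨u, hu, hu1, hu2⟩ := y.surj 0 (pr x)
    have huj : u ∈ UU V R j := (y.mem_U2 u hu).2 hu1
    set g : NR R i := ⟨u, h.bt.cen_le_N i (UU_le_cen j huj)⟩ with hg
    have hgc : (g : G) ∈ centralizer (R i : Set G) := centralizer_le (h.bt.R_le i) (UU_le_cen j huj)
    set m0 := p (w1 1) with hm0
    have hm : φ m0 (p (v 0 1)) = 1 := h.phi_w1 1
    have k1 := h4 g huj m0
    rw [hm, one_smul] at k1
    have k1' : P2 (g : G) = pr x := hu2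
    rw [k1'] at k1
    have hU1 : g • m0 - m0 ∈ h.fr.sb (UU V R i) := h.fr.A_M h.bt huj m0
    have k2 : x - (g • m0 - m0) ∈ h.fr.sb (DD V R) := by
      rw [← h3 _ (sub_mem hx hU1)]
      have k3 := h2 (x - (g • m0 - m0)) (sub_mem hx hU1) (g • m0 - m0) hU1
      rw [sub_add_cancel, k1] at k3
      exact (right_eq_add.1 k3)
    have hlU : ∀ x ∈ h.fr.sb (UU V R i), l • x ∈ h.fr.sb (UU V R i) := fun x hx => by
      rw [h.mem_U] at hx ⊢
      rw [map_smul, LinearMap.smul_apply, hx, smul_zero]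
    have k4 := h4 g huj (l • m0)
    rw [h.lin_cen hgc, ← smul_sub, map_smul, LinearMap.smul_apply, hm, smul_eq_mul, mul_one, k1'] at k4
    have k5 := h.D_smul τ y k2 l
    have k6 := h2 _ (hlU _ (sub_mem hx hU1)) _ (hlU _ hU1)
    rw [← smul_add, sub_add_cancel, k4, (h3 _ (hlU _ (sub_mem hx hU1))).2 k5, zero_add] at k6
    exact k6
  · rintro x ⟨z, hz, hzW, rfl⟩ a
    have k1 : t a * z * (t a)⁻¹ ∈ UU V R i := by
      have h5 : cj (t a) (UU V R i) = UU V R i :=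
        h.bt.cj_UU (h.bt.X_le_NV (τ.memX a a.ne_zero)) (cj_eq_self_iff.2 (τ.normR a.ne_zero))
      rw [← h5]
      exact conj_mem_cj hz
    rw [h.fr.p_act _ _ hzW, h1 z hz]
    change pr (p (t a * z * (t a)⁻¹)) = _
    rw [h1 _ k1, (y.tor τ h.co h.btc a.ne_zero (UU_le_YY i hz)).1]

/-- `n : N → M₁` with `n (P1 z) ≡ p z` modulo `D̄` -/
theorem exists_n : ∃ n : N →ₗ[F] M, (∀ g, n g ∈ h.M1 τ) ∧
    (∀ z ∈ UU V R i, p z - n (P1 z) ∈ h.fr.sb (DD V R)) ∧
    (∀ g, n g ∈ h.fr.sb (DD V R) → g = 0) ∧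
    (∀ x ∈ h.M1 τ, ∃ g, n g = x) ∧
    ∀ (g : NR R i), (g : G) ∈ UU V R j → ∀ m, g • m - m - φ m (p (v 0 1)) • n (P2 (g : G)) ∈ h.fr.sb (DD V R) := by
  obtain ⟨pr, hp, hadd, hD, hA, hsm, hT⟩ := h.exists_pr τ y
  obtain ⟨a, ha⟩ := h.exists_unit
  have hUD : h.fr.sb (DD V R) ≤ h.fr.sb (UU V R i) := h.fr.sb_mono (h.bt.D_le_U i)
  have hM1U : ∀ x ∈ h.M1 τ, x ∈ h.fr.sb (UU V R i) := fun x hx => h.mem_U.2 (h.M1_U τ hx)
  have hsub : ∀ x ∈ h.fr.sb (UU V R i), ∀ z ∈ h.fr.sb (UU V R i), pr x = pr z → x - z ∈ h.fr.sb (DD V R) := by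
    intro x hx z hz e
    rw [← hD _ (sub_mem hx hz)]
    have h1 := hadd _ (sub_mem hx hz) z hz
    rw [sub_add_cancel, e] at h1
    exact right_eq_add.1 h1
  have hTU : ∀ (b : Fˣ), ∀ x ∈ h.fr.sb (UU V R i), tT τ b • x ∈ h.fr.sb (UU V R i) := fun b x hx => by
    rw [h.mem_U] at hx ⊢
    rw [h.phi_T_e τ, hx, mul_zero]
  have hlU : ∀ (l : F), ∀ x ∈ h.fr.sb (UU V R i), l • x ∈ h.fr.sb (UU V R i) := fun l x hx => by
    rw [h.mem_U] at hx ⊢
    rw [map_smul, LinearMap.smul_apply, hx, smul_zero]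
  have hTs : ∀ (b : Fˣ), ∀ x ∈ h.fr.sb (UU V R i), tT τ b • x - (b : F) • x ∈ h.fr.sb (DD V R) := fun b x hx =>
    hsub _ (hTU b x hx) _ (hlU _ x hx) (by rw [hT x hx, hsm x hx])
  -- existence
  have hex : ∀ g : N, ∃ x ∈ h.M1 τ, pr x = g := by
    intro g
    obtain ⟨z, hz, hz1, hz2⟩ := y.surj g 0
    have hzU : z ∈ UU V R i := (y.mem_U1 z hz).2 hz2
    have hzs : p z ∈ h.fr.sb (UU V R i) := h.fr.p_mem (UU_le_WW i hzU) hzU
    obtain ⟨γ, d, hd, hγ⟩ := (h.mem_D τ y).1 (hTs a _ hzs)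
    have hne := h.sub_inv_ne a.ne_zero ha
    have hne1 : (a : F) - 1 ≠ 0 := sub_ne_zero.2 ha
    set α := γ * ((a : F) - (a : F)⁻¹)⁻¹ with hα
    set β := ((a : F) - 1)⁻¹ with hβ
    set x := p z + α • p (v 0 1) + β • d with hx
    have hxD : x - p z ∈ h.fr.sb (DD V R) := by
      have e : x - p z = α • p (v 0 1) + β • d := by rw [hx]; abel
      rw [e]
      exact add_mem (h.D_smul_e τ α) (h.D_smul τ y (h.M0_le τ y hd) β)
    have hxU : x ∈ h.fr.sb (UU V R i) := by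
      have e : x = x - p z + p z := by abel
      rw [e]
      exact add_mem (hUD hxD) hzs
    have k1 : tT τ a • p z = (a : F) • p z + (γ • p (v 0 1) + d) := by rw [← hγ]; abel
    have k2 : tT τ a • x = (a : F) • x := by
      rw [hx, smul_add, smul_add, k1, h.T_smul_e τ, h.T_lin τ, hd a, smul_add, smul_add, smul_smul, smul_smul]
      have e1 : (a : F) * α = γ + α * (a : F)⁻¹ := by
        have : α * ((a : F) - (a : F)⁻¹) = γ := by rw [hα, mul_assoc, inv_mul_cancel₀ hne, mul_one]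
        linear_combination this
      have e2 : (a : F) * β = 1 + β := by
        have : β * ((a : F) - 1) = 1 := by rw [hβ]; exact inv_mul_cancel₀ hne1
        linear_combination this
      rw [e1, e2, add_smul, add_smul, one_smul]
      abel
    refine ⟨x, fun b => ?_, ?_⟩
    · -- the eigenvalue for all `b`
      have k3 := hTs b x hxU
      have k4 : tT τ a • (tT τ b • x - (b : F) • x) = (a : F) • (tT τ b • x - (b : F) • x) := by
        rw [smul_sub, h.T_T τ, k2, h.T_lin τ, h.T_lin τ, k2, smul_sub, smul_smul, smul_smul, mul_comm (b : F)]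
      exact sub_eq_zero.1 (h.eig_D τ y ha k3 k4)
    · have k3 := hadd _ (hUD hxD) _ hzs
      rw [sub_add_cancel, (hD _ (hUD hxD)).2 hxD, zero_add, hp z hzU, hz1] at k3
      exact k3
  -- uniqueness
  have huniq : ∀ x ∈ h.M1 τ, ∀ z ∈ h.M1 τ, pr x = pr z → x = z := by
    intro x hx z hz e
    exact sub_eq_zero.1 (h.M1_D τ y ((h.M1 τ).sub_mem hx hz) (hsub x (hM1U x hx) z (hM1U z hz) e))
  choose nf hn hpn using hex
  let n : N →ₗ[F] M :=
    { toFun := nf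
      map_add' := fun g g' => huniq _ (hn _) _ ((h.M1 τ).add_mem (hn g) (hn g')) (by
        rw [hadd _ (hM1U _ (hn g)) _ (hM1U _ (hn g')), hpn, hpn, hpn])
      map_smul' := fun l g => huniq _ (hn _) _ ((h.M1 τ).smul_mem l (hn g)) (by
        rw [hsm _ (hM1U _ (hn g)), hpn, hpn]; rfl) }
  have hne : ∀ g, n g = nf g := fun g => rfl
  refine ⟨n, hn, fun z hz => ?_, fun g hg => ?_, fun x hx => ⟨pr x, ?_⟩, fun g hg m => ?_⟩
  · have hzs : p z ∈ h.fr.sb (UU V R i) := h.fr.p_mem (UU_le_WW i hz) hz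
    exact hsub _ hzs _ (hM1U _ (hn _)) (by rw [hp z hz, hne, hpn])
  · have h1 := (hD _ (hM1U _ (hn g))).2 hg
    rw [hpn] at h1
    exact h1
  · exact huniq _ (hn _) _ hx (by rw [hpn])
  · have hU1 := h.fr.A_M h.bt hg m
    refine hsub _ hU1 _ (hlU _ _ (hM1U _ (hn _))) ?_
    rw [hA g hg m, hne, hsm _ (hM1U _ (hn _)), hpn]

omit [Finite F] τ in
/-- the action of `u ∈ U j` on `M` depends only on `P2 u` -/
theorem act_congr {g g' : NR R i} (hg : (g : G) ∈ UU V R j) (hg' : (g' : G) ∈ UU V R j)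
    (e : P2 (g : G) = P2 (g' : G)) (x : M) : g • x = g' • x := by
  have h1 : (g : G) * (g' : G)⁻¹ ∈ DD V R := by
    have hY := UU_le_YY j hg
    have hY' := UU_le_YY j hg'
    rw [y.mem_D _ (mul_mem hY (inv_mem hY')), y.mul1 _ hY _ (inv_mem hY'), y.mul2 _ hY _ (inv_mem hY'), y.inv1 hY',
      y.inv2 hY', e, (y.mem_U2 _ hY).1 hg, (y.mem_U2 _ hY').1 hg', neg_zero, add_zero, add_neg_cancel]
    exact ⟨rfl, rfl⟩
  have h2 : (g * g'⁻¹) • (g' • x) = g' • x := h.fr.W_act h.bt (D_le_W V R i h1) _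
  rw [← mul_smul, inv_mul_cancel_right] at h2
  exact h2

omit [Finite G] [Finite F] τ in
/-- `[d, n]`: the form on `D × U i` -/
theorem phi_D_U {d z : G} (hd : d ∈ DD V R) (hz : z ∈ UU V R i) :
    φ (p d) (p z) = y.lam h.bt h.co d (P1 z) := by
  have h1 := h.comm_eq (D_le_W V R i hd) (UU_le_WW i hz)
  have h2 := y.lam_spec h.bt h.co hd (UU_le_YY i hz)
  rw [h1] at h2
  exact (h.co.v_inj h2).1

end eig

end FMod

section eigS

variable {F : Type v} [Field F] [CharP F 2] {v : F → F → G} {w1 w2 : F → G}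
variable {M B : Type u} [AddCommGroup M] [AddCommGroup B] [DistribMulAction (NR R i) M]
  [DistribMulAction (NR R i) B] [Module F M] {p : G → M} {r : G → B} {f : M →+ M →+ B}
  {φ : M →ₗ[F] M →ₗ[F] F} {s : NR R i → (F ≃+* F)}

/-- **The eigenspaces of the torus and the action of `A = U j`** (#14331, SETTING) -/
structure Eig (h : FMod V R i j v w1 w2 M B p r f φ s) {t : F → G} (τ : Lie.TorD V R i j v t) {N : Type u}
    [AddCommGroup N] [Module F N] {P1 P2 : G → N} (y : YPair V R i j w1 w2 N P1 P2) (n : N →ₗ[F] M)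
    (sf : N →ₗ[F] N →ₗ[F] M) (q : N → N →ₗ[F] F) : Prop where
  n_mem : ∀ g, n g ∈ h.M1 τ
  n_surj : ∀ x ∈ h.M1 τ, ∃ g, n g = x
  sf_mem : ∀ g g', sf g g' ∈ h.M0 τ
  mem_D : ∀ x, x ∈ h.fr.sb (DD V R) ↔ ∃ γ : F, ∃ d ∈ h.M0 τ, x = γ • p (v 0 1) + d
  mem_U : ∀ x, φ x (p (v 0 1)) = 0 ↔ ∃ γ : F, ∃ d ∈ h.M0 τ, ∃ g, x = γ • p (v 0 1) + d + n g
  indep : ∀ (γ : F) (d : M) (g : N), d ∈ h.M0 τ → γ • p (v 0 1) + d + n g = 0 → γ = 0 ∧ d = 0 ∧ g = 0
  p_n : ∀ z ∈ UU V R i, p z - n (P1 z) ∈ h.fr.sb (DD V R)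
  A_e : ∀ a : NR R i, (a : G) ∈ UU V R j → a • p (v 0 1) = p (v 0 1)
  A_0 : ∀ a : NR R i, (a : G) ∈ UU V R j → ∀ d ∈ h.M0 τ, a • d = d + φ d (n (P2 (a : G))) • p (v 0 1)
  A_1 : ∀ a : NR R i, (a : G) ∈ UU V R j → ∀ g, a • n g = n g + sf g (P2 (a : G)) + q (P2 (a : G)) g • p (v 0 1)
  A_top : ∀ a : NR R i, (a : G) ∈ UU V R j → ∀ m,
    a • m - m - φ m (p (v 0 1)) • n (P2 (a : G)) ∈ h.fr.sb (DD V R)
  phi_00 : ∀ d ∈ h.M0 τ, ∀ d' ∈ h.M0 τ, φ d d' = 0
  phi_11 : ∀ g g', φ (n g) (n g') = 0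
  phi_e0 : ∀ d ∈ h.M0 τ, φ d (p (v 0 1)) = 0
  phi_e1 : ∀ g, φ (n g) (p (v 0 1)) = 0
  inj : ∀ d ∈ h.M0 τ, (∀ g, φ d (n g) = 0) → d = 0
  sf_alt : ∀ g, sf g g = 0
  T_23 : ∀ g a b, φ (sf g a) (n b) = φ (sf g b) (n a)
  T_13 : ∀ g a b, φ (sf g a) (n b) = φ (sf b a) (n g)
  T_alt : ∀ g a, φ (sf g a) (n a) = 0
  q_add : ∀ a b g, q (a + b) g = q a g + q b g + φ (sf g b) (n a)
  q_smul : ∀ (l : F) a g, q (l • a) g = l ^ 2 * q a g

/-- **existence of `Eig`** -/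
theorem FMod.exists_eig [Finite G] [Finite F] (h : FMod V R i j v w1 w2 M B p r f φ s) {t : F → G}
    (τ : Lie.TorD V R i j v t) {N : Type u} [AddCommGroup N] [Module F N] {P1 P2 : G → N}
    (y : YPair V R i j w1 w2 N P1 P2) :
    ∃ (n : N →ₗ[F] M) (sf : N →ₗ[F] N →ₗ[F] M) (q : N → N →ₗ[F] F), Eig h τ y n sf q := by
  obtain ⟨n, hn, hpn, hnD, hns, htop⟩ := h.exists_n τ y
  obtain ⟨a, ha⟩ := h.exists_unit
  set e1 : M := p (v 0 1) with he1
  set m0 : M := p (w1 1) with hm0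
  have hm : φ m0 e1 = 1 := h.phi_w1 1
  have hai : (a : F)⁻¹ - 1 ≠ 0 := fun e => ha (by rw [← inv_inv (a : F), sub_eq_zero.1 e, inv_one])
  let Tl : M →ₗ[F] M :=
    { toFun := fun x => tT τ a • x
      map_add' := fun x z => smul_add _ _ _
      map_smul' := fun l x => h.T_lin τ a l x }
  let ce : M →ₗ[F] F := ((a : F)⁻¹ - 1)⁻¹ • ((φ m0).comp (Tl - LinearMap.id))
  have hce : ∀ x, ce x = ((a : F)⁻¹ - 1)⁻¹ * φ m0 (tT τ a • x - x) := fun x => rfl
  have hce1 : ce e1 = 1 := by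
    rw [hce, h.T_e τ]
    have e : (a : F)⁻¹ • p (v 0 1) - e1 = ((a : F)⁻¹ - 1) • e1 := by rw [sub_smul, one_smul]
    rw [e, map_smul, hm, smul_eq_mul, mul_one, inv_mul_cancel₀ hai]
  have hce0 : ∀ d ∈ h.M0 τ, ce d = 0 := fun d hd => by rw [hce, hd a, sub_self, map_zero, mul_zero]
  -- decomposition of `D̄`
  have hdec : ∀ x ∈ h.fr.sb (DD V R), x - ce x • e1 ∈ h.M0 τ := by
    intro x hx
    obtain ⟨γ, d, hd, rfl⟩ := (h.mem_D τ y).1 hx
    rw [map_add, map_smul, hce1, hce0 d hd, smul_eq_mul, mul_one, add_zero, add_sub_cancel_left]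
    exact hd
  -- the elements of `U j`
  have hex : ∀ b : N, ∃ g : NR R i, (g : G) ∈ UU V R j ∧ P2 (g : G) = b := by
    intro b
    obtain ⟨u, hu, hu1, hu2⟩ := y.surj 0 b
    have huj : u ∈ UU V R j := (y.mem_U2 u hu).2 hu1
    exact ⟨⟨u, h.bt.cen_le_N i (UU_le_cen j huj)⟩, huj, hu2⟩
  choose al hal hal2 using hex
  have hcen : ∀ g : NR R i, (g : G) ∈ UU V R j → (g : G) ∈ centralizer (R i : Set G) := fun g hg =>
    centralizer_le (h.bt.R_le i) (UU_le_cen j hg)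
  let Al : N → M →ₗ[F] M := fun b =>
    { toFun := fun x => al b • x - x
      map_add' := fun x z => by rw [smul_add]; abel
      map_smul' := fun l x => by rw [h.lin_cen (hcen _ (hal b))]; exact (smul_sub _ _ _).symm }
  have hAl : ∀ b x, Al b x = al b • x - x := fun b x => rfl
  have hAlg : ∀ (g : NR R i), (g : G) ∈ UU V R j → ∀ x, g • x - x = Al (P2 (g : G)) x := fun g hg x => by
    rw [hAl, h.act_congr y hg (hal _) (hal2 _).symm]
  have hAe : ∀ g : NR R i, (g : G) ∈ UU V R j → g • e1 = e1 := fun g hg =>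
    h.fr.cen_e h.bt (UU_le_cen j hg) (h.mem_V.2 ⟨1, one_smul _ _⟩)
  have hAle : ∀ b (γ : F), Al b (γ • e1) = 0 := fun b γ => by
    rw [map_smul, hAl, hAe _ (hal b), sub_self, smul_zero]
  -- the form on `M0 × N`
  have hφD : ∀ x ∈ h.fr.sb (DD V R), ∀ z ∈ h.fr.sb (DD V R), φ x z = 0 := fun x hx z hz =>
    h.phi_of (by rw [h.fr.f_DD h.bt hx hz, map_zero])
  have hM0D : ∀ d ∈ h.M0 τ, d ∈ h.fr.sb (DD V R) := fun d hd => h.M0_le τ y hd
  have hA0 : ∀ d ∈ h.fr.sb (DD V R), ∀ b, Al b d = φ d (n b) • e1 := by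
    rintro _ ⟨d, hd, hdW, rfl⟩ b
    obtain ⟨z, hz, hz1, hz2⟩ := y.surj b 0
    have hzU : z ∈ UU V R i := (y.mem_U1 z hz).2 hz2
    have h1 : φ (p d) (n b) = y.lam h.bt h.co d b := by
      have h2 := hφD (p d) (h.fr.p_mem hdW hd) _ (hpn z hzU)
      rw [map_sub, hz1, sub_eq_zero, h.phi_D_U y hd hzU, hz1] at h2
      exact h2.symm
    have h3 := h.fr.A_lam h.co h.bt y (hal b) hd
    rw [h1, hAl, h3, hal2, h.eF_eq]
  have hA1D : ∀ b g, Al b (n g) ∈ h.fr.sb (DD V R) := fun b g =>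
    h.fr.A_U h.bt (hal b) (h.mem_U.2 (h.M1_U τ (hn g)))
  -- additivity
  have hAadd : ∀ b b' x, Al (b + b') x = Al b x + Al b' x + Al b (Al b' x) := by
    intro b b' x
    have h1 : ((al b * al b' : NR R i) : G) ∈ UU V R j := mul_mem (hal b) (hal b')
    have h2 := hAlg (al b * al b') h1 x
    have h3 : P2 ((al b * al b' : NR R i) : G) = b + b' := by
      change P2 ((al b : G) * (al b' : G)) = _
      rw [y.mul2 _ (UU_le_YY j (hal b)) _ (UU_le_YY j (hal b')), hal2, hal2]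
    rw [h3] at h2
    rw [← h2, mul_smul, hAl, hAl, hAl, smul_sub]
    abel
  have hAT : ∀ (c : Fˣ) b x, tT τ c • Al b x = Al ((c : F)⁻¹ • b) (tT τ c • x) := by
    intro c b x
    have h1 : ((tT τ c * al b * (tT τ c)⁻¹ : NR R i) : G) ∈ UU V R j := by
      have h5 : cj (t c) (UU V R j) = UU V R j :=
        h.bt.cj_UU (h.bt.X_le_NV (τ.memX c c.ne_zero)) (cj_eq_self_iff.2 (τ.normR' c.ne_zero))
      rw [← h5]
      exact conj_mem_cj (hal b)
    have h2 := hAlg _ h1 (tT τ c • x)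
    have h3 : P2 ((tT τ c * al b * (tT τ c)⁻¹ : NR R i) : G) = (c : F)⁻¹ • b := by
      change P2 (t c * (al b : G) * (t c)⁻¹) = _
      rw [(y.tor τ h.co h.btc c.ne_zero (UU_le_YY j (hal b))).2, hal2]
    rw [h3] at h2
    rw [← h2, ← mul_smul, inv_mul_cancel_right, mul_smul, hAl, smul_sub]
  let sfn : N → N → M := fun g b => Al b (n g) - ce (Al b (n g)) • e1
  have hsf0 : ∀ g b, sfn g b ∈ h.M0 τ := fun g b => hdec _ (hA1D b g)
  have hdecA : ∀ b g, Al b (n g) = sfn g b + ce (Al b (n g)) • e1 := fun b g => (sub_add_cancel _ _).symm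
  have hAA : ∀ b b' g, Al b (Al b' (n g)) = φ (sfn g b') (n b) • e1 := by
    intro b b' g
    rw [hdecA b' g, map_add, hAle, add_zero, hA0 _ (hM0D _ (hsf0 g b'))]
  have hqadd : ∀ b b' g, ce (Al (b + b') (n g)) = ce (Al b (n g)) + ce (Al b' (n g)) + φ (sfn g b') (n b) := by
    intro b b' g
    rw [hAadd, map_add, map_add, hAA, map_smul, hce1, smul_eq_mul, mul_one]
  have hsadd : ∀ b b' g, sfn g (b + b') = sfn g b + sfn g b' := by
    intro b b' g
    change Al (b + b') (n g) - ce (Al (b + b') (n g)) • e1 = _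
    rw [hqadd, hAadd, hAA, add_smul, add_smul]
    change _ = Al b (n g) - ce (Al b (n g)) • e1 + (Al b' (n g) - ce (Al b' (n g)) • e1)
    abel
  have hTs : ∀ (c : Fˣ) b g, (c : F) • sfn g ((c : F)⁻¹ • b) = sfn g b ∧
      (c : F) ^ 2 * ce (Al ((c : F)⁻¹ • b) (n g)) = ce (Al b (n g)) := by
    intro c b g
    have h1 := hAT c b (n g)
    have k1 : tT τ c • Al b (n g) = sfn g b + (ce (Al b (n g)) * (c : F)⁻¹) • p (v 0 1) := by
      have k := congrArg (fun x => tT τ c • x) (hdecA b g)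
      rw [smul_add, hsf0 g b c, h.T_smul_e τ] at k
      exact k
    have k2 : (c : F) • Al ((c : F)⁻¹ • b) (n g) =
        (c : F) • sfn g ((c : F)⁻¹ • b) + (c * ce (Al ((c : F)⁻¹ • b) (n g))) • e1 := by
      have k := congrArg (fun x => (c : F) • x) (hdecA ((c : F)⁻¹ • b) g)
      rw [smul_add, smul_smul] at k
      exact k
    rw [hn g c, map_smul, k1, k2] at h1
    have h2 : (ce (Al b (n g)) * (c : F)⁻¹ - c * ce (Al ((c : F)⁻¹ • b) (n g))) • p (v 0 1) +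
        (sfn g b - (c : F) • sfn g ((c : F)⁻¹ • b)) + n 0 = 0 := by
      rw [map_zero, add_zero, sub_smul]
      have h3 : sfn g b = (c : F) • sfn g ((c : F)⁻¹ • b) + (c * ce (Al ((c : F)⁻¹ • b) (n g))) • e1 -
          (ce (Al b (n g)) * (c : F)⁻¹) • p (v 0 1) := by rw [← h1]; abel
      rw [h3]
      abel
    have h3 : sfn g b - (c : F) • sfn g ((c : F)⁻¹ • b) ∈ h.M0 τ :=
      (h.M0 τ).sub_mem (hsf0 _ _) ((h.M0 τ).smul_mem _ (hsf0 _ _))
    have h4 : ce (Al b (n g)) * (c : F)⁻¹ - c * ce (Al ((c : F)⁻¹ • b) (n g)) = 0 := by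
      apply h.e_M0 τ
      rw [map_zero, add_zero] at h2
      rw [eq_neg_of_add_eq_zero_left h2]
      exact (h.M0 τ).neg_mem h3
    refine ⟨?_, ?_⟩
    · rw [h4, zero_smul, zero_add, map_zero, add_zero] at h2
      exact (sub_eq_zero.1 h2).symm
    · have h5 := sub_eq_zero.1 h4
      rw [pow_two, mul_assoc, ← h5, mul_comm (c : F), mul_assoc, inv_mul_cancel₀ c.ne_zero, mul_one]
  have hssm : ∀ (l : F) g b, sfn g (l • b) = l • sfn g b := by
    intro l g b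
    by_cases hl : l = 0
    · rw [hl, zero_smul, zero_smul]
      have h1 := hsadd 0 0 g
      rw [add_zero] at h1
      exact left_eq_add.1 h1
    · have h1 := (hTs (Units.mk0 l hl) (l • b) g).1
      change l • sfn g (l⁻¹ • l • b) = _ at h1
      rw [smul_smul, inv_mul_cancel₀ hl, one_smul] at h1
      exact h1.symm
  have hqsm : ∀ (l : F) b g, ce (Al (l • b) (n g)) = l ^ 2 * ce (Al b (n g)) := by
    intro l b g
    by_cases hl : l = 0
    · have h1 := hqadd 0 0 g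
      have h2 : sfn g 0 = 0 := by
        have h3 := hssm 0 g 0
        rw [smul_zero, zero_smul] at h3
        exact h3
      rw [add_zero, h2, map_zero, LinearMap.zero_apply, add_zero] at h1
      rw [hl, zero_smul, left_eq_add.1 h1]
      ring
    · have h1 := (hTs (Units.mk0 l hl) (l • b) g).2
      change l ^ 2 * ce (Al (l⁻¹ • l • b) (n g)) = _ at h1
      rw [smul_smul, inv_mul_cancel₀ hl, one_smul] at h1
      exact h1.symm
  let sf : N →ₗ[F] N →ₗ[F] M := LinearMap.mk₂ F sfn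
    (fun g g' b => by
      change Al b (n (g + g')) - ce (Al b (n (g + g'))) • e1 =
        (Al b (n g) - ce (Al b (n g)) • e1) + (Al b (n g') - ce (Al b (n g')) • e1)
      rw [map_add, map_add, map_add, add_smul]
      abel)
    (fun l g b => by
      change Al b (n (l • g)) - ce (Al b (n (l • g))) • e1 = l • (Al b (n g) - ce (Al b (n g)) • e1)
      rw [map_smul, map_smul, map_smul, smul_sub, smul_assoc])
    (fun g b b' => hsadd b b' g) (fun l g b => hssm l g b)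
  have hsf : ∀ g b, sf g b = sfn g b := fun g b => rfl
  let q : N → N →ₗ[F] F := fun b => ce.comp ((Al b).comp n)
  have hq : ∀ b g, q b g = ce (Al b (n g)) := fun b g => rfl
  have hinj : ∀ d ∈ h.M0 τ, (∀ g, φ d (n g) = 0) → d = 0 := by
    intro d hd hd0
    have h1 : d ∈ h.fr.sb V := h.fr.C_A_D h.btc h.co.ne (hM0D d hd) fun g hg => by
      have h2 := hAlg g hg d
      rw [hA0 d (hM0D d hd), hd0, zero_smul] at h2
      exact sub_eq_zero.1 h2
    obtain ⟨γ, rfl⟩ := h.mem_V.1 h1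
    rw [h.e_M0 τ hd, zero_smul]
  have h11 : ∀ g g', φ (n g) (n g') = 0 := by
    intro g g'
    have h1 := h.phi_T τ a (n g) (n g')
    rw [hn g a, hn g' a, map_smul, map_smul, LinearMap.smul_apply, smul_eq_mul, smul_eq_mul] at h1
    have h2 := mul_left_cancel₀ a.ne_zero h1
    have h3 : ((a : F) - 1) * φ (n g) (n g') = 0 := by linear_combination h2
    exact (mul_eq_zero.1 h3).resolve_left (sub_ne_zero.2 ha)
  have he0 : ∀ d ∈ h.M0 τ, φ d e1 = 0 := fun d hd => hφD d (hM0D d hd) e1 (h.e_mem_D τ)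
  have he1' : ∀ g, φ (n g) e1 = 0 := fun g => h.M1_U τ (hn g)
  have hT23 : ∀ g b b', φ (sf g b) (n b') = φ (sf g b') (n b) := by
    intro g b b'
    have h1 := hqadd b' b g
    have h2 := hqadd b b' g
    rw [add_comm b' b, h2] at h1
    have h3 : φ (sfn g b) (n b') = φ (sfn g b') (n b) := by linear_combination -h1
    exact h3
  have hT13 : ∀ g b b', φ (sf g b) (n b') = φ (sf b' b) (n g) := by
    intro g b b'
    have h1 := h.phi_cen (hcen _ (hal b)) (n g) (n b')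
    have e1' : ∀ g, al b • n g = n g + sfn g b + ce (Al b (n g)) • e1 := fun g => by
      rw [add_assoc, ← hdecA, hAl]; abel
    rw [e1', e1', h11] at h1
    simp only [map_add, LinearMap.add_apply, map_smul, LinearMap.smul_apply, smul_eq_mul] at h1
    rw [h11, he1', hφD _ (hM0D _ (hsf0 g b)) _ (hM0D _ (hsf0 b' b)), he0 _ (hsf0 g b), h.phi_symm e1 (n b'), he1',
      h.phi_symm e1 (sfn b' b), he0 _ (hsf0 b' b), h.phi_self e1] at h1
    rw [hsf, hsf, h.phi_symm (sfn b' b) (n g)]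
    have h2 : φ (n g) (sfn b' b) + φ (sfn g b) (n b') = 0 := by linear_combination h1
    rw [← CharTwo.sub_eq_add] at h2
    exact (sub_eq_zero.1 h2).symm
  have hTalt : ∀ g b, φ (sf g b) (n b) = 0 := by
    intro g b
    have h1 := hqadd b b g
    have h2 : b + b = (0 : F) • b := by
      rw [zero_smul, ← two_smul F, CharTwo.two_eq_zero, zero_smul]
    rw [h2, hqsm, CharTwo.add_self_eq_zero, zero_add] at h1
    rw [hsf, ← h1]
    ring
  have hsalt : ∀ g, sf g g = 0 := by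
    intro g
    refine hinj _ (hsf0 g g) fun b => ?_
    rw [hT13]
    exact hTalt b g
  refine ⟨n, sf, q, ?_⟩
  exact
    { n_mem := hn
      n_surj := hns
      sf_mem := hsf0
      mem_D := fun x => h.mem_D τ y
      mem_U := fun x => by
        constructor
        · intro hx
          obtain ⟨z, hz, hzW, rfl⟩ := h.mem_U.2 hx
          obtain ⟨γ, d, hd, e⟩ := (h.mem_D τ y).1 (hpn z hz)
          exact ⟨γ, d, hd, P1 z, by rw [← e, sub_add_cancel]⟩
        · rintro ⟨γ, d, hd, g, rfl⟩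
          rw [map_add, map_add, LinearMap.add_apply, LinearMap.add_apply, map_smul, LinearMap.smul_apply, h.phi_self,
            smul_zero, he0 d hd, he1', add_zero, add_zero]
      indep := fun γ d g hd e => by
        have h1 : g = 0 := by
          apply hnD
          have h2 : n g = -(γ • p (v 0 1) + d) := by
            rw [eq_neg_iff_add_eq_zero, add_comm]; exact e
          rw [h2]
          exact neg_mem ((h.mem_D τ y).2 ⟨γ, d, hd, rfl⟩)
        rw [h1, map_zero, add_zero] at e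
        have h2 : γ = 0 := by
          apply h.e_M0 τ
          rw [eq_neg_of_add_eq_zero_left e]
          exact (h.M0 τ).neg_mem hd
        rw [h2, zero_smul, zero_add] at e
        exact ⟨h2, e, h1⟩
      p_n := hpn
      A_e := hAe
      A_0 := fun g hg d hd => by rw [← hA0 d (hM0D d hd), ← hAlg g hg]; abel
      A_1 := fun g hg b => by
        rw [hsf, hq, add_assoc, ← hdecA, ← hAlg g hg]; abel
      A_top := htop
      phi_00 := fun d hd d' hd' => hφD _ (hM0D d hd) _ (hM0D d' hd')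
      phi_11 := h11
      phi_e0 := he0
      phi_e1 := he1'
      inj := hinj
      sf_alt := hsalt
      T_23 := hT23
      T_13 := hT13
      T_alt := hTalt
      q_add := fun b b' g => hqadd b b' g
      q_smul := fun l b g => hqsm l b g }

end eigS

end Cfsg.Agent.Omega.BTwo

end

section


/-!
# NODE LIE, TEXT NODES (#14331) (L): `GFr` from helper627's `FMod`, `Eig`
-/

set_option autoImplicit false
set_option linter.unusedSectionVars false

namespace Cfsg.Agent.Omega.Lie.Nodes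

open Subgroup Cfsg.Agent.Omega.BTwo

universe u v w

variable {G : Type u} [Group G] {ι : Type w} {V : Subgroup G} {R : ι → Subgroup G} {i j : ι} {F : Type v}
  [Field F] {v : F → F → G} {w1 w2 : F → G} {M B : Type u} [AddCommGroup M] [AddCommGroup B]
  [DistribMulAction (NR R i) M] [DistribMulAction (NR R i) B] [Module F M] {p : G → M} {r : G → B}
  {f : M →+ M →+ B} {φ : M →ₗ[F] M →ₗ[F] F} {s : NR R i → (F ≃+* F)} [CharP F 2]

section

variable (h : FMod V R i j v w1 w2 M B p r f φ s) {N : Type u} [AddCommGroup N] [Module F N]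
  {P1 P2 : G → N} (y : YPair V R i j w1 w2 N P1 P2)
include h y

theorem exists_ak (k : N) : ∃ a : NR R i, (a : G) ∈ UU V R j ∧ P2 (a : G) = k := by
  obtain ⟨u, hu, hu1, hu2⟩ := y.surj 0 k
  have huj : u ∈ UU V R j := (y.mem_U2 u hu).2 hu1
  exact ⟨⟨u, h.bt.cen_le_N i (UU_le_cen j huj)⟩, huj, hu2⟩

theorem cen_of_U {a : NR R i} (ha : (a : G) ∈ UU V R j) : (a : G) ∈ centralizer (R i : Set G) := by
  rw [mem_centralizer_iff]
  exact fun z hz => mem_centralizer_iff.1 (UU_le_cen j ha) z (h.bt.R_le i hz)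

/-- the action `a_k` of `A` on `M` -/
noncomputable def alp (k : N) : M →ₗ[F] M where
  toFun m := (exists_ak h y k).choose • m
  map_add' := smul_add _
  map_smul' l m := by
    have := y
    exact h.lin_cen (cen_of_U h y (exists_ak h y k).choose_spec.1) l m

theorem alp_apply [Finite G] {a : NR R i} (ha : (a : G) ∈ UU V R j) (m : M) : alp h y (P2 (a : G)) m = a • m := by
  show (exists_ak h y (P2 (a : G))).choose • m = a • m
  exact h.act_congr y (exists_ak h y (P2 (a : G))).choose_spec.1 ha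
    (exists_ak h y (P2 (a : G))).choose_spec.2 m

end

section

variable [Finite G] [Finite F] {h : FMod V R i j v w1 w2 M B p r f φ s} {t : F → G} {τ : Lie.TorD V R i j v t}
  {N : Type u} [AddCommGroup N] [Module F N] {P1 P2 : G → N} {y : YPair V R i j w1 w2 N P1 P2}
  {n : N →ₗ[F] M} {sf : N →ₗ[F] N →ₗ[F] M} {q : N → N →ₗ[F] F}

/-- `Fr` from `FMod` -/
theorem fr_of (h : FMod V R i j v w1 w2 M B p r f φ s) : Fr (R i) (WW V (R i)) p φ (fun a => v a 0) where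
  mul := h.fr.p_mul
  zero := h.fr.p_ker
  surj := h.fr.p_surj
  comm := fun x hx y hy => h.comm_eq hx hy
  r_mem := fun a => (h.co.mem_R1 _).2 ⟨a, rfl⟩
  r_add := fun a b => by
    have := h.co.v_add a 0 b 0
    rwa [add_zero] at this
  r_inj := fun a ha => (h.co.v_one _ _ ha).1
  cen := fun x hx a => h.bt.QR i x (h.bt.W_le_Q i hx) _ ((h.co.mem_R1 _).2 ⟨a, rfl⟩)
  nd := fun m hm => h.ext (a := m) (a' := 0) fun x => by rw [hm x, map_zero, LinearMap.zero_apply]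

theorem nfr_of (g : Eig h τ y n sf q) :
    NFr φ (p (v 0 1)) (h.M0 τ) n (fun a b => sf a b) where
  alt := h.phi_self
  nd := (fr_of h).nd
  f_e_M0 := fun d hd => by rw [h.phi_symm]; exact g.phi_e0 d hd
  f_e_n := fun k => by rw [h.phi_symm]; exact g.phi_e1 k
  f_M0 := g.phi_00
  f_n := g.phi_11
  perp := fun m hm => by
    rw [h.phi_symm] at hm
    exact (g.mem_U m).1 hm
  inj := g.inj
  indep := fun γ d hd k hk => (g.indep γ d k hd hk).2.2
  s_mem := g.sf_mem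
  T_self := fun a b => by rw [g.T_23, g.sf_alt, map_zero, LinearMap.zero_apply]
  T_swap := fun a b c => by rw [CharTwo.neg_eq, g.T_23]

/-- **`GFr` from `Eig`** -/
theorem gfr_of (g : Eig h τ y n sf q) :
    GFr V R i j v P1 P2 p φ (p (v 0 1)) (h.M0 τ) n (fun a b => sf a b) (fun a b => q a b) (alp h y) where
  fr := fr_of h
  lin := nfr_of g
  q_V := fun b c => h.p_v b c
  mem_U := fun x hx hU => by
    have h1 := h.mem_U.2 (by rw [h.phi_symm]; exact hU : φ (p x) (p (v 0 1)) = 0)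
    obtain ⟨z, hz, -, hz'⟩ := h1
    have hzW := UU_le_WW i hz
    have h2 : x * z⁻¹ ∈ R i := by
      rw [← (fr_of h).zero _ (mul_mem hx (inv_mem hzW)), (fr_of h).mul _ hx _ (inv_mem hzW),
        (fr_of h).q_inv hzW, hz', add_neg_cancel]
    have h3 := mul_mem (h.bt.R_le_U i h2) hz
    rwa [inv_mul_cancel_right] at h3
  q_U := fun x hx => by
    have h1 := g.p_n x hx
    rw [g.mem_D] at h1
    obtain ⟨γ, d, hd, e1⟩ := h1
    exact ⟨γ, d, hd, by rw [← e1, sub_add_cancel]⟩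
  act := fun u hu x hx => by
    have hN : u ∈ normalizer (R i : Set G) := h.bt.cen_le_N i (UU_le_cen j hu)
    have h1 := alp_apply h y (a := ⟨u, hN⟩) hu (p x)
    rw [h1, h.fr.p_act ⟨u, hN⟩ x hx]
  α_e := fun k => by
    obtain ⟨a, ha, rfl⟩ := exists_ak h y k
    rw [alp_apply h y ha]
    exact g.A_e a ha
  α_M0 := fun k d hd => by
    obtain ⟨a, ha, rfl⟩ := exists_ak h y k
    rw [alp_apply h y ha]
    exact g.A_0 a ha d hd
  α_n := fun k l => by
    obtain ⟨a, ha, rfl⟩ := exists_ak h y k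
    rw [alp_apply h y ha]
    exact g.A_1 a ha l
  α_f := fun k m m' => by
    obtain ⟨a, ha, rfl⟩ := exists_ak h y k
    rw [alp_apply h y ha, alp_apply h y ha]
    exact h.phi_cen (cen_of_U h y ha) m m'

theorem sh_sq (g : Eig h τ y n sf q) (l : F) (k k' : N) : q (l • k) k' = l * l * q k k' := by
  rw [g.q_smul, sq]

/-! ### the final form of (L) -/

/-- the linear map of `M` induced by `x ∈ C(R i)` -/
noncomputable def actL (h : FMod V R i j v w1 w2 M B p r f φ s) {x : G} (hx : x ∈ centralizer (R i : Set G)) :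
    M →ₗ[F] M where
  toFun m := (⟨x, centralizer_le_normalizer _ hx⟩ : NR R i) • m
  map_add' := smul_add _
  map_smul' l m := h.lin_cen (g := ⟨x, centralizer_le_normalizer _ hx⟩) hx l m

/-- **`KEY`, `(S)` and `P`-invariance of `N_g` imply that `X` and `P^` normalise `Σ`**, `Σ` elementary abelian -/
theorem sigma_main (g : Eig h τ y n sf q) (hQ : QQ (R i) = WW V (R i)) {k : N}
    (key : ∀ a : NR R i, (a : G) ∈ UU V R j → (∃ c : F, P2 (a : G) = c • k) → ∀ m, a • m - m ∈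
      Ng (p (v 0 1)) n (fun a b => sf a b) k)
    {P : Subgroup G} (hPR : P ≤ centralizer (R i : Set G))
    (hPN : ∀ x : NR R i, (x : G) ∈ P → ∀ m ∈ Ng (p (v 0 1)) n (fun a b => sf a b) k,
      x • m ∈ Ng (p (v 0 1)) n (fun a b => sf a b) k)
    (hS : ∀ x : NR R i, (x : G) ∈ P → ∀ a : NR R i, (a : G) ∈ UU V R j → (∃ c : F, P2 (a : G) = c • k) →
      ∀ m : M, x • a • m = a • x • m)
    (hspan : Ng (p (v 0 1)) n (fun a b => sf a b) k ≤ Submodule.span F
      {m | ∃ x : NR R i, (x : G) ∈ P ∧ m = x • p (v 0 1)}) :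
    XX V R ≤ normalizer (((gfr_of g).SG k ⊔ cj (nn w1 w2 1) ((gfr_of g).SG k) : Subgroup G) : Set G) ∧
    P ≤ normalizer (((gfr_of g).SG k ⊔ cj (nn w1 w2 1) ((gfr_of g).SG k) : Subgroup G) : Set G) ∧
    (∀ x ∈ (gfr_of g).SG k ⊔ cj (nn w1 w2 1) ((gfr_of g).SG k),
      ∀ z ∈ (gfr_of g).SG k ⊔ cj (nn w1 w2 1) ((gfr_of g).SG k), x * z = z * x) ∧
    (∀ x ∈ (gfr_of g).SG k ⊔ cj (nn w1 w2 1) ((gfr_of g).SG k), x * x = 1) ∧
    Nat.card ((gfr_of g).SG k ⊔ cj (nn w1 w2 1) ((gfr_of g).SG k) : Subgroup G) * Nat.card ((gfr_of g).DZ k) =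
      Nat.card ((gfr_of g).SG k) ^ 2 := by
  have hk : Key (p (v 0 1)) n (fun a b => sf a b) (alp h y) k := by
    intro c m
    obtain ⟨a, ha, hak⟩ := exists_ak h y (c • k)
    rw [← hak, alp_apply h y ha]
    exact key a ha ⟨c, hak⟩ m
  obtain ⟨l, hl, hl1⟩ := h.four
  have hA : ∀ x (hx : x ∈ P), ∀ z ∈ WW V (R i), p (x * z * x⁻¹) = actL h (hPR hx) (p z) := by
    intro x hx z hz
    exact (h.fr.p_act ⟨x, centralizer_le_normalizer _ (hPR hx)⟩ z hz).symm
  have hN : ∀ x (hx : x ∈ P), ∀ m ∈ Ng (p (v 0 1)) n (fun a b => sf a b) k, actL h (hPR hx) m ∈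
      Ng (p (v 0 1)) n (fun a b => sf a b) k :=
    fun x hx m hm => hPN ⟨x, centralizer_le_normalizer _ (hPR hx)⟩ hx m hm
  have hc : ∀ x (hx : x ∈ P), ∀ (c : F) (m : M), actL h (hPR hx) (alp h y (c • k) m) =
      alp h y (c • k) (actL h (hPR hx) m) := by
    intro x hx c m
    obtain ⟨a, ha, hak⟩ := exists_ak h y (c • k)
    rw [← hak, alp_apply h y ha, alp_apply h y ha]
    exact hS ⟨x, centralizer_le_normalizer _ (hPR hx)⟩ hx a ha ⟨c, hak⟩ m
  have hPS : P ≤ normalizer ((gfr_of g).SG k : Set G) := by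
    refine le_normalizer_of fun x hx z hz => ?_
    refine ⟨conj_mem_of_normalizer (normalizer_le_WW V (R i) (centralizer_le_normalizer _ (hPR hx))) hz.1, ?_⟩
    rw [hA x hx z hz.1]
    exact hN x hx _ hz.2
  have hsp : (gfr_of g).SG k ≤ ⨆ x : P, cj (x : G) V := by
    refine (gfr_of g).SG_le_iSup h.bt h.co.mem_V (hPR.trans (centralizer_le_normalizer _)) ?_
    refine hspan.trans (Submodule.span_mono ?_)
    rintro m ⟨x, hx, rfl⟩
    exact ⟨x, hx, actL h (hPR hx), hA x hx, rfl⟩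
  refine ⟨(gfr_of g).X_norm_sigma h.btc y h.co hk, ?_, (gfr_of g).sigma_comm h.btc y h.co hk,
    (gfr_of g).sigma_sq h.btc y h.co hk ((gfr_of g).SG_sq h.bt hsp hPS h.co.mem_V),
    (gfr_of g).card_sigma h.btc y h.co hk⟩
  exact (gfr_of g).P_norm_sigma h.btc y h.co hQ h.cenW hk hl hl1 (fun c => sh_sq g l c k) hPR
    fun x hx => ⟨actL h (hPR hx), hA x hx, hN x hx, hc x hx⟩

end

end Cfsg.Agent.Omega.Lie.Nodes

end

section


/-!
# NODE LIE, TEXT NODES (#14331): `KEY`, `g# = 0` on `K_g`, elementary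

`FP a`: parametrised far point `a r = x v(0, ρ r) x⁻¹`, `x ∈ C(R i)`, `ρ ≠ 0`.
`FP.lin`: two far points in one line on `R i` differ by a linear map.
`GFr.formula`: `u y_r u⁻¹ = y_r v(r² g#(k), r k#(g))`, `u = n⁻¹ w n`, `p w = n k`, `k ∈ K_g`.
`GFr.key_first`: `k ∈ K_g`, `k#(g) = 0` ⇒ `g#(k) = 0`.
`GFr.key_sigma`: type (sigma): `s g = 0`, `k#(g) ≠ 0` for some `k`, some `m` swaps `e` and `⟨n g⟩` ⇒ `g# = 0`.
-/

set_option autoImplicit false
set_option linter.unusedSectionVars false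

namespace Cfsg.Agent.Omega.Lie.Nodes

open Subgroup Cfsg.Agent.Omega.BTwo

universe u v w

variable {G : Type u} [Group G] {ι : Type w} {F : Type v} [Field F]

/-- a parametrised far point -/
def FP (R : ι → Subgroup G) (i : ι) (v : F → F → G) (a : F → G) : Prop :=
  ∃ x ∈ centralizer (R i : Set G), ∃ ρ : F, ρ ≠ 0 ∧ ∀ r, a r = x * v 0 (ρ * r) * x⁻¹

theorem mem_normalizer_of_le [Finite G] {H : Subgroup G} {z : G} (h : ∀ x ∈ H, z * x * z⁻¹ ∈ H) :
    z ∈ normalizer (H : Set G) := by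
  have h1 : cj z H ≤ H := by
    intro x hx
    have := h _ (mem_cj.1 hx)
    rwa [show z * (z⁻¹ * x * z) * z⁻¹ = x by group] at this
  have h2 : cj z H = H := by
    refine Subgroup.eq_of_le_of_card_ge h1 ?_
    exact (Nat.card_congr (Subgroup.equivMapOfInjective _ _ (MulAut.conj z).injective).toEquiv).le
  exact cj_eq_self_iff.1 h2

section FP

variable {V : Subgroup G} {R : ι → Subgroup G} {i j : ι} {v : F → F → G} {w1 w2 : F → G}

theorem FP.conj {a : F → G} (h : FP R i v a) {g : G} (hg : g ∈ centralizer (R i : Set G)) :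
    FP R i v (fun r => g * a r * g⁻¹) := by
  obtain ⟨x, hx, ρ, hρ, ha⟩ := h
  refine ⟨g * x, mul_mem hg hx, ρ, hρ, fun r => ?_⟩
  show g * a r * g⁻¹ = _
  rw [ha]; group

theorem FP.scale {a : F → G} (h : FP R i v a) {l : F} (hl : l ≠ 0) : FP R i v (fun r => a (l * r)) := by
  obtain ⟨x, hx, ρ, hρ, ha⟩ := h
  refine ⟨x, hx, ρ * l, mul_ne_zero hρ hl, fun r => ?_⟩
  show a (l * r) = _
  rw [ha, mul_assoc ρ]

theorem FP.std : FP R i v (v 0) := ⟨1, one_mem _, 1, one_ne_zero, fun r => by rw [one_mul]; group⟩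

theorem FP.congr {a a' : F → G} (h : FP R i v a) (e : ∀ r, a' r = a r) : FP R i v a' := by
  rwa [show a' = a from funext e]

/-- **two far points in one line on `R i` differ by a linear map** -/
theorem FP.lin [Finite G] (b : BT V R) (c : Coord V R i j v w1 w2) {a a' : F → G} (h : FP R i v a)
    (h' : FP R i v a') {θ : F → F} (e : ∀ r, a' r = a r * v (θ r) 0) : ∃ κ, ∀ r, θ r = κ * r := by
  obtain ⟨x, hx, ρ, hρ, ha⟩ := h
  obtain ⟨x', hx', ρ', hρ', ha'⟩ := h'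
  set z := x⁻¹ * x' with hz
  have hzC : z ∈ centralizer (R i : Set G) := mul_mem (inv_mem hx) hx'
  have hR : ∀ z ∈ centralizer (R i : Set G), ∀ β, z * v β 0 * z⁻¹ = v β 0 := by
    intro z hz β
    rw [← mem_centralizer_iff.1 hz _ ((c.mem_R1 _).2 ⟨β, rfl⟩), mul_inv_cancel_right]
  have h1 : ∀ r, z * v 0 (ρ' * r) * z⁻¹ = v (θ r) (ρ * r) := by
    intro r
    have h2 : z * v 0 (ρ' * r) * z⁻¹ = x⁻¹ * a' r * x := by rw [ha', hz]; group
    have h3 : x⁻¹ * v (θ r) 0 * x = v (θ r) 0 := by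
      have := hR x⁻¹ (inv_mem hx) (θ r)
      rwa [inv_inv] at this
    have h4 : x⁻¹ * (a r * v (θ r) 0) * x = (x⁻¹ * a r * x) * (x⁻¹ * v (θ r) 0 * x) := by group
    have h5 : x⁻¹ * a r * x = v 0 (ρ * r) := by rw [ha]; group
    rw [h2, e, h4, h3, h5, ← c.v_add, zero_add, add_zero]
  have hzV : z ∈ normalizer (V : Set G) := by
    apply mem_normalizer_of_le
    intro g hg
    obtain ⟨β, γ, rfl⟩ := (c.mem_V g).1 hg
    have h2 : v β γ = v β 0 * v 0 (ρ' * (ρ'⁻¹ * γ)) := by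
      rw [← c.v_add, add_zero, zero_add, ← mul_assoc, mul_inv_cancel₀ hρ', one_mul]
    have h3 : z * v β γ * z⁻¹ = (z * v β 0 * z⁻¹) * (z * v 0 (ρ' * (ρ'⁻¹ * γ)) * z⁻¹) := by
      rw [h2]; group
    rw [h3, hR z hzC, h1, ← c.v_add]
    exact (c.mem_V _).2 ⟨_, _, rfl⟩
  obtain ⟨k, hk⟩ := b.perm z hzV j
  have hki : k ≠ i := by
    rintro rfl
    have h2 : cj z (R k) = R k := cj_eq_self_iff.2 (centralizer_le_normalizer _ hzC)
    have h3 : cj z⁻¹ (cj z (R j)) = cj z⁻¹ (cj z (R k)) := by rw [hk, h2]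
    rw [cj_inv_cj, cj_inv_cj] at h3
    have h4 := b.R_inf k j c.ne
    rw [h3, inf_idem] at h4
    exact b.R_ne k h4
  obtain ⟨w, hw, hwk⟩ := b.trans i (Ne.symm c.ne) hki
  obtain ⟨β, hβ⟩ := c.W1_act w hw
  refine ⟨β * ρ, fun r => ?_⟩
  have h2 : v (θ r) (ρ * r) ∈ R k := by
    rw [← hk, ← h1]
    exact conj_mem_cj ((c.mem_R2 _).2 ⟨_, rfl⟩)
  rw [← hwk, mem_cj, c.mem_R2] at h2
  obtain ⟨γ, hγ⟩ := h2
  have h3 : w * v 0 γ * w⁻¹ = v (θ r) (ρ * r) := by rw [hγ]; group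
  rw [hβ, zero_add] at h3
  obtain ⟨h4, h5⟩ := c.v_inj h3
  rw [← h4, h5, mul_assoc]

end FP

/-- `A r² = B r` for all `r`, `q ≥ 4` -/
theorem quad_lin {A B : F} (h : ∀ r : F, r * r * A = B * r) {ζ : F} (h0 : ζ ≠ 0) (h1 : ζ ≠ 1) : A = 0 := by
  have e1 := h 1
  have e2 := h ζ
  rw [one_mul, one_mul, mul_one] at e1
  rw [← e1] at e2
  have e3 : ζ * (ζ - 1) * A = 0 := by linear_combination e2
  exact (mul_eq_zero.1 e3).resolve_left (mul_ne_zero h0 (sub_ne_zero.2 h1))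

namespace GFr

variable {V : Subgroup G} {R : ι → Subgroup G} {i j : ι} {v : F → F → G}
    {M E : Type u} [AddCommGroup M] [Module F M] [AddCommGroup E] [Module F E] {P1 P2 : G → E}
    {q : G → M} {f : M →ₗ[F] M →ₗ[F] F} {e : M} {M0 : Submodule F M} {n : E →ₗ[F] M} {s : E → E → M}
    {sh : E → E → F} {α : E → M →ₗ[F] M} (h : GFr V R i j v P1 P2 q f e M0 n s sh α) (b : BT V R)
    {w1 w2 : F → G} (c : Coord V R i j v w1 w2)
include h b c

theorem e_ne : e ≠ 0 := by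
  intro h0
  have h9 : q (v 0 1) = 0 := by rw [h.q_V, h0, smul_zero]
  rw [h.fr.zero _ (V_le_WW V (R i) (c.v_mem 0 1)), c.mem_R1] at h9
  obtain ⟨b', hb'⟩ := h9
  exact zero_ne_one (c.v_inj hb').2

theorem smul_e_inj {a a' : F} (hh : a • e = a' • e) : a = a' := by
  by_contra hne
  apply h.e_ne b c
  have h10 : (a - a') • e = 0 := by rw [sub_smul, hh, sub_self]
  exact (smul_eq_zero.1 h10).resolve_left (sub_ne_zero.2 hne)

/-- elements of `W i` with the same image -/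
theorem exists_R {x x' : G} (hx : x ∈ WW V (R i)) (hx' : x' ∈ WW V (R i)) (hh : q x = q x') :
    ∃ β, x = x' * v β 0 := by
  have h1 : x'⁻¹ * x ∈ R i := by
    rw [← h.fr.zero _ (mul_mem (inv_mem hx') hx), h.fr.mul _ (inv_mem hx') _ hx, h.fr.q_inv hx', hh,
      neg_add_cancel]
  obtain ⟨β, hβ⟩ := (c.mem_R1 _).1 h1
  exact ⟨β, by rw [hβ]; group⟩

variable (y : YPair V R i j w1 w2 E P1 P2) [CharP F 2]
include y

/-- the parametrised point `y` -/
theorem exists_pt {g : E} {x0 : G} (hx0 : x0 ∈ centralizer (R i : Set G)) {a : F} (ha : a ≠ 0)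
    {A : M →ₗ[F] M} (hA : ∀ x ∈ WW V (R i), q (x0 * x * x0⁻¹) = A (q x)) (hAe : A e = a • n g) :
    ∃ z : F → G, FP R i v z ∧ (∀ r, z r ∈ WW V (R i)) ∧ ∀ r, q (z r) = r • n g := by
  have _ := y
  refine ⟨fun r => x0 * v 0 (a⁻¹ * r) * x0⁻¹, ⟨x0, hx0, a⁻¹, inv_ne_zero ha, fun r => rfl⟩, fun r => ?_,
    fun r => ?_⟩
  · exact conj_mem_of_normalizer (normalizer_le_WW V (R i) (centralizer_le_normalizer _ hx0))
      (V_le_WW V (R i) (c.v_mem _ _))
  · rw [hA _ (V_le_WW V (R i) (c.v_mem _ _)), h.q_V, map_smul, hAe, smul_smul]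
    congr 1
    field_simp

/-- **the formula** -/
theorem formula {g k : E} (hk : s g k = 0) (hks : ∀ r : F, s k (r • g) = 0)
    (hsq : ∀ r : F, sh (r • g) k = r * r * sh g k)
    {z : F → G} (hzW : ∀ r, z r ∈ WW V (R i)) (hz : ∀ r, q (z r) = r • n g) :
    ∃ u ∈ centralizer (R i : Set G), ∀ r, u * z r * u⁻¹ = z r * v (r * r * sh g k) (r * sh k g) := by
  obtain ⟨w, hw, hqw⟩ := h.fr.surj (n k)
  have hwU : w ∈ UU V R i := h.mem_U w hw (by rw [hqw]; exact h.lin.f_e_n k)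
  have hP1 : P1 w = k := by
    obtain ⟨c', d', hd', e2⟩ := h.q_U w hwU
    refine h.n_unique (c := c') (c' := 0) hd' M0.zero_mem ?_
    rw [← e2, hqw, zero_smul, zero_add, zero_add]
  set m := nn w1 w2 1 with hm
  have hX := c.nn_mem_X b 1
  set u := m⁻¹ * w * m with hu
  have eu : m * u * m⁻¹ = w := by rw [hu]; group
  have huU : u ∈ UU V R j := by
    have h1 : cj m (UU V R j) = UU V R i := b.cj_UU (b.X_le_NV hX) (c.nn_R2 b one_ne_zero)
    rw [← h1, mem_cj] at hwU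
    exact hwU
  have hP2 : P2 u = k := by
    have h2 := (y.nn1 b c one_ne_zero (UU_le_YY j huU)).1
    rw [one_smul] at h2
    rw [← h2, ← hP1, ← hm, eu]
  have huC : u ∈ centralizer (R i : Set G) := by
    rw [mem_centralizer_iff]
    exact fun t ht => mem_centralizer_iff.1 (UU_le_cen j huU) t (b.R_le i ht)
  refine ⟨u, huC, fun r => ?_⟩
  -- step (a)
  have hzr := hzW r
  have hzU : z r ∈ UU V R i := h.mem_U _ hzr (by rw [hz, map_smul, h.lin.f_e_n, smul_zero])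
  have hcz : u * z r * u⁻¹ ∈ WW V (R i) := conj_mem_of_normalizer (b.cen_le_NW i (UU_le_cen j huU)) hzr
  have h1 : q (u * z r * u⁻¹) = r • n g + (r * sh k g) • e := by
    rw [h.act u huU _ hzr, hP2, hz, map_smul, h.α_n, hk]
    module
  have hvW : v 0 (r * sh k g) ∈ WW V (R i) := V_le_WW V (R i) (c.v_mem _ _)
  obtain ⟨θ, hθ⟩ := h.exists_R b c hcz (mul_mem hzr hvW) (by
    rw [h1, h.fr.mul _ hzr _ hvW, hz, h.q_V])
  have h2 : u * z r * u⁻¹ = z r * v θ (r * sh k g) := by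
    rw [hθ, mul_assoc, ← c.v_add, zero_add, add_zero]
  -- step (b)
  have hcm : ∀ x ∈ V, z r * x = x * z r := fun x hx => (mem_centralizer_iff.1 (UU_le_cen i hzU) x hx).symm
  have h3 : u * z r * u⁻¹ * (z r)⁻¹ = v θ (r * sh k g) := by
    rw [h2, hcm _ (c.v_mem _ _), mul_inv_cancel_right]
  set x := m * z r * m⁻¹ with hx
  have hxU : x ∈ UU V R j := by
    rw [← b.cj_UU (b.X_le_NV hX) (c.nn_R1 b one_ne_zero)]
    exact conj_mem_cj hzU
  have hP1z : P1 (z r) = r • g := by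
    obtain ⟨c', d', hd', e2⟩ := h.q_U _ hzU
    refine h.n_unique (c := c') (c' := 0) hd' M0.zero_mem ?_
    rw [← e2, hz, zero_smul, zero_add, zero_add, map_smul]
  have hP2x : P2 x = r • g := by
    have h4 := (y.nn1 b c one_ne_zero (UU_le_YY i hzU)).2
    rw [inv_one, one_smul] at h4
    rw [hx, hm, h4, hP1z]
  have hxw : x * w * x⁻¹ ∈ WW V (R i) := conj_mem_of_normalizer (b.cen_le_NW i (UU_le_cen j hxU)) hw
  have h4 : w * x * w⁻¹ * x⁻¹ = v (r * sh k g) θ := by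
    have h5 : w * x * w⁻¹ * x⁻¹ = m * (u * z r * u⁻¹ * (z r)⁻¹) * m⁻¹ := by rw [hx, hu]; group
    rw [h5, h3, hm, c.nn_act one_ne_zero, inv_one, one_mul, one_mul]
  have h5 := h.fr.q_comm hw hxw
  rw [h4, h.q_V, h.act x hxU w hw, hP2x, hqw, h.α_n, hks, hsq, add_zero] at h5
  have h6 : θ • e = (r * r * sh g k) • e := by
    rw [h5, sub_add_cancel_left, ← neg_smul, CharTwo.neg_eq]
  rw [h2, h.smul_e_inj b c h6]

variable [Finite G]

/-- **`KEY`, first half**: `k ∈ K_g`, `k#(g) = 0` ⇒ `g#(k) = 0` -/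
theorem key_first {g k : E} (hk : s g k = 0) (hks : ∀ r : F, s k (r • g) = 0)
    (hsq : ∀ r : F, sh (r • g) k = r * r * sh g k) (h0 : sh k g = 0)
    {ζ : F} (hζ : ζ ≠ 0) (hζ1 : ζ ≠ 1)
    {z : F → G} (hzF : FP R i v z) (hzW : ∀ r, z r ∈ WW V (R i)) (hz : ∀ r, q (z r) = r • n g) :
    sh g k = 0 := by
  obtain ⟨u, hu, h1⟩ := h.formula b c y hk hks hsq hzW hz
  obtain ⟨κ, hκ⟩ := FP.lin b c hzF (hzF.conj hu) (θ := fun r => r * r * sh g k) fun r => by
    rw [h1, h0, mul_zero]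
  exact quad_lin hκ hζ hζ1

/-- **`KEY`, type (sigma)** -/
theorem key_sigma [Finite F] {g : E} (hZ : ∀ k, s g k = 0) (hks : ∀ (k : E) (r : F), s k (r • g) = 0)
    (hsq : ∀ (r : F) (k l : E), sh (r • k) l = r * r * sh k l)
    (hadd : ∀ k l, sh (k + l) g = sh k g + sh l g)
    (hlin : ∀ (r : F) (k : E), sh g (r • k) = r * sh g k) (hlin' : ∀ k l : E, sh g (k + l) = sh g k + sh g l)
    {h0 : E} (hh0 : sh h0 g ≠ 0) {ζ : F} (hζ : ζ ≠ 0) (hζ1 : ζ ≠ 1)
    {z : F → G} (hzF : FP R i v z) (hzW : ∀ r, z r ∈ WW V (R i)) (hz : ∀ r, q (z r) = r • n g)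
    {m : G} (hm : m ∈ centralizer (R i : Set G)) {A : M →ₗ[F] M}
    (hA : ∀ x ∈ WW V (R i), q (m * x * m⁻¹) = A (q x)) {β γ : F} (hβ : β ≠ 0) (hγ : γ ≠ 0)
    (hAe : A e = β • n g) (hAn : A (n g) = γ • e) (k : E) : sh g k = 0 := by
  have hsqrt : ∀ a : F, ∃ r, r * r = a := by
    intro a
    have hinj : Function.Injective (fun r : F => r * r) := by
      intro r r' hr
      have hr' : r * r = r' * r' := hr
      have h1 : (r - r') * (r - r') = 0 := by
        have h2 : r * r' + r * r' = 0 := CharTwo.add_self_eq_zero _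
        linear_combination hr' - h2 + (CharTwo.add_self_eq_zero (r' * r'))
      exact sub_eq_zero.1 ((mul_self_eq_zero).1 h1)
    exact (Finite.injective_iff_surjective.1 hinj) a
  -- normalise `h0`
  obtain ⟨l, hl⟩ := hsqrt (sh h0 g)⁻¹
  obtain ⟨h1, hh1⟩ : ∃ h1 : E, sh h1 g = 1 := ⟨l • h0, by rw [hsq, hl, inv_mul_cancel₀ hh0]⟩
  set c0 := sh g h1 with hc0
  -- the far points `Q_μ`
  have hQ : ∀ μ : F, FP R i v (fun r => z r * v (r * r * (μ * c0)) (r * (μ * μ))) := by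
    intro μ
    obtain ⟨u, hu, h2⟩ := h.formula b c y (hZ (μ • h1)) (hks (μ • h1)) (fun r => hsq r g _) hzW hz
    refine (hzF.conj hu).congr fun r => ?_
    rw [h2, hsq, hlin, hh1, mul_one]
  have hzV : ∀ r, ∀ x ∈ V, z r * x = x * z r := by
    intro r x hx
    have hzU : z r ∈ UU V R i := h.mem_U _ (hzW r) (by rw [hz, map_smul, h.lin.f_e_n, smul_zero])
    exact (mem_centralizer_iff.1 (UU_le_cen i hzU) x hx).symm
  have hmW : ∀ x ∈ WW V (R i), m * x * m⁻¹ ∈ WW V (R i) := fun x hx =>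
    conj_mem_of_normalizer (normalizer_le_WW V (R i) (centralizer_le_normalizer _ hm)) hx
  have hvW : ∀ a a', v a a' ∈ WW V (R i) := fun a a' => V_le_WW V (R i) (c.v_mem _ _)
  -- (i)
  obtain ⟨κ1, hκ1⟩ : ∃ κ1, ∀ r, m * v 0 r * m⁻¹ = z (β * r) * v (κ1 * r) 0 := by
    have h2 : ∀ r, ∃ θ, m * v 0 r * m⁻¹ = z (β * r) * v θ 0 := fun r =>
      h.exists_R b c (hmW _ (hvW _ _)) (hzW _) (by
        rw [hA _ (hvW _ _), h.q_V, map_smul, hAe, hz, smul_smul, mul_comm])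
    choose θ hθ using h2
    obtain ⟨κ, hκ⟩ := FP.lin b c (hzF.scale hβ) ((FP.std (R := R) (i := i) (v := v)).conj hm) hθ
    exact ⟨κ, fun r => by rw [hθ, hκ]⟩
  -- (ii)
  obtain ⟨κ2, hκ2⟩ : ∃ κ2, ∀ r, m * z r * m⁻¹ = v (κ2 * r) (γ * r) := by
    have h2 : ∀ r, ∃ θ, m * z r * m⁻¹ = v 0 (γ * r) * v θ 0 := fun r =>
      h.exists_R b c (hmW _ (hzW _)) (hvW _ _) (by
        rw [hA _ (hzW _), hz, map_smul, hAn, h.q_V, smul_smul, mul_comm])
    choose θ hθ using h2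
    obtain ⟨κ, hκ⟩ := FP.lin b c ((FP.std (R := R) (i := i) (v := v)).scale hγ) (hzF.conj hm) hθ
    exact ⟨κ, fun r => by rw [hθ, hκ, ← c.v_add, zero_add, add_zero]⟩
  have hmR : ∀ a, m * v a 0 * m⁻¹ = v a 0 := by
    intro a
    rw [← mem_centralizer_iff.1 hm _ ((c.mem_R1 _).2 ⟨a, rfl⟩), mul_inv_cancel_right]
  -- the image of `Q_μ`
  have hmQ : ∀ μ r : F, m * (z r * v (r * r * (μ * c0)) (r * (μ * μ))) * m⁻¹ =
      z (β * (r * (μ * μ))) * v (r * r * (μ * c0) + (κ1 * (μ * μ) + κ2) * r) (γ * r) := by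
    intro μ r
    have e1 : v (r * r * (μ * c0)) (r * (μ * μ)) = v (r * r * (μ * c0)) 0 * v 0 (r * (μ * μ)) := by
      rw [← c.v_add, zero_add, add_zero]
    have e2 : m * (z r * v (r * r * (μ * c0)) (r * (μ * μ))) * m⁻¹ =
        (m * z r * m⁻¹) * (m * v (r * r * (μ * c0)) 0 * m⁻¹) * (m * v 0 (r * (μ * μ)) * m⁻¹) := by
      rw [e1]; group
    rw [e2, hκ2, hmR, hκ1, ← c.v_add, ← mul_assoc, ← hzV _ _ (c.v_mem _ _), mul_assoc, ← c.v_add]
    congr 2
    · ring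
    · ring
  -- the contradiction
  have hc00 : c0 = 0 := by
    by_contra hc
    have hmu : ∀ μ : F, μ ≠ 0 → γ * (β * β * β) * (μ * μ * (μ * μ)) = 1 := by
      intro μ hμ
      have hβμ : β * (μ * μ) ≠ 0 := mul_ne_zero hβ (mul_ne_zero hμ hμ)
      obtain ⟨ν, hν⟩ := hsqrt (γ * (β * (μ * μ))⁻¹)
      -- the rescaled image of `Q_μ`
      have h2 : FP R i v (fun r => z r *
          v ((β * (μ * μ))⁻¹ * r * ((β * (μ * μ))⁻¹ * r) * (μ * c0) +
            (κ1 * (μ * μ) + κ2) * ((β * (μ * μ))⁻¹ * r)) (r * (ν * ν))) := by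
        refine (((hQ μ).conj hm).scale (inv_ne_zero hβμ)).congr fun r => ?_
        have e3 := hmQ μ ((β * (μ * μ))⁻¹ * r)
        rw [e3]
        have e4 : β * ((β * (μ * μ))⁻¹ * r * (μ * μ)) = r := by field_simp
        have e5 : γ * ((β * (μ * μ))⁻¹ * r) = r * (ν * ν) := by rw [hν]; ring
        rw [e4, e5]
      obtain ⟨κ, hκ⟩ := FP.lin b c (hQ ν) h2 (θ := fun r =>
        (β * (μ * μ))⁻¹ * r * ((β * (μ * μ))⁻¹ * r) * (μ * c0) +
            (κ1 * (μ * μ) + κ2) * ((β * (μ * μ))⁻¹ * r) - r * r * (ν * c0)) (fun r => by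
          rw [mul_assoc (z r), ← c.v_add]
          congr 2
          · ring
          · ring)
      have h3 : (β * (μ * μ))⁻¹ * (β * (μ * μ))⁻¹ * (μ * c0) - ν * c0 = 0 := by
        refine quad_lin (B := κ - (κ1 * (μ * μ) + κ2) * (β * (μ * μ))⁻¹) (fun r => ?_) hζ hζ1
        have := hκ r
        linear_combination this
      have h4 : (β * (μ * μ))⁻¹ * (β * (μ * μ))⁻¹ * μ = ν := by
        have h5 : ((β * (μ * μ))⁻¹ * (β * (μ * μ))⁻¹ * μ - ν) * c0 = 0 := by linear_combination h3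
        exact sub_eq_zero.1 ((mul_eq_zero.1 h5).resolve_right hc)
      rw [← h4] at hν
      field_simp at hν
      linear_combination -hν
    have e1 := hmu 1 one_ne_zero
    have e2 := hmu ζ hζ
    rw [one_mul, one_mul, mul_one] at e1
    rw [e1, one_mul] at e2
    have e3 : (ζ - 1) * (ζ - 1) * ((ζ - 1) * (ζ - 1)) = 0 := by
      have h5 : (2 : F) = 0 := CharTwo.two_eq_zero
      linear_combination e2 + (-2 * ζ ^ 3 + 3 * ζ ^ 2 - 2 * ζ + 1) * h5
    have e4 := mul_self_eq_zero.1 (mul_self_eq_zero.1 e3)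
    exact hζ1 (sub_eq_zero.1 e4)
  -- the conclusion
  obtain ⟨μ, hμ⟩ := hsqrt (sh k g)
  have h2 : sh (k + μ • h1) g = 0 := by
    rw [hadd, hsq, hh1, hμ, mul_one, CharTwo.add_self_eq_zero]
  have h3 := h.key_first b c y (hZ _) (hks _) (fun r => hsq r g _) h2 hζ hζ1 hzF hzW hz
  rw [hlin', hlin, ← hc0, hc00, mul_zero, add_zero] at h3
  exact h3

end GFr

end Cfsg.Agent.Omega.Lie.Nodes

end

section


/-!
# NODE LIE, TEXT NODES (#14331): `KEY` in the language of `FMod`, `Eig`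

`eig_beta` / `eig_sigma`: `k#(l) = 0` for `l ∈ K_k` in types (beta), (sigma); `eig_key`: `[M, A_k] ≤ N_k`.
-/

set_option autoImplicit false
set_option linter.unusedSectionVars false

namespace Cfsg.Agent.Omega.Lie.Nodes

open Subgroup Cfsg.Agent.Omega.BTwo

universe u v w

section

variable {G : Type u} [Group G] {ι : Type w} {V : Subgroup G} {R : ι → Subgroup G} {i j : ι} {F : Type v}
    [Field F] {v : F → F → G} {M E : Type u} [AddCommGroup M] [Module F M] [AddCommGroup E] [Module F E]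
    {P1 P2 : G → E} {q : G → M} {f : M →ₗ[F] M →ₗ[F] F} {e : M} {M0 : Submodule F M} {n : E →ₗ[F] M}
    {s : E → E → M} {sh : E → E → F} {α : E → M →ₗ[F] M} (h : GFr V R i j v P1 P2 q f e M0 n s sh α)
    [Finite M] [Finite F]
include h

/-- `g# = 0` on `K_g` implies `[M, A_g] ≤ N_g` -/
theorem GFr.key_of {g : E} (hK : ∀ k, s g k = 0 → sh g k = 0)
    (hks : ∀ k, s g k = 0 → ∀ r : F, s k (r • g) = 0) (hsq : ∀ (r : F) (k : E), sh (r • g) k = r * r * sh g k) :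
    Key e n s α g := by
  intro r m
  apply h.lin.perp_perp
  intro m' hm'
  obtain ⟨c, d, hd, k, rfl, hdg, hsk⟩ := h.lin.mem_perp hm'
  set m' := c • e + d + n k with hm'd
  have h1 : α (r • g) m' = m' := by
    have h2 : f d (n (r • g)) = 0 := by rw [map_smul, map_smul, hdg, smul_zero]
    rw [hm'd, map_add, map_add, map_smul, h.α_e, h.α_M0 _ d hd, h.α_n, h2, hks k hsk, hsq, hK k hsk, mul_zero]
    module
  have h2 := h.α_f (r • g) m m'
  rw [h1] at h2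
  rw [map_sub, LinearMap.sub_apply, h2, sub_self]

end

section

variable {G : Type u} [Group G] {ι : Type w} {V : Subgroup G} {R : ι → Subgroup G} {i j : ι} {F : Type v}
  [Field F] {v : F → F → G} {w1 w2 : F → G} {M B : Type u} [AddCommGroup M] [AddCommGroup B]
  [DistribMulAction (NR R i) M] [DistribMulAction (NR R i) B] [Module F M] {p : G → M} {r : G → B}
  {f : M →+ M →+ B} {φ : M →ₗ[F] M →ₗ[F] F} {s : NR R i → (F ≃+* F)} [CharP F 2]
  [Finite G] [Finite F] {h : FMod V R i j v w1 w2 M B p r f φ s} {t : F → G} {τ : Lie.TorD V R i j v t}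
  {N : Type u} [AddCommGroup N] [Module F N] {P1 P2 : G → N} {y : YPair V R i j w1 w2 N P1 P2}
  {n : N →ₗ[F] M} {sf : N →ₗ[F] N →ₗ[F] M} {q : N → N →ₗ[F] F} (g : Eig h τ y n sf q)
include g

theorem Eig_symm (k l : N) : sf k l = sf l k := by
  have h1 : sf k l - sf l k = 0 := by
    refine g.inj _ ((h.M0 τ).sub_mem (g.sf_mem k l) (g.sf_mem l k)) fun b => ?_
    rw [map_sub, LinearMap.sub_apply, g.T_13 k l b, g.T_23 b l k, g.T_13 b k l, sub_self]
  exact sub_eq_zero.1 h1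

theorem Eig_ks {k l : N} (hkl : sf k l = 0) (a : F) : sf l (a • k) = 0 := by
  rw [map_smul, Eig_symm g, hkl, smul_zero]

/-- the parametrised point over `n k` -/
theorem exists_z {k : N} {x0 : NR R i} (hx0 : (x0 : G) ∈ centralizer (R i : Set G)) {a : F} (ha : a ≠ 0)
    (h0 : x0 • p (v 0 1) = a • n k) :
    ∃ z : F → G, FP R i v z ∧ (∀ r, z r ∈ WW V (R i)) ∧ ∀ r, p (z r) = r • n k := by
  refine (gfr_of g).exists_pt h.bt h.co y hx0 ha (A := actL h hx0) (fun x hx => ?_) h0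
  exact (h.fr.p_act ⟨x0, centralizer_le_normalizer _ hx0⟩ x hx).symm

/-- **`KEY`, type (beta)** (and the first half of type (sigma)) -/
theorem eig_first {k l : N} (hkl : sf k l = 0) (hq : q l k = 0)
    {x0 : NR R i} (hx0 : (x0 : G) ∈ centralizer (R i : Set G)) {a : F} (ha : a ≠ 0)
    (h0 : x0 • p (v 0 1) = a • n k) : q k l = 0 := by
  obtain ⟨z, hz1, hz2, hz3⟩ := exists_z g hx0 ha h0
  obtain ⟨ζ, hζ, hζ1⟩ := h.four
  exact (gfr_of g).key_first h.bt h.co y (g := k) (k := l) hkl (fun r => Eig_ks g hkl r)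
    (fun r => sh_sq g r k l) hq hζ hζ1 hz1 hz2 hz3

/-- **`KEY`, type (sigma)** -/
theorem eig_sigma {k : N} (hZ : ∀ l, sf k l = 0) {l0 : N} (hl0 : q l0 k ≠ 0)
    {x0 : NR R i} (hx0 : (x0 : G) ∈ centralizer (R i : Set G)) {a : F} (ha : a ≠ 0)
    (h0 : x0 • p (v 0 1) = a • n k) {m : NR R i} (hm : (m : G) ∈ centralizer (R i : Set G)) {β γ : F}
    (hβ : β ≠ 0) (hγ : γ ≠ 0) (hme : m • p (v 0 1) = β • n k) (hmn : m • n k = γ • p (v 0 1)) (l : N) :
    q k l = 0 := by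
  obtain ⟨z, hz1, hz2, hz3⟩ := exists_z g hx0 ha h0
  obtain ⟨ζ, hζ, hζ1⟩ := h.four
  refine (gfr_of g).key_sigma h.bt h.co y (g := k) hZ (fun l r => Eig_ks g (hZ l) r)
    (fun r k l => sh_sq g r k l) (fun k' l' => ?_) (fun r l => ?_) (fun k' l' => map_add _ _ _)
    hl0 hζ hζ1 hz1 hz2 hz3 hm (A := actL h hm) (fun x hx => ?_) hβ hγ hme hmn l
  · show q (k' + l') k = q k' k + q l' k
    rw [g.q_add, hZ, map_zero, LinearMap.zero_apply, add_zero]
  · show q k (r • l) = r * q k l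
    rw [map_smul, smul_eq_mul]
  · exact (h.fr.p_act ⟨m, centralizer_le_normalizer _ hm⟩ x hx).symm

/-- **`KEY`**: `[M, A_k] ≤ N_k`, the hypothesis of `sigma_main` -/
theorem eig_key {k : N} (hK : ∀ l, sf k l = 0 → q k l = 0) :
    ∀ a : NR R i, (a : G) ∈ UU V R j → (∃ c : F, P2 (a : G) = c • k) → ∀ m, a • m - m ∈
      Ng (p (v 0 1)) n (fun a b => sf a b) k := by
  rintro a ha ⟨c, hc⟩ m
  have : Finite M := Finite.of_surjective (fun x : WW V (R i) => p x) fun m => by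
    obtain ⟨x, hx, e1⟩ := h.fr.p_surj m
    exact ⟨⟨x, hx⟩, e1⟩
  have h1 := (gfr_of g).key_of (g := k) hK (fun l hl r => Eig_ks g hl r) (fun r l => sh_sq g r k l) c m
  rwa [← hc, alp_apply h y ha] at h1

end

end Cfsg.Agent.Omega.Lie.Nodes

end
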