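import Cfsg.Agent.Mrg.Omega.BTwo.Mod
import Cfsg.Agent.Mrg.Omega.BTwo.QuadGrp
import Cfsg.Agent.Mrg.Omega.BTwo.Count

section


/-!
# SQ3, `b = 2`: the module `M = W i / R i` with the torus (frame of TEXT 2 #12282)

orders; `eF : F ≅ e`, `bF : F ≅ B`, `ω : M / e^⊥ ≅ F`, `π : e^⊥ / D ≅ N`, and the weights of the torus.
-/

set_option autoImplicit false
set_option linter.unusedSectionVars false

namespace Cfsg.Agent.Omega.BTwo

open Subgroup

universe u v w

variable {G : Type u} [Group G] {ι : Type w}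

namespace ModFr

variable {V : Subgroup G} {R : ι → Subgroup G} {i : ι} {M B : Type u} [AddCommGroup M] [AddCommGroup B]
  [DistribMulAction (NR R i) M] [DistribMulAction (NR R i) B] {p : G → M} {r : G → B}
  {f : M →+ M →+ B}

section card

variable (m : ModFr V R i M B p r f)
include m

/-- `|X / R i|` -/
theorem card_sb {X : Subgroup G} (hXW : X ≤ WW V (R i)) :
    Nat.card (m.sb X) = (R i).relIndex X := by
  let g : X →* Multiplicative M :=
    { toFun := fun x => Multiplicative.ofAdd (p x)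
      map_one' := by
        change Multiplicative.ofAdd (p 1) = 1
        rw [m.p_one]; rfl
      map_mul' := fun x y => by
        change Multiplicative.ofAdd (p (x * y)) = _
        rw [m.p_mul x (hXW x.2) y (hXW y.2)]; rfl }
  have hker : g.ker = (R i).subgroupOf X := by
    ext x
    rw [MonoidHom.mem_ker, mem_subgroupOf, ← m.p_ker x (hXW x.2)]
    exact ofAdd_eq_one
  have h1 := index_ker g
  rw [hker] at h1
  have h2 : Nat.card g.range = Nat.card (m.sb X) := by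
    refine Nat.card_congr ⟨fun z => ⟨Multiplicative.toAdd z.1, ?_⟩, fun z => ⟨Multiplicative.ofAdd z.1, ?_⟩,
      fun z => rfl, fun z => rfl⟩
    · obtain ⟨x, hx⟩ := z.2
      exact ⟨x, x.2, hXW x.2, by rw [← hx]; rfl⟩
    · obtain ⟨x, hx, hx', e⟩ := z.2
      exact ⟨⟨x, hx⟩, congrArg Multiplicative.ofAdd e⟩
  rw [← h2, ← h1]
  rfl

theorem card_M : Nat.card M = (R i).relIndex (WW V (R i)) := by
  rw [← m.card_sb le_rfl, m.sb_W]
  exact (Nat.card_congr AddSubgroup.topEquiv.toEquiv).symm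

theorem card_B : Nat.card B = Nat.card (R i) := by
  refine (Nat.card_eq_of_bijective (fun x : R i => r x) ⟨?_, ?_⟩).symm
  · intro x y h
    exact Subtype.ext (m.r_inj x.2 y.2 h)
  · intro β
    obtain ⟨x, hx, rfl⟩ := m.r_surj β
    exact ⟨⟨x, hx⟩, rfl⟩

theorem finite_M [Finite G] : Finite M := by
  refine Finite.of_surjective (fun x : WW V (R i) => p x) fun a => ?_
  obtain ⟨x, hx, rfl⟩ := m.p_surj a
  exact ⟨⟨x, hx⟩, rfl⟩

theorem finite_B [Finite G] : Finite B := by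
  refine Finite.of_surjective (fun x : R i => r x) fun a => ?_
  obtain ⟨x, hx, rfl⟩ := m.r_surj a
  exact ⟨⟨x, hx⟩, rfl⟩

end card

section torus

variable {j : ι} {F : Type v} [Field F] {v : F → F → G} {w1 w2 : F → G}

/-- the torus element `h(a)` in `N(R i)` -/
def tr [CharP F 2] (c : Coord V R i j v w1 w2) (b : BT V R) (a : Fˣ) : NR R i :=
  ⟨hh w1 w2 (a : F), cj_eq_self_iff.1 (c.hh_R1 b a.ne_zero)⟩

variable (m : ModFr V R i M B p r f) (c : Coord V R i j v w1 w2) (b : BT V R)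
include m c b

theorem v_mem_W (β γ : F) : v β γ ∈ WW V (R i) := by
  have _ := b
  exact V_le_WW V (R i) (c.v_mem β γ)

theorem v0_mem (β : F) : v β 0 ∈ R i := by
  have _ := b
  have _ := m
  exact (c.mem_R1 _).2 ⟨β, rfl⟩

/-- `F ≅ e = V / R i` -/
def eF : F →+ M where
  toFun γ := p (v 0 γ)
  map_zero' := by rw [c.v_zero, m.p_one]
  map_add' γ γ' := by
    have h := c.v_add 0 γ 0 γ'
    rw [add_zero] at h
    rw [h, m.p_mul _ (m.v_mem_W c b 0 γ) _ (m.v_mem_W c b 0 γ')]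

theorem eF_apply (γ : F) : m.eF c b γ = p (v 0 γ) := rfl

/-- `F ≅ B = R i` -/
def bF : F →+ B where
  toFun β := r (v β 0)
  map_zero' := by rw [c.v_zero, m.r_one]
  map_add' β β' := by
    have h := c.v_add β 0 β' 0
    rw [add_zero] at h
    rw [h, m.r_mul _ (m.v0_mem c b β) _ (m.v0_mem c b β')]

theorem bF_apply (β : F) : m.bF c b β = r (v β 0) := rfl

theorem p_v (β γ : F) : p (v β γ) = m.eF c b γ := by
  have h := c.v_add β 0 0 γ
  rw [add_zero, zero_add] at h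
  rw [h, m.p_mul _ (m.v_mem_W c b β 0) _ (m.v_mem_W c b 0 γ), (m.p_ker _ (m.v_mem_W c b β 0)).2 (m.v0_mem c b β),
    zero_add]
  rfl

theorem eF_inj : Function.Injective (m.eF c b) := by
  rw [injective_iff_map_eq_zero]
  intro γ h
  rw [m.eF_apply c b, m.p_ker _ (m.v_mem_W c b 0 γ), c.mem_R1] at h
  obtain ⟨β, hβ⟩ := h
  exact (c.v_inj hβ).2.symm

theorem mem_e {a : M} : a ∈ m.sb V ↔ ∃ γ, m.eF c b γ = a := by
  constructor
  · rintro ⟨x, hx, hx', rfl⟩
    obtain ⟨β, γ, rfl⟩ := (c.mem_V x).1 hx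
    exact ⟨γ, (m.p_v c b β γ).symm⟩
  · rintro ⟨γ, rfl⟩
    exact ⟨_, c.v_mem 0 γ, m.v_mem_W c b 0 γ, rfl⟩

theorem bF_bij : Function.Bijective (m.bF c b) := by
  constructor
  · rw [injective_iff_map_eq_zero]
    intro β h
    rw [m.bF_apply c b, m.r_ker _ (m.v0_mem c b β)] at h
    exact (c.v_one β 0 h).1
  · intro z
    obtain ⟨x, hx, rfl⟩ := m.r_surj z
    obtain ⟨β, rfl⟩ := (c.mem_R1 x).1 hx
    exact ⟨β, rfl⟩

section char2

variable [CharP F 2]

theorem T_e (a : Fˣ) (γ : F) : tr c b a • m.eF c b γ = m.eF c b ((a : F)⁻¹ * γ) := by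
  rw [m.eF_apply c b, m.p_act _ _ (m.v_mem_W c b 0 γ)]
  change p (hh w1 w2 (a : F) * v 0 γ * (hh w1 w2 (a : F))⁻¹) = _
  rw [c.hh_act a.ne_zero, m.p_v c b]

theorem T_B (a : Fˣ) (β : F) : tr c b a • m.bF c b β = m.bF c b ((a : F) * β) := by
  rw [m.bF_apply c b, m.r_act _ _ (m.v0_mem c b β)]
  change r (hh w1 w2 (a : F) * v β 0 * (hh w1 w2 (a : F))⁻¹) = _
  rw [c.hh_act a.ne_zero, mul_zero]
  rfl

theorem T_D (a : Fˣ) {z : M} (hz : z ∈ m.sb (DD V R)) : tr c b a • z - z ∈ m.sb V :=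
  m.X_D b (h := tr c b a) (c.hh_mem_X b _) hz

/-- the coordinate on `M / e^⊥` -/
theorem exists_omega : ∃ ω : M →+ F, Function.Surjective ω ∧ (∀ a, ω a = 0 ↔ a ∈ m.sb (UU V R i)) ∧
    (∀ a γ, f a (m.eF c b γ) = m.bF c b (ω a * γ)) ∧ (∀ (t : Fˣ) a, ω (tr c b t • a) = (t : F) ^ 2 * ω a) ∧
    ∀ s, ω (p (w1 s)) = s := by
  -- for `x ∈ W i` the scalar by which it acts
  have key : ∀ x ∈ WW V (R i), ∃ s : F, ∀ γ, f (p x) (m.eF c b γ) = m.bF c b (s * γ) := by
    intro x hx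
    obtain ⟨s, hs⟩ := c.W1_act x hx
    refine ⟨s, fun γ => ?_⟩
    rw [m.eF_apply c b, m.bF_apply c b, m.f_eq x hx _ (m.v_mem_W c b 0 γ), hs 0 γ, zero_add]
    have h1 := c.v_add (s * γ) 0 0 γ
    rw [add_zero, zero_add] at h1
    rw [h1, mul_inv_cancel_right]
  have key2 : ∀ a : M, ∃ s : F, ∀ γ, f a (m.eF c b γ) = m.bF c b (s * γ) := by
    intro a
    obtain ⟨x, hx, rfl⟩ := m.p_surj a
    exact key x hx
  choose ω hω using key2
  have huniq : ∀ a s, (∀ γ, f a (m.eF c b γ) = m.bF c b (s * γ)) → ω a = s := by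
    intro a s h
    have h1 := hω a 1
    rw [h 1, mul_one, mul_one] at h1
    exact ((m.bF_bij c b).1 h1).symm
  have hadd : ∀ a a', ω (a + a') = ω a + ω a' := by
    intro a a'
    apply huniq
    intro γ
    rw [map_add, AddMonoidHom.add_apply, hω a, hω a', add_mul, map_add]
  have hw1 : ∀ s, ω (p (w1 s)) = s := by
    intro s
    apply huniq
    intro γ
    rw [m.eF_apply c b, m.bF_apply c b, m.f_eq _ (c.w1_mem s) _ (m.v_mem_W c b 0 γ), c.w1_act s 0 γ, zero_add]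
    have h1 := c.v_add (s * γ) 0 0 γ
    rw [add_zero, zero_add] at h1
    rw [h1, mul_inv_cancel_right]
  refine ⟨AddMonoidHom.mk' ω hadd, fun s => ⟨p (w1 s), hw1 s⟩, fun a => ?_, hω, fun t a => ?_, hw1⟩
  · rw [← m.perp_iff b]
    change ω a = 0 ↔ _
    constructor
    · intro h z hz
      obtain ⟨γ, rfl⟩ := (m.mem_e c b).1 hz
      rw [hω, h, zero_mul, map_zero]
    · intro h
      apply huniq
      intro γ
      rw [zero_mul, map_zero]
      exact h _ ((m.mem_e c b).2 ⟨γ, rfl⟩)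
  · change ω (tr c b t • a) = (t : F) ^ 2 * ω a
    apply huniq
    intro γ
    have h1 : m.eF c b γ = tr c b t • m.eF c b ((t : F) * γ) := by
      rw [m.T_e c b, ← mul_assoc, inv_mul_cancel₀ t.ne_zero, one_mul]
    rw [h1, m.f_act b, hω, m.T_B c b]
    congr 1
    ring

end char2

end torus

section pi

variable {j : ι} {F : Type v} [Field F] {v : F → F → G} {w1 w2 : F → G} {N : Type u} [AddCommGroup N]
  [Module F N] {P1 P2 : G → N}
variable (m : ModFr V R i M B p r f) (c : Coord V R i j v w1 w2) (b : BT V R)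
  (y : YPair V R i j w1 w2 N P1 P2)
include m c b y

/-- the coordinate on `e^⊥ / D` -/
theorem exists_pi [CharP F 2] : ∃ π : m.sb (UU V R i) →+ N, Function.Surjective π ∧
    (∀ a, π a = 0 ↔ (a : M) ∈ m.sb (DD V R)) ∧
    (∀ x (hx : x ∈ UU V R i), π ⟨p x, m.p_mem (UU_le_WW i hx) hx⟩ = P1 x) ∧
    ∀ (t : Fˣ) (a : m.sb (UU V R i)) (h : tr c b t • (a : M) ∈ m.sb (UU V R i)),
      π ⟨tr c b t • (a : M), h⟩ = (t : F) • π a := by
  have hR : R i ≤ DD V R := (b.R_le i).trans (V_le_D V R)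
  have hwd : ∀ x ∈ UU V R i, ∀ x' ∈ UU V R i, p x = p x' → P1 x = P1 x' := by
    intro x hx x' hx' h
    have h1 := (m.p_eq_iff (UU_le_WW i hx) (UU_le_WW i hx')).1 h
    have hxY := UU_le_YY i hx
    have hxY' := UU_le_YY i hx'
    have h2 := ((y.mem_D _ (mul_mem hxY (inv_mem hxY'))).1 (hR h1)).1
    rw [y.mul1 _ hxY _ (inv_mem hxY'), y.inv1 hxY', ← sub_eq_add_neg, sub_eq_zero] at h2
    exact h2
  have key : ∀ a : m.sb (UU V R i), ∃ n : N, ∀ x ∈ UU V R i, p x = a → P1 x = n := by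
    rintro ⟨_, x, hx, hx', rfl⟩
    exact ⟨P1 x, fun x' hx' h => hwd x' hx' x hx h⟩
  choose π hπ using key
  have hadd : ∀ a a', π (a + a') = π a + π a' := by
    rintro ⟨_, x, hx, hx', rfl⟩ ⟨_, x', h1, h1', rfl⟩
    have h2 := hπ ⟨p x, x, hx, hx', rfl⟩ x hx rfl
    have h3 := hπ ⟨p x', x', h1, h1', rfl⟩ x' h1 rfl
    rw [← h2, ← h3, ← y.mul1 x (UU_le_YY i hx) x' (UU_le_YY i h1)]
    refine (hπ _ _ (mul_mem hx h1) ?_).symm
    exact m.p_mul x hx' x' h1'
  refine ⟨AddMonoidHom.mk' π hadd, fun n => ?_, fun a => ?_, fun x hx => ?_, fun t a h => ?_⟩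
  · obtain ⟨x, hx, h1, h2⟩ := y.surj n 0
    have hxU := (y.mem_U1 x hx).2 h2
    refine ⟨⟨p x, x, hxU, UU_le_WW i hxU, rfl⟩, ?_⟩
    change π _ = n
    rw [← hπ _ x hxU rfl, h1]
  · obtain ⟨_, x, hx, hx', rfl⟩ := a
    change π _ = 0 ↔ p x ∈ m.sb (DD V R)
    rw [← hπ _ x hx rfl, m.p_mem_iff hx' hR, y.mem_D x (UU_le_YY i hx), (y.mem_U1 x (UU_le_YY i hx)).1 hx]
    exact ⟨fun h => ⟨h, rfl⟩, fun h => h.1⟩
  · exact (hπ _ x hx rfl).symm
  · obtain ⟨_, x, hx, hx', rfl⟩ := a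
    change π _ = (t : F) • π _
    rw [← hπ ⟨p x, x, hx, hx', rfl⟩ x hx rfl]
    have h1 : hh w1 w2 (t : F) * x * (hh w1 w2 (t : F))⁻¹ ∈ UU V R i := by
      rw [← b.cj_UU (b.X_le_NV (c.hh_mem_X b _)) (c.hh_R1 b t.ne_zero)]
      exact conj_mem_cj hx
    rw [← hπ ⟨tr c b t • p x, h⟩ _ h1 (m.p_act (tr c b t) x hx').symm]
    exact (y.hh1 b c t.ne_zero (UU_le_YY i hx)).1

/-- the action of `A = U j`: `[a, u] = ω(a) P2(u)` modulo `D` -/
theorem A_pi [CharP F 2] {ω : M →+ F} (hω : ∀ a γ, f a (m.eF c b γ) = m.bF c b (ω a * γ))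
    {π : m.sb (UU V R i) →+ N}
    (hπ : ∀ x (hx : x ∈ UU V R i), π ⟨p x, m.p_mem (UU_le_WW i hx) hx⟩ = P1 x)
    {h : NR R i} (hh : (h : G) ∈ UU V R j) (a : M) :
    π ⟨h • a - a, m.A_M b hh a⟩ = ω a • P2 (h : G) := by
  obtain ⟨x, hx, rfl⟩ := m.p_surj a
  obtain ⟨s, hs⟩ := c.W1_act x hx
  have hωs : ω (p x) = s := by
    have h1 := hω (p x) 1
    rw [mul_one, m.eF_apply c b, m.bF_apply c b, m.f_eq x hx _ (m.v_mem_W c b 0 1), hs 0 1, zero_add] at h1
    have h2 := c.v_add (s * 1) 0 0 1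
    rw [add_zero, zero_add] at h2
    rw [h2, mul_inv_cancel_right, mul_one] at h1
    exact ((m.bF_bij c b).1 h1).symm
  have hu := UU_le_YY j hh
  have hcm : h * x * (h : G)⁻¹ * x⁻¹ ∈ UU V R i := by
    have e : h * x * (h : G)⁻¹ * x⁻¹ = (x * h * x⁻¹ * (h : G)⁻¹)⁻¹ := by group
    rw [e]
    exact inv_mem (b.WU' hx hh)
  have h1 : (⟨h • p x - p x, m.A_M b hh (p x)⟩ : m.sb (UU V R i)) =
      ⟨p (h * x * (h : G)⁻¹ * x⁻¹), m.p_mem (UU_le_WW i hcm) hcm⟩ := Subtype.ext (m.smul_sub_p b hx)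
  rw [h1, hπ _ hcm, hωs]
  have hxu : x * (h : G)⁻¹ * x⁻¹ ∈ YY V R := y.X_Y b c (W_le_X V R i hx) (inv_mem hu)
  have e : h * x * (h : G)⁻¹ * x⁻¹ = h * (x * (h : G)⁻¹ * x⁻¹) := by group
  have h3 : P1 (x * (h : G)⁻¹ * x⁻¹) = P1 (w1 s * (h : G)⁻¹ * (w1 s)⁻¹) := by
    have h4 := b.same hx (c.w1_mem s) (fun z hz => by
      obtain ⟨β, γ, rfl⟩ := (c.mem_V z).1 hz
      rw [hs, c.w1_act]) (inv_mem hu)
    have hwu : w1 s * (h : G)⁻¹ * (w1 s)⁻¹ ∈ YY V R := y.X_Y b c (W_le_X V R i (c.w1_mem s)) (inv_mem hu)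
    have h5 := ((y.mem_D _ (mul_mem hxu (inv_mem hwu))).1 h4).1
    rw [y.mul1 _ hxu _ (inv_mem hwu), y.inv1 hwu, ← sub_eq_add_neg, sub_eq_zero] at h5
    exact h5
  have hP1 : P1 (h : G) = 0 := (y.mem_U2 _ hu).1 hh
  rw [e, y.mul1 _ hu _ hxu, hP1, zero_add, h3, y.w11 s _ (inv_mem hu), y.inv1 hu, y.inv2 hu, hP1, neg_zero,
    zero_add, smul_neg]
  have h6 : s • P2 (h : G) + s • P2 (h : G) = 0 := by
    rw [← two_smul F, CharTwo.two_eq_zero, zero_smul]
  exact neg_eq_of_add_eq_zero_left h6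

/-- the action of `A = U j` on `D / R`: `[d, u] = eF (λ_d(P2 u))` -/
theorem A_lam [CharP F 2] {h : NR R i} (hh : (h : G) ∈ UU V R j) {d : G} (hd : d ∈ DD V R) :
    h • p d - p d = m.eF c b (y.lam b c d (P2 (h : G))) := by
  have hdW := D_le_W V R i hd
  have hu := UU_le_YY j hh
  rw [m.smul_sub_p b hdW]
  have hP1 : P1 (h : G) = 0 := (y.mem_U2 _ hu).1 hh
  have h1 := y.lam_spec b c hd hu
  rw [hP1, map_zero] at h1
  have e : h * d * (h : G)⁻¹ * d⁻¹ = (d * h * d⁻¹ * (h : G)⁻¹)⁻¹ := by group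
  rw [e, h1, b.inv_eq (c.v_mem _ _)]
  rfl

/-- `C_M(T) ≤ D / R` -/
theorem C_T [CharP F 2] (hF : ∃ a : F, a ≠ 0 ∧ a ≠ 1) {a : M} (ha : ∀ t : Fˣ, tr c b t • a = a) :
    a ∈ m.sb (DD V R) := by
  obtain ⟨a0, h0, h1⟩ := hF
  obtain ⟨ω, -, hω, -, hωt, -⟩ := m.exists_omega c b
  obtain ⟨π, -, hπ, -, hπt⟩ := m.exists_pi c b y
  have hta := ha (Units.mk0 a0 h0)
  have k1 := hωt (Units.mk0 a0 h0) a
  rw [hta] at k1
  have k2 : ω a = 0 := by
    by_contra hne
    have k3 : a0 ^ 2 = 1 := (mul_right_cancel₀ hne ((one_mul _).trans k1)).symm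
    have k4 : (a0 - 1) ^ 2 = 0 := by
      rw [CharTwo.sub_eq_add, CharTwo.add_sq, k3, one_pow, CharTwo.add_self_eq_zero]
    exact h1 (sub_eq_zero.1 (pow_eq_zero_iff two_ne_zero |>.1 k4))
  have k3 : a ∈ m.sb (UU V R i) := (hω a).1 k2
  have k4 := hπt (Units.mk0 a0 h0) ⟨a, k3⟩ (by rw [hta]; exact k3)
  have k5 : (⟨tr c b (Units.mk0 a0 h0) • a, by rw [hta]; exact k3⟩ : m.sb (UU V R i)) = ⟨a, k3⟩ :=
    Subtype.ext hta
  rw [k5] at k4
  refine (hπ ⟨a, k3⟩).1 ?_
  have k6 : (a0 - 1) • π ⟨a, k3⟩ = 0 := by rw [sub_smul, one_smul, sub_eq_zero]; exact k4.symm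
  rcases smul_eq_zero.1 k6 with k7 | k7
  · exact absurd (sub_eq_zero.1 k7) h1
  · exact k7

end pi

end ModFr

end Cfsg.Agent.Omega.BTwo

end

section


/-!
# SQ3, `b = 2`, rad = 0: the module `M = W i / R i` is a vector space over `F` (setting of #14331)

`M`, `f : M × M → B = R i` as in `ModFr`, coordinates `Coord` on `V` with field `F`, `C(W i) ≤ R i`.

* `ModFr.semi_all` : every element of `N(R i)` acts semilinearly on `B ≅ F`;
* `ModFr.exists_module` : `M` is an `F`-space and `f` is `F`-bilinear;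
* `FMod` : the output structure, `ModFr.exists_fMod`.
-/

set_option autoImplicit false
set_option linter.unusedSectionVars false

namespace Cfsg.Agent.Omega.BTwo

open Subgroup

universe u v w

/-- A bijective additive map `σ` with `u(δ) γ = σ(w(γ) δ)`, `u ≠ 0`, is semilinear. -/
theorem semi_of_pair {F : Type*} [Field F] {σ : F → F} (h0 : σ 0 = 0) (hbij : Function.Bijective σ)
    {u w : F → F} (hw : ∀ a b, w (a + b) = w a + w b) (h : ∀ γ δ, u δ * γ = σ (w γ * δ))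
    (hne : ∃ δ, u δ ≠ 0) : ∃ s : F ≃+* F, ∀ l β, σ (l * β) = s l * σ β := by
  set k := w 1 with hk
  have hu : ∀ δ, u δ = σ (k * δ) := fun δ => by rw [← h, mul_one]
  have hk0 : k ≠ 0 := by
    intro hk0
    obtain ⟨δ, hδ⟩ := hne
    apply hδ
    rw [hu, hk0, zero_mul, h0]
  have hσ1 : σ 1 ≠ 0 := fun h1 => one_ne_zero (hbij.1 (h1.trans h0.symm))
  have key : ∀ γ δ, σ (w γ * k⁻¹ * δ) = γ * σ δ := by
    intro γ δ
    have h1 := h γ (k⁻¹ * δ)
    rw [hu, ← mul_assoc, mul_inv_cancel₀ hk0, one_mul, ← mul_assoc] at h1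
    rw [← h1, mul_comm]
  have inj : Function.Injective fun γ => w γ * k⁻¹ := by
    intro γ γ' e
    have h1 := key γ 1
    have h2 := key γ' 1
    simp only at e
    rw [e, h2] at h1
    exact (mul_right_cancel₀ hσ1 h1).symm
  let τ : F →+* F :=
    { toFun := fun γ => w γ * k⁻¹
      map_one' := mul_inv_cancel₀ hk0
      map_mul' := fun γ γ' => by
        apply hbij.1
        have h1 := key (γ * γ') 1
        have h2 := key γ (w γ' * k⁻¹)
        have h3 := key γ' 1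
        rw [mul_one] at h1 h3
        rw [h1, h2, h3, mul_assoc]
      map_zero' := by
        have h1 := hw 0 0
        rw [add_zero] at h1
        rw [left_eq_add.1 h1, zero_mul]
      map_add' := fun γ γ' => by rw [hw, add_mul] }
  have hτ : Function.Bijective τ := by
    refine ⟨inj, fun x => ⟨σ x * (σ 1)⁻¹, ?_⟩⟩
    change w _ * k⁻¹ = x
    apply hbij.1
    have h1 := key (σ x * (σ 1)⁻¹) 1
    rw [mul_one, mul_assoc, inv_mul_cancel₀ hσ1, mul_one] at h1
    exact h1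
  let e : F ≃+* F := RingEquiv.ofBijective τ hτ
  refine ⟨e.symm, fun l β => ?_⟩
  have h1 := key (e.symm l) β
  have h2 : w (e.symm l) * k⁻¹ = l := e.apply_symm_apply l
  rw [h2] at h1
  exact h1

variable {G : Type u} [Group G] {ι : Type w} {V : Subgroup G} {R : ι → Subgroup G} {i j : ι}

namespace ModFr

variable {F : Type v} [Field F] {v : F → F → G} {w1 w2 : F → G}
variable {M B : Type u} [AddCommGroup M] [AddCommGroup B]
  [DistribMulAction (NR R i) M] [DistribMulAction (NR R i) B] {p : G → M} {r : G → B} {f : M →+ M →+ B}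
variable (m : ModFr V R i M B p r f) (c : Coord V R i j v w1 w2) (b : BT V R)

/-- `F ≃ B` -/
noncomputable def bE : F ≃+ B := AddEquiv.ofBijective (m.bF c b) (m.bF_bij c b)

/-- the action of `N(R i)` on `B`, transported to `F` -/
noncomputable def sg (h : NR R i) (β : F) : F := (m.bE c b).symm (h • m.bE c b β)

include m c b

theorem bE_apply (β : F) : m.bE c b β = m.bF c b β := rfl

theorem bF_sg (h : NR R i) (β : F) : m.bF c b (m.sg c b h β) = h • m.bF c b β :=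
  (m.bE c b).apply_symm_apply _

theorem sg_eq {h : NR R i} {β γ : F} (e : h • m.bF c b β = m.bF c b γ) : m.sg c b h β = γ := by
  apply (m.bF_bij c b).1
  rw [m.bF_sg, e]

theorem sg_zero (h : NR R i) : m.sg c b h 0 = 0 := m.sg_eq c b (by rw [map_zero, smul_zero])

theorem sg_one (β : F) : m.sg c b 1 β = β := m.sg_eq c b (one_smul _ _)

theorem sg_mul (g h : NR R i) (β : F) : m.sg c b (g * h) β = m.sg c b g (m.sg c b h β) :=
  m.sg_eq c b (by rw [mul_smul, m.bF_sg, m.bF_sg])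

theorem sg_bij (h : NR R i) : Function.Bijective (m.sg c b h) := by
  refine ⟨fun β γ e => ?_, fun β => ⟨m.sg c b h⁻¹ β, ?_⟩⟩
  · have h1 := m.sg_mul c b h⁻¹ h β
    have h2 := m.sg_mul c b h⁻¹ h γ
    rw [inv_mul_cancel, m.sg_one] at h1 h2
    rw [h1, h2, e]
  · rw [← m.sg_mul, mul_inv_cancel, m.sg_one]

/-- `h` acts semilinearly on `B ≅ F` -/
def Sl (h : NR R i) : Prop := ∃ s : F ≃+* F, ∀ l β, m.sg c b h (l * β) = s l * m.sg c b h β

theorem Sl.mul {g h : NR R i} (hg : m.Sl c b g) (hh : m.Sl c b h) : m.Sl c b (g * h) := by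
  obtain ⟨s, hs⟩ := hg
  obtain ⟨t, ht⟩ := hh
  refine ⟨t.trans s, fun l β => ?_⟩
  rw [m.sg_mul, m.sg_mul, ht, hs]
  rfl

theorem Sl.inv {g : NR R i} (hg : m.Sl c b g) : m.Sl c b g⁻¹ := by
  obtain ⟨s, hs⟩ := hg
  refine ⟨s.symm, fun l β => ?_⟩
  apply (m.sg_bij c b g).1
  rw [hs, ← m.sg_mul, ← m.sg_mul, mul_inv_cancel, m.sg_one, m.sg_one, RingEquiv.apply_symm_apply]

theorem Sl.iff_of_mul {g h : NR R i} (hg : m.Sl c b g) : m.Sl c b (g * h) ↔ m.Sl c b h := by
  refine ⟨fun hh => ?_, fun hh => Sl.mul m c b hg hh⟩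
  have := Sl.mul m c b (Sl.inv m c b hg) hh
  rwa [inv_mul_cancel_left] at this

theorem sl_cen {h : NR R i} (hh : (h : G) ∈ centralizer (R i : Set G)) : m.Sl c b h := by
  have h1 : ∀ β, m.sg c b h β = β := fun β => m.sg_eq c b (m.act_B b hh _)
  exact ⟨RingEquiv.refl F, fun l β => by rw [h1, h1]; rfl⟩

theorem sl_one : m.Sl c b 1 := ⟨RingEquiv.refl F, fun l β => by rw [m.sg_one, m.sg_one]; rfl⟩

section char2

variable [CharP F 2]

theorem sg_tr (t : Fˣ) (β : F) : m.sg c b (tr c b t) β = (t : F) * β := m.sg_eq c b (m.T_B c b t β)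

theorem sl_tr (t : Fˣ) : m.Sl c b (tr c b t) :=
  ⟨RingEquiv.refl F, fun l β => by
    rw [m.sg_tr, m.sg_tr]
    change (t : F) * (l * β) = l * ((t : F) * β)
    ring⟩

/-- two lines which do not commute have the same field -/
theorem sl_of_ne {h : NR R i} {γ δ : F} (hne : f (m.eF c b γ) (h • m.eF c b δ) ≠ 0) : m.Sl c b h := by
  obtain ⟨ω, -, -, hω, -, -⟩ := m.exists_omega c b
  refine semi_of_pair (m.sg_zero c b h) (m.sg_bij c b h) (u := fun δ => ω (h • m.eF c b δ))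
    (w := fun γ => ω (h⁻¹ • m.eF c b γ)) (fun a a' => ?_) (fun γ δ => ?_) ⟨δ, fun h0 => hne ?_⟩
  · rw [map_add, smul_add, map_add]
  · symm
    apply m.sg_eq
    rw [← hω, ← hω, ← m.f_act b, smul_inv_smul, m.f_symm b]
  · rw [m.f_symm b, hω]
    change ω _ = 0 at h0
    rw [h0, zero_mul, map_zero]

end char2

end ModFr

section all

variable {F : Type v} [Field F] [CharP F 2] {v : F → F → G} {w1 w2 : F → G}
variable {M B : Type u} [AddCommGroup M] [AddCommGroup B]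
  [DistribMulAction (NR R i) M] [DistribMulAction (NR R i) B] {p : G → M} {r : G → B} {f : M →+ M →+ B}

namespace ModFr

variable (m : ModFr V R i M B p r f) (c : Coord V R i j v w1 w2) (b : BTC V R)
include m c b

/-- **every element of `N(R i)` acts semilinearly on `B = R i`** -/
theorem semi_all [Finite G] [Finite F] (hF : ∃ a : F, a ≠ 0 ∧ a ≠ 1)
    (hC : centralizer (WW V (R i) : Set G) ≤ R i) (h : NR R i) : m.Sl c b.toBT h := by
  classical
  have b' := b.toBT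
  let M1 : AddSubgroup M := AddSubgroup.closure {a | ∃ (g : NR R i) (x : M), m.Sl c b' g ∧ x ∈ m.sb V ∧ g • x = a}
  let M2 : AddSubgroup M := AddSubgroup.closure {a | ∃ (g : NR R i) (x : M), ¬ m.Sl c b' g ∧ x ∈ m.sb V ∧ g • x = a}
  have mem1 : ∀ (g : NR R i) (x : M), m.Sl c b' g → x ∈ m.sb V → g • x ∈ M1 := fun g x hg hx =>
    AddSubgroup.subset_closure ⟨g, x, hg, hx, rfl⟩
  have mem2 : ∀ (g : NR R i) (x : M), ¬ m.Sl c b' g → x ∈ m.sb V → g • x ∈ M2 := fun g x hg hx =>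
    AddSubgroup.subset_closure ⟨g, x, hg, hx, rfl⟩
  have hV1 : m.sb V ≤ M1 := fun x hx => by
    have := mem1 1 x (m.sl_one c b') hx
    rwa [one_smul] at this
  -- invariance
  have inv1 : ∀ g : NR R i, m.Sl c b' g → ∀ a ∈ M1, g • a ∈ M1 := by
    intro g hg a ha
    induction ha using AddSubgroup.closure_induction with
    | mem a ha =>
      obtain ⟨k, x, hk, hx, rfl⟩ := ha
      rw [← mul_smul]
      exact mem1 _ _ (Sl.mul m c b' hg hk) hx
    | zero => rw [smul_zero]; exact zero_mem _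
    | add a a' _ _ h1 h2 => rw [smul_add]; exact add_mem h1 h2
    | neg a _ h1 => rw [smul_neg]; exact neg_mem h1
  have inv2 : ∀ g : NR R i, m.Sl c b' g → ∀ a ∈ M2, g • a ∈ M2 := by
    intro g hg a ha
    induction ha using AddSubgroup.closure_induction with
    | mem a ha =>
      obtain ⟨k, x, hk, hx, rfl⟩ := ha
      rw [← mul_smul]
      exact mem2 _ _ (fun h1 => hk ((Sl.iff_of_mul m c b' hg).1 h1)) hx
    | zero => rw [smul_zero]; exact zero_mem _
    | add a a' _ _ h1 h2 => rw [smul_add]; exact add_mem h1 h2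
    | neg a _ h1 => rw [smul_neg]; exact neg_mem h1
  -- orthogonality
  have perp0 : ∀ (g k : NR R i) (x y : M), m.Sl c b' g → ¬ m.Sl c b' k → x ∈ m.sb V → y ∈ m.sb V →
      f (g • x) (k • y) = 0 := by
    intro g k x y hg hk hx hy
    by_contra hne
    apply hk
    obtain ⟨γ, rfl⟩ := (m.mem_e c b').1 hx
    obtain ⟨δ, rfl⟩ := (m.mem_e c b').1 hy
    have h1 : f (m.eF c b' γ) ((g⁻¹ * k) • m.eF c b' δ) ≠ 0 := by
      intro h0
      apply hne
      have h2 := m.f_act b' g (m.eF c b' γ) ((g⁻¹ * k) • m.eF c b' δ)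
      rw [h0, smul_zero, ← mul_smul, mul_inv_cancel_left] at h2
      exact h2
    exact (Sl.iff_of_mul m c b' (Sl.inv m c b' hg)).1 (m.sl_of_ne c b' h1)
  have perp : ∀ a ∈ M1, ∀ a' ∈ M2, f a a' = 0 := by
    intro a ha
    induction ha using AddSubgroup.closure_induction with
    | mem a ha =>
      obtain ⟨g, x, hg, hx, rfl⟩ := ha
      intro a' ha'
      induction ha' using AddSubgroup.closure_induction with
      | mem a' ha' =>
        obtain ⟨k, y, hk, hy, rfl⟩ := ha'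
        exact perp0 g k x y hg hk hx hy
      | zero => rw [map_zero]
      | add a a' _ _ h1 h2 => rw [map_add, h1, h2, add_zero]
      | neg a _ h1 => rw [map_neg, h1, neg_zero]
    | zero => intro a' _; rw [map_zero, AddMonoidHom.zero_apply]
    | add a a' _ _ h1 h2 =>
      intro x hx
      rw [map_add, AddMonoidHom.add_apply, h1 x hx, h2 x hx, add_zero]
    | neg a _ h1 =>
      intro x hx
      rw [map_neg, AddMonoidHom.neg_apply, h1 x hx, neg_zero]
  have hsum : M1 ⊔ M2 = ⊤ := by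
    have h1 : AddSubgroup.closure {a | ∃ (g : NR R i) (x : M), x ∈ m.sb V ∧ g • x = a} = ⊤ := by
      apply m.gen
      · intro g a ha
        induction ha using AddSubgroup.closure_induction with
        | mem a ha =>
          obtain ⟨k, x, hx, rfl⟩ := ha
          rw [← mul_smul]
          exact AddSubgroup.subset_closure ⟨g * k, x, hx, rfl⟩
        | zero => rw [smul_zero]; exact zero_mem _
        | add a a' _ _ h1 h2 => rw [smul_add]; exact add_mem h1 h2
        | neg a _ h1 => rw [smul_neg]; exact neg_mem h1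
      · intro x hx
        exact AddSubgroup.subset_closure ⟨1, x, hx, one_smul _ _⟩
    rw [eq_top_iff, ← h1, AddSubgroup.closure_le]
    rintro a ⟨g, x, hx, rfl⟩
    by_cases hg : m.Sl c b' g
    · exact (le_sup_left : M1 ≤ M1 ⊔ M2) (mem1 g x hg hx)
    · exact (le_sup_right : M2 ≤ M1 ⊔ M2) (mem2 g x hg hx)
  obtain ⟨ω, hωs, hωU, hω, hωt, -⟩ := m.exists_omega c b'
  -- `ω ≠ 0` on `M1`
  have hω2 : ∀ a ∈ M2, ω a = 0 := by
    intro a ha
    have h1 := perp _ (hV1 ((m.mem_e c b').2 ⟨1, rfl⟩)) a ha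
    rw [m.f_symm b', hω, mul_one] at h1
    exact (m.bF_bij c b').1 (h1.trans (map_zero _).symm)
  obtain ⟨a0, ha0, hωa0⟩ : ∃ a ∈ M1, ω a ≠ 0 := by
    obtain ⟨a, ha⟩ := hωs 1
    have h0 : a ∈ M1 ⊔ M2 := hsum ▸ AddSubgroup.mem_top a
    obtain ⟨a1, h1, a2, h2, rfl⟩ := AddSubgroup.mem_sup.1 h0
    refine ⟨a1, h1, ?_⟩
    rw [map_add, hω2 a2 h2, add_zero] at ha
    rw [ha]
    exact one_ne_zero
  -- `M = M1 + D`
  have hD0 : ∀ a ∈ m.sb (UU V R i), ∃ a1 ∈ M1, a - a1 ∈ m.sb (DD V R) := by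
    intro a ha
    have h0 : a0 ∉ m.sb (UU V R i) := fun h => hωa0 ((hωU a0).2 h)
    obtain ⟨g, hg, hgD⟩ := m.A_surj b' c.ne h0 ha
    refine ⟨g • a0 - a0, sub_mem (inv1 g (m.sl_cen c b' ?_) a0 ha0) ha0, ?_⟩
    · exact (centralizer_le (b.R_le i)) (UU_le_cen j hg)
    · have h1 := neg_mem hgD
      have e : -(g • a0 - a0 - a) = a - (g • a0 - a0) := by abel
      rwa [e] at h1
  have hD : ∀ a, ∃ a1 ∈ M1, a - a1 ∈ m.sb (DD V R) := by
    intro a
    by_cases hz : ω a = 0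
    · exact hD0 a ((hωU a).1 hz)
    · obtain ⟨t, ht⟩ : ∃ t : F, t ^ 2 = ω a * (ω a0)⁻¹ := by
        have h1 : Function.Bijective (frobenius F 2) :=
          ((Finite.injective_iff_bijective (f := frobenius F 2)).1 (frobenius_inj F 2))
        obtain ⟨t, ht⟩ := h1.2 (ω a * (ω a0)⁻¹)
        exact ⟨t, ht⟩
      have ht0 : t ≠ 0 := by
        rintro rfl
        have h1 : ω a * (ω a0)⁻¹ ≠ 0 := mul_ne_zero hz (inv_ne_zero hωa0)
        rw [← ht] at h1
        exact h1 (by ring)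
      have h1 : a - tr c b' (Units.mk0 t ht0) • a0 ∈ m.sb (UU V R i) := by
        rw [← hωU, map_sub, hωt]
        change ω a - t ^ 2 * ω a0 = 0
        rw [ht, mul_assoc, inv_mul_cancel₀ hωa0, mul_one, sub_self]
      obtain ⟨a1, h2, h3⟩ := hD0 _ h1
      refine ⟨a1 + tr c b' (Units.mk0 t ht0) • a0, add_mem h2 (inv1 _ (m.sl_tr c b' _) _ ha0), ?_⟩
      have e : a - (a1 + tr c b' (Units.mk0 t ht0) • a0) = a - tr c b' (Units.mk0 t ht0) • a0 - a1 := by abel
      rw [e]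
      exact h3
  obtain ⟨t0, ht0, ht1⟩ := hF
  set t : NR R i := tr c b' (Units.mk0 t0 ht0) with htdef
  have hT : ∀ a, t • a - a ∈ M1 := by
    intro a
    obtain ⟨a1, h1, h2⟩ := hD a
    have h3 := hV1 (m.T_D c b' (Units.mk0 t0 ht0) h2)
    have h4 := inv1 t (m.sl_tr c b' _) a1 h1
    have e : t • a - a = (t • a1 - a1) + (t • (a - a1) - (a - a1)) := by rw [smul_sub]; abel
    rw [e]
    exact add_mem (sub_mem h4 h1) h3
  have hzero : ∀ a ∈ M2, ∀ a' ∈ M2, f a a' = 0 := by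
    intro a ha a' ha'
    have h1 : t • a - a ∈ M2 := sub_mem (inv2 t (m.sl_tr c b' _) a ha) ha
    have h2 : t • a' - a' ∈ M2 := sub_mem (inv2 t (m.sl_tr c b' _) a' ha') ha'
    have e1 : t • a = a + (t • a - a) := by abel
    have e2 : t • a' = a' + (t • a' - a') := by abel
    have h3 := m.f_act b' t a a'
    have e3 : f (a + (t • a - a)) (a' + (t • a' - a')) = f a a' := by
      rw [map_add f, AddMonoidHom.add_apply, map_add (f a), map_add (f (t • a - a)), perp _ (hT a) _ ha',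
        perp _ (hT a) _ h2, m.f_symm b' a (t • a' - a'), perp _ (hT a') _ ha, add_zero, add_zero, add_zero]
    rw [e1, e2, e3] at h3
    obtain ⟨β, hβ⟩ := (m.bF_bij c b').2 (f a a')
    rw [← hβ, htdef, m.T_B c b'] at h3
    have h4 := (m.bF_bij c b').1 h3
    change β = t0 * β at h4
    have h5 : (t0 - 1) * β = 0 := by rw [sub_mul, one_mul, ← h4, sub_self]
    rcases mul_eq_zero.1 h5 with h6 | h6
    · exact absurd (sub_eq_zero.1 h6) ht1
    · rw [← hβ, h6, map_zero]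
  have hM2 : ∀ a ∈ M2, a = 0 := by
    intro a ha
    apply m.rad b hC
    intro a'
    have h0 : a' ∈ M1 ⊔ M2 := hsum ▸ AddSubgroup.mem_top a'
    obtain ⟨a1, h1, a2, h2, rfl⟩ := AddSubgroup.mem_sup.1 h0
    rw [map_add, hzero a ha a2 h2, add_zero, m.f_symm b', perp a1 h1 a ha]
  by_contra hh
  have h1 := hM2 _ (mem2 h (m.eF c b' 1) hh ((m.mem_e c b').2 ⟨1, rfl⟩))
  have h2 : m.eF c b' 1 = 0 := by
    have h3 := congrArg (fun x => h⁻¹ • x) h1
    simpa using h3
  exact one_ne_zero (m.eF_inj c b' (h2.trans (map_zero _).symm))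

/-- the `F`-valued form -/
noncomputable def ph (a a' : M) : F := (m.bE c b.toBT).symm (f a a')

theorem f_ph (a a' : M) : f a a' = m.bF c b.toBT (m.ph c b a a') :=
  ((m.bE c b.toBT).apply_symm_apply _).symm

theorem ph_eq {a a' : M} {β : F} (h : f a a' = m.bF c b.toBT β) : m.ph c b a a' = β := by
  apply (m.bF_bij c b.toBT).1
  rw [← m.f_ph, h]

theorem ph_add (a a' x : M) : m.ph c b (a + a') x = m.ph c b a x + m.ph c b a' x :=
  m.ph_eq c b (by rw [map_add f, AddMonoidHom.add_apply, map_add, ← m.f_ph, ← m.f_ph])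

theorem ph_add' (a x x' : M) : m.ph c b a (x + x') = m.ph c b a x + m.ph c b a x' :=
  m.ph_eq c b (by rw [map_add (f a), map_add, ← m.f_ph, ← m.f_ph])

theorem ph_zero (x : M) : m.ph c b 0 x = 0 := m.ph_eq c b (by rw [map_zero, map_zero]; rfl)

theorem ph_symm (a x : M) : m.ph c b a x = m.ph c b x a := m.ph_eq c b (by rw [m.f_symm b.toBT, ← m.f_ph])

theorem ph_self (a : M) : m.ph c b a a = 0 := m.ph_eq c b (by rw [m.f_self b.toBT, map_zero])

theorem ph_act (h : NR R i) (a x : M) : m.ph c b (h • a) (h • x) = m.sg c b.toBT h (m.ph c b a x) :=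
  m.ph_eq c b (by rw [m.f_act b.toBT, m.bF_sg, ← m.f_ph])

theorem ph_ext (hC : centralizer (WW V (R i) : Set G) ≤ R i) {a a' : M}
    (h : ∀ x, m.ph c b a x = m.ph c b a' x) : a = a' := by
  rw [← sub_eq_zero]
  apply m.rad b hC
  intro x
  rw [map_sub, AddMonoidHom.sub_apply, m.f_ph c b, m.f_ph c b, h, sub_self]

/-- existence of `l a` -/
theorem exists_mul [Finite G] [Finite F] (hF : ∃ a : F, a ≠ 0 ∧ a ≠ 1)
    (hC : centralizer (WW V (R i) : Set G) ≤ R i) (a : M) (l : F) :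
    ∃ a', ∀ x, m.ph c b a' x = l * m.ph c b a x := by
  have b' := b.toBT
  obtain ⟨ω, -, -, hω, -, -⟩ := m.exists_omega c b'
  let S : AddSubgroup M :=
    { carrier := {a | ∀ l, ∃ a', ∀ x, m.ph c b a' x = l * m.ph c b a x}
      zero_mem' := fun l => ⟨0, fun x => by rw [m.ph_zero, mul_zero]⟩
      add_mem' := by
        intro a1 a2 h1 h2 l
        obtain ⟨x1, hx1⟩ := h1 l
        obtain ⟨x2, hx2⟩ := h2 l
        exact ⟨x1 + x2, fun x => by rw [m.ph_add, m.ph_add, hx1, hx2, mul_add]⟩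
      neg_mem' := by
        intro a h l
        have e : -a = a := neg_eq_of_add_eq_zero_left (m.two_M b' a)
        rw [e]
        exact h l }
  have hS : S = ⊤ := by
    apply m.gen
    · intro h a ha l
      obtain ⟨s, hs⟩ := m.semi_all c b hF hC h
      obtain ⟨a', ha'⟩ := ha (s.symm l)
      refine ⟨h • a', fun x => ?_⟩
      have e : x = h • h⁻¹ • x := (smul_inv_smul h x).symm
      rw [e, m.ph_act, m.ph_act, ha', hs, RingEquiv.apply_symm_apply]
    · intro a ha l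
      obtain ⟨γ, rfl⟩ := (m.mem_e c b').1 ha
      refine ⟨m.eF c b' (l * γ), fun x => ?_⟩
      have h1 : ∀ γ, m.ph c b (m.eF c b' γ) x = ω x * γ := fun γ =>
        m.ph_eq c b (by rw [m.f_symm b', hω])
      rw [h1, h1]
      ring
  have h1 : a ∈ S := hS ▸ AddSubgroup.mem_top a
  exact h1 l

/-- `M` is an `F`-space -/
theorem exists_module [Finite G] [Finite F] (hF : ∃ a : F, a ≠ 0 ∧ a ≠ 1)
    (hC : centralizer (WW V (R i) : Set G) ≤ R i) :
    ∃ _ : Module F M, ∀ (l : F) (a x : M), m.ph c b (l • a) x = l * m.ph c b a x := by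
  choose sm hsm using fun (a : M) (l : F) => m.exists_mul c b hF hC a l
  have ext := fun {a a' : M} => m.ph_ext (a := a) (a' := a') c b hC
  refine ⟨{ smul := fun l a => sm a l
            one_smul := fun a => ?_
            mul_smul := fun l l' a => ?_
            smul_zero := fun l => ?_
            smul_add := fun l a a' => ?_
            add_smul := fun l l' a => ?_
            zero_smul := fun a => ?_ }, fun l a x => ?_⟩
  · apply ext
    intro x
    change m.ph c b (sm a (l * l')) x = m.ph c b (sm (sm a l') l) x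
    rw [hsm, hsm, hsm, mul_assoc]
  · apply ext
    intro x
    change m.ph c b (sm a 1) x = _
    rw [hsm, one_mul]
  · apply ext
    intro x
    change m.ph c b (sm 0 l) x = _
    rw [hsm, m.ph_zero, mul_zero]
  · apply ext
    intro x
    change m.ph c b (sm (a + a') l) x = m.ph c b (sm a l + sm a' l) x
    rw [hsm, m.ph_add, m.ph_add, hsm, hsm, mul_add]
  · apply ext
    intro x
    change m.ph c b (sm a (l + l')) x = m.ph c b (sm a l + sm a l') x
    rw [hsm, m.ph_add, hsm, hsm, add_mul]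
  · apply ext
    intro x
    change m.ph c b (sm a 0) x = _
    rw [hsm, zero_mul, m.ph_zero]
  · change m.ph c b (sm a l) x = _
    rw [hsm]

end ModFr

/-- **The `F`-space `M = W i / R i`** with the commutator form `φ : M × M → F ≅ R i` -/
structure FMod (V : Subgroup G) (R : ι → Subgroup G) (i j : ι) (v : F → F → G) (w1 w2 : F → G)
    (M B : Type u) [AddCommGroup M] [AddCommGroup B] [DistribMulAction (NR R i) M]
    [DistribMulAction (NR R i) B] [Module F M] (p : G → M) (r : G → B) (f : M →+ M →+ B)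
    (φ : M →ₗ[F] M →ₗ[F] F) (s : NR R i → (F ≃+* F)) : Prop where
  fr : ModFr V R i M B p r f
  co : Coord V R i j v w1 w2
  btc : BTC V R
  four : ∃ a : F, a ≠ 0 ∧ a ≠ 1
  cenW : centralizer (WW V (R i) : Set G) ≤ R i
  f_phi : ∀ a x, f a x = fr.bF co btc.toBT (φ a x)
  semi : ∀ (h : NR R i) (l : F) (a : M), h • (l • a) = s h l • (h • a)
  semi_B : ∀ (h : NR R i) (l β : F), fr.sg co btc.toBT h (l * β) = s h l * fr.sg co btc.toBT h β

/-- **existence of `FMod`** -/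
theorem BTC.exists_fMod [Finite G] [Finite F] (b : BTC V R) (c : Coord V R i j v w1 w2)
    (hF : ∃ a : F, a ≠ 0 ∧ a ≠ 1) (hC : centralizer (WW V (R i) : Set G) ≤ R i) :
    ∃ (M B : Type u) (_ : AddCommGroup M) (_ : AddCommGroup B) (_ : DistribMulAction (NR R i) M)
      (_ : DistribMulAction (NR R i) B) (_ : Module F M) (p : G → M) (r : G → B) (f : M →+ M →+ B)
      (φ : M →ₗ[F] M →ₗ[F] F) (s : NR R i → (F ≃+* F)), FMod V R i j v w1 w2 M B p r f φ s := by
  obtain ⟨M, B, _, _, _, _, p, r, f, m⟩ := b.toBT.exists_mod i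
  obtain ⟨I, hI⟩ := m.exists_module c b hF hC
  have hI' : ∀ (l : F) (a x : M), m.ph c b a (l • x) = l * m.ph c b a x := fun l a x => by
    rw [m.ph_symm, hI, m.ph_symm]
  choose s hs using m.semi_all c b hF hC
  let φ : M →ₗ[F] M →ₗ[F] F := LinearMap.mk₂ F (m.ph c b) (m.ph_add c b) hI (m.ph_add' c b) hI'
  refine ⟨M, B, _, _, _, _, I, p, r, f, φ, s, ⟨m, c, b, hF, hC, fun a x => m.f_ph c b a x, fun h l a => ?_, hs⟩⟩
  apply m.ph_ext c b hC
  intro x
  have e : x = h • h⁻¹ • x := (smul_inv_smul h x).symm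
  rw [e, m.ph_act, hI, hI, hs, ← m.ph_act]

end all

end Cfsg.Agent.Omega.BTwo

end
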