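import Cfsg.Agent.Mrg.Omega.BTwo.Str
import Cfsg.Agent.Lib.NormalAbelian

section


/-!
# II.0h1, split case: #11929 (1), (2), (3), (5), `C_D(X) ≠ 1` allowed, field-free

`V` is the natural part `[V_P, E]`, `R i` its points.  `BTS` is `BTC` without the field `meet`.
`C_X = C(X)`, `Z i = Z(W i)`.
-/

set_option autoImplicit false

namespace Cfsg.Agent.Omega.BTwo

open Subgroup

variable {G : Type*} [Group G] {ι : Type*}

/-- `b = 2`; no 2-subgroup `≠ 1` is normalised by `N(V)` and `N(R i)`; `C(Q i) ≤ Q i`.  Here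
`C_D(X) ≠ 1` is allowed. -/
structure BTS (V : Subgroup G) (R : ι → Subgroup G) : Prop extends BT V R where
  nonloc : ∀ i, ∀ T : Subgroup G, IsPGroup 2 T → T ≤ normalizer (V : Set G) → T ≤ normalizer (R i : Set G) →
    normalizer (V : Set G) ≤ normalizer (T : Set G) →
    normalizer (R i : Set G) ≤ normalizer (T : Set G) → T = ⊥
  cenQ : ∀ i, normalizer (R i : Set G) ⊓ centralizer (QQ (R i) : Set G) ≤ QQ (R i)

/-- `Z i = Z(W i)` -/
def ZZ (V : Subgroup G) (R : ι → Subgroup G) (i : ι) : Subgroup G :=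
  WW V (R i) ⊓ centralizer (WW V (R i) : Set G)

/-- `C_X = C(X)` -/
abbrev CenX (V : Subgroup G) (R : ι → Subgroup G) : Subgroup G := centralizer (XX V R : Set G)

variable {V : Subgroup G} {R : ι → Subgroup G}

theorem BTC.toBTS (b : BTC V R) : BTS V R where
  toBT := b.toBT
  nonloc := b.nonloc
  cenQ := b.cenQ

theorem mem_ZZ {i : ι} {z : G} : z ∈ ZZ V R i ↔
    z ∈ WW V (R i) ∧ z ∈ centralizer (WW V (R i) : Set G) := mem_inf

section

variable (b : BT V R)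
include b

/-- the swap argument, general form -/
theorem BT.swap_exists {i j : ι} (hij : i ≠ j) {c : G} (hc : c ∈ centralizer (WW V (R i) : Set G))
    (hX : ∀ x ∈ XX V R, x * c * x⁻¹ * c⁻¹ ∈ V) : ∃ a ∈ R i, a * c ∈ CenX V R := by
  obtain ⟨n, hn, e1, -⟩ := b.trans_X hij (Ne.symm hij)
  obtain ⟨a, ha, a', ha', e⟩ := b.exists_mul hij (hX n hn)
  have h1 : n * c * n⁻¹ ∈ centralizer (WW V (R j) : Set G) := by
    rw [← b.cj_WW e1, centralizer_cj]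
    exact conj_mem_cj hc
  have h2 : a * c ∈ centralizer (WW V (R i) : Set G) := mul_mem (b.R_cen_W i ha) hc
  have h3 : a * c ∈ centralizer (WW V (R j) : Set G) := by
    have h4 : a * c = a'⁻¹ * (n * c * n⁻¹) := by
      have h5 := b.V_comm a (b.R_le i ha) a' (b.R_le j ha')
      calc a * c = a'⁻¹ * (a' * a) * c := by group
        _ = a'⁻¹ * (n * c * n⁻¹ * c⁻¹) * c := by rw [← h5, ← e]
        _ = a'⁻¹ * (n * c * n⁻¹) := by group
    rw [h4]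
    exact mul_mem (inv_mem (b.R_cen_W j ha')) h1
  exact ⟨a, ha, b.mem_cen_X hij h2 h3⟩

/-- `N(V)` normalises `C_X` -/
theorem BT.NV_le_NCenX : normalizer (V : Set G) ≤ normalizer (CenX V R : Set G) :=
  b.NV_le_NX.trans (normalizer_le_normalizer_centralizer _)

theorem BT.CenX_le_cen : CenX V R ≤ centralizer (V : Set G) := by
  obtain ⟨i⟩ := b.nonempty
  exact (cen_X_le i).trans (cen_W_le V (R i))

theorem BT.CenX_inf_V : CenX V R ⊓ V = ⊥ := by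
  rw [eq_bot_iff_forall]
  rintro x ⟨h1, h2⟩
  exact b.cen_VX h2 h1

/-- `Z i ∩ Z j = C_D(X)` -/
theorem BT.ZZ_inf {i j : ι} (hij : i ≠ j) : ZZ V R i ⊓ ZZ V R j = DD V R ⊓ CenX V R := by
  apply le_antisymm
  · rintro z ⟨⟨h1, h2⟩, h3, h4⟩
    refine ⟨?_, b.mem_cen_X hij h2 h4⟩
    rw [b.D_eq' hij]
    exact ⟨h1, h3⟩
  · rintro z ⟨h1, h2⟩
    exact ⟨⟨D_le_W V R i h1, cen_X_le i h2⟩, D_le_W V R j h1, cen_X_le j h2⟩

theorem BT.R_le_Z (i : ι) : R i ≤ ZZ V R i :=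
  le_inf ((b.R_le i).trans (V_le_WW V (R i))) (b.R_cen_W i)

end

section BTS

variable (b : BTS V R)
include b

/-- **(1)** `C_D(W i) ≤ R i · C_D(X)` -/
theorem BTS.cen_DW {i : ι} {d : G} (hd : d ∈ DD V R) (h : d ∈ centralizer (WW V (R i) : Set G)) :
    ∃ a ∈ R i, a * d ∈ DD V R ⊓ CenX V R := by
  obtain ⟨j, hj, -⟩ := b.third i i
  obtain ⟨a, ha, hX⟩ := b.swap_exists (Ne.symm hj) h (fun x hx => b.XD hx hd)
  exact ⟨a, ha, mul_mem (V_le_D V R (b.R_le i ha)) hd, hX⟩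

/-- `C_D(U i) ≤ V · C_D(X)` -/
theorem BTS.cen_DU {i : ι} {d : G} (hd : d ∈ DD V R) (hU : ∀ u ∈ UU V R i, d * u = u * d) :
    ∃ v ∈ V, v * d ∈ DD V R ⊓ CenX V R := by
  obtain ⟨v, hv, hc⟩ := b.cen_U (b.W_le_Q i (D_le_W V R i hd)) hU
  obtain ⟨a, ha, h1⟩ := b.cen_DW (mul_mem (inv_mem (V_le_D V R hv)) hd) hc
  refine ⟨a * v⁻¹, mul_mem (b.R_le i ha) (inv_mem hv), ?_⟩
  rwa [mul_assoc]

/-- `λ` is injective on `D / V C_D(X)` -/
theorem BTS.lam_inj {d : G} (hd : d ∈ DD V R) (h : ∀ y ∈ YY V R, d * y * d⁻¹ * y⁻¹ = 1) :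
    ∃ v ∈ V, v * d ∈ DD V R ⊓ CenX V R := by
  obtain ⟨i⟩ := b.nonempty
  refine b.cen_DU (i := i) hd fun u hu => ?_
  have := h u (UU_le_YY i hu)
  rwa [mul_inv_eq_one, mul_inv_eq_iff_eq_mul] at this

/-- `[C(W i), U j] ≤ D ∩ C(W i)` -/
theorem BTS.cen_W_U {i j : ι} (hij : i ≠ j) {c u : G} (hc : c ∈ centralizer (WW V (R i) : Set G))
    (hu : u ∈ UU V R j) : c * u * c⁻¹ * u⁻¹ ∈ DD V R ⊓ centralizer (WW V (R i) : Set G) := by
  have hcV := cen_W_le V (R i) hc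
  have huV := UU_le_cen j hu
  have hc2 := conj_mem_of_normalizer (normalizer_le_normalizer_centralizer _ (b.cen_le_NW i huV)) (inv_mem hc)
  have e : c * u * c⁻¹ * u⁻¹ = c * (u * c⁻¹ * u⁻¹) := by group
  have h1 : c * u * c⁻¹ * u⁻¹ ∈ centralizer (WW V (R i) : Set G) := by
    rw [e]
    exact mul_mem hc hc2
  have h2 : c * u * c⁻¹ * u⁻¹ ∈ UU V R j :=
    mul_mem (conj_mem_of_normalizer (b.cen_le_NU j hcV) hu) (inv_mem hu)
  refine ⟨?_, h1⟩
  rw [← b.UK hij]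
  exact mem_inf.2 ⟨h2, b.cen_W_le_K i h1⟩

/-- odd order elements of `C(W i)` centralise `W j` -/
theorem BTS.odd_cen {i j : ι} (hij : i ≠ j) {c : G} (hc : c ∈ centralizer (WW V (R i) : Set G))
    (ho : Odd (orderOf c)) : c ∈ centralizer (WW V (R j) : Set G) := by
  have h1 : ∀ u ∈ UU V R j, c * u = u * c := by
    intro u hu
    have h := (b.cen_W_U hij hc hu).1
    refine comm_of_odd ho ((b.W_isPGroup i).to_le (D_le_W V R i)) h ?_
    exact (mem_centralizer_iff.1 hc _ (D_le_W V R i h)).symm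
  rw [mem_centralizer_iff]
  intro w hw
  have h := b.cen_W_W hc hw
  exact (comm_of_odd ho (b.U_isPGroup j) h (h1 _ h)).symm

theorem BTS.LL_eq (i j : ι) : LL V R i = LL V R j := by
  have key : ∀ i j : ι, i ≠ j → LL V R i ≤ LL V R j := fun i j hij =>
    closure_mono fun c hc => ⟨b.odd_cen hij hc.1 hc.2, hc.2⟩
  by_cases h : i = j
  · rw [h]
  · exact le_antisymm (key i j h) (key j i (Ne.symm h))

theorem BTS.cj_LL {g : G} {i j : ι} (h : cj g (R i) = R j) : cj g (LL V R i) = LL V R j := by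
  have key : ∀ (g : G) (i j : ι), cj g (R i) = R j → cj g (LL V R i) ≤ LL V R j := by
    intro g i j h
    rw [cj, map_le_iff_le_comap, LL, closure_le]
    rintro c ⟨hc, ho⟩
    refine subset_closure ⟨?_, ?_⟩
    · rw [← b.cj_WW h, centralizer_cj]
      exact conj_mem_cj hc
    · exact ((orderOf_injective (MulAut.conj g).toMonoidHom (MulAut.conj g).injective c).symm ▸ ho :)
  apply le_antisymm (key g i j h)
  have h' : cj g⁻¹ (R j) = R i := by rw [← h, cj_inv_cj]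
  have h3 := cj_mono (g := g) (key g⁻¹ j i h')
  rwa [cj_cj_inv] at h3

/-- **(2)** `C(W i)` is a 2-group -/
theorem BTS.cen_W_isPGroup [Finite G] (i : ι) : IsPGroup 2 (centralizer (WW V (R i) : Set G)) := by
  have hLV : LL V R i ≤ centralizer (V : Set G) := (LL_le i).trans (cen_W_le V (R i))
  have hLN : LL V R i ≤ normalizer (R i : Set G) := hLV.trans (b.cen_le_N i)
  have h1 : normalizer (V : Set G) ≤ normalizer (LL V R i : Set G) := by
    intro g hg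
    obtain ⟨j, hj⟩ := b.perm g hg i
    rw [← cj_eq_self_iff, b.cj_LL hj, b.LL_eq]
  have h2 : normalizer (R i : Set G) ≤ normalizer (LL V R i : Set G) := by
    intro g hg
    rw [← cj_eq_self_iff, b.cj_LL (cj_eq_self_iff.2 hg)]
  have h3 : normalizer (LL V R i : Set G) ≤ normalizer (O2 (LL V R i) : Set G) := by
    intro g hg
    rw [← cj_eq_self_iff] at hg ⊢
    rw [cj_O2, hg]
  have h4 : O2 (LL V R i) = ⊥ := b.nonloc i _ (O2_isPGroup _) ((O2_le _).trans (hLV.trans (cen_le_NV V)))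
    ((O2_le _).trans hLN) (h1.trans h3) (h2.trans h3)
  have hQ := le_normalizer_O2 (normalizer (R i : Set G))
  have h5 : LL V R i ≤ centralizer (QQ (R i) : Set G) := by
    intro l hl
    rw [mem_centralizer_iff]
    intro q hq
    have k1 : q * l * q⁻¹ * l⁻¹ ∈ LL V R i :=
      mul_mem (conj_mem_of_normalizer (h2 (b.Q_le i hq)) hl) (inv_mem hl)
    have k2 : q * l * q⁻¹ * l⁻¹ ∈ QQ (R i) := by
      have e : q * l * q⁻¹ * l⁻¹ = q * (l * q⁻¹ * l⁻¹) := by group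
      rw [e]
      exact mul_mem hq (conj_mem_of_normalizer (hQ (hLN hl)) (inv_mem hq))
    have k3 : LL V R i ⊓ QQ (R i) ≤ O2 (LL V R i) := by
      refine le_O2_of_normal inf_le_left ((O2_isPGroup _).to_le inf_le_right) ?_
      intro g hg a ha
      exact mem_inf.2 ⟨mul_mem (mul_mem hg ha.1) (inv_mem hg), conj_mem_of_normalizer (hQ (hLN hg)) ha.2⟩
    have k4 : q * l * q⁻¹ * l⁻¹ ∈ O2 (LL V R i) := k3 (mem_inf.2 ⟨k1, k2⟩)
    rw [h4, mem_bot, mul_inv_eq_one, mul_inv_eq_iff_eq_mul] at k4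
    exact k4
  have h6 : LL V R i ≤ QQ (R i) := fun l hl => b.cenQ i (mem_inf.2 ⟨hLN hl, h5 hl⟩)
  refine isPGroup_of_odd fun c hc ho => ?_
  have h7 : c ∈ QQ (R i) := h6 (subset_closure ⟨hc, ho⟩)
  obtain ⟨n, hn⟩ := O2_isPGroup _ (⟨c, h7⟩ : QQ (R i))
  have hn' : c ^ 2 ^ n = 1 := congrArg Subtype.val hn
  have hd := Nat.dvd_gcd (dvd_refl (orderOf c)) (orderOf_dvd_of_pow_eq_one hn')
  have hco : Nat.gcd (orderOf c) (2 ^ n) = 1 := (Nat.coprime_two_right.2 ho).pow_right n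
  rw [hco, Nat.dvd_one, orderOf_eq_one_iff] at hd
  exact hd

/-- **(2)** `K i` is a 2-group, `= Q i` -/
theorem BTS.K_eq [Finite G] (i : ι) : KK V R i = QQ (R i) := by
  apply le_antisymm _ (b.Q_le_K i)
  refine le_O2_of_normal (KK_le_N i) ?_ fun g hg c hc => conj_mem_of_normalizer (b.N_le_NK i hg) hc
  refine isPGroup_of_odd fun c hc ho => ?_
  have h1 : c ∈ centralizer (WW V (R i) : Set G) := by
    rw [mem_centralizer_iff]
    intro w hw
    have h := hc.2 w hw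
    have h2 := b.KR i hc h
    rw [mul_inv_eq_iff_eq_mul] at h2
    exact (comm_of_odd ho ((b.W_isPGroup i).to_le ((b.R_le i).trans (V_le_WW V (R i)))) h h2).symm
  obtain ⟨n, hn⟩ := b.cen_W_isPGroup i ⟨c, h1⟩
  have hn' : c ^ 2 ^ n = 1 := congrArg Subtype.val hn
  have hd := Nat.dvd_gcd (dvd_refl (orderOf c)) (orderOf_dvd_of_pow_eq_one hn')
  have hco : Nat.gcd (orderOf c) (2 ^ n) = 1 := (Nat.coprime_two_right.2 ho).pow_right n
  rw [hco, Nat.dvd_one, orderOf_eq_one_iff] at hd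
  exact hd

theorem BTS.cen_W_le_Q [Finite G] (i : ι) : centralizer (WW V (R i) : Set G) ≤ QQ (R i) := by
  rw [← b.K_eq i]
  exact b.cen_W_le_K i

/-- `C_X` is a 2-group -/
theorem BTS.CenX_isPGroup [Finite G] : IsPGroup 2 (CenX V R) := by
  obtain ⟨i⟩ := b.nonempty
  exact (b.cen_W_isPGroup i).to_le (cen_X_le i)

/-- `C_X ≤ Q_1 ∩ Q_2` -/
theorem BTS.CenX_le_C [Finite G] : CenX V R ≤ CC R := le_iInf fun i => (cen_X_le i).trans (b.cen_W_le_Q i)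

/-! ### (3) -/

/-- `C(W i) ∩ Q j ≤ R i · C_X` -/
theorem BTS.cen_W_Q [Finite G] {i j : ι} (hij : i ≠ j) {c : G}
    (hc : c ∈ centralizer (WW V (R i) : Set G)) (hj : c ∈ QQ (R j)) : ∃ a ∈ R i, a * c ∈ CenX V R := by
  refine b.swap_exists hij hc fun x hx => b.CX hx ?_
  rw [b.C_eq hij]
  exact mem_inf.2 ⟨b.cen_W_le_Q i hc, hj⟩

/-- **(3)** `C_{Q_1 ∩ Q_2}(W i) ≤ R i · C_X` -/
theorem BTS.cen_CW [Finite G] {i : ι} {x : G} (hx : x ∈ CC R)
    (h : x ∈ centralizer (WW V (R i) : Set G)) : ∃ a ∈ R i, a * x ∈ CenX V R := by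
  obtain ⟨j, hj, -⟩ := b.third i i
  exact b.cen_W_Q (Ne.symm hj) h (mem_iInf.1 hx j)

/-- **(3)** `C_{Q_1 ∩ Q_2}(U i) ≤ V · C_X` -/
theorem BTS.cen_CU [Finite G] {i : ι} {x : G} (hx : x ∈ CC R) (hU : ∀ u ∈ UU V R i, x * u = u * x) :
    ∃ v ∈ V, v * x ∈ CenX V R := by
  obtain ⟨v, hv, hc⟩ := b.cen_U (mem_iInf.1 hx i) hU
  obtain ⟨a, ha, h1⟩ := b.cen_CW (mul_mem (inv_mem (b.V_le_C hv)) hx) hc
  refine ⟨a * v⁻¹, mul_mem (b.R_le i ha) (inv_mem hv), ?_⟩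
  rwa [mul_assoc]

/-- **(3)** squares of elements of `Q_1 ∩ Q_2` are in `C_X` -/
theorem BTS.C_sq [Finite G] {x : G} (hx : x ∈ CC R) : x * x ∈ CenX V R := by
  obtain ⟨i, j, hij⟩ := b.exists_pair
  have key : ∀ k, x * x ∈ centralizer (WW V (R k) : Set G) := by
    intro k
    rw [mem_centralizer_iff]
    intro w hw
    have hxk : x ∈ QQ (R k) := (mem_iInf.1 hx) k
    have h1 := b.WQ k hxk hw
    have h2 := b.conj_R hxk h1
    have e : x * x * w * (x * x)⁻¹ * w⁻¹ =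
        x * (x * w * x⁻¹ * w⁻¹) * x⁻¹ * (x * w * x⁻¹ * w⁻¹) := by group
    rw [h2, b.V_sq _ (b.R_le k h1), mul_inv_eq_one, mul_inv_eq_iff_eq_mul] at e
    exact e.symm
  exact b.mem_cen_X hij (key i) (key j)

/-- commutators of elements of `Q_1 ∩ Q_2` are in `C_X` -/
theorem BTS.C_comm [Finite G] {x y : G} (hx : x ∈ CC R) (hy : y ∈ CC R) :
    x * y * x⁻¹ * y⁻¹ ∈ CenX V R := by
  have hN := b.NV_le_NCenX (cen_le_NV V (b.C_le_cen hy))
  have h1 := b.C_sq (mul_mem hx hy)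
  have h2 := inv_mem (b.C_sq hx)
  have h3 := inv_mem (b.C_sq hy)
  have h4 := conj_inv_mem_of_normalizer hN h2
  have e : x * y * x⁻¹ * y⁻¹ = (x * y * (x * y)) * (y⁻¹ * (x * x)⁻¹ * y) * (y * y)⁻¹ := by group
  rw [e]
  exact mul_mem (mul_mem h1 h4) h3

/-- `[Q_1 ∩ Q_2, D] = 1` -/
theorem BTS.C_D [Finite G] {x d : G} (hx : x ∈ CC R) (hd : d ∈ DD V R) : x * d = d * x := by
  have h : x * d * x⁻¹ * d⁻¹ = 1 :=
    b.eq_one_of_forall fun i => b.WQ i (mem_iInf.1 hx i) (D_le_W V R i hd)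
  rwa [mul_inv_eq_one, mul_inv_eq_iff_eq_mul] at h

omit b in
/-- `Z i` is normalised by `N(R i)` -/
theorem N_le_NZ (i : ι) : normalizer (R i : Set G) ≤ normalizer (ZZ V R i : Set G) := by
  intro g hg
  have h := normalizer_le_WW V (R i) hg
  rw [← cj_eq_self_iff, ZZ, cj_inf, ← centralizer_cj, cj_eq_self_iff.2 h]

theorem BTS.cj_ZZ {g : G} {i j : ι} (h : cj g (R i) = R j) : cj g (ZZ V R i) = ZZ V R j := by
  rw [ZZ, cj_inf, ← centralizer_cj, b.cj_WW h]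
  rfl

end BTS

end Cfsg.Agent.Omega.BTwo

end

section


/-!
# II.0h1, split case: #11929 (4), (5): `C(W i) = Z(W i) C(X)` (`q ≥ 4`), `C(W i)` is abelian
-/

set_option autoImplicit false

namespace Cfsg.Agent.Omega.BTwo

open Subgroup
open scoped commutatorElement

variable {G : Type*} [Group G] {ι : Type*}

/-- **(4)**, abstract: as `RadAbs.cent_le`, without a hypothesis on `C_E(W)`. -/
theorem cent_split [Finite G] {p : ℕ} (hp : p.Prime) (hp2 : p ≠ 2) {W U V D E C : Subgroup G} {τ : G} {k : ℕ}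
    (hC : ∀ c, c ∈ C ↔ ∀ w ∈ W, c * w = w * c) (hC2 : IsPGroup 2 C)
    (hUW : U ≤ W) (hVD : V ≤ D) (hDW : D ≤ W) (hDE : D ≤ E)
    (hEV : ∀ e ∈ E, ∀ v ∈ V, e * v = v * e) (hEW : ∀ e ∈ E, ∀ w ∈ W, e * w * e⁻¹ ∈ W)
    (hτ : τ ^ p ^ k = 1) (hτW : ∀ w ∈ W, τ * w * τ⁻¹ ∈ W)
    (hτE : ∀ e ∈ E, τ * e * τ⁻¹ * e⁻¹ ∈ V) (hfpf : ∀ u ∈ U, τ * u * τ⁻¹ * u⁻¹ ∈ D → u ∈ D)
    (hy : ∀ c ∈ C, ∃ y ∈ U, c * y ∈ E) : ∀ c ∈ C, ∃ m ∈ C ⊓ W, c * m ∈ E := by
  have hτC : ∀ c ∈ C, τ * c * τ⁻¹ ∈ C := by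
    intro c hc
    rw [hC] at hc ⊢
    intro w hw
    have hmap : (W.map (MulAut.conj τ).toMonoidHom) = W := by
      refine eq_of_le_of_card_ge ?_
        (Nat.card_congr (W.equivMapOfInjective _ (MulAut.conj τ).injective).toEquiv.symm).ge
      rintro _ ⟨m, hm, rfl⟩
      exact hτW m hm
    rw [← hmap] at hw
    obtain ⟨w', hw', rfl⟩ := hw
    change τ * c * τ⁻¹ * (τ * w' * τ⁻¹) = τ * w' * τ⁻¹ * (τ * c * τ⁻¹)
    calc τ * c * τ⁻¹ * (τ * w' * τ⁻¹) = τ * (c * w') * τ⁻¹ := by group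
      _ = τ * (w' * c) * τ⁻¹ := by rw [hc w' hw']
      _ = _ := by group
  have hcomp : ∀ c ∈ C, ∀ y ∈ U, c * y ∈ E →
      ∃ v ∈ V, τ * c * τ⁻¹ * c⁻¹ = v * ((c * y) * (τ * y⁻¹ * τ⁻¹ * y⁻¹⁻¹) * (c * y)⁻¹) := by
    intro c hc y hy hE
    refine ⟨_, hτE _ hE, ?_⟩
    group
  have h1 : ∀ c ∈ C, τ * c * τ⁻¹ * c⁻¹ ∈ C ⊓ W := by
    intro c hc
    obtain ⟨y, hyU, hyE⟩ := hy c hc
    obtain ⟨v, hv, e⟩ := hcomp c hc y hyU hyE
    refine ⟨C.mul_mem (hτC c hc) (C.inv_mem hc), ?_⟩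
    rw [e]
    refine mul_mem (hDW (hVD hv)) (hEW _ hyE _ ?_)
    exact W.mul_mem (hτW _ (W.inv_mem (hUW hyU))) (W.inv_mem (W.inv_mem (hUW hyU)))
  intro c hc
  have h2 : c⁻¹ * τ * c * τ⁻¹ ∈ C ⊓ W := by
    have e2 : c⁻¹ * τ * c * τ⁻¹ = c⁻¹ * (τ * c * τ⁻¹ * c⁻¹) * c := by group
    rw [e2]
    have h4 := h1 c hc
    refine ⟨C.mul_mem (C.mul_mem (C.inv_mem hc) h4.1) hc, ?_⟩
    have h5 := (hC c).1 hc _ h4.2
    have e3 : c⁻¹ * (τ * c * τ⁻¹ * c⁻¹) * c = τ * c * τ⁻¹ * c⁻¹ := by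
      rw [mul_assoc, ← h5]; group
    rw [e3]; exact h4.2
  have hτM : ∀ m ∈ C ⊓ W, τ * m * τ⁻¹ ∈ C ⊓ W := fun m hm => ⟨hτC m hm.1, hτW m hm.2⟩
  have hy' : (c⁻¹ * τ * c) ^ p ^ k = 1 := by
    have e : c⁻¹ * τ * c = c⁻¹ * τ * c⁻¹⁻¹ := by rw [inv_inv]
    rw [e, conj_pow, hτ]; group
  obtain ⟨m, hm, hmτ⟩ := RadAbs.conj_of_same_coset hp hp2 (hC2.to_le inf_le_left) hτ hτM hy' h2
  have hcm : τ * (c * m) * τ⁻¹ * (c * m)⁻¹ = 1 := by
    have e1 : m * τ = c⁻¹ * τ * c * m := by rw [← hmτ]; group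
    have e2 : (c * m) * τ = τ * (c * m) := by
      calc (c * m) * τ = c * (m * τ) := by group
        _ = c * (c⁻¹ * τ * c * m) := by rw [e1]
        _ = _ := by group
    rw [← e2]; group
  have hcmC : c * m ∈ C := mul_mem hc hm.1
  obtain ⟨y, hyU, hyE⟩ := hy _ hcmC
  obtain ⟨v, hv, e⟩ := hcomp _ hcmC y hyU hyE
  rw [hcm] at e
  have h6 : τ * y⁻¹ * τ⁻¹ * y⁻¹⁻¹ ∈ D := by
    have h7 : τ * y⁻¹ * τ⁻¹ * y⁻¹⁻¹ = (c * m * y)⁻¹ * v⁻¹ * (c * m * y) := by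
      have h8 : (c * m * y) * (τ * y⁻¹ * τ⁻¹ * y⁻¹⁻¹) * (c * m * y)⁻¹ = v⁻¹ := by
        rw [eq_inv_iff_mul_eq_one]
        have := congrArg (fun w => v⁻¹ * w * v) e
        simp only [mul_one, inv_mul_cancel] at this
        rw [this]; group
      rw [← h8]; group
    have h9 := hEV _ hyE _ (inv_mem hv)
    rw [h7, mul_assoc, ← h9]
    have e4 : (c * m * y)⁻¹ * (c * m * y * v⁻¹) = v⁻¹ := by group
    rw [e4]
    exact hVD (inv_mem hv)
  have hyD : y ∈ D := by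
    have := hfpf y⁻¹ (inv_mem hyU) h6
    simpa using inv_mem this
  refine ⟨m, hm, ?_⟩
  have e5 : c * m = (c * m * y) * y⁻¹ := by group
  rw [e5]
  exact mul_mem hyE (inv_mem (hDE hyD))

variable {V : Subgroup G} {R : ι → Subgroup G}

section

variable (b : BTS V R)
include b

/-- **(4)**, `q ≥ 4`: `C(W i) = Z(W i) · C(X)` -/
theorem BTS.cen_W_split [Finite G] {p : ℕ} (hp : p.Prime) (hp2 : p ≠ 2) {i : ι} {τ : G} {k : ℕ}
    (hτX : τ ∈ XX V R) (hτR : τ ∈ normalizer (R i : Set G)) (hτ : τ ^ p ^ k = 1)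
    (hfpf : ∀ u ∈ UU V R i, τ * u * τ⁻¹ * u⁻¹ ∈ DD V R → u ∈ DD V R) :
    ∀ c ∈ centralizer (WW V (R i) : Set G), ∃ z ∈ ZZ V R i, ∃ x ∈ CenX V R, z * x = c := by
  intro c hc
  have key := cent_split (U := UU V R i) (V := V) (D := DD V R) (E := CC R)
    (C := centralizer (WW V (R i) : Set G)) (W := WW V (R i)) hp hp2 (fun c => by
      rw [mem_centralizer_iff]
      exact ⟨fun h w hw => (h w hw).symm, fun h w hw => (h w hw).symm⟩)
    (b.cen_W_isPGroup i) (UU_le_WW i) (V_le_D V R) (D_le_W V R i) b.D_le_C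
    (fun e he v hv => (mem_centralizer_iff.1 (b.C_le_cen he) v hv).symm)
    (fun e he w hw => conj_mem_of_normalizer (normalizer_le_WW V (R i) (b.Q_le i (mem_iInf.1 he i))) hw)
    hτ (fun w hw => conj_mem_of_normalizer (normalizer_le_WW V (R i) hτR) hw)
    (fun e he => b.CX hτX he) hfpf
    (fun c hc => b.exists_eps (b.cen_W_le_Q i hc) (cen_W_le V (R i) hc))
  obtain ⟨m, hm, hcm⟩ := key c hc
  obtain ⟨a, ha, hx⟩ := b.cen_CW hcm (mul_mem hc hm.1)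
  refine ⟨a⁻¹ * m⁻¹, mul_mem (inv_mem (b.R_le_Z i ha)) (inv_mem (mem_inf.2 ⟨hm.2, hm.1⟩)), _, hx, ?_⟩
  have h1 := mem_centralizer_iff.1 (cen_X_le i hx) _ (inv_mem hm.2)
  calc a⁻¹ * m⁻¹ * (a * (c * m)) = a⁻¹ * (m⁻¹ * (a * (c * m))) := by group
    _ = a⁻¹ * ((a * (c * m)) * m⁻¹) := by rw [h1]
    _ = c := by group

/-- the splitting `C(W i) = Z(W i) C(X)` -/
def Splits (V : Subgroup G) (R : ι → Subgroup G) (i : ι) : Prop :=
  ∀ c ∈ centralizer (WW V (R i) : Set G), ∃ z ∈ ZZ V R i, ∃ x ∈ CenX V R, z * x = c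

omit b in
theorem comm_eq {V : Subgroup G} {R : ι → Subgroup G} {i : ι} {z z' x x' : G} (hz : z ∈ ZZ V R i)
    (hz' : z' ∈ ZZ V R i) (hx : x ∈ centralizer (WW V (R i) : Set G))
    (hx' : x' ∈ centralizer (WW V (R i) : Set G)) :
    (z * x) * (z' * x') * (z * x)⁻¹ * (z' * x')⁻¹ = x * x' * x⁻¹ * x'⁻¹ := by
  have h1 : z * x = x * z := mem_centralizer_iff.1 hx z hz.1
  have h2 : z * x' = x' * z := mem_centralizer_iff.1 hx' z hz.1
  have h3 : z' * x = x * z' := mem_centralizer_iff.1 hx z' hz'.1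
  have h4 : z' * x' = x' * z' := mem_centralizer_iff.1 hx' z' hz'.1
  have h5 : z * z' = z' * z := mem_centralizer_iff.1 hz'.2 z hz.1
  have c1 : Commute z x := h1
  have c2 : Commute z x' := h2
  have c3 : Commute z' x := h3
  have c4 : Commute z' x' := h4
  have c5 : Commute z z' := h5
  have e1 : (z * x) * (z' * x') = (x * x') * (z * z') := by
    calc (z * x) * (z' * x') = (x * z) * (x' * z') := by rw [h1, h4]
      _ = x * (z * x') * z' := by group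
      _ = x * (x' * z) * z' := by rw [h2]
      _ = _ := by group
  have e2 : (z * x)⁻¹ * (z' * x')⁻¹ = (z * z')⁻¹ * (x⁻¹ * x'⁻¹) := by
    have e3 : (z' * x') * (z * x) = (x' * x) * (z * z') := by
      calc (z' * x') * (z * x) = (x' * z') * (x * z) := by rw [h1, h4]
        _ = x' * (z' * x) * z := by group
        _ = x' * (x * z') * z := by rw [h3]
        _ = x' * x * (z' * z) := by group
        _ = _ := by rw [h5]
    rw [← mul_inv_rev, e3]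
    group
  calc (z * x) * (z' * x') * (z * x)⁻¹ * (z' * x')⁻¹
      = ((z * x) * (z' * x')) * ((z * x)⁻¹ * (z' * x')⁻¹) := by group
    _ = ((x * x') * (z * z')) * ((z * z')⁻¹ * (x⁻¹ * x'⁻¹)) := by rw [e1, e2]
    _ = _ := by group

omit b in
/-- `C(W i)' = C_X'` -/
theorem commutator_cen_eq {i : ι} (hs : Splits V R i) :
    ⁅centralizer (WW V (R i) : Set G), centralizer (WW V (R i) : Set G)⁆ = ⁅CenX V R, CenX V R⁆ := by
  apply le_antisymm
  · rw [commutator_le]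
    intro c hc c' hc'
    obtain ⟨z, hz, x, hx, rfl⟩ := hs c hc
    obtain ⟨z', hz', x', hx', rfl⟩ := hs c' hc'
    rw [commutatorElement_def, comm_eq hz hz' (cen_X_le i hx) (cen_X_le i hx')]
    exact commutator_mem_commutator hx hx'
  · exact commutator_mono (cen_X_le i) (cen_X_le i)

omit b in
theorem normalizer_le_normalizer_commutator (H : Subgroup G) :
    normalizer (H : Set G) ≤ normalizer ((⁅H, H⁆ : Subgroup G) : Set G) := by
  intro g hg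
  rw [← cj_eq_self_iff] at hg ⊢
  rw [cj, map_commutator]
  change ⁅cj g H, cj g H⁆ = _
  rw [hg]

/-- **(5)** `C_X` is abelian -/
theorem BTS.CenX_comm [Finite G] {i : ι} (hs : Splits V R i) :
    ∀ x ∈ CenX V R, ∀ y ∈ CenX V R, x * y = y * x := by
  have h0 : (⁅CenX V R, CenX V R⁆ : Subgroup G) ≤ CenX V R := commutator_le_self _
  have h1 : (⁅CenX V R, CenX V R⁆ : Subgroup G) = ⊥ := by
    refine b.nonloc i _ (b.CenX_isPGroup.to_le h0)
      (h0.trans (b.CenX_le_cen.trans (cen_le_NV V)))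
      (h0.trans (b.CenX_le_cen.trans (b.cen_le_N i)))
      (b.NV_le_NCenX.trans (normalizer_le_normalizer_commutator _)) ?_
    rw [← commutator_cen_eq hs]
    exact ((normalizer_le_WW V (R i)).trans (normalizer_le_normalizer_centralizer _)).trans
      (normalizer_le_normalizer_commutator _)
  intro x hx y hy
  have h2 : ⁅x, y⁆ ∈ (⁅CenX V R, CenX V R⁆ : Subgroup G) := commutator_mem_commutator hx hy
  rw [h1, mem_bot, commutatorElement_eq_one_iff_mul_comm] at h2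
  exact h2

/-- **(5)** `C(W i)` is abelian -/
theorem BTS.cen_W_comm [Finite G] {i : ι} (hs : Splits V R i) :
    ∀ c ∈ centralizer (WW V (R i) : Set G), ∀ c' ∈ centralizer (WW V (R i) : Set G), c * c' = c' * c := by
  intro c hc c' hc'
  obtain ⟨z, hz, x, hx, rfl⟩ := hs c hc
  obtain ⟨z', hz', x', hx', rfl⟩ := hs c' hc'
  have h := comm_eq hz hz' (cen_X_le i hx) (cen_X_le i hx')
  have h2 : x * x' * x⁻¹ * x'⁻¹ = 1 := by rw [b.CenX_comm hs x hx x' hx']; group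
  rw [h2, mul_inv_eq_one, mul_inv_eq_iff_eq_mul] at h
  exact h

/-! ### (6), the group level -/

/-- `[Z i, U j] ≤ D ∩ C(W i)`, which is `R i · C_D(X)` by (1) -/
theorem BTS.Z_U {i j : ι} (hij : i ≠ j) {z u : G} (hz : z ∈ ZZ V R i) (hu : u ∈ UU V R j) :
    z * u * z⁻¹ * u⁻¹ ∈ DD V R ∧ ∃ a ∈ R i, a * (z * u * z⁻¹ * u⁻¹) ∈ DD V R ⊓ CenX V R := by
  have h := b.cen_W_U hij hz.2 hu
  exact ⟨h.1, b.cen_DW h.1 h.2⟩

/-- `[Z i, Z j] ≤ C_D(X)` -/
theorem BTS.Z_Z {i j : ι} (hij : i ≠ j) {z z' : G} (hz : z ∈ ZZ V R i) (hz' : z' ∈ ZZ V R j) :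
    z * z' * z⁻¹ * z'⁻¹ ∈ DD V R ⊓ CenX V R := by
  have hzV := cen_W_le V (R i) hz.2
  have hzV' := cen_W_le V (R j) hz'.2
  rw [← b.ZZ_inf hij]
  refine mem_inf.2 ⟨?_, ?_⟩
  · have e : z * z' * z⁻¹ * z'⁻¹ = z * (z' * z⁻¹ * z'⁻¹) := by group
    rw [e]
    exact mul_mem hz (conj_mem_of_normalizer (N_le_NZ i (b.cen_le_N i hzV')) (inv_mem hz))
  · exact mul_mem (conj_mem_of_normalizer (N_le_NZ j (b.cen_le_N j hzV)) hz') (inv_mem hz')

/-- `[Q i, Z i] ≤ R i` -/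
theorem BTS.Q_Z {i : ι} {g z : G} (hg : g ∈ QQ (R i)) (hz : z ∈ ZZ V R i) : g * z * g⁻¹ * z⁻¹ ∈ R i :=
  b.WQ i hg hz.1

/-- `Z i ≤ U i` -/
theorem BTS.Z_le_U (i : ι) : ZZ V R i ≤ UU V R i := by
  have _ := b
  exact le_inf inf_le_left (inf_le_right.trans (cen_W_le V (R i)))

/-- `Z i ∩ D = R i · C_D(X)` -/
theorem BTS.Z_inf_D {i : ι} {z : G} (hz : z ∈ ZZ V R i) (hd : z ∈ DD V R) :
    ∃ a ∈ R i, a * z ∈ DD V R ⊓ CenX V R := b.cen_DW hd hz.2

/-- `Z i ∩ C_X = C_D(X)` -/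
theorem BTS.Z_inf_CenX {i : ι} : ZZ V R i ⊓ CenX V R = DD V R ⊓ CenX V R := by
  apply le_antisymm
  · rintro z ⟨⟨h1, -⟩, h3⟩
    refine ⟨?_, h3⟩
    -- `z ∈ W i` centralises `X`, so it lies in every `W j`
    refine mem_DD.2 fun j => ?_
    obtain ⟨x, hx, e⟩ := b.trans_X_one i j
    rw [← b.cj_WW e]
    have := conj_mem_cj (g := x) h1
    rwa [mem_centralizer_iff.1 h3 x hx, mul_inv_cancel_right] at this
  · rintro z ⟨h1, h2⟩
    exact ⟨⟨D_le_W V R i h1, cen_X_le i h2⟩, h2⟩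

/-- every `g ∈ Q i` is `w · x` with `w ∈ W i`, `x ∈ Q_1 ∩ Q_2`: `Q i = W i (Q_1 ∩ Q_2)` -/
theorem BTS.Q_fact_W [Finite G] {i : ι} {g : G} (hg : g ∈ QQ (R i)) :
    ∃ x ∈ CC R, ∃ w ∈ WW V (R i), x * w = g := by
  obtain ⟨w, hw, h⟩ := b.exists_eps_W hg
  exact ⟨_, h, w⁻¹, inv_mem hw, by group⟩

end

end Cfsg.Agent.Omega.BTwo

end

section


/-!
# II.0h1, `q = 2`: LEMMA E / PI / H (#13064, #13303 (0), #13317)

`R i = {1, r}`, `S` a Sylow 2-subgroup of `G` with `S ≤ N(V)`, `S ≤ K ≤ N(R i)`.  If `Λ ≤ R i × C_X` is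
normalised by `K` and not contained in `R i`, then `V` commutes with all its conjugates under `K`.
-/

set_option autoImplicit false

namespace Cfsg.Agent.Omega.HTwo.Par

open Subgroup Cfsg.Agent.Omega.BTwo

/-! ### parity -/

/-- A vertex-transitive bipartite graph with an edge has an even number of vertices. -/
theorem even_card {Ω : Type*} [Finite Ω] {adj : Ω → Ω → Prop} (symm : ∀ x y, adj x y → adj y x)
    (tr : ∀ x y, ∃ σ : Equiv.Perm Ω, (∀ u v, adj u v ↔ adj (σ u) (σ v)) ∧ σ x = y)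
    {A : Set Ω} (hA : ∀ x ∈ A, ∀ y ∈ A, ¬ adj x y) (hB : ∀ x ∉ A, ∀ y ∉ A, ¬ adj x y)
    {x y : Ω} (h : adj x y) : Even (Nat.card Ω) := by
  classical
  have := Fintype.ofFinite Ω
  set d := (Finset.univ.filter fun v => adj x v).card with hd
  have hd0 : 0 < d := Finset.card_pos.2 ⟨y, by simp [h]⟩
  have hreg : ∀ u, (Finset.univ.filter fun v => adj u v).card = d := by
    intro u
    obtain ⟨σ, hσ, e⟩ := tr x u
    rw [hd]
    symm
    refine Finset.card_bij (fun v _ => σ v) ?_ (fun a _ b _ hab => σ.injective hab) ?_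
    · intro v hv
      simp only [Finset.mem_filter, Finset.mem_univ, true_and] at hv ⊢
      rw [← e]
      exact (hσ x v).1 hv
    · intro v hv
      simp only [Finset.mem_filter, Finset.mem_univ, true_and] at hv
      refine ⟨σ.symm v, ?_, σ.apply_symm_apply v⟩
      simp only [Finset.mem_filter, Finset.mem_univ, true_and]
      rw [hσ, e, σ.apply_symm_apply]
      exact hv
  set s := Finset.univ.filter fun v => v ∈ A with hs
  set t := Finset.univ.filter fun v => v ∉ A with ht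
  have key := Finset.sum_card_bipartiteAbove_eq_sum_card_bipartiteBelow (s := s) (t := t) adj
  have h1 : ∀ a ∈ s, (t.bipartiteAbove adj a).card = d := by
    intro a ha
    rw [← hreg a]
    congr 1
    ext v
    simp only [Finset.mem_bipartiteAbove, ht, Finset.mem_filter, Finset.mem_univ, true_and]
    refine ⟨fun h => h.2, fun h => ⟨fun hv => ?_, h⟩⟩
    rw [hs, Finset.mem_filter] at ha
    exact hA a ha.2 v hv h
  have h2 : ∀ b ∈ t, (s.bipartiteBelow adj b).card = d := by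
    intro b hb
    rw [← hreg b]
    congr 1
    ext v
    simp only [Finset.mem_bipartiteBelow, hs, Finset.mem_filter, Finset.mem_univ, true_and]
    refine ⟨fun h => symm _ _ h.2, fun h => ⟨?_, symm _ _ h⟩⟩
    by_contra hv
    rw [ht, Finset.mem_filter] at hb
    exact hB b hb.2 v hv h
  rw [Finset.sum_congr rfl h1, Finset.sum_congr rfl h2, Finset.sum_const, Finset.sum_const,
    smul_eq_mul, smul_eq_mul] at key
  have h3 : s.card = t.card := Nat.eq_of_mul_eq_mul_right hd0 key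
  have h4 : s.card + t.card = Fintype.card Ω := by
    rw [hs, ht, Finset.card_filter_add_card_filter_not]
    rfl
  rw [Nat.card_eq_fintype_card, ← h4, h3]
  exact ⟨_, rfl⟩

variable {G : Type*} [Group G]

/-- the orbit version: `S ≤ K`, `S ≤ N(V)`, `S` Sylow; a bipartition of the conjugates of `V` under `K` -/
theorem commute_of_bipartite [Finite G] {V K : Subgroup G} (S : Sylow 2 G) (hSK : (S : Subgroup G) ≤ K)
    (hSV : (S : Subgroup G) ≤ normalizer (V : Set G)) (P : Subgroup G → Prop)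
    (h1 : ∀ k ∈ K, ∀ l ∈ K, P (cj k V) → P (cj l V) → ∀ a ∈ cj k V, ∀ c ∈ cj l V, a * c = c * a)
    (h2 : ∀ k ∈ K, ∀ l ∈ K, ¬ P (cj k V) → ¬ P (cj l V) → ∀ a ∈ cj k V, ∀ c ∈ cj l V, a * c = c * a) :
    ∀ k ∈ K, ∀ a ∈ V, ∀ c ∈ cj k V, a * c = c * a := by
  by_contra hcon
  push Not at hcon
  obtain ⟨k0, hk0, a0, ha0, c0, hc0, hne⟩ := hcon
  set N := (normalizer (V : Set G)).subgroupOf K with hN
  -- the conjugate attached to a coset
  let ψ : K ⧸ N → Subgroup G := Quotient.lift (fun k : K => cj (k : G) V) (by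
    intro k l hkl
    have h3 : k⁻¹ * l ∈ N := QuotientGroup.leftRel_apply.1 hkl
    have h4 : (k : G)⁻¹ * (l : G) ∈ normalizer (V : Set G) := by
      simpa using mem_subgroupOf.1 h3
    have h5 := congrArg (cj (k : G)) (cj_eq_self_iff.2 h4)
    rw [cj_mul, cj_cj_inv] at h5
    exact h5.symm)
  have hψ : ∀ k : K, ψ (QuotientGroup.mk k) = cj (k : G) V := fun _ => rfl
  have hsm : ∀ (k : K) (x : K ⧸ N), ψ (k • x) = cj (k : G) (ψ x) := by
    intro k x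
    induction x using QuotientGroup.induction_on with
    | H l =>
      change ψ (QuotientGroup.mk (k * l)) = cj (k : G) (ψ (QuotientGroup.mk l))
      rw [hψ, hψ, coe_mul, cj_mul]
  let adj : K ⧸ N → K ⧸ N → Prop := fun x y => ∃ a ∈ ψ x, ∃ c ∈ ψ y, a * c ≠ c * a
  have hinv : ∀ (k : K) (x y : K ⧸ N), adj x y → adj (k • x) (k • y) := by
    rintro k x y ⟨a, ha, c, hc, hac⟩
    refine ⟨k * a * (k : G)⁻¹, ?_, k * c * (k : G)⁻¹, ?_, fun h => hac ?_⟩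
    · rw [hsm]; exact conj_mem_cj ha
    · rw [hsm]; exact conj_mem_cj hc
    · have e1 : (k : G) * a * (k : G)⁻¹ * (k * c * (k : G)⁻¹) = k * (a * c) * (k : G)⁻¹ := by group
      have e2 : (k : G) * c * (k : G)⁻¹ * (k * a * (k : G)⁻¹) = k * (c * a) * (k : G)⁻¹ := by group
      rw [e1, e2] at h
      exact mul_left_cancel (mul_right_cancel h)
  have heven : Even (Nat.card (K ⧸ N)) := by
    refine even_card (adj := adj) ?_ ?_ (A := {x | P (ψ x)}) ?_ ?_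
      (x := QuotientGroup.mk 1) (y := QuotientGroup.mk ⟨k0, hk0⟩) ?_
    · rintro x y ⟨a, ha, c, hc, hac⟩
      exact ⟨c, hc, a, ha, hac.symm⟩
    · intro x y
      obtain ⟨k, hk⟩ := MulAction.exists_smul_eq K x y
      refine ⟨MulAction.toPerm k, fun u v => ⟨hinv k u v, fun h => ?_⟩, hk⟩
      have := hinv k⁻¹ _ _ h
      simpa using this
    · intro x hx y hy
      induction x using QuotientGroup.induction_on with
      | H k =>
        induction y using QuotientGroup.induction_on with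
        | H l =>
          rintro ⟨a, ha, c, hc, hac⟩
          exact hac (h1 k k.2 l l.2 hx hy a ha c hc)
    · intro x hx y hy
      induction x using QuotientGroup.induction_on with
      | H k =>
        induction y using QuotientGroup.induction_on with
        | H l =>
          rintro ⟨a, ha, c, hc, hac⟩
          exact hac (h2 k k.2 l l.2 hx hy a ha c hc)
    · refine ⟨a0, ?_, c0, ?_, hne⟩
      · rw [hψ, coe_one, cj_one]; exact ha0
      · rw [hψ]; exact hc0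
  have hodd : ¬ 2 ∣ Nat.card (K ⧸ N) := by
    intro h
    have h3 : (normalizer (V : Set G)).relIndex K ∣ (S : Subgroup G).relIndex K :=
      relIndex_dvd_of_le_left K hSV
    have h4 : (S : Subgroup G).relIndex K ∣ (S : Subgroup G).index := relIndex_dvd_index_of_le hSK
    exact S.not_dvd_index (h.trans (h3.trans h4))
  exact hodd heven.two_dvd

/-! ### the Sylow group and involutions -/

/-- `O₂(M) ≤ S` for `S ≤ M` -/
theorem O2_le_sylow (S : Sylow 2 G) {M : Subgroup G} (h : (S : Subgroup G) ≤ M) : O2 M ≤ (S : Subgroup G) := by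
  have h1 : IsPGroup 2 (↥(O2 M ⊔ (S : Subgroup G))) :=
    IsPGroup.to_sup_of_normal_left' (O2_isPGroup M) S.isPGroup' (h.trans (le_normalizer_O2 M))
  have h2 := S.is_maximal' h1 le_sup_right
  rw [← h2]
  exact le_sup_left

/-- an involution of a nontrivial 2-group `E` normalised by `S`, central in `S` -/
theorem exists_inv [Finite G] (S : Sylow 2 G) {E : Subgroup G} (hE : IsPGroup 2 E) (hE1 : E ≠ ⊥)
    (hSE : (S : Subgroup G) ≤ normalizer (E : Set G)) :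
    ∃ e ∈ E, e ≠ 1 ∧ e * e = 1 ∧ ∀ s ∈ (S : Subgroup G), e * s = s * e := by
  have h1 : IsPGroup 2 (↥(E ⊔ (S : Subgroup G))) :=
    IsPGroup.to_sup_of_normal_left' hE S.isPGroup' hSE
  have hES : E ≤ (S : Subgroup G) := by
    have h2 := S.is_maximal' h1 le_sup_right
    rw [← h2]
    exact le_sup_left
  -- `E` is normal in `S`
  have hn : (E.subgroupOf (S : Subgroup G)).Normal := by
    refine ⟨?_⟩
    rintro ⟨x, hxS⟩ hx ⟨g, hg⟩
    exact mem_subgroupOf.2 (conj_mem_of_normalizer (hSE hg) (mem_subgroupOf.1 hx))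
  have hne : E.subgroupOf (S : Subgroup G) ≠ ⊥ := by
    intro h
    rw [subgroupOf_eq_bot, disjoint_iff, inf_eq_left.2 hES] at h
    exact hE1 h
  have : Fact (Nat.Prime 2) := ⟨Nat.prime_two⟩
  have : Group.IsNilpotent (S : Subgroup G) := S.isPGroup'.isNilpotent
  have h1 := Lib.NormalAbelian.normal_inf_center_ne_bot (E.subgroupOf (S : Subgroup G)) hne
  obtain ⟨x, hx1⟩ := (Subgroup.ne_bot_iff_exists_ne_one).mp h1
  have hx := x.2
  obtain ⟨k, hk⟩ := S.isPGroup' (x : (S : Subgroup G))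
  have hx1' : (x : (S : Subgroup G)) ≠ 1 := fun e => hx1 (Subtype.ext e)
  have hex : ∃ n : ℕ, (x : (S : Subgroup G)) ^ 2 ^ n = 1 := ⟨k, hk⟩
  classical
  set n := Nat.find hex with hn'
  have hn1 : (x : (S : Subgroup G)) ^ 2 ^ n = 1 := Nat.find_spec hex
  have hn0 : n ≠ 0 := by
    intro e
    rw [e] at hn1
    apply hx1'
    simpa using hn1
  obtain ⟨m, hm⟩ := Nat.exists_eq_succ_of_ne_zero hn0
  set y := (x : (S : Subgroup G)) ^ 2 ^ m with hy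
  have hy1 : y ≠ 1 := Nat.find_min hex (by omega)
  have hy2 : y * y = 1 := by
    rw [hy, ← pow_two, ← pow_mul, ← pow_succ]
    rw [hm] at hn1
    exact hn1
  have hyU : y ∈ E.subgroupOf (S : Subgroup G) := pow_mem hx.1 _
  have hyc : y ∈ center (S : Subgroup G) := pow_mem hx.2 _
  refine ⟨y, mem_subgroupOf.1 hyU, fun h => hy1 (Subtype.ext h), congrArg Subtype.val hy2, ?_⟩
  intro s hs
  have := mem_center_iff.mp hyc ⟨s, hs⟩
  exact (congrArg Subtype.val this).symm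

/-- `C_M(O₂(M)) ≤ O₂(M)` for `M = C(e)`, `e` a central involution of `S` -/
def Char2 (S : Subgroup G) : Prop :=
  ∀ e : G, e ≠ 1 → e * e = 1 → (∀ s ∈ S, e * s = s * e) →
    centralizer ({e} : Set G) ⊓ centralizer (O2 (centralizer ({e} : Set G)) : Set G) ≤
      O2 (centralizer ({e} : Set G))

/-! ### the lemma -/

variable {ι : Type*} {V : Subgroup G} {R : ι → Subgroup G}

/-- `R i × C_X` -/
def RC (b : BT V R) (i : ι) : Subgroup G where
  carrier := {l | ∃ a ∈ R i, a * l ∈ CenX V R}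
  one_mem' := ⟨1, one_mem _, by rw [mul_one]; exact one_mem _⟩
  mul_mem' := by
    rintro l l' ⟨a, ha, h⟩ ⟨a', ha', h'⟩
    refine ⟨a * a', mul_mem ha ha', ?_⟩
    have h1 := mem_centralizer_iff.1 (b.CenX_le_cen h) a' (b.R_le i ha')
    have h2 := b.V_comm a (b.R_le i ha) a' (b.R_le i ha')
    have e : a * a' * (l * l') = (a * l) * (a' * l') := by
      calc a * a' * (l * l') = (a * a') * a⁻¹ * (a * l) * l' := by group
        _ = a' * (a * l) * l' := by rw [h2]; group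
        _ = _ := by rw [h1]; group
    rw [e]
    exact mul_mem h h'
  inv_mem' := by
    rintro l ⟨a, ha, h⟩
    refine ⟨a⁻¹, inv_mem ha, ?_⟩
    have h1 := mem_centralizer_iff.1 (b.CenX_le_cen h) a (b.R_le i ha)
    have e : a⁻¹ * l⁻¹ = (a * l)⁻¹ := by
      rw [eq_inv_iff_mul_eq_one]
      calc a⁻¹ * l⁻¹ * (a * l) = a⁻¹ * (a * l)⁻¹ * (a * (a * l)) := by group
        _ = a⁻¹ * (a * l)⁻¹ * ((a * l) * a) := by rw [h1]
        _ = 1 := by group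
    rw [e]
    exact inv_mem h

/-- if a central involution `e` of `S` centralises `X^k`, then `V^k ≤ Z(O₂(C(e)))` -/
theorem cj_le [Finite G] (b : BT V R) {i : ι} {r : G} (hr : ∀ x ∈ R i, x = 1 ∨ x = r)
    (S : Sylow 2 G) (hrS : ∀ s ∈ (S : Subgroup G), r * s = s * r) (hc : Char2 (S : Subgroup G))
    {e : G} (he1 : e ≠ 1) (hee : e * e = 1) (heS : ∀ s ∈ (S : Subgroup G), e * s = s * e)
    (her : e * r = r * e) {k : G} (hk : k * r = r * k)
    (h : e ∈ centralizer (cj k (XX V R) : Set G)) :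
    cj k V ≤ O2 (centralizer ({e} : Set G)) ⊓ centralizer (O2 (centralizer ({e} : Set G)) : Set G) := by
  set M := centralizer ({e} : Set G) with hM
  have hSM : (S : Subgroup G) ≤ M := fun s hs => by
    rw [hM, mem_centralizer_singleton_iff]
    exact (heS s hs).symm
  have hrM : r ∈ M := by
    rw [hM, mem_centralizer_singleton_iff]
    exact her.symm
  have hOS := O2_le_sylow S hSM
  have hrO : r ∈ centralizer (O2 M : Set G) := by
    rw [mem_centralizer_iff]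
    exact fun s hs => (hrS s (hOS hs)).symm
  have hrO2 : r ∈ O2 M := hc e he1 hee heS ⟨hrM, hrO⟩
  have hN : M ≤ normalizer ((O2 M ⊓ centralizer (O2 M : Set G) : Subgroup G) : Set G) := by
    intro g hg
    have h1 := le_normalizer_O2 M hg
    have h2 := normalizer_le_normalizer_centralizer _ h1
    rw [← cj_eq_self_iff, cj_inf, cj_eq_self_iff.2 h1, cj_eq_self_iff.2 h2]
  rintro _ ⟨v, hv, rfl⟩
  change k * v * k⁻¹ ∈ _
  obtain ⟨j, hj⟩ := b.R_cov v hv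
  obtain ⟨x, hx, e1⟩ := b.trans_X_one i j
  rw [← e1, mem_cj] at hj
  rcases hr _ hj with h0 | h0
  · have h1 : v = 1 := by
      have := congrArg (fun y => x * y * x⁻¹) h0
      simp only [mul_one, mul_inv_cancel] at this
      rw [← this]; group
    rw [h1, mul_one, mul_inv_cancel]
    exact one_mem _
  · have h1 : v = x * r * x⁻¹ := by rw [← h0]; group
    have h2 : k * x * k⁻¹ ∈ M := by
      rw [hM, mem_centralizer_singleton_iff]
      exact mem_centralizer_iff.1 h _ (conj_mem_cj hx)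
    have h3 : k * v * k⁻¹ = (k * x * k⁻¹) * r * (k * x * k⁻¹)⁻¹ := by
      have h4 : k⁻¹ * r * k = r := by rw [mul_assoc, ← hk]; group
      calc k * v * k⁻¹ = (k * x * k⁻¹) * (k * r * k⁻¹) * (k * x * k⁻¹)⁻¹ := by rw [h1]; group
        _ = (k * x * k⁻¹) * r * (k * x * k⁻¹)⁻¹ := by rw [hk]; group
    rw [h3]
    exact conj_mem_of_normalizer (hN h2) ⟨hrO2, hrO⟩

/-- **LEMMA (PAR)** -/
theorem par [Finite G] (b : BTS V R) {i : ι} {r : G} (hr : ∀ x ∈ R i, x = 1 ∨ x = r) (hri : r ∈ R i)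
    (S : Sylow 2 G) (hSV : (S : Subgroup G) ≤ normalizer (V : Set G)) (hc : Char2 (S : Subgroup G))
    {K : Subgroup G} (hK : K ≤ normalizer (R i : Set G)) (hSK : (S : Subgroup G) ≤ K)
    {Λ : Subgroup G} (hΛ : ∀ l ∈ Λ, ∃ a ∈ R i, a * l ∈ CenX V R) (hKΛ : K ≤ normalizer (Λ : Set G))
    (hΛR : ¬ Λ ≤ R i) : ∀ k ∈ K, ∀ v ∈ V, ∀ w ∈ cj k V, v * w = w * v := by
  have hr1 : r ≠ 1 := by
    rintro rfl
    refine b.R_ne i ((eq_bot_iff_forall _).2 fun x hx => ?_)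
    rcases hr x hx with h | h <;> exact h
  have hrr : r * r = 1 := b.V_sq r (b.R_le i hri)
  -- elements of `K` commute with `r`
  have hKr : ∀ k ∈ K, k * r = r * k := by
    intro k hk
    have h1 := conj_mem_of_normalizer (hK hk) hri
    rcases hr _ h1 with h | h
    · exfalso
      apply hr1
      have := congrArg (fun y => k⁻¹ * y * k) h
      simp only [mul_one, inv_mul_cancel] at this
      rw [← this]; group
    · rw [mul_inv_eq_iff_eq_mul] at h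
      exact h
  -- `E = R i Λ`
  set E := R i ⊔ Λ with hE
  have hKE : K ≤ normalizer (E : Set G) := by
    intro k hk
    rw [← cj_eq_self_iff, hE, cj_sup, cj_eq_self_iff.2 (hK hk), cj_eq_self_iff.2 (hKΛ hk)]
  have hEm : ∀ l ∈ E, ∃ a ∈ R i, a * l ∈ CenX V R := by
    intro l hl
    have h1 : E ≤ RC b.toBT i := by
      refine sup_le (fun a ha => ⟨a⁻¹, inv_mem ha, ?_⟩) hΛ
      rw [inv_mul_cancel]
      exact one_mem _
    exact h1 hl
  have hE0 : E ⊓ CenX V R ≠ ⊥ := by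
    intro h
    apply hΛR
    intro x hx
    obtain ⟨a, ha, hm⟩ := hΛ x hx
    have h1 : a * x ∈ E ⊓ CenX V R :=
      ⟨mul_mem ((le_sup_left : R i ≤ E) ha) ((le_sup_right : Λ ≤ E) hx), hm⟩
    rw [h, mem_bot, mul_eq_one_iff_eq_inv] at h1
    have h2 : x = a⁻¹ := by rw [h1, inv_inv]
    rw [h2]; exact inv_mem ha
  have hSE : (S : Subgroup G) ≤ normalizer ((E ⊓ CenX V R : Subgroup G) : Set G) := by
    intro s hs
    have h1 := b.NV_le_NCenX (hSV hs)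
    rw [← cj_eq_self_iff, cj_inf, cj_eq_self_iff.2 (hKE (hSK hs)), cj_eq_self_iff.2 h1]
  obtain ⟨e, he, he1, hee, heS⟩ := exists_inv S (b.CenX_isPGroup.to_le inf_le_right) hE0 hSE
  have her : e * r = r * e := by
    have := mem_centralizer_iff.1 (b.CenX_le_cen he.2) r (b.R_le i hri)
    exact this.symm
  have hrS : ∀ s ∈ (S : Subgroup G), r * s = s * r := fun s hs => (hKr s (hSK hs)).symm
  have hre1 : r * e ≠ 1 := by
    intro h
    rw [mul_eq_one_iff_inv_eq] at h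
    have h2 : e ∈ V := by rw [← h]; exact inv_mem (b.R_le i hri)
    exact he1 (b.cen_VX h2 he.2)
  have hree : r * e * (r * e) = 1 := by
    calc r * e * (r * e) = r * (e * r) * e := by group
      _ = (r * r) * (e * e) := by rw [her]; group
      _ = 1 := by rw [hrr, hee, one_mul]
  have hreS : ∀ s ∈ (S : Subgroup G), r * e * s = s * (r * e) := by
    intro s hs
    rw [mul_assoc, heS s hs, ← mul_assoc, hrS s hs, mul_assoc]
  have hrer : r * e * r = r * (r * e) := by rw [mul_assoc, her]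
  have ab : ∀ f : G, ∀ a ∈ O2 (centralizer ({f} : Set G)) ⊓
      centralizer (O2 (centralizer ({f} : Set G)) : Set G),
      ∀ c ∈ O2 (centralizer ({f} : Set G)) ⊓ centralizer (O2 (centralizer ({f} : Set G)) : Set G),
      a * c = c * a := fun f a ha c hc => mem_centralizer_iff.1 hc.2 a ha.1
  refine commute_of_bipartite S hSK hSV
    (fun L => ∀ k ∈ K, cj k V = L → e ∈ centralizer (cj k (XX V R) : Set G)) ?_ ?_
  · intro k hk l hl h1 h2 a ha c hc'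
    exact ab e a (cj_le b.toBT hr S hrS hc he1 hee heS her (hKr k hk) (h1 k hk rfl) ha) c
      (cj_le b.toBT hr S hrS hc he1 hee heS her (hKr l hl) (h2 l hl rfl) hc')
  · have key : ∀ k ∈ K, ¬ (∀ k' ∈ K, cj k' V = cj k V → e ∈ centralizer (cj k' (XX V R) : Set G)) →
        ∃ k' ∈ K, cj k' V = cj k V ∧ r * e ∈ centralizer (cj k' (XX V R) : Set G) := by
      intro k hk h
      push Not at h
      obtain ⟨k', hk', e1, hne⟩ := h
      refine ⟨k', hk', e1, ?_⟩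
      have h1 : k'⁻¹ * e * k' ∈ E := conj_inv_mem_of_normalizer (hKE hk') he.1
      obtain ⟨a, ha, h2⟩ := hEm _ h1
      rw [centralizer_cj, mem_cj] at hne ⊢
      rcases hr a ha with rfl | rfl
      · rw [one_mul] at h2
        exact absurd h2 hne
      · have h3 : k'⁻¹ * (a * e) * k' = a * (k'⁻¹ * e * k') := by
          have h4 : k'⁻¹ * a = a * k'⁻¹ := by
            rw [inv_mul_eq_iff_eq_mul, ← mul_assoc, hKr k' hk', mul_inv_cancel_right]
          calc k'⁻¹ * (a * e) * k' = (k'⁻¹ * a) * e * k' := by group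
            _ = _ := by rw [h4]; group
        rw [h3]; exact h2
    intro k hk l hl h1 h2 a ha c hc'
    obtain ⟨k', hk', e1, h3⟩ := key k hk h1
    obtain ⟨l', hl', e2, h4⟩ := key l hl h2
    rw [← e1] at ha
    rw [← e2] at hc'
    exact ab (r * e) a (cj_le b.toBT hr S hrS hc hre1 hree hreS hrer (hKr k' hk') h3 ha) c
      (cj_le b.toBT hr S hrS hc hre1 hree hreS hrer (hKr l' hl') h4 hc')

/-- **LEMMA E**: if the conjugates of `V` under `N(R i)` do not all commute, the largest normal subgroup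
of `N(R i)` contained in `R i × C_X` is `R i`. -/
theorem lemE [Finite G] (b : BTS V R) {i : ι} {r : G} (hr : ∀ x ∈ R i, x = 1 ∨ x = r) (hri : r ∈ R i)
    (S : Sylow 2 G) (hSV : (S : Subgroup G) ≤ normalizer (V : Set G))
    (hSR : (S : Subgroup G) ≤ normalizer (R i : Set G)) (hc : Char2 (S : Subgroup G))
    (hnc : ∃ k ∈ normalizer (R i : Set G), ∃ v ∈ V, ∃ w ∈ cj k V, v * w ≠ w * v)
    {Λ : Subgroup G} (hΛ : ∀ l ∈ Λ, ∃ a ∈ R i, a * l ∈ CenX V R)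
    (hN : normalizer (R i : Set G) ≤ normalizer (Λ : Set G)) : Λ ≤ R i := by
  by_contra h
  obtain ⟨k, hk, v, hv, w, hw, hne⟩ := hnc
  exact hne (par b hr hri S hSV hc le_rfl hSR hΛ hN h k hk v hv w hw)

/-- `W i` is abelian iff the conjugates of `V` commute -/
theorem noncomm_of_W (b : BT V R) {i : ι} (h : ∃ w ∈ WW V (R i), ∃ w' ∈ WW V (R i), w * w' ≠ w' * w) :
    ∃ k ∈ normalizer (R i : Set G), ∃ v ∈ V, ∃ w ∈ cj k V, v * w ≠ w * v := by
  by_contra hcon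
  push Not at hcon
  obtain ⟨w, hw, w', hw', hne⟩ := h
  apply hne
  have _ := b
  have key : ∀ k ∈ normalizer (R i : Set G), ∀ l ∈ normalizer (R i : Set G),
      ∀ a ∈ cj k V, ∀ c ∈ cj l V, a * c = c * a := by
    intro k hk l hl a ha c hc
    rw [mem_cj] at ha
    have h1 : k⁻¹ * c * k ∈ cj (k⁻¹ * l) V := by
      rw [mem_cj] at hc ⊢
      have e : (k⁻¹ * l)⁻¹ * (k⁻¹ * c * k) * (k⁻¹ * l) = l⁻¹ * c * l := by group
      rw [e]; exact hc
    have h2 := hcon _ (mul_mem (inv_mem hk) hl) _ ha _ h1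
    calc a * c = k * ((k⁻¹ * a * k) * (k⁻¹ * c * k)) * k⁻¹ := by group
      _ = k * ((k⁻¹ * c * k) * (k⁻¹ * a * k)) * k⁻¹ := by rw [h2]
      _ = c * a := by group
  have h1 : WW V (R i) ≤ centralizer (WW V (R i) : Set G) := by
    refine iSup_le fun k => ?_
    rw [le_centralizer_iff]
    refine iSup_le fun l => ?_
    intro c hc
    rw [mem_centralizer_iff]
    exact fun a ha => key k k.2 l l.2 a ha c hc
  exact mem_centralizer_iff.1 (h1 hw') w hw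

end Cfsg.Agent.Omega.HTwo.Par

end

section


/-!
# II.0h1 (split): the map `c ↦ [w, c]`, `c ∈ C(W i)`, `w ∈ W j - U j` (#12123 (3)), all `q`, field-free
-/

set_option autoImplicit false

namespace Cfsg.Agent.Omega.HTwo.Comm

open Subgroup Cfsg.Agent.Omega.BTwo

variable {G : Type*} [Group G] {ι : Type*}

/-- `D₀ = C_D(X)` -/
abbrev D0 (V : Subgroup G) (R : ι → Subgroup G) : Subgroup G := DD V R ⊓ CenX V R

/-- elements of `D` commute with `C(W i)` -/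
theorem comm_D {V : Subgroup G} {R : ι → Subgroup G} {i : ι} {c d : G}
    (hc : c ∈ centralizer (WW V (R i) : Set G)) (hd : d ∈ DD V R) :
    c * d = d * c := (mem_centralizer_iff.1 hc d (D_le_W V R i hd)).symm

section BT

variable {V : Subgroup G} {R : ι → Subgroup G} (b : BT V R)
include b

/-- `[w, c] ∈ U j` for `w ∈ W j`, `c ∈ C(W i)` -/
theorem WC {i j : ι} {c w : G} (hc : c ∈ centralizer (WW V (R i) : Set G))
    (hw : w ∈ WW V (R j)) : w * c * w⁻¹ * c⁻¹ ∈ UU V R j := by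
  have e : w * c * w⁻¹ * c⁻¹ = (c * w * c⁻¹ * w⁻¹)⁻¹ := by group
  rw [e]
  exact inv_mem (b.cen_W_W hc hw)

/-- `c^w ∈ C(W k)` -/
theorem conj_cen {i k : ι} {c w : G} (hc : c ∈ centralizer (WW V (R i) : Set G))
    (hk : cj w (R i) = R k) : w * c * w⁻¹ ∈ centralizer (WW V (R k) : Set G) := by
  rw [← b.cj_WW hk, centralizer_cj]
  exact conj_mem_cj hc

/-- `[C(W i), C(W j)] ≤ C_X` -/
theorem cen_cen {i j : ι} (hij : i ≠ j) {c c' : G}
    (hc : c ∈ centralizer (WW V (R i) : Set G)) (hc' : c' ∈ centralizer (WW V (R j) : Set G)) :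
    c * c' * c⁻¹ * c'⁻¹ ∈ CenX V R := by
  have n1 := normalizer_le_normalizer_centralizer _ (b.cen_le_NW j (cen_W_le V (R i) hc))
  have n2 := normalizer_le_normalizer_centralizer _ (b.cen_le_NW i (cen_W_le V (R j) hc'))
  have h1 : c * c' * c⁻¹ * c'⁻¹ ∈ centralizer (WW V (R j) : Set G) :=
    mul_mem (conj_mem_of_normalizer n1 hc') (inv_mem hc')
  have h2 : c * c' * c⁻¹ * c'⁻¹ ∈ centralizer (WW V (R i) : Set G) := by
    have e : c * c' * c⁻¹ * c'⁻¹ = c * (c' * c⁻¹ * c'⁻¹) := by group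
    rw [e]
    exact mul_mem hc (conj_mem_of_normalizer n2 (inv_mem hc))
  exact b.mem_cen_X hij h2 h1

/-- `[c^w, y] = [c, y]^w` for `y ∈ U j` -/
theorem conj_comm {i j : ι} {c w y : G} (hc : c ∈ centralizer (WW V (R i) : Set G))
    (hw : w ∈ WW V (R j)) (hy : y ∈ UU V R j) :
    (w * c * w⁻¹) * y * (w * c * w⁻¹)⁻¹ * y⁻¹ = w * (c * y * c⁻¹ * y⁻¹) * w⁻¹ := by
  have hs : w⁻¹ * y * w⁻¹⁻¹ * y⁻¹ ∈ R j := b.WU (inv_mem hw) hy
  set s := w⁻¹ * y * w⁻¹⁻¹ * y⁻¹ with hsdef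
  have h1 : c * s = s * c :=
    (mem_centralizer_iff.1 (cen_W_le V (R i) hc) s (b.R_le j hs)).symm
  have h2 : w⁻¹ * y * w = s * y := by rw [hsdef]; group
  have h3 : w * s * w⁻¹ = s := b.conj_R (b.W_le_Q j hw) hs
  calc (w * c * w⁻¹) * y * (w * c * w⁻¹)⁻¹ * y⁻¹ = w * (c * (w⁻¹ * y * w) * c⁻¹) * w⁻¹ * y⁻¹ := by group
    _ = w * (c * s * y * c⁻¹) * w⁻¹ * y⁻¹ := by rw [h2]; group
    _ = w * (s * (c * y * c⁻¹ * y⁻¹) * y) * w⁻¹ * y⁻¹ := by rw [h1]; group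
    _ = (w * s * w⁻¹) * (w * (c * y * c⁻¹ * y⁻¹) * w⁻¹) * (w * y * w⁻¹) * y⁻¹ := by group
    _ = s * (w * (c * y * c⁻¹ * y⁻¹) * w⁻¹) * (w * (s⁻¹ * (w⁻¹ * y * w)) * w⁻¹) * y⁻¹ := by
        rw [h3, h2]; group
    _ = s * (w * (c * y * c⁻¹ * y⁻¹) * w⁻¹) * (w * s * w⁻¹)⁻¹ := by group
    _ = s * (w * (c * y * c⁻¹ * y⁻¹) * w⁻¹) * s⁻¹ := by rw [h3]
    _ = w * (c * y * c⁻¹ * y⁻¹) * w⁻¹ := by
        have h4 : s * (w * (c * y * c⁻¹ * y⁻¹) * w⁻¹) = (w * (c * y * c⁻¹ * y⁻¹) * w⁻¹) * s := by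
          have h5 : c * y * c⁻¹ * y⁻¹ ∈ centralizer (V : Set G) := by
            have hcV := cen_W_le V (R i) hc
            have hyV := UU_le_cen j hy
            exact mul_mem (mul_mem (mul_mem hcV hyV) (inv_mem hcV)) (inv_mem hyV)
          have h6 : w * (c * y * c⁻¹ * y⁻¹) * w⁻¹ ∈ centralizer (V : Set G) :=
            conj_mem_of_normalizer (normalizer_le_normalizer_centralizer V (b.W_le_NV j hw)) h5
          exact mem_centralizer_iff.1 h6 s (b.R_le j hs)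
        rw [h4, mul_inv_cancel_right]

theorem comm_V_of {i j : ι} {a c w : G} (ha : a ∈ R i)
    (hc : a * c ∈ CenX V R) (hw : w ∈ WW V (R j)) :
    w * c * w⁻¹ * c⁻¹ = w * a⁻¹ * w⁻¹ * a ∧ w * c * w⁻¹ * c⁻¹ ∈ V := by
  have h1 := mem_centralizer_iff.1 hc w (W_le_X V R j hw)
  have e2 : w * c * w⁻¹ * c⁻¹ = w * a⁻¹ * w⁻¹ * a := by
    calc w * c * w⁻¹ * c⁻¹ = w * a⁻¹ * w⁻¹ * (w * (a * c)) * w⁻¹ * c⁻¹ := by group
      _ = w * a⁻¹ * w⁻¹ * a := by rw [h1]; group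
  refine ⟨e2, ?_⟩
  rw [e2]
  exact mul_mem (conj_mem_of_normalizer (b.W_le_NV j hw) (b.R_le i (inv_mem ha))) (b.R_le i ha)

/-- an element of `W j` outside `U j` -/
theorem exists_not_U (j : ι) : ∃ w ∈ WW V (R j), w ∉ UU V R j := by
  obtain ⟨i, hij, -⟩ := b.third j j
  obtain ⟨k, hki, hkj⟩ := b.third i j
  obtain ⟨w, hw, e⟩ := b.trans j hij hkj
  refine ⟨w, hw, fun h => hki ?_⟩
  have h1 : cj w (R i) = R i := cj_eq_self_iff.2 (b.cen_le_N i (UU_le_cen j h))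
  exact b.R_index (e.symm.trans h1)

end BT

section BTS

variable {V : Subgroup G} {R : ι → Subgroup G} (b : BTS V R)
include b

/-- **(3)** multiplicativity modulo `D` -/
theorem mul_mod {i j : ι} (hij : i ≠ j) {c c' w : G} (hc : c ∈ centralizer (WW V (R i) : Set G))
    (hc' : c' ∈ centralizer (WW V (R i) : Set G)) (hw : w ∈ WW V (R j)) :
    (w * (c * c') * w⁻¹ * (c * c')⁻¹) * (w * c * w⁻¹ * c⁻¹ * (w * c' * w⁻¹ * c'⁻¹))⁻¹ ∈ DD V R := by
  have h := (b.cen_W_U hij hc (WC b.toBT hc' hw)).1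
  have h2 := conj_mem_of_normalizer (b.Y_le_ND (UU_le_YY j (WC b.toBT hc hw))) h
  have e : (w * (c * c') * w⁻¹ * (c * c')⁻¹) * (w * c * w⁻¹ * c⁻¹ * (w * c' * w⁻¹ * c'⁻¹))⁻¹ =
      (w * c * w⁻¹ * c⁻¹) * (c * (w * c' * w⁻¹ * c'⁻¹) * c⁻¹ * (w * c' * w⁻¹ * c'⁻¹)⁻¹) *
        (w * c * w⁻¹ * c⁻¹)⁻¹ := by group
  rw [e]
  exact h2

/-- **(3)** `[[w, c], y] = t⁻¹ t^w` where `t = [c, y]`, `y ∈ U j` -/
theorem comm_comm {i j : ι} (hij : i ≠ j) {c w y : G} (hc : c ∈ centralizer (WW V (R i) : Set G))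
    (hw : w ∈ WW V (R j)) (hy : y ∈ UU V R j) :
    (w * c * w⁻¹ * c⁻¹) * y * (w * c * w⁻¹ * c⁻¹)⁻¹ * y⁻¹ =
      (c * y * c⁻¹ * y⁻¹)⁻¹ * (w * (c * y * c⁻¹ * y⁻¹) * w⁻¹) := by
  have ht := b.cen_W_U hij hc hy
  have hcc := conj_comm b.toBT hc hw hy
  set t := c * y * c⁻¹ * y⁻¹ with htdef
  have h1 : c * t = t * c := comm_D hc ht.1
  obtain ⟨k, hk⟩ := b.perm w (b.W_le_NV j hw) i
  have hc' := conj_cen b.toBT hc hk
  have h2 : (w * c * w⁻¹) * t = t * (w * c * w⁻¹) := comm_D hc' ht.1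
  have h3 : c⁻¹ * y * c = t⁻¹ * y := by
    have h4 : c * y * c⁻¹ = t * y := by rw [htdef]; group
    have h5 : c⁻¹ * t * c = t := by rw [mul_assoc, ← h1]; group
    calc c⁻¹ * y * c = c⁻¹ * (t⁻¹ * (t * y)) * c := by group
      _ = c⁻¹ * t⁻¹ * (c * y * c⁻¹) * c := by rw [h4]; group
      _ = (c⁻¹ * t * c)⁻¹ * y := by group
      _ = t⁻¹ * y := by rw [h5]
  have h6 : (w * c * w⁻¹) * t⁻¹ = t⁻¹ * (w * c * w⁻¹) := by
    rw [eq_comm, inv_mul_eq_iff_eq_mul, ← mul_assoc, ← h2, mul_inv_cancel_right]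
  calc (w * c * w⁻¹ * c⁻¹) * y * (w * c * w⁻¹ * c⁻¹)⁻¹ * y⁻¹
      = (w * c * w⁻¹) * (c⁻¹ * y * c) * (w * c * w⁻¹)⁻¹ * y⁻¹ := by group
    _ = ((w * c * w⁻¹) * t⁻¹) * y * (w * c * w⁻¹)⁻¹ * y⁻¹ := by rw [h3]; group
    _ = t⁻¹ * ((w * c * w⁻¹) * y * (w * c * w⁻¹)⁻¹ * y⁻¹) := by rw [h6]; group
    _ = t⁻¹ * (w * t * w⁻¹) := by rw [hcc]

/-- **(3)** in the form: `[c, y] = a δ`, `a ∈ R i`, `δ ∈ D₀`, and `[[w, c], y] = a⁻¹ a^w ∈ R j`
for every `w ∈ W j` -/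
theorem formula {i j : ι} (hij : i ≠ j) {c y : G} (hc : c ∈ centralizer (WW V (R i) : Set G))
    (hy : y ∈ UU V R j) :
    ∃ a ∈ R i, ∃ δ ∈ D0 V R, c * y * c⁻¹ * y⁻¹ = a * δ ∧ ∀ w ∈ WW V (R j),
      (w * c * w⁻¹ * c⁻¹) * y * (w * c * w⁻¹ * c⁻¹)⁻¹ * y⁻¹ = a⁻¹ * (w * a * w⁻¹) := by
  have ht := b.cen_W_U hij hc hy
  obtain ⟨a, ha, hδ⟩ := b.cen_DW ht.1 ht.2
  have e : c * y * c⁻¹ * y⁻¹ = a⁻¹ * (a * (c * y * c⁻¹ * y⁻¹)) := by group
  refine ⟨a⁻¹, inv_mem ha, _, hδ, e, fun w hw => ?_⟩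
  rw [comm_comm b hij hc hw hy]
  set δ := a * (c * y * c⁻¹ * y⁻¹) with hδdef
  rw [e]
  have h1 : w * δ = δ * w := mem_centralizer_iff.1 hδ.2 w (W_le_X V R j hw)
  have h2 : ∀ v ∈ V, v * δ = δ * v := fun v hv => mem_centralizer_iff.1 (b.CenX_le_cen hδ.2) v hv
  have h3 : w * a⁻¹ * w⁻¹ ∈ V :=
    conj_mem_of_normalizer (b.W_le_NV j hw) (b.R_le i (inv_mem ha))
  calc (a⁻¹ * δ)⁻¹ * (w * (a⁻¹ * δ) * w⁻¹) = δ⁻¹ * a * (w * a⁻¹ * w⁻¹) * (w * δ * w⁻¹) := by group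
    _ = δ⁻¹ * (a * (w * a⁻¹ * w⁻¹) * δ) := by rw [h1]; group
    _ = δ⁻¹ * (δ * (a * (w * a⁻¹ * w⁻¹))) := by rw [h2 _ (mul_mem (b.R_le i ha) h3)]
    _ = a⁻¹⁻¹ * (w * a⁻¹ * w⁻¹) := by group

/-- **(3)** the kernel: `[w, c] ∈ D` ⟹ `c ∈ R i × C_X` -/
theorem ker [Finite G] {i j : ι} (hij : i ≠ j) {c w : G} (hc : c ∈ centralizer (WW V (R i) : Set G))
    (hw : w ∈ WW V (R j)) (hw' : w ∉ UU V R j) (h : w * c * w⁻¹ * c⁻¹ ∈ DD V R) :
    ∃ a ∈ R i, a * c ∈ CenX V R := by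
  obtain ⟨k, hki, -, hk⟩ := b.moves hij hw hw'
  have hc' := conj_cen b.toBT hc hk
  refine b.cen_W_Q (Ne.symm hki) hc ?_
  have e : c = (w * c * w⁻¹ * c⁻¹)⁻¹ * (w * c * w⁻¹) := by group
  rw [e]
  exact mul_mem (inv_mem (b.W_le_Q k (D_le_W V R k h))) (b.cen_W_le_Q k hc')

/-- **(3)** `c² ∈ R i × C_X` for `c ∈ C(W i)` -/
theorem sq_mem [Finite G] {i : ι} {c : G} (hc : c ∈ centralizer (WW V (R i) : Set G)) :
    ∃ a ∈ R i, a * (c * c) ∈ CenX V R := by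
  obtain ⟨j, hj, -⟩ := b.third i i
  obtain ⟨w, hw, hw'⟩ := exists_not_U b.toBT j
  refine ker b (Ne.symm hj) (mul_mem hc hc) hw hw' ?_
  have h1 := mul_mod b (Ne.symm hj) hc hc hw
  have h2 : w * c * w⁻¹ * c⁻¹ * (w * c * w⁻¹ * c⁻¹) ∈ DD V R :=
    V_le_D V R (b.R_le j (b.W_sq j (UU_le_WW j (WC b.toBT hc hw))))
  have e : w * (c * c) * w⁻¹ * (c * c)⁻¹ = (w * (c * c) * w⁻¹ * (c * c)⁻¹) *
      (w * c * w⁻¹ * c⁻¹ * (w * c * w⁻¹ * c⁻¹))⁻¹ * (w * c * w⁻¹ * c⁻¹ * (w * c * w⁻¹ * c⁻¹)) := by group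
  rw [e]
  exact mul_mem h1 h2

/-- `[C(W i), C(W i)] ≤ R i × C_X` -/
theorem comm_mem [Finite G] {i : ι} {c c' : G} (hc : c ∈ centralizer (WW V (R i) : Set G))
    (hc' : c' ∈ centralizer (WW V (R i) : Set G)) :
    ∃ a ∈ R i, a * (c * c' * c⁻¹ * c'⁻¹) ∈ CenX V R := by
  obtain ⟨j, hj, -⟩ := b.third i i
  obtain ⟨w, hw, hw'⟩ := exists_not_U b.toBT j
  have hcm : c * c' * c⁻¹ * c'⁻¹ ∈ centralizer (WW V (R i) : Set G) :=
    mul_mem (mul_mem (mul_mem hc hc') (inv_mem hc)) (inv_mem hc')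
  refine ker b (Ne.symm hj) hcm hw hw' ?_
  -- `c ↦ [w, c]` is a homomorphism into the abelian group `U j / D`
  have key := fun {x y : G} (hx : x ∈ centralizer (WW V (R i) : Set G))
    (hy : y ∈ centralizer (WW V (R i) : Set G)) => mul_mod b (Ne.symm hj) hx hy hw
  set f : G → G := fun x => w * x * w⁻¹ * x⁻¹ with hf
  have hU : ∀ x ∈ centralizer (WW V (R i) : Set G), f x ∈ YY V R := fun x hx => UU_le_YY j (WC b.toBT hx hw)
  have h1 := key hcm (mul_mem hc' hc)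
  have h2 := key hc hc'
  have h3 := key hc' hc
  have h4 := b.Y_comm (hU c hc) (hU c' hc')
  have e1 : c * c' * c⁻¹ * c'⁻¹ * (c' * c) = c * c' := by group
  change f (c * c' * c⁻¹ * c'⁻¹ * (c' * c)) * (f (c * c' * c⁻¹ * c'⁻¹) * f (c' * c))⁻¹ ∈ DD V R at h1
  change f (c * c') * (f c * f c')⁻¹ ∈ DD V R at h2
  change f (c' * c) * (f c' * f c)⁻¹ ∈ DD V R at h3
  change f c * f c' * (f c)⁻¹ * (f c')⁻¹ ∈ DD V R at h4
  rw [e1] at h1
  change f (c * c' * c⁻¹ * c'⁻¹) ∈ DD V R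
  have e2 : f (c * c' * c⁻¹ * c'⁻¹) = (f (c * c') * (f (c * c' * c⁻¹ * c'⁻¹) * f (c' * c))⁻¹)⁻¹ *
      (f (c * c') * (f c * f c')⁻¹) * (f c * f c' * (f c)⁻¹ * (f c')⁻¹) *
        (f (c' * c) * (f c' * f c)⁻¹)⁻¹ := by group
  have h5 := mul_mem (mul_mem (mul_mem (inv_mem h1) h2) h4) (inv_mem h3)
  -- conjugate by `f (c' c)`
  have e3 : (f (c * c') * (f (c * c' * c⁻¹ * c'⁻¹) * f (c' * c))⁻¹)⁻¹ *
      (f (c * c') * (f c * f c')⁻¹) * (f c * f c' * (f c)⁻¹ * (f c')⁻¹) *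
        (f (c' * c) * (f c' * f c)⁻¹)⁻¹ = f (c * c' * c⁻¹ * c'⁻¹) := by group
  rwa [e3] at h5

/-- **(3)** `c ∈ C(W i)` commutes with `c^w`, `w ∈ W j` -/
theorem comm_conj [Finite G] {i j : ι} (hij : i ≠ j) {c w : G} (hc : c ∈ centralizer (WW V (R i) : Set G))
    (hw : w ∈ WW V (R j)) (hw' : w ∉ UU V R j) : c * (w * c * w⁻¹) = (w * c * w⁻¹) * c := by
  obtain ⟨k, hki, -, hk⟩ := b.moves hij hw hw'
  have hc' := conj_cen b.toBT hc hk
  have hu := WC b.toBT hc hw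
  set c' := w * c * w⁻¹ with hc'def
  set u := c' * c⁻¹ with hudef
  set d := c * c' * c⁻¹ * c'⁻¹ with hddef
  have hdC : d ∈ CenX V R := cen_cen b.toBT (Ne.symm hki) hc hc'
  have hdD : d ∈ DD V R := by
    have h1 := (b.cen_W_U hij hc hu).1
    have e : d = c * u * c⁻¹ * u⁻¹ := by rw [hddef, hudef]; group
    rw [e]; exact h1
  have k1 : c * d = d * c := comm_D hc hdD
  have k2 : c' * d = d * c' := comm_D hc' hdD
  obtain ⟨a, ha, hx⟩ := sq_mem b hc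
  set x := a * (c * c) with hxdef
  have hwx : w * x = x * w := mem_centralizer_iff.1 hx w (W_le_X V R j hw)
  -- `u² = d⁻¹ (w a⁻¹ w⁻¹) a`
  have h1 : c⁻¹ * c' * c = d⁻¹ * c' := by
    have h2 : c * c' * c⁻¹ = d * c' := by rw [hddef]; group
    have h3 : c⁻¹ * d * c = d := by rw [mul_assoc, ← k1]; group
    calc c⁻¹ * c' * c = c⁻¹ * (d⁻¹ * (d * c')) * c := by group
      _ = c⁻¹ * d⁻¹ * (c * c' * c⁻¹) * c := by rw [h2]; group
      _ = (c⁻¹ * d * c)⁻¹ * c' := by group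
      _ = d⁻¹ * c' := by rw [h3]
  have h4 : u * u = d⁻¹ * (c' * c') * (c * c)⁻¹ := by
    have k3 : c' * d⁻¹ = d⁻¹ * c' := by
      rw [eq_comm, inv_mul_eq_iff_eq_mul, ← mul_assoc, ← k2, mul_inv_cancel_right]
    calc u * u = c' * (c⁻¹ * c' * c) * (c * c)⁻¹ := by rw [hudef]; group
      _ = (c' * d⁻¹) * c' * (c * c)⁻¹ := by rw [h1]; group
      _ = d⁻¹ * (c' * c') * (c * c)⁻¹ := by rw [k3]; group
  have h5 : (c' * c') * (c * c)⁻¹ = (w * a⁻¹ * w⁻¹) * a := by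
    have e1 : c * c = a⁻¹ * x := by rw [hxdef]; group
    calc (c' * c') * (c * c)⁻¹ = w * (c * c) * w⁻¹ * (c * c)⁻¹ := by rw [hc'def]; group
      _ = w * a⁻¹ * (x * w⁻¹) * (a⁻¹ * x)⁻¹ := by rw [e1]; group
      _ = (w * a⁻¹ * w⁻¹) * (w * x) * w⁻¹ * (a⁻¹ * x)⁻¹ := by group
      _ = (w * a⁻¹ * w⁻¹) * a := by rw [hwx]; group
  have h6 : (w * a⁻¹ * w⁻¹) * a ∈ R j := by
    have := b.QV j w (b.W_le_Q j hw) a⁻¹ (b.R_le i (inv_mem ha))
    rwa [inv_inv] at this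
  have h7 : u * u ∈ R j := b.W_sq j (UU_le_WW j hu)
  have h8 : d ∈ R j := by
    have e : d = (w * a⁻¹ * w⁻¹ * a) * (u * u)⁻¹ := by
      rw [h4, mul_assoc d⁻¹, h5, mul_inv_rev, inv_inv, ← mul_assoc, mul_inv_cancel, one_mul]
    rw [e]
    exact mul_mem h6 (inv_mem h7)
  have h9 : d = 1 := b.cen_VX (b.R_le j h8) hdC
  rw [hddef, mul_inv_eq_one, mul_inv_eq_iff_eq_mul] at h9
  exact h9

/-- `u = [w, c]`: `u² = [w, a⁻¹]`, where `c² ∈ a⁻¹ C_X` -/
theorem sq_comm [Finite G] {i j : ι} (hij : i ≠ j) {c w : G} (hc : c ∈ centralizer (WW V (R i) : Set G))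
    (hw : w ∈ WW V (R j)) (hw' : w ∉ UU V R j) {a : G} (hx : a * (c * c) ∈ CenX V R) :
    (w * c * w⁻¹ * c⁻¹) * (w * c * w⁻¹ * c⁻¹) = (w * a⁻¹ * w⁻¹) * a := by
  have h1 := comm_conj b hij hc hw hw'
  have hwx : w * (a * (c * c)) = (a * (c * c)) * w := mem_centralizer_iff.1 hx w (W_le_X V R j hw)
  have h2 : c⁻¹ * (w * c * w⁻¹) = (w * c * w⁻¹) * c⁻¹ := by
    rw [inv_mul_eq_iff_eq_mul, ← mul_assoc, h1, mul_inv_cancel_right]
  calc (w * c * w⁻¹ * c⁻¹) * (w * c * w⁻¹ * c⁻¹) = (w * c * w⁻¹) * (c⁻¹ * (w * c * w⁻¹)) * c⁻¹ := by group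
    _ = w * (c * c) * w⁻¹ * (c * c)⁻¹ := by rw [h2]; group
    _ = (w * a⁻¹ * w⁻¹) * (w * (a * (c * c))) * w⁻¹ * (c * c)⁻¹ := by group
    _ = (w * a⁻¹ * w⁻¹) * a := by rw [hwx]; group

end BTS

end Cfsg.Agent.Omega.HTwo.Comm

end

section


/-!
# II.0h1, `q = 2`: THEOREM A: `Φ(Q i) ≤ R i`, `C_X ≤ Z(Q i)` elementary, `N(Q i) = N(R i)`
-/

set_option autoImplicit false

namespace Cfsg.Agent.Omega.HTwo.ThmA

open Subgroup Cfsg.Agent.Omega.BTwo Cfsg.Agent.Omega.HTwo.Par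

variable {G : Type*} [Group G] {ι : Type*} {V : Subgroup G} {R : ι → Subgroup G}

/-- the conclusion of LEMMA E: a subgroup of `R i × C_X` normalised by `N(R i)` is contained in `R i` -/
def LE (V : Subgroup G) (R : ι → Subgroup G) (i : ι) : Prop :=
  ∀ Λ : Subgroup G, (∀ l ∈ Λ, ∃ a ∈ R i, a * l ∈ CenX V R) →
    normalizer (R i : Set G) ≤ normalizer (Λ : Set G) → Λ ≤ R i

/-- `LE` for one point implies `LE` for all points -/
theorem le_all (b : BT V R) {i : ι} (h : LE V R i) (j : ι) : LE V R j := by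
  intro Λ h1 h2
  obtain ⟨x, hx, e⟩ := b.trans_one i j
  have e' : cj x⁻¹ (R j) = R i := by rw [← e, cj_inv_cj]
  have h3 : cj x⁻¹ Λ ≤ R i := by
    refine h _ ?_ ?_
    · rintro _ ⟨l, hl, rfl⟩
      change ∃ a ∈ R i, a * (x⁻¹ * l * x⁻¹⁻¹) ∈ CenX V R
      obtain ⟨a, ha, h⟩ := h1 l hl
      refine ⟨x⁻¹ * a * x⁻¹⁻¹, ?_, ?_⟩
      · rw [← e']; exact conj_mem_cj ha
      · have h4 := conj_mem_of_normalizer (b.NV_le_NCenX (inv_mem hx)) h
        have e5 : x⁻¹ * a * x⁻¹⁻¹ * (x⁻¹ * l * x⁻¹⁻¹) = x⁻¹ * (a * l) * x⁻¹⁻¹ := by group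
        rw [e5]; exact h4
    · intro g hg
      rw [normalizer_cj, mem_cj, inv_inv]
      apply h2
      rw [← e, normalizer_cj, mem_cj]
      have : x⁻¹ * (x * g * x⁻¹) * x = g := by group
      rw [this]; exact hg
  have h4 := cj_mono (g := x) h3
  rwa [cj_cj_inv, e] at h4

/-- **LEMMA E** for all points -/
theorem le_of [Finite G] (b : BTS V R) {i : ι} {r : G} (hr : ∀ x ∈ R i, x = 1 ∨ x = r) (hri : r ∈ R i)
    (S : Sylow 2 G) (hSV : (S : Subgroup G) ≤ normalizer (V : Set G))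
    (hSR : (S : Subgroup G) ≤ normalizer (R i : Set G)) (hc : Char2 (S : Subgroup G))
    (hnc : ∃ w ∈ WW V (R i), ∃ w' ∈ WW V (R i), w * w' ≠ w' * w) (j : ι) : LE V R j :=
  le_all b.toBT (fun _ h1 h2 => lemE b hr hri S hSV hSR hc (noncomm_of_W b.toBT hnc) h1 h2) j

section

variable (b : BTS V R)
include b

/-- squares of elements of `Q i` lie in `R i × C_X` -/
theorem sq_RC [Finite G] {i : ι} {q : G} (hq : q ∈ QQ (R i)) : q * q ∈ RC b.toBT i := by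
  obtain ⟨w, hw, he⟩ := b.exists_eps_W hq
  have hwQ := b.W_le_Q i hw
  have h1 := b.C_sq he
  -- `[w, q] ∈ R i`
  have h2 : q * w * q⁻¹ * w⁻¹ ∈ R i := b.WQ i hq hw
  have h3 : w * w ∈ R i := b.W_sq i hw
  -- `(q w)² = q² w² [w⁻¹.., q]`
  have h4 : q⁻¹ * w * q⁻¹⁻¹ * w⁻¹ ∈ R i := b.WQ i (inv_mem hq) hw
  set s := q⁻¹ * w * q⁻¹⁻¹ * w⁻¹ with hs
  have e1 : w * q = q * (s * w) := by rw [hs]; group
  have e2 : q * w * (q * w) = (q * q) * (s * (w * w)) := by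
    calc q * w * (q * w) = q * (w * q) * w := by group
      _ = _ := by rw [e1]; group
  have h5 : s * (w * w) ∈ R i := mul_mem h4 h3
  have h6 : (q * q) * (s * (w * w)) = (s * (w * w)) * (q * q) := by
    have h7 := b.QR i q hq _ h5
    rw [mul_assoc q q, h7, ← mul_assoc q, h7, mul_assoc]
  rw [e2, h6] at h1
  exact ⟨_, h5, h1⟩

theorem Q_sq [Finite G] {i : ι} (h : LE V R i) {q : G} (hq : q ∈ QQ (R i)) : q * q ∈ R i := by
  have h1 : closure {x | ∃ q ∈ QQ (R i), q * q = x} ≤ R i := by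
    apply h
    · have h2 : closure {x | ∃ q ∈ QQ (R i), q * q = x} ≤ RC b.toBT i := by
        rw [closure_le]
        rintro _ ⟨q, hq, rfl⟩
        exact sq_RC b hq
      exact fun l hl => h2 hl
    · intro g hg
      have hgQ := le_normalizer_O2 _ hg
      have key : ∀ g ∈ normalizer (R i : Set G), cj g (closure {x | ∃ q ∈ QQ (R i), q * q = x}) ≤
          closure {x | ∃ q ∈ QQ (R i), q * q = x} := by
        intro g hg
        rw [cj, map_le_iff_le_comap, closure_le]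
        rintro _ ⟨q, hq, rfl⟩
        refine subset_closure ⟨g * q * g⁻¹, conj_mem_of_normalizer (le_normalizer_O2 _ hg) hq, ?_⟩
        change g * q * g⁻¹ * (g * q * g⁻¹) = g * (q * q) * g⁻¹
        group
      rw [← cj_eq_self_iff]
      apply le_antisymm (key g hg)
      have h3 := cj_mono (g := g) (key g⁻¹ (inv_mem hg))
      rwa [cj_cj_inv] at h3
  exact h1 (subset_closure ⟨q, hq, rfl⟩)

/-- **THEOREM A** `[Q i, Q i] ≤ R i` -/
theorem Q_comm [Finite G] {i : ι} (h : LE V R i) {q q' : G} (hq : q ∈ QQ (R i)) (hq' : q' ∈ QQ (R i)) :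
    q * q' * q⁻¹ * q'⁻¹ ∈ R i := by
  have h1 := Q_sq b h (mul_mem hq hq')
  have h2 := Q_sq b h (inv_mem hq)
  have h3 := Q_sq b h (inv_mem hq')
  have h4 : q'⁻¹ * (q⁻¹ * q⁻¹) * q'⁻¹⁻¹ = q⁻¹ * q⁻¹ := b.conj_R (inv_mem hq') h2
  have e : q * q' * q⁻¹ * q'⁻¹ = (q * q' * (q * q')) * (q'⁻¹ * (q⁻¹ * q⁻¹) * q'⁻¹⁻¹) * (q'⁻¹ * q'⁻¹) := by
    group
  rw [e, h4]
  exact mul_mem (mul_mem h1 h2) h3

/-- **THEOREM A** `C_X ≤ Z(Q i)` -/
theorem cenX_Q [Finite G] {i : ι} (h : LE V R i) {x q : G} (hx : x ∈ CenX V R) (hq : q ∈ QQ (R i)) :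
    x * q = q * x := by
  have h1 := Q_comm b h hq (mem_iInf.1 (b.CenX_le_C hx) i)
  have hN : q ∈ normalizer (V : Set G) := b.K_le_NV i (b.Q_le_K i hq)
  have h2 : q * x * q⁻¹ * x⁻¹ ∈ CenX V R :=
    mul_mem (conj_mem_of_normalizer (b.NV_le_NCenX hN) hx) (inv_mem hx)
  have h3 := b.cen_VX (b.R_le i h1) h2
  rw [mul_inv_eq_one, mul_inv_eq_iff_eq_mul] at h3
  exact h3.symm

/-- **THEOREM A** `C_X` is elementary -/
theorem cenX_sq [Finite G] {i : ι} (h : LE V R i) {x : G} (hx : x ∈ CenX V R) : x * x = 1 :=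
  b.cen_VX (b.R_le i (Q_sq b h (mem_iInf.1 (b.CenX_le_C hx) i))) (mul_mem hx hx)

theorem cenX_comm [Finite G] {i : ι} (h : LE V R i) {x y : G} (hx : x ∈ CenX V R) (hy : y ∈ CenX V R) :
    x * y = y * x := cenX_Q b h hx (mem_iInf.1 (b.CenX_le_C hy) i)

/-- `J = ⋂ Q i` is elementary -/
theorem C_sq_one [Finite G] (h : ∀ i, LE V R i) {x : G} (hx : x ∈ CC R) : x * x = 1 :=
  b.eq_one_of_forall fun i => Q_sq b (h i) (mem_iInf.1 hx i)

theorem C_comm_one [Finite G] (h : ∀ i, LE V R i) {x y : G} (hx : x ∈ CC R) (hy : y ∈ CC R) :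
    x * y = y * x := by
  have h1 : x * y * x⁻¹ * y⁻¹ = 1 :=
    b.eq_one_of_forall fun i => Q_comm b (h i) (mem_iInf.1 hx i) (mem_iInf.1 hy i)
  rwa [mul_inv_eq_one, mul_inv_eq_iff_eq_mul] at h1

/-- `N(Q i) ≤ N(R i)`, if `R i` has order 2 and `W i` is not abelian -/
theorem NQ_le [Finite G] {i : ι} (h : LE V R i) {r : G} (hr : ∀ x ∈ R i, x = 1 ∨ x = r)
    (hnc : ∃ w ∈ WW V (R i), ∃ w' ∈ WW V (R i), w * w' ≠ w' * w) :
    normalizer (QQ (R i) : Set G) ≤ normalizer (R i : Set G) := by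
  obtain ⟨w, hw, w', hw', hne⟩ := hnc
  have h1 : w * w' * w⁻¹ * w'⁻¹ ≠ 1 := by
    intro h
    rw [mul_inv_eq_one, mul_inv_eq_iff_eq_mul] at h
    exact hne h
  have h2 := Q_comm b h (b.W_le_Q i hw) (b.W_le_Q i hw')
  have h3 : w * w' * w⁻¹ * w'⁻¹ = r := (hr _ h2).resolve_left h1
  intro g hg
  have key : ∀ x ∈ R i, g * x * g⁻¹ ∈ R i := by
    intro x hx
    rcases hr x hx with rfl | rfl
    · rw [mul_one, mul_inv_cancel]; exact one_mem _
    · rw [← h3]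
      have h4 := Q_comm b h (conj_mem_of_normalizer hg (b.W_le_Q i hw))
        (conj_mem_of_normalizer hg (b.W_le_Q i hw'))
      have e : g * w * g⁻¹ * (g * w' * g⁻¹) * (g * w * g⁻¹)⁻¹ * (g * w' * g⁻¹)⁻¹ =
          g * (w * w' * w⁻¹ * w'⁻¹) * g⁻¹ := by group
      rwa [e] at h4
  exact mem_normalizer_of_conj key

theorem N_eq [Finite G] {i : ι} (h : LE V R i) {r : G} (hr : ∀ x ∈ R i, x = 1 ∨ x = r)
    (hnc : ∃ w ∈ WW V (R i), ∃ w' ∈ WW V (R i), w * w' ≠ w' * w) :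
    normalizer (QQ (R i) : Set G) = normalizer (R i : Set G) :=
  le_antisymm (NQ_le b h hr hnc) (le_normalizer_O2 _)

end

end Cfsg.Agent.Omega.HTwo.ThmA

end

section


/-!
# LEMMA E over a 2-group `T` (#17094 (C), #17600 (F3))

`V`, `R i = {1, r}` as in `BTS`; `T` is a 2-group, `T ≤ N(V) ∩ N(R i)`, `2 ∤ |N(R i) : T|`.
`Good r e` : `r ∈ Z(O₂(C(e)))`.

* `commute_of_bipartite`, `exists_inv`, `cj_le` : the lemmas of `HTwo.Par` over `T`;
* `le_T` : `LE V R j` for all `j`, if there is a subgroup `A ≤ C_X` with `Good r y` for all `1 ≠ y ∈ A`, such that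
  for every central involution `e` of `T` in `C_X` either `e` and `r e` are good, or `A` lies in every subgroup
  which contains `e` and is normalised by `N(R i)`.
-/

set_option autoImplicit false

namespace Cfsg.Agent.Omega.HT.LemE

open Subgroup Cfsg.Agent.Omega.BTwo Cfsg.Agent.Omega.HTwo Cfsg.Agent.Omega.HTwo.Par
  Cfsg.Agent.Omega.HTwo.ThmA

variable {G : Type*} [Group G]

/-! ### over `T` -/

/-- the orbit version over `T` -/
theorem commute_of_bipartite [Finite G] {V K T : Subgroup G} (hTV : T ≤ normalizer (V : Set G))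
    (hodd : ¬ 2 ∣ T.relIndex K) (P : Subgroup G → Prop)
    (h1 : ∀ k ∈ K, ∀ l ∈ K, P (cj k V) → P (cj l V) → ∀ a ∈ cj k V, ∀ c ∈ cj l V, a * c = c * a)
    (h2 : ∀ k ∈ K, ∀ l ∈ K, ¬ P (cj k V) → ¬ P (cj l V) → ∀ a ∈ cj k V, ∀ c ∈ cj l V, a * c = c * a) :
    ∀ k ∈ K, ∀ a ∈ V, ∀ c ∈ cj k V, a * c = c * a := by
  by_contra hcon
  push Not at hcon
  obtain ⟨k0, hk0, a0, ha0, c0, hc0, hne⟩ := hcon
  set N := (normalizer (V : Set G)).subgroupOf K with hN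
  let ψ : K ⧸ N → Subgroup G := Quotient.lift (fun k : K => cj (k : G) V) (by
    intro k l hkl
    have h3 : k⁻¹ * l ∈ N := QuotientGroup.leftRel_apply.1 hkl
    have h4 : (k : G)⁻¹ * (l : G) ∈ normalizer (V : Set G) := by
      simpa using mem_subgroupOf.1 h3
    have h5 := congrArg (cj (k : G)) (cj_eq_self_iff.2 h4)
    rw [cj_mul, cj_cj_inv] at h5
    exact h5.symm)
  have hψ : ∀ k : K, ψ (QuotientGroup.mk k) = cj (k : G) V := fun _ => rfl
  have hsm : ∀ (k : K) (x : K ⧸ N), ψ (k • x) = cj (k : G) (ψ x) := by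
    intro k x
    induction x using QuotientGroup.induction_on with
    | H l =>
      change ψ (QuotientGroup.mk (k * l)) = cj (k : G) (ψ (QuotientGroup.mk l))
      rw [hψ, hψ, coe_mul, cj_mul]
  let adj : K ⧸ N → K ⧸ N → Prop := fun x y => ∃ a ∈ ψ x, ∃ c ∈ ψ y, a * c ≠ c * a
  have hinv : ∀ (k : K) (x y : K ⧸ N), adj x y → adj (k • x) (k • y) := by
    rintro k x y ⟨a, ha, c, hc, hac⟩
    refine ⟨k * a * (k : G)⁻¹, ?_, k * c * (k : G)⁻¹, ?_, fun h => hac ?_⟩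
    · rw [hsm]; exact conj_mem_cj ha
    · rw [hsm]; exact conj_mem_cj hc
    · have e1 : (k : G) * a * (k : G)⁻¹ * (k * c * (k : G)⁻¹) = k * (a * c) * (k : G)⁻¹ := by group
      have e2 : (k : G) * c * (k : G)⁻¹ * (k * a * (k : G)⁻¹) = k * (c * a) * (k : G)⁻¹ := by group
      rw [e1, e2] at h
      exact mul_left_cancel (mul_right_cancel h)
  have heven : Even (Nat.card (K ⧸ N)) := by
    refine even_card (adj := adj) ?_ ?_ (A := {x | P (ψ x)}) ?_ ?_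
      (x := QuotientGroup.mk 1) (y := QuotientGroup.mk ⟨k0, hk0⟩) ?_
    · rintro x y ⟨a, ha, c, hc, hac⟩
      exact ⟨c, hc, a, ha, hac.symm⟩
    · intro x y
      obtain ⟨k, hk⟩ := MulAction.exists_smul_eq K x y
      refine ⟨MulAction.toPerm k, fun u v => ⟨hinv k u v, fun h => ?_⟩, hk⟩
      have := hinv k⁻¹ _ _ h
      simpa using this
    · intro x hx y hy
      induction x using QuotientGroup.induction_on with
      | H k =>
        induction y using QuotientGroup.induction_on with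
        | H l =>
          rintro ⟨a, ha, c, hc, hac⟩
          exact hac (h1 k k.2 l l.2 hx hy a ha c hc)
    · intro x hx y hy
      induction x using QuotientGroup.induction_on with
      | H k =>
        induction y using QuotientGroup.induction_on with
        | H l =>
          rintro ⟨a, ha, c, hc, hac⟩
          exact hac (h2 k k.2 l l.2 hx hy a ha c hc)
    · refine ⟨a0, ?_, c0, ?_, hne⟩
      · rw [hψ, coe_one, cj_one]; exact ha0
      · rw [hψ]; exact hc0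
  have hod : ¬ 2 ∣ Nat.card (K ⧸ N) := fun h =>
    hodd (h.trans (relIndex_dvd_of_le_left K hTV))
  exact hod heven.two_dvd

/-- a 2-group `E` normalised by `T` lies in `T`, if `2 ∤ |K : T|` -/
theorem le_of_odd [Finite G] {K T E : Subgroup G} (hT : IsPGroup 2 T) (hTK : T ≤ K)
    (hodd : ¬ 2 ∣ T.relIndex K) (hE : IsPGroup 2 E) (hEK : E ≤ K) (hTE : T ≤ normalizer (E : Set G)) : E ≤ T := by
  have hU : IsPGroup 2 (E ⊔ T : Subgroup G) := IsPGroup.to_sup_of_normal_left' hE hT hTE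
  have h3 := Subgroup.relIndex_mul_relIndex _ _ _ (le_sup_right : T ≤ E ⊔ T) (sup_le hEK hTK)
  have hfact : Fact (Nat.Prime 2) := ⟨Nat.prime_two⟩
  obtain ⟨n, hn⟩ := IsPGroup.iff_card.1 hU
  have h4 : T.relIndex (E ⊔ T) ∣ 2 ^ n := by
    rw [← hn]
    exact relIndex_dvd_card _ _
  obtain ⟨m, -, hm⟩ := (Nat.dvd_prime_pow Nat.prime_two).1 h4
  rcases Nat.eq_zero_or_pos m with h0 | h0
  · rw [h0, pow_zero, relIndex_eq_one] at hm
    exact le_sup_left.trans hm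
  · exfalso
    apply hodd
    rw [← h3, hm]
    exact Dvd.dvd.mul_right (dvd_pow_self 2 h0.ne') _

/-- an involution of a nontrivial 2-group `E ≤ T` normalised by `T`, central in `T` -/
theorem exists_inv [Finite G] {T E : Subgroup G} (hT : IsPGroup 2 T) (hE1 : E ≠ ⊥) (hET : E ≤ T)
    (hTE : T ≤ normalizer (E : Set G)) : ∃ e ∈ E, e ≠ 1 ∧ e * e = 1 ∧ ∀ s ∈ T, e * s = s * e := by
  have hn : (E.subgroupOf T).Normal := by
    refine ⟨?_⟩
    rintro ⟨x, hxS⟩ hx ⟨g, hg⟩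
    exact mem_subgroupOf.2 (conj_mem_of_normalizer (hTE hg) (mem_subgroupOf.1 hx))
  have hne : E.subgroupOf T ≠ ⊥ := by
    intro h
    rw [subgroupOf_eq_bot, disjoint_iff, inf_eq_left.2 hET] at h
    exact hE1 h
  have : Fact (Nat.Prime 2) := ⟨Nat.prime_two⟩
  have : Group.IsNilpotent T := hT.isNilpotent
  have h1 := Lib.NormalAbelian.normal_inf_center_ne_bot (E.subgroupOf T) hne
  obtain ⟨x, hx1⟩ := (Subgroup.ne_bot_iff_exists_ne_one).mp h1
  have hx := x.2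
  obtain ⟨k, hk⟩ := hT (x : T)
  have hx1' : (x : T) ≠ 1 := fun e => hx1 (Subtype.ext e)
  have hex : ∃ n : ℕ, (x : T) ^ 2 ^ n = 1 := ⟨k, hk⟩
  classical
  set n := Nat.find hex with hn'
  have hn1 : (x : T) ^ 2 ^ n = 1 := Nat.find_spec hex
  have hn0 : n ≠ 0 := by
    intro e
    rw [e] at hn1
    apply hx1'
    simpa using hn1
  obtain ⟨m, hm⟩ := Nat.exists_eq_succ_of_ne_zero hn0
  set y := (x : T) ^ 2 ^ m with hy
  have hy1 : y ≠ 1 := Nat.find_min hex (by omega)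
  have hy2 : y * y = 1 := by
    rw [hy, ← pow_two, ← pow_mul, ← pow_succ]
    rw [hm] at hn1
    exact hn1
  have hyU : y ∈ E.subgroupOf T := pow_mem hx.1 _
  have hyc : y ∈ center T := pow_mem hx.2 _
  refine ⟨y, mem_subgroupOf.1 hyU, fun h => hy1 (Subtype.ext h), congrArg Subtype.val hy2, ?_⟩
  intro s hs
  have := mem_center_iff.mp hyc ⟨s, hs⟩
  exact (congrArg Subtype.val this).symm

/-- `r ∈ Z(O₂(C(e)))` -/
def Good (r e : G) : Prop :=
  r ∈ O2 (centralizer ({e} : Set G)) ⊓ centralizer (O2 (centralizer ({e} : Set G)) : Set G)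

variable {ι : Type*} {V : Subgroup G} {R : ι → Subgroup G}

/-- if `e` centralises `X^k` and `r ∈ Z(O₂(C(e)))`, then `V^k ≤ Z(O₂(C(e)))` -/
theorem cj_le (b : BT V R) {i : ι} {r : G} (hr : ∀ x ∈ R i, x = 1 ∨ x = r) {e : G} (hg : Good r e) {k : G}
    (hk : k * r = r * k) (h : e ∈ centralizer (cj k (XX V R) : Set G)) :
    cj k V ≤ O2 (centralizer ({e} : Set G)) ⊓ centralizer (O2 (centralizer ({e} : Set G)) : Set G) := by
  set M := centralizer ({e} : Set G) with hM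
  have hN : M ≤ normalizer ((O2 M ⊓ centralizer (O2 M : Set G) : Subgroup G) : Set G) := by
    intro g hg
    have h1 := le_normalizer_O2 M hg
    have h2 := normalizer_le_normalizer_centralizer _ h1
    rw [← cj_eq_self_iff, cj_inf, cj_eq_self_iff.2 h1, cj_eq_self_iff.2 h2]
  rintro _ ⟨v, hv, rfl⟩
  change k * v * k⁻¹ ∈ _
  obtain ⟨j, hj⟩ := b.R_cov v hv
  obtain ⟨x, hx, e1⟩ := b.trans_X_one i j
  rw [← e1, mem_cj] at hj
  rcases hr _ hj with h0 | h0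
  · have h1 : v = 1 := by
      have := congrArg (fun y => x * y * x⁻¹) h0
      simp only [mul_one, mul_inv_cancel] at this
      rw [← this]; group
    rw [h1, mul_one, mul_inv_cancel]
    exact one_mem _
  · have h1 : v = x * r * x⁻¹ := by rw [← h0]; group
    have h2 : k * x * k⁻¹ ∈ M := by
      rw [hM, mem_centralizer_singleton_iff]
      exact mem_centralizer_iff.1 h _ (conj_mem_cj hx)
    have h3 : k * v * k⁻¹ = (k * x * k⁻¹) * r * (k * x * k⁻¹)⁻¹ := by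
      have h4 : k⁻¹ * r * k = r := by rw [mul_assoc, ← hk]; group
      calc k * v * k⁻¹ = (k * x * k⁻¹) * (k * r * k⁻¹) * (k * x * k⁻¹)⁻¹ := by rw [h1]; group
        _ = (k * x * k⁻¹) * r * (k * x * k⁻¹)⁻¹ := by rw [hk]; group
    rw [h3]
    exact conj_mem_of_normalizer (hN h2) hg

/-- **LEMMA E over `T`** -/
theorem le_T [Finite G] (b : BTS V R) {i : ι} {r : G} (hr : ∀ x ∈ R i, x = 1 ∨ x = r) (hri : r ∈ R i)
    {T : Subgroup G} (hT : IsPGroup 2 T) (hTV : T ≤ normalizer (V : Set G))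
    (hTR : T ≤ normalizer (R i : Set G)) (hodd : ¬ 2 ∣ T.relIndex (normalizer (R i : Set G)))
    (hnc : ∃ k ∈ normalizer (R i : Set G), ∃ v ∈ V, ∃ w ∈ cj k V, v * w ≠ w * v)
    {A : Subgroup G} (hA3 : ∃ y ∈ A, ∃ y' ∈ A, y ≠ 1 ∧ y' ≠ 1 ∧ y * y' ≠ 1) (hAX : A ≤ CenX V R)
    (hAg : ∀ y ∈ A, y ≠ 1 → Good r y)
    (hdec : ∀ e ∈ T, e ≠ 1 → e * e = 1 → (∀ t ∈ T, e * t = t * e) → e ∈ CenX V R →
      (Good r e ∧ Good r (r * e)) ∨
        ∀ Λ : Subgroup G, normalizer (R i : Set G) ≤ normalizer (Λ : Set G) → e ∈ Λ → A ≤ Λ) (j : ι) :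
    LE V R j := by
  refine le_all b.toBT (i := i) (fun Λ hΛ hN => ?_) j
  by_contra hΛR
  set K := normalizer (R i : Set G) with hK
  have hr1 : r ≠ 1 := by
    rintro rfl
    refine b.R_ne i ((eq_bot_iff_forall _).2 fun x hx => ?_)
    rcases hr x hx with h | h <;> exact h
  have hrr : r * r = 1 := b.V_sq r (b.R_le i hri)
  have hKr : ∀ k ∈ K, k * r = r * k := by
    intro k hk
    have h1 := conj_mem_of_normalizer hk hri
    rcases hr _ h1 with h | h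
    · exfalso
      apply hr1
      have := congrArg (fun y => k⁻¹ * y * k) h
      simp only [mul_one, inv_mul_cancel] at this
      rw [← this]; group
    · rw [mul_inv_eq_iff_eq_mul] at h
      exact h
  -- `E = R i Λ`
  set E := R i ⊔ Λ with hE
  have hKE : K ≤ normalizer (E : Set G) := by
    intro k hk
    rw [← cj_eq_self_iff, hE, cj_sup, cj_eq_self_iff.2 hk, cj_eq_self_iff.2 (hN hk)]
  have hEm : ∀ l ∈ E, ∃ a ∈ R i, a * l ∈ CenX V R := by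
    intro l hl
    have h1 : E ≤ RC b.toBT i := by
      refine sup_le (fun a ha => ⟨a⁻¹, inv_mem ha, ?_⟩) hΛ
      rw [inv_mul_cancel]
      exact one_mem _
    exact h1 hl
  -- elements of `E` modulo `X^k`
  have hEk : ∀ k ∈ K, ∀ e ∈ E, e ∈ centralizer (cj k (XX V R) : Set G) ∨
      r * e ∈ centralizer (cj k (XX V R) : Set G) := by
    intro k hk e he
    have h1 : k⁻¹ * e * k ∈ E := conj_inv_mem_of_normalizer (hKE hk) he
    obtain ⟨a, ha, h2⟩ := hEm _ h1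
    rw [centralizer_cj, mem_cj, mem_cj]
    rcases hr a ha with rfl | rfl
    · rw [one_mul] at h2
      exact Or.inl h2
    · right
      have h3 : k⁻¹ * (a * e) * k = a * (k⁻¹ * e * k) := by
        have h4 : k⁻¹ * a = a * k⁻¹ := by
          rw [inv_mul_eq_iff_eq_mul, ← mul_assoc, hKr k hk, mul_inv_cancel_right]
        calc k⁻¹ * (a * e) * k = (k⁻¹ * a) * e * k := by group
          _ = _ := by rw [h4]; group
      rw [h3]; exact h2
  have hE0 : E ⊓ CenX V R ≠ ⊥ := by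
    intro h
    apply hΛR
    intro x hx
    obtain ⟨a, ha, hm⟩ := hΛ x hx
    have h1 : a * x ∈ E ⊓ CenX V R :=
      ⟨mul_mem ((le_sup_left : R i ≤ E) ha) ((le_sup_right : Λ ≤ E) hx), hm⟩
    rw [h, mem_bot, mul_eq_one_iff_eq_inv] at h1
    have h2 : x = a⁻¹ := by rw [h1, inv_inv]
    rw [h2]; exact inv_mem ha
  have hTE : T ≤ normalizer ((E ⊓ CenX V R : Subgroup G) : Set G) := by
    intro s hs
    have h1 := b.NV_le_NCenX (hTV hs)
    rw [← cj_eq_self_iff, cj_inf, cj_eq_self_iff.2 (hKE (hTR hs)), cj_eq_self_iff.2 h1]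
  have hE2 : IsPGroup 2 (E ⊓ CenX V R : Subgroup G) := b.CenX_isPGroup.to_le inf_le_right
  have hEK : E ⊓ CenX V R ≤ K := by
    refine inf_le_right.trans ?_
    refine (b.CenX_le_cen.trans (centralizer_le (b.R_le i))).trans (centralizer_le_normalizer _)
  have hET := le_of_odd hT hTR hodd hE2 hEK hTE
  obtain ⟨e, he, he1, hee, heT⟩ := exists_inv hT hE0 hET hTE
  have ab : ∀ f : G, ∀ a ∈ O2 (centralizer ({f} : Set G)) ⊓
      centralizer (O2 (centralizer ({f} : Set G)) : Set G),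
      ∀ c ∈ O2 (centralizer ({f} : Set G)) ⊓ centralizer (O2 (centralizer ({f} : Set G)) : Set G),
      a * c = c * a := fun f a ha c hc => mem_centralizer_iff.1 hc.2 a ha.1
  obtain ⟨k0, hk0, v0, hv0, w0, hw0, hne⟩ := hnc
  rcases hdec e (hET he) he1 hee heT he.2 with ⟨g1, g2⟩ | hA
  · refine hne (commute_of_bipartite hTV hodd
      (fun L => ∀ k ∈ K, cj k V = L → e ∈ centralizer (cj k (XX V R) : Set G)) ?_ ?_ k0 hk0 v0 hv0 w0 hw0)
    · intro k hk l hl h1 h2 a ha c hc'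
      exact ab e a (cj_le b.toBT hr g1 (hKr k hk) (h1 k hk rfl) ha) c
        (cj_le b.toBT hr g1 (hKr l hl) (h2 l hl rfl) hc')
    · have key : ∀ k ∈ K, ¬ (∀ k' ∈ K, cj k' V = cj k V → e ∈ centralizer (cj k' (XX V R) : Set G)) →
          ∃ k' ∈ K, cj k' V = cj k V ∧ r * e ∈ centralizer (cj k' (XX V R) : Set G) := by
        intro k hk h
        push Not at h
        obtain ⟨k', hk', e1, hne⟩ := h
        exact ⟨k', hk', e1, (hEk k' hk' e he.1).resolve_left hne⟩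
      intro k hk l hl h1 h2 a ha c hc'
      obtain ⟨k', hk', e1, h3⟩ := key k hk h1
      obtain ⟨l', hl', e2, h4⟩ := key l hl h2
      rw [← e1] at ha
      rw [← e2] at hc'
      exact ab (r * e) a (cj_le b.toBT hr g2 (hKr k' hk') h3 ha) c
        (cj_le b.toBT hr g2 (hKr l' hl') h4 hc')
  · -- `A ≤ E`
    have hAE : A ≤ E := hA E hKE he.1
    obtain ⟨y, hy, y', hy', y1, y1', y1''⟩ := hA3
    have hfin : ∀ z ∈ A, z ≠ 1 → z ∈ centralizer (cj k0 (XX V R) : Set G) → False := by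
      intro z hz hz1 hzk
      have g1 := hAg z hz hz1
      have h1 := cj_le b.toBT hr g1 (hKr k0 hk0) hzk hw0
      have h2 : z ∈ centralizer (cj 1 (XX V R) : Set G) := by
        rw [cj_one]; exact hAX hz
      have h3 := cj_le b.toBT hr g1 (by rw [one_mul, mul_one]) h2 (by rw [cj_one]; exact hv0)
      exact hne (ab z _ h3 _ h1)
    rcases hEk k0 hk0 y (hAE hy) with h | h
    · exact hfin y hy y1 h
    rcases hEk k0 hk0 y' (hAE hy') with h' | h'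
    · exact hfin y' hy' y1' h'
    refine hfin (y * y') (mul_mem hy hy') y1'' ?_
    -- `(r y)(r y') = y y'`
    have hry : r * y = y * r := mem_centralizer_iff.1 (b.CenX_le_cen (hAX hy)) r (b.R_le i hri)
    have e1 : r * y * (r * y') = y * y' := by
      calc r * y * (r * y') = (r * y) * r * y' := by group
        _ = y * (r * r) * y' := by rw [hry]; group
        _ = y * y' := by rw [hrr, mul_one]
    rw [← e1]
    exact mul_mem h h'

end Cfsg.Agent.Omega.HT.LemE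

end

section


/-!
# II.0h1, `q = 2`: the hats, everything with `Q i` (#13303 (2), #13317)

`ZQ i = Z(Q i)`, `EE i = C_{Q i}(V)`, `J = CC R = Q i ∩ Q j`, `C = C_X`.

* `cenX_eq` : `C_X = C(⟨Q i⟩)`, `ZQ_inf` : `Z(Q i) ∩ Z(Q j) = C_X`, `ZQ_Q` : `Z(Q i) ∩ Q j = R i × C_X`;
* `EE_eq` : `C_{Q i}(V) = U i J`, `EE_comm` : `[E i, E j] ≤ J`, `EE_inf`, `EE_map`, `EE_ker`, `EE_surj`;
* `ZQ_E` : `[Z(Q i), E j] ≤ R i × C_X`;
* `C_Q`, `XC`, `C_cen`, `C_mul`, `C_mul_left` : the pairing of `J` with `E i`.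
-/

set_option autoImplicit false
set_option linter.unusedSectionVars false

namespace Cfsg.Agent.Omega.HTwo.Hat

open Subgroup Cfsg.Agent.Omega.BTwo Cfsg.Agent.Omega.HTwo.ThmA Cfsg.Agent.Omega.HTwo.Comm

variable {G : Type*} [Group G] {ι : Type*} {V : Subgroup G} {R : ι → Subgroup G}

/-- `Z(Q)` -/
def ZQ (R : ι → Subgroup G) (i : ι) : Subgroup G := QQ (R i) ⊓ centralizer (QQ (R i) : Set G)

/-- `E i = C_{Q i}(V)` -/
def EE (V : Subgroup G) (R : ι → Subgroup G) (i : ι) : Subgroup G := QQ (R i) ⊓ centralizer (V : Set G)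

/-- `⟨Q i⟩` -/
def XH (R : ι → Subgroup G) : Subgroup G := ⨆ i, QQ (R i)

theorem cmem {H : Subgroup G} {g x : G} (hg : g ∈ H) (hx : x ∈ H) : g * x * g⁻¹ ∈ H :=
  H.mul_mem (H.mul_mem hg hx) (H.inv_mem hg)

theorem comm_mem_of {H : Subgroup G} {g x : G} (hx : x ∈ H) (hg : g ∈ normalizer (H : Set G)) :
    g * x * g⁻¹ * x⁻¹ ∈ H := H.mul_mem (conj_mem_of_normalizer hg hx) (H.inv_mem hx)

theorem comm_mem_of' {H : Subgroup G} {g x : G} (hg : g ∈ H) (hx : x ∈ normalizer (H : Set G)) :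
    g * x * g⁻¹ * x⁻¹ ∈ H := by
  have e : g * x * g⁻¹ * x⁻¹ = g * (x * g⁻¹ * x⁻¹) := by group
  rw [e]
  exact H.mul_mem hg (conj_mem_of_normalizer hx (H.inv_mem hg))

theorem ZQ_le (i : ι) : ZQ R i ≤ QQ (R i) := inf_le_left

theorem ZQ_comm {i : ι} {n q : G} (hn : n ∈ ZQ R i) (hq : q ∈ QQ (R i)) : q * n = n * q :=
  mem_centralizer_iff.1 hn.2 q hq

theorem EE_le_Q (i : ι) : EE V R i ≤ QQ (R i) := inf_le_left

theorem EE_le_cen (i : ι) : EE V R i ≤ centralizer (V : Set G) := inf_le_right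

theorem Q_le_XH (R : ι → Subgroup G) (i : ι) : QQ (R i) ≤ XH R := le_iSup (fun i => QQ (R i)) i

theorem N_le_NZQ (i : ι) : normalizer (R i : Set G) ≤ normalizer (ZQ R i : Set G) := by
  intro g hg
  have h1 := le_normalizer_O2 _ hg
  have h2 := normalizer_le_normalizer_centralizer _ h1
  rw [← cj_eq_self_iff, ZQ, cj_inf, cj_eq_self_iff.2 h1, cj_eq_self_iff.2 h2]

section BT

variable (b : BT V R)
include b

theorem XH_le_NV : XH R ≤ normalizer (V : Set G) := iSup_le fun i => (b.Q_le_K i).trans (b.K_le_NV i)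

theorem X_le_XH : XX V R ≤ XH R := iSup_le fun i => (b.W_le_Q i).trans (Q_le_XH R i)

theorem ZQ_le_cenW (i : ι) : ZQ R i ≤ centralizer (WW V (R i) : Set G) :=
  inf_le_right.trans (centralizer_le (b.W_le_Q i))

theorem R_le_ZQ (i : ι) : R i ≤ ZQ R i := by
  refine le_inf ((b.R_le i).trans (b.V_Q i)) ?_
  intro a ha
  rw [mem_centralizer_iff]
  exact fun g hg => b.QR i g hg a ha

theorem ZQ_le_cen (i : ι) : ZQ R i ≤ centralizer (V : Set G) := by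
  intro n hn
  rw [mem_centralizer_iff]
  exact fun v hv => ZQ_comm hn (b.V_Q i hv)

theorem ZQ_le_EE (i : ι) : ZQ R i ≤ EE V R i := le_inf (ZQ_le i) (ZQ_le_cen b i)

theorem V_le_EE (i : ι) : V ≤ EE V R i := le_inf (b.V_Q i) b.V_le_cen

theorem U_le_EE (i : ι) : UU V R i ≤ EE V R i := le_inf ((UU_le_WW i).trans (b.W_le_Q i)) (UU_le_cen i)

theorem C_le_EE (i : ι) : CC R ≤ EE V R i := le_inf (iInf_le _ i) b.C_le_cen

theorem cen_le_NQ (i : ι) : centralizer (V : Set G) ≤ normalizer (QQ (R i) : Set G) :=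
  (b.cen_le_N i).trans (le_normalizer_O2 _)

theorem cen_le_NE (i : ι) : centralizer (V : Set G) ≤ normalizer (EE V R i : Set G) := by
  intro g hg
  have h1 := cen_le_NQ b i hg
  have h2 : g ∈ normalizer (centralizer (V : Set G) : Set G) := le_normalizer hg
  rw [← cj_eq_self_iff, EE, cj_inf, cj_eq_self_iff.2 h1, cj_eq_self_iff.2 h2]

/-- `E i ∩ Q j = J` -/
theorem EE_inf {i j : ι} (hij : i ≠ j) : EE V R i ⊓ QQ (R j) = CC R := by
  apply le_antisymm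
  · rintro x ⟨hx, hx'⟩
    rw [b.C_eq hij]
    exact ⟨hx.1, hx'⟩
  · exact le_inf (C_le_EE b i) (iInf_le _ j)

/-- `[E i, E j] ≤ J` -/
theorem EE_comm {i j : ι} (hij : i ≠ j) {x y : G} (hx : x ∈ EE V R i) (hy : y ∈ EE V R j) :
    x * y * x⁻¹ * y⁻¹ ∈ CC R := by
  rw [b.C_eq hij]
  exact ⟨comm_mem_of' hx.1 (cen_le_NQ b i hy.2), comm_mem_of hy.1 (cen_le_NQ b j hx.2)⟩

/-- `E i = U i J` -/
theorem EE_eq [Finite G] (i : ι) {x : G} (hx : x ∈ EE V R i) : ∃ u ∈ UU V R i, ∃ c ∈ CC R, x = c * u := by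
  obtain ⟨y, hy, h⟩ := b.exists_eps hx.1 hx.2
  exact ⟨y⁻¹, inv_mem hy, _, h, by group⟩

/-- `Q i = W i J` -/
theorem Q_eq [Finite G] (i : ι) {x : G} (hx : x ∈ QQ (R i)) : ∃ w ∈ WW V (R i), ∃ c ∈ CC R, x = c * w := by
  obtain ⟨y, hy, h⟩ := b.exists_eps_W hx
  exact ⟨y⁻¹, inv_mem hy, _, h, by group⟩

theorem cj_ZQ {g : G} {i j : ι} (h : cj g (R i) = R j) : cj g (ZQ R i) = ZQ R j := by
  rw [ZQ, cj_inf, ← centralizer_cj, b.cj_QQ h]
  rfl

theorem cj_EE {g : G} (hg : g ∈ normalizer (V : Set G)) {i j : ι} (h : cj g (R i) = R j) :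
    cj g (EE V R i) = EE V R j := by
  rw [EE, cj_inf, ← centralizer_cj, b.cj_QQ h, cj_eq_self_iff.2 hg]
  rfl

/-- `N(V)` normalises `J` -/
theorem NV_le_NC : normalizer (V : Set G) ≤ normalizer (CC R : Set G) := by
  have key : ∀ g ∈ normalizer (V : Set G), cj g (CC R) ≤ CC R := by
    intro g hg
    refine le_iInf fun k => ?_
    obtain ⟨j, hj⟩ := b.perm_inv hg k
    rw [← b.cj_QQ hj]
    exact cj_mono (iInf_le _ j)
  intro g hg
  rw [← cj_eq_self_iff]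
  apply le_antisymm (key g hg)
  have h := cj_mono (g := g) (key g⁻¹ (inv_mem hg))
  rwa [cj_cj_inv] at h

/-- an element of `Q j` outside `E j` moves every other point -/
theorem movesQ {i j : ι} (hij : i ≠ j) {v : G} (hv : v ∈ QQ (R j)) (hv' : v ∉ centralizer (V : Set G)) :
    ∃ k, k ≠ i ∧ k ≠ j ∧ cj v (R i) = R k := by
  obtain ⟨k, hk⟩ := b.perm v ((b.Q_le_K j).trans (b.K_le_NV j) hv) i
  refine ⟨k, ?_, ?_, hk⟩
  · rintro rfl
    exact hv' (b.mem_cen_Q hij hv hk)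
  · rintro rfl
    exact hij (b.R_index (cj_injective (hk.trans (cj_eq_self_iff.2 (b.Q_le k hv)).symm)))

/-- `e ↦ [v, e]` maps `E i` into `E j` for `v ∈ Q j` -/
theorem EE_map {i j : ι} {v e : G} (hv : v ∈ QQ (R j)) (he : e ∈ EE V R i) : v * e * v⁻¹ * e⁻¹ ∈ EE V R j := by
  refine ⟨comm_mem_of' hv (cen_le_NQ b j he.2), ?_⟩
  exact comm_mem_of he.2 (normalizer_le_normalizer_centralizer V
    ((b.Q_le_K j).trans (b.K_le_NV j) hv))

/-- modulo `J` this is a homomorphism -/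
theorem EE_mul {i j : ι} (hij : i ≠ j) {v e e' : G} (hv : v ∈ QQ (R j)) (he : e ∈ EE V R i)
    (he' : e' ∈ EE V R i) :
    (v * (e * e') * v⁻¹ * (e * e')⁻¹) * (v * e * v⁻¹ * e⁻¹ * (v * e' * v⁻¹ * e'⁻¹))⁻¹ ∈ CC R := by
  have h := EE_comm b hij he (EE_map b hv he')
  have h2 := conj_mem_of_normalizer (NV_le_NC b (cen_le_NV V (EE_le_cen j (EE_map b hv he)))) h
  have e1 : (v * (e * e') * v⁻¹ * (e * e')⁻¹) * (v * e * v⁻¹ * e⁻¹ * (v * e' * v⁻¹ * e'⁻¹))⁻¹ =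
      (v * e * v⁻¹ * e⁻¹) * (e * (v * e' * v⁻¹ * e'⁻¹) * e⁻¹ * (v * e' * v⁻¹ * e'⁻¹)⁻¹) *
        (v * e * v⁻¹ * e⁻¹)⁻¹ := by group
  rw [e1]
  exact h2

/-- its kernel is `J` -/
theorem EE_ker {i j : ι} (hij : i ≠ j) {v e : G} (hv : v ∈ QQ (R j)) (hv' : v ∉ centralizer (V : Set G))
    (he : e ∈ EE V R i) (h : v * e * v⁻¹ * e⁻¹ ∈ CC R) : e ∈ CC R := by
  obtain ⟨k, hki, -, hk⟩ := movesQ b hij hv hv'
  have h1 : v * e * v⁻¹ ∈ QQ (R k) := by
    rw [← b.cj_QQ hk]; exact conj_mem_cj he.1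
  have h2 : v * e * v⁻¹ ∈ QQ (R i) := by
    have e1 : v * e * v⁻¹ = v * e * v⁻¹ * e⁻¹ * e := by group
    rw [e1]
    exact mul_mem (mem_iInf.1 h i) he.1
  have h3 : v * e * v⁻¹ ∈ CC R := by rw [b.C_eq hki]; exact ⟨h1, h2⟩
  have h4 := conj_inv_mem_of_normalizer (NV_le_NC b ((b.Q_le_K j).trans (b.K_le_NV j) hv)) h3
  have e2 : v⁻¹ * (v * e * v⁻¹) * v = e := by group
  rwa [e2] at h4

/-- `[J, ⟨Q i⟩] ≤ V` -/
theorem XH_C {x c : G} (hx : x ∈ XH R) (hc : c ∈ CC R) (hQ : ∀ i, ∀ q ∈ QQ (R i), q * c * q⁻¹ * c⁻¹ ∈ V) :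
    x * c * x⁻¹ * c⁻¹ ∈ V := by
  have _ := hc
  let T : Subgroup G :=
    { carrier := {x | x ∈ normalizer (V : Set G) ∧ x * c * x⁻¹ * c⁻¹ ∈ V}
      one_mem' := ⟨one_mem _, by
        have : (1 : G) * c * 1⁻¹ * c⁻¹ = 1 := by group
        rw [this]; exact one_mem _⟩
      mul_mem' := by
        rintro x y ⟨hx, hx'⟩ ⟨hy, hy'⟩
        refine ⟨mul_mem hx hy, ?_⟩
        have e : x * y * c * (x * y)⁻¹ * c⁻¹ = x * (y * c * y⁻¹ * c⁻¹) * x⁻¹ * (x * c * x⁻¹ * c⁻¹) := by group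
        rw [e]
        exact mul_mem (conj_mem_of_normalizer hx hy') hx'
      inv_mem' := by
        rintro x ⟨hx, hx'⟩
        refine ⟨inv_mem hx, ?_⟩
        have e : x⁻¹ * c * x⁻¹⁻¹ * c⁻¹ = x⁻¹ * (x * c * x⁻¹ * c⁻¹)⁻¹ * x := by group
        rw [e]
        exact conj_inv_mem_of_normalizer hx (inv_mem hx') }
  have hT : XH R ≤ T := iSup_le fun i q hq => ⟨(b.Q_le_K i).trans (b.K_le_NV i) hq, hQ i q hq⟩
  exact (hT hx).2

end BT

section LE

variable [Finite G] (b : BTS V R) (h : ∀ i, LE V R i)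
include b h

/-- `[J, Q i] ≤ R i` -/
theorem C_Q {i : ι} {q c : G} (hq : q ∈ QQ (R i)) (hc : c ∈ CC R) : q * c * q⁻¹ * c⁻¹ ∈ R i :=
  Q_comm b (h i) hq (mem_iInf.1 hc i)

/-- `C_X ≤ Z(Q i)` -/
theorem cenX_le_ZQ (i : ι) : CenX V R ≤ ZQ R i := by
  intro x hx
  refine mem_inf.2 ⟨mem_iInf.1 (b.CenX_le_C hx) i, ?_⟩
  rw [mem_centralizer_iff]
  exact fun q hq => (cenX_Q b (h i) hx hq).symm

/-- `C_X = C(⟨Q i⟩)` -/
theorem cenX_eq : CenX V R = centralizer (XH R : Set G) := by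
  apply le_antisymm
  · intro x hx
    have h1 : XH R ≤ centralizer ({x} : Set G) := iSup_le fun i q hq =>
      mem_centralizer_singleton_iff.2 (cenX_Q b (h i) hx hq).symm
    exact mem_centralizer_iff.2 fun g hg => mem_centralizer_singleton_iff.1 (h1 hg)
  · exact centralizer_le (X_le_XH b.toBT)

/-- `Z(Q i) ∩ Z(Q j) = C_X` -/
theorem ZQ_inf {i j : ι} (hij : i ≠ j) : ZQ R i ⊓ ZQ R j = CenX V R := by
  apply le_antisymm
  · rintro x ⟨hi, hj⟩
    exact b.mem_cen_X hij (ZQ_le_cenW b.toBT i hi) (ZQ_le_cenW b.toBT j hj)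
  · exact le_inf (cenX_le_ZQ b h i) (cenX_le_ZQ b h j)

omit h in
/-- `Z(Q i) ∩ Q j ≤ R i × C_X` -/
theorem ZQ_Q {i j : ι} (hij : i ≠ j) {c : G} (hc : c ∈ ZQ R i) (hj : c ∈ QQ (R j)) :
    ∃ a ∈ R i, a * c ∈ CenX V R := b.cen_W_Q hij (ZQ_le_cenW b.toBT i hc) hj

omit h in
/-- `[Z(Q i), E j] ≤ R i × C_X` -/
theorem ZQ_E {i j : ι} (hij : i ≠ j) {n y : G} (hn : n ∈ ZQ R i) (hy : y ∈ EE V R j) :
    ∃ a ∈ R i, a * (n * y * n⁻¹ * y⁻¹) ∈ CenX V R := by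
  refine ZQ_Q b hij ?_ ?_
  · exact comm_mem_of' hn (N_le_NZQ i (b.cen_le_N i hy.2))
  · exact comm_mem_of hy.1 (cen_le_NQ b.toBT j (ZQ_le_cen b.toBT i hn))

/-- `[J, ⟨Q i⟩] ≤ V` -/
theorem XC {x c : G} (hx : x ∈ XH R) (hc : c ∈ CC R) : x * c * x⁻¹ * c⁻¹ ∈ V :=
  XH_C b.toBT hx hc fun i _ hq => b.R_le i (C_Q b h hq hc)

/-- `J` centralises `J` and `Z(Q i)` -/
theorem C_ZQ {i : ι} {n c : G} (hn : n ∈ ZQ R i) (hc : c ∈ CC R) : c * n = n * c := by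
  have _ := h
  have _ := b
  exact ZQ_comm hn (mem_iInf.1 hc i)

/-- an element of `J` centralising `E i` is in `V × C_X` -/
theorem C_cen {i : ι} {c : G} (hc : c ∈ CC R) (hE : ∀ u ∈ EE V R i, c * u = u * c) :
    ∃ v ∈ V, v * c ∈ CenX V R := by
  have _ := h
  exact b.cen_CU hc fun u hu => hE u (U_le_EE b.toBT i hu)

/-- `[c, ·]` for `c ∈ J` is a homomorphism `E i → R i` trivial on `J` and on `Z(Q i)` -/
theorem C_mul {i : ι} {c u u' : G} (hc : c ∈ CC R) (hu : u ∈ QQ (R i)) (hu' : u' ∈ QQ (R i)) :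
    c * (u * u') * c⁻¹ * (u * u')⁻¹ = (c * u * c⁻¹ * u⁻¹) * (c * u' * c⁻¹ * u'⁻¹) := by
  have h1 : c * u' * c⁻¹ * u'⁻¹ ∈ R i := Q_comm b (h i) (mem_iInf.1 hc i) hu'
  have h2 := b.QR i u hu _ h1
  calc c * (u * u') * c⁻¹ * (u * u')⁻¹
      = (c * u * c⁻¹) * (c * u' * c⁻¹ * u'⁻¹) * u⁻¹ := by group
    _ = (c * u * c⁻¹ * u⁻¹) * (u * (c * u' * c⁻¹ * u'⁻¹)) * u⁻¹ := by group
    _ = (c * u * c⁻¹ * u⁻¹) * (c * u' * c⁻¹ * u'⁻¹) := by rw [h2]; group

theorem C_mul_left {i : ι} {c c' u : G} (hc : c ∈ CC R) (hc' : c' ∈ CC R) (hu : u ∈ QQ (R i)) :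
    (c * c') * u * (c * c')⁻¹ * u⁻¹ = (c * u * c⁻¹ * u⁻¹) * (c' * u * c'⁻¹ * u⁻¹) := by
  have h1 : c' * u * c'⁻¹ * u⁻¹ ∈ R i := Q_comm b (h i) (mem_iInf.1 hc' i) hu
  have h2 := b.QR i c (mem_iInf.1 hc i) _ h1
  have h3 : c * u * c⁻¹ * u⁻¹ ∈ R i := Q_comm b (h i) (mem_iInf.1 hc i) hu
  calc (c * c') * u * (c * c')⁻¹ * u⁻¹
      = c * (c' * u * c'⁻¹ * u⁻¹) * u * c⁻¹ * u⁻¹ := by group
    _ = (c' * u * c'⁻¹ * u⁻¹) * (c * u * c⁻¹ * u⁻¹) := by rw [h2]; group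
    _ = _ := b.V_comm _ (b.R_le i h1) _ (b.R_le i h3)

end LE

/-! ### `E i / J ≅ E j / J` -/

section surj

variable [Finite G] (b : BTS V R)
include b

theorem cardE (i j : ι) : (CC R).relIndex (EE V R i) = (CC R).relIndex (EE V R j) := by
  obtain ⟨x, hx, e⟩ := b.trans_one i j
  have h1 : cj x (CC R) = CC R := cj_eq_self_iff.2 (NV_le_NC b.toBT hx)
  have h2 := relIndex_map_map_of_injective (CC R) (EE V R i) (f := (MulAut.conj x).toMonoidHom)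
    (MulAut.conj x).injective
  have h3 : (CC R).map (MulAut.conj x).toMonoidHom = CC R := h1
  have h4 : (EE V R i).map (MulAut.conj x).toMonoidHom = EE V R j := cj_EE b.toBT hx e
  rw [h3, h4] at h2
  exact h2.symm

/-- every element of `E j` is `[v, e]` modulo `J` -/
theorem EE_surj {i j : ι} (hij : i ≠ j) {v : G} (hv : v ∈ QQ (R j)) (hv' : v ∉ centralizer (V : Set G))
    {y : G} (hy : y ∈ EE V R j) : ∃ e ∈ EE V R i, (v * e * v⁻¹ * e⁻¹)⁻¹ * y ∈ CC R := by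
  -- the map on cosets
  let f : EE V R i → EE V R j ⧸ (CC R).subgroupOf (EE V R j) := fun e =>
    QuotientGroup.mk ⟨v * e * v⁻¹ * (e : G)⁻¹, EE_map b.toBT hv e.2⟩
  have hf : ∀ e e' : EE V R i, f e = f e' ↔ (e : G)⁻¹ * e' ∈ CC R := by
    intro e e'
    have h1 : f e = f e' ↔ (v * e * v⁻¹ * (e : G)⁻¹)⁻¹ * (v * e' * v⁻¹ * (e' : G)⁻¹) ∈ CC R := by
      rw [QuotientGroup.eq]
      rfl
    rw [h1]
    -- `e' = e g`
    have hg : (e : G)⁻¹ * e' ∈ EE V R i := mul_mem (inv_mem e.2) e'.2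
    have h2 := EE_mul b.toBT hij hv e.2 hg
    have e3 : (e : G) * ((e : G)⁻¹ * e') = e' := by group
    rw [e3] at h2
    set a := v * e * v⁻¹ * (e : G)⁻¹ with ha
    set c := v * e' * v⁻¹ * (e' : G)⁻¹ with hc
    set g := (e : G)⁻¹ * e' with hgd
    set d := v * g * v⁻¹ * g⁻¹ with hd
    -- `c (a d)⁻¹ ∈ J`
    have haN : a ∈ normalizer (CC R : Set G) :=
      NV_le_NC b.toBT (cen_le_NV V (EE_le_cen j (EE_map b.toBT hv e.2)))
    have h3 : a⁻¹ * (c * (a * d)⁻¹) * a ∈ CC R := conj_inv_mem_of_normalizer haN h2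
    have h4 : a⁻¹ * c = a⁻¹ * (c * (a * d)⁻¹) * a * d := by group
    rw [h4]
    constructor
    · intro h5
      have h6 : d ∈ CC R := by
        have := mul_mem (inv_mem h3) h5
        rwa [inv_mul_cancel_left] at this
      exact EE_ker b.toBT hij hv hv' hg h6
    · intro h5
      refine mul_mem h3 ?_
      have h6 := conj_mem_of_normalizer (NV_le_NC b.toBT ((b.Q_le_K j).trans (b.K_le_NV j) hv)) h5
      exact mul_mem h6 (inv_mem h5)
  -- injective on cosets of `J`, so surjective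
  let F : EE V R i ⧸ (CC R).subgroupOf (EE V R i) → EE V R j ⧸ (CC R).subgroupOf (EE V R j) :=
    Quotient.lift f (by
      intro x y hxy
      rw [hf]
      have : QuotientGroup.leftRel _ x y := hxy
      rw [QuotientGroup.leftRel_apply] at this
      exact this)
  have hF : Function.Injective F := by
    rintro ⟨x⟩ ⟨y⟩ hxy
    have h1 : f x = f y := hxy
    rw [hf] at h1
    apply Quotient.sound
    show QuotientGroup.leftRel _ x y
    rw [QuotientGroup.leftRel_apply]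
    exact h1
  have hc : Nat.card (EE V R i ⧸ (CC R).subgroupOf (EE V R i)) =
      Nat.card (EE V R j ⧸ (CC R).subgroupOf (EE V R j)) := cardE b i j
  have hFs : Function.Surjective F := ((Nat.bijective_iff_injective_and_card F).2 ⟨hF, hc⟩).2
  obtain ⟨⟨e⟩, he⟩ := hFs (QuotientGroup.mk ⟨y, hy⟩)
  refine ⟨e, e.2, ?_⟩
  have h1 : f e = QuotientGroup.mk ⟨y, hy⟩ := he
  rw [QuotientGroup.eq] at h1
  exact h1

end surj

end Cfsg.Agent.Omega.HTwo.Hat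

end

section


/-!
# II.0h1, `q = 2`, after TS(z): the interface between (1)-(5), (6) and (7) of #15507 (helper779)

`C(p) = Cp p`, `Q_p = Qp p = O₂(C(p))`, `ζ_p = Zp p = Z(Q_p)`, `N_p = Np z p = ⟨z^{C(p)}⟩`, `O_M = O₂(M)`.
`M` is any subgroup with `C(p) ∩ C(z) ≤ M ≤ C(z)` for `p ∈ Δ` (so `M = C(z)` is allowed, and `M = ⟨C_{H_1}(z), X⟩`).

* `Res z M U Δ f t` : RESULT A (the output of (1)-(5)): `U ≤ Z(O_M)` elementary abelian, normal in `M`, `f` the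
  `M`-invariant alternating form on `U` with radical `⟨z⟩`, `Δ` the `M`-orbit of singular points, `t p ∈ z^{C(p)}` acts
  on `U` as `u ↦ u (p z)^{f(p, u)}`.
* `Three z Δ t` : the case `|N_p| = 8`: `z^{C(p)} = {z, t_p, p z t_p}`.
* `Out z M U Δ f t r` : the output of (6) for the point `r ∈ Δ` (the input of (7)).
-/

set_option autoImplicit false

namespace Cfsg.Agent.Omega.HTwo.Eight

open Subgroup Cfsg.Agent.Omega.BTwo

variable {G : Type*} [Group G]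

/-- `C(p)` -/
abbrev Cp (p : G) : Subgroup G := centralizer ({p} : Set G)

/-- `Q_p = O₂(C(p))` -/
def Qp (p : G) : Subgroup G := O2 (Cp p)

/-- `ζ_p = Z(Q_p)` -/
def Zp (p : G) : Subgroup G := Qp p ⊓ centralizer (Qp p : Set G)

/-- `N_p = ⟨z^{C(p)}⟩` -/
def Np (z p : G) : Subgroup G := closure {x | ∃ h ∈ Cp p, x = h * z * h⁻¹}

/-- `K_p = C(N_p)` -/
abbrev Kp (z p : G) : Subgroup G := centralizer (Np z p : Set G)

/-- `L_p = ⟨U^{C(p)}⟩ Q_p` -/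
def Lp (U : Subgroup G) (p : G) : Subgroup G := (⨆ h : Cp p, cj (h : G) U) ⊔ Qp p

/-- **RESULT A** (#15507 (1)-(5)). -/
structure Res (z : G) (M U : Subgroup G) (Δ : Set G) (f : G → G → ZMod 2) (t : G → G) : Prop where
  zz : z * z = 1
  z1 : z ≠ 1
  -- `M`
  M_z : M ≤ Cp z
  M_p : ∀ p ∈ Δ, Cp p ⊓ Cp z ≤ M
  -- `U`
  U_comm : ∀ u ∈ U, ∀ v ∈ U, u * v = v * u
  U_sq : ∀ u ∈ U, u * u = 1
  U_M : ∀ m ∈ M, ∀ u ∈ U, m * u * m⁻¹ ∈ U
  U_O : ∀ o ∈ O2 M, ∀ u ∈ U, o * u = u * o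
  U_le : U ≤ O2 M
  z_U : z ∈ U
  -- `Δ`
  Δ_U : ∀ p ∈ Δ, p ∈ U
  Δ_M : ∀ m ∈ M, ∀ p ∈ Δ, m * p * m⁻¹ ∈ Δ
  Δ_tr : ∀ p ∈ Δ, ∀ q ∈ Δ, ∃ m ∈ M, m * p * m⁻¹ = q
  Δ_1 : (1 : G) ∉ Δ
  Δ_z : z ∉ Δ
  cover : ∀ u ∈ U, u = 1 ∨ u = z ∨ u ∈ Δ ∨ u * z ∈ Δ
  inj : ∀ p ∈ Δ, p * z ∉ Δ
  -- `f`
  f_add : ∀ u ∈ U, ∀ v ∈ U, ∀ w ∈ U, f (u * v) w = f u w + f v w
  f_symm : ∀ u ∈ U, ∀ v ∈ U, f u v = f v u
  f_self : ∀ u ∈ U, f u u = 0
  f_M : ∀ m ∈ M, ∀ u ∈ U, ∀ v ∈ U, f (m * u * m⁻¹) (m * v * m⁻¹) = f u v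
  f_rad : ∀ u ∈ U, (∀ v ∈ U, f u v = 0) → u = 1 ∨ u = z
  f_z : ∀ u ∈ U, f z u = 0
  mul0 : ∀ p ∈ Δ, ∀ q ∈ Δ, p ≠ q → f p q = 0 → p * q ∈ Δ
  mul1 : ∀ p ∈ Δ, ∀ q ∈ Δ, f p q = 1 → p * q * z ∈ Δ
  -- `t`
  t_ZZ : ∀ p ∈ Δ, ∃ h ∈ Cp p, t p = h * z * h⁻¹
  t_0 : ∀ p ∈ Δ, ∀ u ∈ U, f p u = 0 → t p * u = u * t p
  t_1 : ∀ p ∈ Δ, ∀ u ∈ U, f p u = 1 → t p * u * (t p)⁻¹ = u * (p * z)
  -- `Q_p`
  Q_comm : ∀ p ∈ Δ, ∀ x ∈ Qp p, ∀ y ∈ Qp p, x * y = y * x ∨ x * y = p * (y * x)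
  N_Z : ∀ p ∈ Δ, Np z p ≤ Zp p
  N_act : ∀ p ∈ Δ, ∀ n ∈ Np z p, ∀ u ∈ U, n * u * n⁻¹ = u ∨ n * u * n⁻¹ = u * (p * z)
  N_sq : ∀ p ∈ Δ, ∀ n ∈ Np z p, n * n = 1
  Q_f : ∀ p ∈ Δ, ∀ u ∈ U, u ∈ Qp p ↔ f p u = 0
  Q_mv : ∀ p ∈ Δ, ∀ q ∈ Δ, p ≠ q → f p q = 0 → ∃ g ∈ Qp p, g * q * g⁻¹ = q * p

/-- `|N_p| = 8`: `z^{C(p)} = {z, t_p, p z t_p}` -/
def Three (z : G) (Δ : Set G) (t : G → G) : Prop :=
  ∀ p ∈ Δ, ∀ h ∈ Cp p, h * z * h⁻¹ = z ∨ h * z * h⁻¹ = t p ∨ h * z * h⁻¹ = p * z * t p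

/-- the further input of (6) at the point `r`: condition (c), `W_r` is not abelian, `C_M(O_M) ≤ O_M` -/
structure Inp (z : G) (M U : Subgroup G) (Δ : Set G) (r : G) : Prop where
  r_Δ : r ∈ Δ
  cc : ∀ K : Subgroup G, (∀ k ∈ K, k ∈ (⨅ q ∈ Δ, Zp q) ⊔ zpowers r) →
    (∀ h ∈ Cp r, ∀ k ∈ K, h * k * h⁻¹ ∈ K) → ∀ k ∈ K, k = 1 ∨ k = r
  nab : ∃ h ∈ Cp r, ∃ u ∈ U ⊓ Qp r, ∃ v ∈ U ⊓ Qp r, u * (h * v * h⁻¹) ≠ h * v * h⁻¹ * u
  char2 : ∀ g ∈ M, (∀ o ∈ O2 M, g * o = o * g) → g ∈ O2 M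

/-- **The output of (6)** at the point `r`. -/
structure Out (z : G) (M U : Subgroup G) (Δ : Set G) (f : G → G → ZMod 2) (t : G → G) (r : G) : Prop where
  O_M : O2 M = U
  C_U : ∀ g ∈ M, (∀ u ∈ U, g * u = u * g) → g ∈ U
  B_z : ∀ x : G, (∀ q ∈ Δ, x ∈ Zp q) → x = 1 ∨ x = z
  -- `ζ_r = N_r = ⟨r, z, t_r⟩`, `ζ_r ∩ U = ⟨r, z⟩`
  Z_N : Zp r = Np z r
  N_card : Nat.card (Np z r) = 8
  N_mem : ∀ n ∈ Np z r, (n = 1 ∨ n = r ∨ n = z ∨ n = r * z) ∨
    (n = t r ∨ n = r * t r ∨ n = z * t r ∨ n = r * z * t r)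
  N_U : ∀ n ∈ Np z r, n ∈ U → n = 1 ∨ n = r ∨ n = z ∨ n = r * z
  Q_card : Nat.card (Qp r) * 8 = Nat.card U ^ 2
  -- `H_r / Q_r = L_r / Q_r × K_r / Q_r`
  L_norm : Cp r ≤ normalizer (Lp U r : Set G)
  L_K : Lp U r ⊓ Kp z r = Qp r
  L_sup : Lp U r ⊔ Kp z r = Cp r
  L_card : Nat.card (Lp U r) = 6 * Nat.card (Qp r)
  K_L : ∀ k ∈ Kp z r, ∀ l ∈ Lp U r, k * l * k⁻¹ * l⁻¹ ∈ Qp r
  C_rz : Cp r ⊓ Cp z = Kp z r ⊔ U
  -- `Q_r / ζ_r = Ũ_z ⊕ Ũ_y`, both totally isotropic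
  Q_self : ∀ h ∈ Cp r, ∀ x ∈ Qp r, (∀ u ∈ cj h U ⊓ Qp r, x * u = u * x) →
    ∃ u ∈ cj h U ⊓ Qp r, ∃ n ∈ Np z r, x = u * n
  Q_gen : ∀ h ∈ Cp r, h * z * h⁻¹ ≠ z → ∀ x ∈ Qp r, ∃ u ∈ U ⊓ Qp r, ∃ v ∈ cj h U ⊓ Qp r, ∃ n ∈ Np z r, x = u * v * n
  Q_inf : ∀ h ∈ Cp r, h * z * h⁻¹ ≠ z → ∀ u ∈ U ⊓ Qp r, ∀ v ∈ cj h U ⊓ Qp r, u * v ∈ Np z r →
    u ∈ Np z r ∧ v ∈ Np z r
  -- `K_r` is transitive on the points `≠ r` of `r^⊥`
  K_tr : ∀ p ∈ Δ, ∀ q ∈ Δ, p ≠ r → q ≠ r → f r p = 0 → f r q = 0 → ∃ k ∈ Kp z r, k * p * k⁻¹ = q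

end Cfsg.Agent.Omega.HTwo.Eight

end

section


/-!
# LEMMA E over a 2-group `T`, with abelian normal subgroups of the centralisers (helper430)

As `HT.LemE.le_T`, but `r ∈ Z(O₂(C(e)))` (`Good r e`) is replaced by
`GoodY r e` : `r` lies in an abelian subgroup normalised by `C(e)`.
-/

set_option autoImplicit false

namespace Cfsg.Agent.Omega.IId.LFour.LemEY

open Subgroup Cfsg.Agent.Omega.BTwo Cfsg.Agent.Omega.HTwo Cfsg.Agent.Omega.HTwo.Par
  Cfsg.Agent.Omega.HTwo.ThmA Cfsg.Agent.Omega.HT.LemE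

variable {G : Type*} [Group G]

/-- `r` lies in an abelian subgroup normalised by `C(e)` -/
def GoodY (r e : G) : Prop :=
  ∃ Y : Subgroup G, r ∈ Y ∧ centralizer ({e} : Set G) ≤ normalizer (Y : Set G) ∧ ∀ a ∈ Y, ∀ c ∈ Y, a * c = c * a

variable {ι : Type*} {V : Subgroup G} {R : ι → Subgroup G}

/-- if `e` centralises `X^k` and `r ∈ Y`, `C(e) ≤ N(Y)`, then `V^k ≤ Y` -/
theorem cj_le (b : BT V R) {i : ι} {r : G} (hr : ∀ x ∈ R i, x = 1 ∨ x = r) {e : G} {Y : Subgroup G}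
    (hrY : r ∈ Y) (hY : centralizer ({e} : Set G) ≤ normalizer (Y : Set G)) {k : G}
    (hk : k * r = r * k) (h : e ∈ centralizer (cj k (XX V R) : Set G)) : cj k V ≤ Y := by
  rintro _ ⟨v, hv, rfl⟩
  change k * v * k⁻¹ ∈ _
  obtain ⟨j, hj⟩ := b.R_cov v hv
  obtain ⟨x, hx, e1⟩ := b.trans_X_one i j
  rw [← e1, mem_cj] at hj
  rcases hr _ hj with h0 | h0
  · have h1 : v = 1 := by
      have := congrArg (fun y => x * y * x⁻¹) h0
      simp only [mul_one, mul_inv_cancel] at this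
      rw [← this]; group
    rw [h1, mul_one, mul_inv_cancel]
    exact one_mem _
  · have h1 : v = x * r * x⁻¹ := by rw [← h0]; group
    have h2 : k * x * k⁻¹ ∈ centralizer ({e} : Set G) := by
      rw [mem_centralizer_singleton_iff]
      exact mem_centralizer_iff.1 h _ (conj_mem_cj hx)
    have h3 : k * v * k⁻¹ = (k * x * k⁻¹) * r * (k * x * k⁻¹)⁻¹ := by
      have h4 : k⁻¹ * r * k = r := by rw [mul_assoc, ← hk]; group
      calc k * v * k⁻¹ = (k * x * k⁻¹) * (k * r * k⁻¹) * (k * x * k⁻¹)⁻¹ := by rw [h1]; group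
        _ = (k * x * k⁻¹) * r * (k * x * k⁻¹)⁻¹ := by rw [hk]; group
    rw [h3]
    exact conj_mem_of_normalizer (hY h2) hrY

/-- **LEMMA E over `T`** -/
theorem le_T' [Finite G] (b : BTS V R) {i : ι} {r : G} (hr : ∀ x ∈ R i, x = 1 ∨ x = r) (hri : r ∈ R i)
    {T : Subgroup G} (hT : IsPGroup 2 T) (hTV : T ≤ normalizer (V : Set G))
    (hTR : T ≤ normalizer (R i : Set G)) (hodd : ¬ 2 ∣ T.relIndex (normalizer (R i : Set G)))
    (hnc : ∃ k ∈ normalizer (R i : Set G), ∃ v ∈ V, ∃ w ∈ cj k V, v * w ≠ w * v)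
    {A : Subgroup G} (hA3 : ∃ y ∈ A, ∃ y' ∈ A, y ≠ 1 ∧ y' ≠ 1 ∧ y * y' ≠ 1) (hAX : A ≤ CenX V R)
    (hAg : ∀ y ∈ A, y ≠ 1 → GoodY r y)
    (hdec : ∀ e ∈ T, e ≠ 1 → e * e = 1 → (∀ t ∈ T, e * t = t * e) → e ∈ CenX V R →
      (GoodY r e ∧ GoodY r (r * e)) ∨
        ∀ Λ : Subgroup G, normalizer (R i : Set G) ≤ normalizer (Λ : Set G) → e ∈ Λ → A ≤ Λ) (j : ι) :
    LE V R j := by
  refine le_all b.toBT (i := i) (fun Λ hΛ hN => ?_) j
  by_contra hΛR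
  set K := normalizer (R i : Set G) with hK
  have hr1 : r ≠ 1 := by
    rintro rfl
    refine b.R_ne i ((eq_bot_iff_forall _).2 fun x hx => ?_)
    rcases hr x hx with h | h <;> exact h
  have hrr : r * r = 1 := b.V_sq r (b.R_le i hri)
  have hKr : ∀ k ∈ K, k * r = r * k := by
    intro k hk
    have h1 := conj_mem_of_normalizer hk hri
    rcases hr _ h1 with h | h
    · exfalso
      apply hr1
      have := congrArg (fun y => k⁻¹ * y * k) h
      simp only [mul_one, inv_mul_cancel] at this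
      rw [← this]; group
    · rw [mul_inv_eq_iff_eq_mul] at h
      exact h
  -- `E = R i Λ`
  set E := R i ⊔ Λ with hE
  have hKE : K ≤ normalizer (E : Set G) := by
    intro k hk
    rw [← cj_eq_self_iff, hE, cj_sup, cj_eq_self_iff.2 hk, cj_eq_self_iff.2 (hN hk)]
  have hEm : ∀ l ∈ E, ∃ a ∈ R i, a * l ∈ CenX V R := by
    intro l hl
    have h1 : E ≤ RC b.toBT i := by
      refine sup_le (fun a ha => ⟨a⁻¹, inv_mem ha, ?_⟩) hΛ
      rw [inv_mul_cancel]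
      exact one_mem _
    exact h1 hl
  -- elements of `E` modulo `X^k`
  have hEk : ∀ k ∈ K, ∀ e ∈ E, e ∈ centralizer (cj k (XX V R) : Set G) ∨
      r * e ∈ centralizer (cj k (XX V R) : Set G) := by
    intro k hk e he
    have h1 : k⁻¹ * e * k ∈ E := conj_inv_mem_of_normalizer (hKE hk) he
    obtain ⟨a, ha, h2⟩ := hEm _ h1
    rw [centralizer_cj, mem_cj, mem_cj]
    rcases hr a ha with rfl | rfl
    · rw [one_mul] at h2
      exact Or.inl h2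
    · right
      have h3 : k⁻¹ * (a * e) * k = a * (k⁻¹ * e * k) := by
        have h4 : k⁻¹ * a = a * k⁻¹ := by
          rw [inv_mul_eq_iff_eq_mul, ← mul_assoc, hKr k hk, mul_inv_cancel_right]
        calc k⁻¹ * (a * e) * k = (k⁻¹ * a) * e * k := by group
          _ = _ := by rw [h4]; group
      rw [h3]; exact h2
  have hE0 : E ⊓ CenX V R ≠ ⊥ := by
    intro h
    apply hΛR
    intro x hx
    obtain ⟨a, ha, hm⟩ := hΛ x hx
    have h1 : a * x ∈ E ⊓ CenX V R :=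
      ⟨mul_mem ((le_sup_left : R i ≤ E) ha) ((le_sup_right : Λ ≤ E) hx), hm⟩
    rw [h, mem_bot, mul_eq_one_iff_eq_inv] at h1
    have h2 : x = a⁻¹ := by rw [h1, inv_inv]
    rw [h2]; exact inv_mem ha
  have hTE : T ≤ normalizer ((E ⊓ CenX V R : Subgroup G) : Set G) := by
    intro s hs
    have h1 := b.NV_le_NCenX (hTV hs)
    rw [← cj_eq_self_iff, cj_inf, cj_eq_self_iff.2 (hKE (hTR hs)), cj_eq_self_iff.2 h1]
  have hE2 : IsPGroup 2 (E ⊓ CenX V R : Subgroup G) := b.CenX_isPGroup.to_le inf_le_right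
  have hEK : E ⊓ CenX V R ≤ K := by
    refine inf_le_right.trans ?_
    refine (b.CenX_le_cen.trans (centralizer_le (b.R_le i))).trans (centralizer_le_normalizer _)
  have hET := le_of_odd hT hTR hodd hE2 hEK hTE
  obtain ⟨e, he, he1, hee, heT⟩ := exists_inv hT hE0 hET hTE
  obtain ⟨k0, hk0, v0, hv0, w0, hw0, hne⟩ := hnc
  rcases hdec e (hET he) he1 hee heT he.2 with ⟨⟨Y₁, g1, n1, ab1⟩, ⟨Y₂, g2, n2, ab2⟩⟩ | hA
  · refine hne (commute_of_bipartite hTV hodd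
      (fun L => ∀ k ∈ K, cj k V = L → e ∈ centralizer (cj k (XX V R) : Set G)) ?_ ?_ k0 hk0 v0 hv0 w0 hw0)
    · intro k hk l hl h1 h2 a ha c hc'
      exact ab1 a (cj_le b.toBT hr g1 n1 (hKr k hk) (h1 k hk rfl) ha) c
        (cj_le b.toBT hr g1 n1 (hKr l hl) (h2 l hl rfl) hc')
    · have key : ∀ k ∈ K, ¬ (∀ k' ∈ K, cj k' V = cj k V → e ∈ centralizer (cj k' (XX V R) : Set G)) →
          ∃ k' ∈ K, cj k' V = cj k V ∧ r * e ∈ centralizer (cj k' (XX V R) : Set G) := by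
        intro k hk h
        push Not at h
        obtain ⟨k', hk', e1, hne⟩ := h
        exact ⟨k', hk', e1, (hEk k' hk' e he.1).resolve_left hne⟩
      intro k hk l hl h1 h2 a ha c hc'
      obtain ⟨k', hk', e1, h3⟩ := key k hk h1
      obtain ⟨l', hl', e2, h4⟩ := key l hl h2
      rw [← e1] at ha
      rw [← e2] at hc'
      exact ab2 a (cj_le b.toBT hr g2 n2 (hKr k' hk') h3 ha) c
        (cj_le b.toBT hr g2 n2 (hKr l' hl') h4 hc')
  · -- `A ≤ E`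
    have hAE : A ≤ E := hA E hKE he.1
    obtain ⟨y, hy, y', hy', y1, y1', y1''⟩ := hA3
    have hfin : ∀ z ∈ A, z ≠ 1 → z ∈ centralizer (cj k0 (XX V R) : Set G) → False := by
      intro z hz hz1 hzk
      obtain ⟨Y, g1, n1, ab⟩ := hAg z hz hz1
      have h1 := cj_le b.toBT hr g1 n1 (hKr k0 hk0) hzk hw0
      have h2 : z ∈ centralizer (cj 1 (XX V R) : Set G) := by
        rw [cj_one]; exact hAX hz
      have h3 := cj_le b.toBT hr g1 n1 (by rw [one_mul, mul_one]) h2 (by rw [cj_one]; exact hv0)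
      exact hne (ab _ h3 _ h1)
    rcases hEk k0 hk0 y (hAE hy) with h | h
    · exact hfin y hy y1 h
    rcases hEk k0 hk0 y' (hAE hy') with h' | h'
    · exact hfin y' hy' y1' h'
    refine hfin (y * y') (mul_mem hy hy') y1'' ?_
    -- `(r y)(r y') = y y'`
    have hry : r * y = y * r := mem_centralizer_iff.1 (b.CenX_le_cen (hAX hy)) r (b.R_le i hri)
    have e1 : r * y * (r * y') = y * y' := by
      calc r * y * (r * y') = (r * y) * r * y' := by group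
        _ = y * (r * r) * y' := by rw [hry]; group
        _ = y * y' := by rw [hrr, mul_one]
    rw [← e1]
    exact mul_mem h h'

end Cfsg.Agent.Omega.IId.LFour.LemEY

end
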