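import Cfsg.Agent.Mrg.Omega.BTwo.Str
import Cfsg.Agent.Mrg.Omega.BTwo.QuadGrp
import Cfsg.Agent.Mrg.Omega.BTwo.Split
import Cfsg.Agent.Mrg.Omega.BTwo.Key
import Cfsg.Agent.Mrg.Omega.BTwo.Basic
import Cfsg.Agent.Lib.SylowNormalInf

section


/-!
# #11043 (8.4), `q ≥ 4`: `C(W i) ≤ W i`
-/

set_option autoImplicit false

namespace Cfsg.Agent.Omega.BTwo

open Subgroup

universe u v w

variable {G : Type u} [Group G] {ι : Type w}

namespace YMod

variable {F : Type v} [Field F] {D U1 U2 : Subgroup G} {w1 w2 : F → G} {M : Type u} [AddCommGroup M]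
  [Module F M] {p1 p2 : G → M}

theorem p1_one (y : YMod D U1 U2 w1 w2 M p1 p2) : p1 1 = 0 := by
  have := y.mul1 1 (one_mem _) 1 (one_mem _)
  rw [mul_one] at this
  exact left_eq_add.1 this

theorem p1_inv (y : YMod D U1 U2 w1 w2 M p1 p2) {x : G} (hx : x ∈ U1) : p1 x⁻¹ = - p1 x := by
  have := y.mul1 x hx x⁻¹ (inv_mem hx)
  rw [mul_inv_cancel, y.p1_one] at this
  exact (neg_eq_of_add_eq_zero_right this.symm).symm

theorem symm (y : YMod D U1 U2 w1 w2 M p1 p2) : YMod D U2 U1 w2 w1 M p2 p1 where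
  mul1 := y.mul2
  mul2 := y.mul1
  ker1 := y.ker2
  ker2 := y.ker1
  surj1 := y.surj2
  surj2 := y.surj1
  act12 := y.act21
  act21 := y.act12

end YMod

namespace Coord

variable {V : Subgroup G} {R : ι → Subgroup G} {i j : ι} {F : Type v} [Field F]
  {v : F → F → G} {w1 w2 : F → G} {M : Type u} [AddCommGroup M] [Module F M] {p1 p2 : G → M}

theorem aux_ker (b : BT V R) (y : YMod (DD V R) (UU V R i) (UU V R j) w1 w2 M p1 p2) {x x' : G}
    (hx : x ∈ UU V R i) (hx' : x' ∈ UU V R i) (h : x * x'⁻¹ ∈ DD V R) : p1 x = p1 x' := by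
  have h1 := (y.ker1 _ (b.D_le_U i h)).2 h
  rw [y.mul1 x hx _ (inv_mem hx'), y.p1_inv hx', ← sub_eq_add_neg, sub_eq_zero] at h1
  exact h1

/-- the action of `n(a)` on `U j / D`, `p1 (n(a) x n(a)⁻¹) = a • p2 x` -/
theorem nn_p1 [CharP F 2] (c : Coord V R i j v w1 w2) (b : BT V R)
    (y : YMod (DD V R) (UU V R i) (UU V R j) w1 w2 M p1 p2) {a : F} (ha : a ≠ 0) {x : G}
    (hx : x ∈ UU V R j) : p1 (nn w1 w2 a * x * (nn w1 w2 a)⁻¹) = a • p2 x := by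
  have hD : ∀ g ∈ normalizer (V : Set G), ∀ d ∈ DD V R, g * d * g⁻¹ ∈ DD V R :=
    fun g hg d hd => conj_mem_of_normalizer (b.NV_le_ND hg) hd
  have hUD : ∀ k, ∀ u ∈ UU V R k, ∀ d ∈ DD V R, u * d * u⁻¹ ∈ DD V R :=
    fun k u hu d hd => hD u (cen_le_NV V (UU_le_cen k hu)) d hd
  -- `z = [w1 a, x]`
  set z := w1 a * x * (w1 a)⁻¹ * x⁻¹ with hz
  have hzU : z ∈ UU V R i := b.WU' (c.w1_mem a) hx
  have hzp : p1 z = a • p2 x := y.act12 a x hx
  set z2 := w2 a⁻¹ * z * (w2 a⁻¹)⁻¹ * z⁻¹ with hz2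
  have hz2U : z2 ∈ UU V R j := b.WU' (c.w2_mem _) hzU
  have hz2p : p2 z2 = p2 x := by
    have h1 : p2 z2 = a⁻¹ • p1 z := y.act21 a⁻¹ z hzU
    rw [h1, hzp, smul_smul, inv_mul_cancel₀ ha, one_smul]
  have hd1 : w2 a⁻¹ * x * (w2 a⁻¹)⁻¹ * x⁻¹ ∈ DD V R :=
    V_le_D V R (b.R_le j (b.WU (c.w2_mem a⁻¹) hx))
  set d1 := w2 a⁻¹ * x * (w2 a⁻¹)⁻¹ * x⁻¹ with hd1'
  -- `z2 x ∈ D`
  have h2 : z2 * x ∈ DD V R := by
    rw [← y.ker2 _ (mul_mem hz2U hx), y.mul2 _ hz2U _ hx, hz2p, ← two_smul F, CharTwo.two_eq_zero,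
      zero_smul]
  have hw1N := b.W_le_NV i (c.w1_mem a)
  have hd2 : w1 a * z * (w1 a)⁻¹ * z⁻¹ ∈ DD V R :=
    V_le_D V R (b.R_le i (b.WU (c.w1_mem a) hzU))
  have e1 : w1 a * x * (w1 a)⁻¹ = z * x := by rw [hz]; group
  have e2 : w2 a⁻¹ * z * (w2 a⁻¹)⁻¹ = z2 * z := by rw [hz2]; group
  have e3 : w2 a⁻¹ * x * (w2 a⁻¹)⁻¹ = d1 * x := by rw [hd1']; group
  have e : nn w1 w2 a * x * (nn w1 w2 a)⁻¹ * z⁻¹ =
      (w1 a * (z2 * (z * d1 * z⁻¹) * z2⁻¹ * ((z2 * z * z2⁻¹ * z⁻¹) * (z * (z2 * x) * z⁻¹))) * (w1 a)⁻¹) *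
        (w1 a * z * (w1 a)⁻¹ * z⁻¹) := by
    calc nn w1 w2 a * x * (nn w1 w2 a)⁻¹ * z⁻¹
        = w1 a * (w2 a⁻¹ * (w1 a * x * (w1 a)⁻¹) * (w2 a⁻¹)⁻¹) * (w1 a)⁻¹ * z⁻¹ := by
          unfold nn; group
      _ = w1 a * ((w2 a⁻¹ * z * (w2 a⁻¹)⁻¹) * (w2 a⁻¹ * x * (w2 a⁻¹)⁻¹)) * (w1 a)⁻¹ * z⁻¹ := by
          rw [e1]; group
      _ = w1 a * ((z2 * z) * (d1 * x)) * (w1 a)⁻¹ * z⁻¹ := by rw [e2, e3]
      _ = _ := by group
  have h3 : nn w1 w2 a * x * (nn w1 w2 a)⁻¹ * z⁻¹ ∈ DD V R := by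
    rw [e]
    refine mul_mem (hD _ hw1N _ (mul_mem (hUD j _ hz2U _ (hUD i _ hzU _ hd1)) (mul_mem ?_ ?_))) hd2
    · exact b.UU_comm c.ne.symm hz2U hzU
    · exact hUD i _ hzU _ h2
  have h4 : nn w1 w2 a * x * (nn w1 w2 a)⁻¹ ∈ UU V R i := by
    have h5 := mul_mem (b.D_le_U i h3) hzU
    have e4 : nn w1 w2 a * x * (nn w1 w2 a)⁻¹ * z⁻¹ * z = nn w1 w2 a * x * (nn w1 w2 a)⁻¹ := by group
    rwa [e4] at h5
  rw [aux_ker b y h4 hzU h3, hzp]

/-- the action of `n(a)` on `U i / D`, `p2 (n(a) x n(a)⁻¹) = a⁻¹ • p1 x` -/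
theorem nn_p2 [CharP F 2] (c : Coord V R i j v w1 w2) (b : BT V R)
    (y : YMod (DD V R) (UU V R i) (UU V R j) w1 w2 M p1 p2) {a : F} (ha : a ≠ 0) {x : G}
    (hx : x ∈ UU V R i) : p2 (nn w1 w2 a * x * (nn w1 w2 a)⁻¹) = a⁻¹ • p1 x := by
  have hD : ∀ g ∈ normalizer (V : Set G), ∀ d ∈ DD V R, g * d * g⁻¹ ∈ DD V R :=
    fun g hg d hd => conj_mem_of_normalizer (b.NV_le_ND hg) hd
  have hUD : ∀ k, ∀ u ∈ UU V R k, ∀ d ∈ DD V R, u * d * u⁻¹ ∈ DD V R :=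
    fun k u hu d hd => hD u (cen_le_NV V (UU_le_cen k hu)) d hd
  have hw1N := b.W_le_NV i (c.w1_mem a)
  have hw2N := b.W_le_NV j (c.w2_mem a⁻¹)
  have hd0 : w1 a * x * (w1 a)⁻¹ * x⁻¹ ∈ DD V R := V_le_D V R (b.R_le i (b.WU (c.w1_mem a) hx))
  set d0 := w1 a * x * (w1 a)⁻¹ * x⁻¹ with hd0'
  set z := w2 a⁻¹ * x * (w2 a⁻¹)⁻¹ * x⁻¹ with hz
  have hzU : z ∈ UU V R j := b.WU' (c.w2_mem a⁻¹) hx
  have hzp : p2 z = a⁻¹ • p1 x := y.act21 a⁻¹ x hx
  set z2 := w1 a * z * (w1 a)⁻¹ * z⁻¹ with hz2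
  have hz2U : z2 ∈ UU V R i := b.WU' (c.w1_mem _) hzU
  have hz2p : p1 z2 = p1 x := by
    have h1 : p1 z2 = a • p2 z := y.act12 a z hzU
    rw [h1, hzp, smul_smul, mul_inv_cancel₀ ha, one_smul]
  -- `z2 x ∈ D`
  have h2 : z2 * x ∈ DD V R := by
    rw [← y.ker1 _ (mul_mem hz2U hx), y.mul1 _ hz2U _ hx, hz2p, ← two_smul F, CharTwo.two_eq_zero,
      zero_smul]
  have e1 : w1 a * x * (w1 a)⁻¹ = d0 * x := by rw [hd0']; group
  have e2 : w2 a⁻¹ * x * (w2 a⁻¹)⁻¹ = z * x := by rw [hz]; group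
  have e3 : w1 a * z * (w1 a)⁻¹ = z2 * z := by rw [hz2]; group
  have e : nn w1 w2 a * x * (nn w1 w2 a)⁻¹ * z⁻¹ =
      (w1 a * (w2 a⁻¹ * d0 * (w2 a⁻¹)⁻¹) * (w1 a)⁻¹) * ((z2 * (z * d0 * z⁻¹) * z2⁻¹) * ((z2 * x) *
        (x⁻¹ * z * x⁻¹⁻¹ * z⁻¹))) := by
    calc nn w1 w2 a * x * (nn w1 w2 a)⁻¹ * z⁻¹
        = w1 a * (w2 a⁻¹ * (w1 a * x * (w1 a)⁻¹) * (w2 a⁻¹)⁻¹) * (w1 a)⁻¹ * z⁻¹ := by
          unfold nn; group
      _ = w1 a * ((w2 a⁻¹ * d0 * (w2 a⁻¹)⁻¹) * (w2 a⁻¹ * x * (w2 a⁻¹)⁻¹)) * (w1 a)⁻¹ * z⁻¹ := by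
          rw [e1]; group
      _ = (w1 a * (w2 a⁻¹ * d0 * (w2 a⁻¹)⁻¹) * (w1 a)⁻¹) * ((w1 a * z * (w1 a)⁻¹) *
            (w1 a * x * (w1 a)⁻¹)) * z⁻¹ := by rw [e2]; group
      _ = (w1 a * (w2 a⁻¹ * d0 * (w2 a⁻¹)⁻¹) * (w1 a)⁻¹) * ((z2 * z) * (d0 * x)) * z⁻¹ := by
          rw [e3, e1]
      _ = _ := by group
  have h3 : nn w1 w2 a * x * (nn w1 w2 a)⁻¹ * z⁻¹ ∈ DD V R := by
    rw [e]
    refine mul_mem (hD _ hw1N _ (hD _ hw2N _ hd0)) (mul_mem (hUD i _ hz2U _ (hUD j _ hzU _ hd0))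
      (mul_mem h2 ?_))
    exact b.UU_comm c.ne (inv_mem hx) hzU
  have h4 : nn w1 w2 a * x * (nn w1 w2 a)⁻¹ ∈ UU V R j := by
    have h5 := mul_mem (b.D_le_U j h3) hzU
    have e4 : nn w1 w2 a * x * (nn w1 w2 a)⁻¹ * z⁻¹ * z = nn w1 w2 a * x * (nn w1 w2 a)⁻¹ := by group
    rwa [e4] at h5
  have h6 := aux_ker b y.symm h4 hzU h3
  rw [h6, hzp]

/-- **the torus** `h(a)` acts on `U i / D` as the scalar `a` -/
theorem hh_p1 [CharP F 2] (c : Coord V R i j v w1 w2) (b : BT V R)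
    (y : YMod (DD V R) (UU V R i) (UU V R j) w1 w2 M p1 p2) {a : F} (ha : a ≠ 0) {x : G}
    (hx : x ∈ UU V R i) : hh w1 w2 a * x * (hh w1 w2 a)⁻¹ ∈ UU V R i ∧
      p1 (hh w1 w2 a * x * (hh w1 w2 a)⁻¹) = a • p1 x := by
  have h1 : nn w1 w2 1 * x * (nn w1 w2 1)⁻¹ ∈ UU V R j := by
    rw [← b.cj_UU (b.X_le_NV (c.nn_mem_X b 1)) (c.nn_R1 b one_ne_zero)]
    exact conj_mem_cj hx
  have h2 : nn w1 w2 a * (nn w1 w2 1 * x * (nn w1 w2 1)⁻¹) * (nn w1 w2 a)⁻¹ ∈ UU V R i := by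
    rw [← b.cj_UU (b.X_le_NV (c.nn_mem_X b a)) (c.nn_R2 b ha)]
    exact conj_mem_cj h1
  have e : hh w1 w2 a * x * (hh w1 w2 a)⁻¹ =
      nn w1 w2 a * (nn w1 w2 1 * x * (nn w1 w2 1)⁻¹) * (nn w1 w2 a)⁻¹ := by unfold hh; group
  rw [e]
  refine ⟨h2, ?_⟩
  rw [c.nn_p1 b y ha h1, c.nn_p2 b y one_ne_zero hx, inv_one, one_smul]

theorem hh_pow_p1 [CharP F 2] (c : Coord V R i j v w1 w2) (b : BT V R)
    (y : YMod (DD V R) (UU V R i) (UU V R j) w1 w2 M p1 p2) {a : F} (ha : a ≠ 0) {x : G}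
    (hx : x ∈ UU V R i) (n : ℕ) : hh w1 w2 a ^ n * x * (hh w1 w2 a ^ n)⁻¹ ∈ UU V R i ∧
      p1 (hh w1 w2 a ^ n * x * (hh w1 w2 a ^ n)⁻¹) = a ^ n • p1 x := by
  induction n with
  | zero =>
    have e : hh w1 w2 a ^ 0 * x * (hh w1 w2 a ^ 0)⁻¹ = x := by simp
    rw [e, pow_zero, one_smul]
    exact ⟨hx, rfl⟩
  | succ n ih =>
    obtain ⟨h1, h2⟩ := ih
    obtain ⟨h3, h4⟩ := c.hh_p1 b y ha h1
    have e : hh w1 w2 a ^ (n + 1) * x * (hh w1 w2 a ^ (n + 1))⁻¹ =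
        hh w1 w2 a * (hh w1 w2 a ^ n * x * (hh w1 w2 a ^ n)⁻¹) * (hh w1 w2 a)⁻¹ := by
      rw [pow_succ']; group
    rw [e]
    refine ⟨h3, ?_⟩
    rw [h4, h2, smul_smul, pow_succ']

/-- a torus element of odd prime power order, fixed-point-free on `U i / D` -/
theorem exists_tau [Finite G] [Finite F] [CharP F 2] (c : Coord V R i j v w1 w2) (b : BT V R)
    (hF : ∃ a : F, a ≠ 0 ∧ a ≠ 1) : ∃ (p : ℕ) (τ : G) (k : ℕ), p.Prime ∧ p ≠ 2 ∧ τ ^ p ^ k = 1 ∧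
      τ ∈ XX V R ∧ τ ∈ normalizer (R i : Set G) ∧ τ ∈ normalizer (R j : Set G) ∧
      ∀ u ∈ UU V R i, τ * u * τ⁻¹ * u⁻¹ ∈ DD V R → u ∈ DD V R := by
  obtain ⟨M, _, _, p1, p2, y⟩ := c.exists_yMod b
  obtain ⟨a0, ha0, ha1⟩ := hF
  set u0 : Fˣ := Units.mk0 a0 ha0 with hu0
  have hu1 : u0 ≠ 1 := fun h => ha1 (congrArg Units.val h)
  obtain ⟨p, hp, hpd⟩ := Nat.exists_prime_and_dvd (n := Nat.card Fˣ) (by
    intro h
    rw [Nat.card_eq_one_iff_unique] at h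
    exact hu1 (h.1.elim _ _))
  haveI : Fact p.Prime := ⟨hp⟩
  haveI := Fintype.ofFinite F
  classical
  have hodd : ¬ 2 ∣ Nat.card Fˣ := by
    intro h2
    haveI : Fact (Nat.Prime 2) := ⟨Nat.prime_two⟩
    obtain ⟨t, ht⟩ := exists_prime_orderOf_dvd_card' (G := Fˣ) 2 h2
    have h3 : t ^ 2 = 1 := by rw [← ht]; exact pow_orderOf_eq_one t
    have h4 : ((t : F) - 1) ^ 2 = 0 := by
      have h5 : (t : F) ^ 2 = 1 := by
        rw [← Units.val_pow_eq_pow_val, h3, Units.val_one]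
      rw [CharTwo.sub_eq_add, CharTwo.add_sq, h5, one_pow, CharTwo.add_self_eq_zero]
    have h6 : t = 1 := Units.ext (sub_eq_zero.1 (pow_eq_zero_iff two_ne_zero |>.1 h4))
    rw [h6, orderOf_one] at ht
    omega
  have hp2 : p ≠ 2 := by
    rintro rfl
    exact hodd hpd
  obtain ⟨a, ha⟩ := exists_prime_orderOf_dvd_card' (G := Fˣ) p hpd
  set h := hh w1 w2 (a : F) with hh'
  obtain ⟨k, s, hs, hks⟩ := Nat.exists_eq_pow_mul_and_not_dvd (orderOf_pos h).ne' p hp.ne_one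
  refine ⟨p, h ^ s, k, hp, hp2, ?_, ?_, ?_, ?_, ?_⟩
  · rw [← pow_mul, mul_comm, ← hks, pow_orderOf_eq_one]
  · exact pow_mem (c.hh_mem_X b _) _
  · exact pow_mem (cj_eq_self_iff.1 (c.hh_R1 b a.ne_zero)) _
  · exact pow_mem (cj_eq_self_iff.1 (c.hh_R2 b a.ne_zero)) _
  · intro u hu hD
    obtain ⟨h1, h2⟩ := c.hh_pow_p1 b y a.ne_zero hu s
    rw [← hh'] at h1 h2
    have h3 := aux_ker b y h1 hu hD
    rw [h2] at h3
    have h4 : ((a : F) ^ s - 1) • p1 u = 0 := by rw [sub_smul, one_smul, h3, sub_self]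
    rcases smul_eq_zero.1 h4 with h5 | h5
    · exfalso
      apply hs
      rw [← ha]
      apply orderOf_dvd_of_pow_eq_one
      apply Units.ext
      rw [Units.val_pow_eq_pow_val, Units.val_one]
      exact sub_eq_zero.1 h5
    · exact (y.ker1 u hu).1 h5

end Coord

/-- **(8.4), `q ≥ 4`**: `C(W i) ≤ W i` -/
theorem BTC.cen_W_le_W_of_coord {V : Subgroup G} {R : ι → Subgroup G} {i j : ι} {F : Type v} [Field F]
    {v : F → F → G} {w1 w2 : F → G} [Finite G] [Finite F] [CharP F 2] (b : BTC V R)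
    (c : Coord V R i j v w1 w2) (hF : ∃ a : F, a ≠ 0 ∧ a ≠ 1) :
    centralizer (WW V (R i) : Set G) ≤ WW V (R i) := by
  obtain ⟨p, τ, k, hp, hp2, hτ, hX, hR, -, hf⟩ := c.exists_tau b.toBT hF
  exact b.cen_W_le_W hp hp2 hX hR hτ hf

end Cfsg.Agent.Omega.BTwo

end

section


/-!
# II.0h1, split case, `q ≥ 4`: #11929 (4) for all points, from coordinates

`BTS.splits_of_coord`: `C(W k) = Z(W k) · C(X)` for all `k`.
`BTS.out_one`, `BTS.out_two`, `BTS.out_four`: the forms used by the type arguments of `II.0h1`.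
-/

set_option autoImplicit false

namespace Cfsg.Agent.Omega.BTwo

open Subgroup

universe u v w

variable {G : Type u} [Group G] {ι : Type w} {V : Subgroup G} {R : ι → Subgroup G}

section

variable (b : BTS V R)
include b

/-- `(1)`: `C_D(W k) ≤ R k · C(X)` -/
theorem BTS.out_one {k : ι} {d : G} (hd : d ∈ DD V R) (h : d ∈ centralizer (WW V (R k) : Set G)) :
    ∃ r ∈ R k, r⁻¹ * d ∈ centralizer (XX V R : Set G) := by
  obtain ⟨a, ha, h1⟩ := b.cen_DW hd h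
  exact ⟨a⁻¹, inv_mem ha, by rw [inv_inv]; exact h1.2⟩

/-- `(2)`: `C(W k)` is a 2-group -/
theorem BTS.out_two [Finite G] (k : ι) : IsPGroup 2 (centralizer (WW V (R k) : Set G)) :=
  b.cen_W_isPGroup k

/-- the splitting at one point gives the splitting at all points -/
theorem BTS.splits_all {i : ι} (hs : Splits V R i) (k : ι) : Splits V R k := by
  obtain ⟨x, hx, e⟩ := b.trans_X_one i k
  intro c hc
  have hc' : x⁻¹ * c * x ∈ centralizer (WW V (R i) : Set G) := by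
    have e' : cj x⁻¹ (R k) = R i := by rw [← e, cj_inv_cj]
    rw [← b.cj_WW e', centralizer_cj]
    have := conj_mem_cj (g := x⁻¹) hc
    rwa [inv_inv] at this
  obtain ⟨z, hz, y, hy, h⟩ := hs _ hc'
  have hxy : x * y = y * x := mem_centralizer_iff.1 hy x hx
  refine ⟨x * z * x⁻¹, ?_, y, hy, ?_⟩
  · rw [← b.cj_ZZ e]
    exact conj_mem_cj hz
  · calc x * z * x⁻¹ * y = x * z * (x⁻¹ * (y * x) * x⁻¹) := by group
      _ = x * z * (x⁻¹ * (x * y) * x⁻¹) := by rw [hxy]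
      _ = x * (z * y) * x⁻¹ := by group
      _ = c := by rw [h]; group

variable {i j : ι} {F : Type v} [Field F] {v : F → F → G} {w1 w2 : F → G}

/-- **(4)**, `q ≥ 4`: `C(W k) = Z(W k) · C(X)` for all `k` -/
theorem BTS.splits_of_coord [Finite G] [Finite F] [CharP F 2] (c : Coord V R i j v w1 w2)
    (hF : ∃ a : F, a ≠ 0 ∧ a ≠ 1) (k : ι) : Splits V R k := by
  obtain ⟨p, τ, m, hp, hp2, hτ, hX, hR, -, hf⟩ := c.exists_tau b.toBT hF
  exact b.splits_all (fun c hc => b.cen_W_split hp hp2 hX hR hτ hf c hc) k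

/-- `(4)`: `C(W k) ≤ W k · C(X)` -/
theorem BTS.out_four [Finite G] [Finite F] [CharP F 2] (c : Coord V R i j v w1 w2)
    (hF : ∃ a : F, a ≠ 0 ∧ a ≠ 1) (k : ι) {g : G} (hg : g ∈ centralizer (WW V (R k) : Set G)) :
    ∃ z ∈ WW V (R k), z⁻¹ * g ∈ centralizer (XX V R : Set G) := by
  obtain ⟨z, hz, x, hx, rfl⟩ := b.splits_of_coord c hF k g hg
  exact ⟨z, hz.1, by rw [inv_mul_cancel_left]; exact hx⟩

/-- `(5)`: `C(W k)` is abelian -/
theorem BTS.out_five [Finite G] [Finite F] [CharP F 2] (c : Coord V R i j v w1 w2)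
    (hF : ∃ a : F, a ≠ 0 ∧ a ≠ 1) (k : ι) :
    ∀ g ∈ centralizer (WW V (R k) : Set G), ∀ g' ∈ centralizer (WW V (R k) : Set G), g * g' = g' * g :=
  b.cen_W_comm (b.splits_of_coord c hF k)

end

end Cfsg.Agent.Omega.BTwo

end

section


/-!
# (h1), SPLIT, `q ≥ 4`: the theorem (10) and the end (12) of bb OMEGA #12692 (K-free)

`BTS.ten`: if `⟨A^H⟩` is perfect (`A` = image of `U j` in `N(R i) / Q i`) and `A` centralises `Z i / R i`,
then `C(X) = 1`.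
-/

set_option autoImplicit false

namespace Cfsg.Agent.Omega.BTwo

open Subgroup

universe u v w

variable {G : Type u} [Group G] {ι : Type w}

/-- `⟨U j ^ H i⟩` -/
def LU (V : Subgroup G) (R : ι → Subgroup G) (i j : ι) : Subgroup G :=
  ⨆ h : normalizer (R i : Set G), cj (h : G) (UU V R j)

section

variable {V : Subgroup G} {R : ι → Subgroup G} (b : BT V R)
include b

theorem BT.N_le_NC (i : ι) :
    normalizer (R i : Set G) ≤ normalizer (centralizer (WW V (R i) : Set G) : Set G) := by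
  have _ := b
  exact (normalizer_le_WW V (R i)).trans (normalizer_le_normalizer_centralizer _)

theorem BT.cj_ZZ {g : G} {i j : ι} (h : cj g (R i) = R j) : cj g (ZZ V R i) = ZZ V R j := by
  rw [ZZ, cj_inf, ← centralizer_cj, b.cj_WW h]; rfl

omit b in
theorem zW_le (i : ι) : ZZ V R i ≤ WW V (R i) := inf_le_left

omit b in
theorem zC_le (i : ι) : ZZ V R i ≤ centralizer (WW V (R i) : Set G) := inf_le_right

omit b in
theorem zU_le (i : ι) : ZZ V R i ≤ UU V R i :=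
  le_inf inf_le_left (inf_le_right.trans (cen_W_le V (R i)))

omit b in
theorem z_comm {i : ι} {z w : G} (hz : z ∈ ZZ V R i) (hw : w ∈ WW V (R i)) : z * w = w * z :=
  ((mem_centralizer_iff.1 hz.2) w hw).symm

/-- elements of `C(W i)` in `V` are in `R i` -/
theorem BT.cen_VW {i : ι} {x : G} (hx : x ∈ V) (h : x ∈ centralizer (WW V (R i) : Set G)) : x ∈ R i := by
  by_contra hn
  obtain ⟨j, hj, -⟩ := b.third i i
  obtain ⟨w, hw, hw'⟩ := b.exists_mover hj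
  apply hw'
  refine mem_inf.2 ⟨hw, ?_⟩
  have h1 := b.reg (b.W_le_Q i hw) hx hn ((mem_centralizer_iff.1 h) w hw)
  rw [mem_centralizer_iff]
  exact fun a ha => (h1 a ha).symm

/-! ### (a): `[Z i, U j] = 1` -/

/-- `L` centralises `Z i / R i` and `R i` -/
theorem BT.LU_act {i j : ι}
    (hZ : ∀ u ∈ UU V R j, ∀ z ∈ ZZ V R i, u * z * u⁻¹ * z⁻¹ ∈ R i) {x : G} (hx : x ∈ LU V R i j) :
    x ∈ normalizer (R i : Set G) ∧ (∀ r ∈ R i, x * r * x⁻¹ = r) ∧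
      ∀ z ∈ ZZ V R i, x * z * x⁻¹ * z⁻¹ ∈ R i := by
  let T : Subgroup G :=
    { carrier := {x | x ∈ normalizer (R i : Set G) ∧ (∀ r ∈ R i, x * r * x⁻¹ = r) ∧
        ∀ z ∈ ZZ V R i, x * z * x⁻¹ * z⁻¹ ∈ R i}
      one_mem' := ⟨one_mem _, fun r _ => by group, fun z _ => by
        have : 1 * z * 1⁻¹ * z⁻¹ = 1 := by group
        rw [this]; exact one_mem _⟩
      mul_mem' := by
        rintro x y ⟨h1, h2, h3⟩ ⟨h1', h2', h3'⟩
        refine ⟨mul_mem h1 h1', fun r hr => ?_, fun z hz => ?_⟩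
        · have e : x * y * r * (x * y)⁻¹ = x * (y * r * y⁻¹) * x⁻¹ := by group
          rw [e, h2' r hr, h2 r hr]
        · have e : x * y * z * (x * y)⁻¹ * z⁻¹ = (x * (y * z * y⁻¹ * z⁻¹) * x⁻¹) * (x * z * x⁻¹ * z⁻¹) := by
            group
          rw [e, h2 _ (h3' z hz)]
          exact mul_mem (h3' z hz) (h3 z hz)
      inv_mem' := by
        rintro x ⟨h1, h2, h3⟩
        have h2' : ∀ r ∈ R i, x⁻¹ * r * x⁻¹⁻¹ = r := by
          intro r hr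
          have := h2 r hr
          calc x⁻¹ * r * x⁻¹⁻¹ = x⁻¹ * (x * r * x⁻¹) * x⁻¹⁻¹ := by rw [this]
            _ = r := by group
        refine ⟨inv_mem h1, h2', fun z hz => ?_⟩
        have e : x⁻¹ * z * x⁻¹⁻¹ * z⁻¹ = x⁻¹ * (x * z * x⁻¹ * z⁻¹)⁻¹ * x⁻¹⁻¹ := by group
        rw [e, h2' _ (inv_mem (h3 z hz))]
        exact inv_mem (h3 z hz) }
  have hT : LU V R i j ≤ T := by
    refine iSup_le fun h => ?_
    rintro _ ⟨u, hu, rfl⟩
    change (h : G) * u * (h : G)⁻¹ ∈ T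
    have huc := UU_le_cen j hu
    refine ⟨mul_mem (mul_mem h.2 (b.cen_le_N i huc)) (inv_mem h.2), fun r hr => ?_, fun z hz => ?_⟩
    · have h1 := conj_inv_mem_of_normalizer h.2 hr
      have h2 := mem_centralizer_iff.1 huc _ (b.R_le i h1)
      calc (h : G) * u * (h : G)⁻¹ * r * ((h : G) * u * (h : G)⁻¹)⁻¹
          = h * (u * ((h : G)⁻¹ * r * h)) * u⁻¹ * (h : G)⁻¹ := by group
        _ = r := by rw [← h2]; group
    · have h1 := conj_inv_mem_of_normalizer (N_le_NZ i h.2) hz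
      have h2 := conj_mem_of_normalizer h.2 (hZ u hu _ h1)
      have e : (h : G) * (u * ((h : G)⁻¹ * z * h) * u⁻¹ * ((h : G)⁻¹ * z * h)⁻¹) * (h : G)⁻¹ =
          h * u * (h : G)⁻¹ * z * (h * u * (h : G)⁻¹)⁻¹ * z⁻¹ := by group
      rwa [e] at h2
  exact hT hx

/-- `[L, L]` centralises `Z i` -/
theorem BT.LU_comm {i j : ι}
    (hZ : ∀ u ∈ UU V R j, ∀ z ∈ ZZ V R i, u * z * u⁻¹ * z⁻¹ ∈ R i) :
    ⁅LU V R i j, LU V R i j⁆ ≤ centralizer (ZZ V R i : Set G) := by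
  rw [commutator_le]
  intro x hx y hy
  rw [mem_centralizer_iff]
  intro z hz
  have hx2' := (b.LU_act hZ (inv_mem hx))
  have hy2' := (b.LU_act hZ (inv_mem hy))
  have g1 := hx2'.2.2 z hz
  have g2 := hy2'.2.2 z hz
  have l1 : x⁻¹ * z * x⁻¹⁻¹ = (x⁻¹ * z * x⁻¹⁻¹ * z⁻¹) * z := by group
  have l2 : y⁻¹ * z * y⁻¹⁻¹ = (y⁻¹ * z * y⁻¹⁻¹ * z⁻¹) * z := by group
  have g3 := b.R_comm i _ g1 _ g2
  set r' := x⁻¹ * z * x⁻¹⁻¹ * z⁻¹
  set s' := y⁻¹ * z * y⁻¹⁻¹ * z⁻¹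
  have f1 : x⁻¹ * y⁻¹ * z * (x⁻¹ * y⁻¹)⁻¹ = s' * r' * z := by
    calc x⁻¹ * y⁻¹ * z * (x⁻¹ * y⁻¹)⁻¹ = x⁻¹ * (y⁻¹ * z * y⁻¹⁻¹) * x⁻¹⁻¹ := by group
      _ = x⁻¹ * (s' * z) * x⁻¹⁻¹ := by rw [l2]
      _ = (x⁻¹ * s' * x⁻¹⁻¹) * (x⁻¹ * z * x⁻¹⁻¹) := by group
      _ = s' * (r' * z) := by rw [hx2'.2.1 s' g2, l1]
      _ = _ := by group
  have f2 : y⁻¹ * x⁻¹ * z * (y⁻¹ * x⁻¹)⁻¹ = r' * s' * z := by
    calc y⁻¹ * x⁻¹ * z * (y⁻¹ * x⁻¹)⁻¹ = y⁻¹ * (x⁻¹ * z * x⁻¹⁻¹) * y⁻¹⁻¹ := by group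
      _ = y⁻¹ * (r' * z) * y⁻¹⁻¹ := by rw [l1]
      _ = (y⁻¹ * r' * y⁻¹⁻¹) * (y⁻¹ * z * y⁻¹⁻¹) := by group
      _ = r' * (s' * z) := by rw [hy2'.2.1 r' g1, l2]
      _ = _ := by group
  have f3 : x⁻¹ * y⁻¹ * z * (x⁻¹ * y⁻¹)⁻¹ = y⁻¹ * x⁻¹ * z * (y⁻¹ * x⁻¹)⁻¹ := by rw [f1, f2, g3]
  rw [commutatorElement_def]
  calc z * (x * y * x⁻¹ * y⁻¹) = (x * y) * ((x * y)⁻¹ * z * (x * y)) * (x⁻¹ * y⁻¹) := by group
    _ = (x * y) * (y⁻¹ * x⁻¹ * z * (y⁻¹ * x⁻¹)⁻¹) * (x⁻¹ * y⁻¹) := by group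
    _ = (x * y) * (x⁻¹ * y⁻¹ * z * (x⁻¹ * y⁻¹)⁻¹) * (x⁻¹ * y⁻¹) := by rw [f3]
    _ = x * y * x⁻¹ * y⁻¹ * z := by group

end

/-- **the torus** `h(a)` acts on `U j / D` as the scalar `a⁻¹` -/
theorem Coord.hh_q2 {V : Subgroup G} {R : ι → Subgroup G} {i j : ι} {F : Type v} [Field F]
    {v : F → F → G} {w1 w2 : F → G} {M : Type u} [AddCommGroup M] [Module F M] {p1 p2 : G → M}
    [CharP F 2] (c : Coord V R i j v w1 w2) (b : BT V R)
    (y : YMod (DD V R) (UU V R i) (UU V R j) w1 w2 M p1 p2) {a : F} (ha : a ≠ 0) {x : G}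
    (hx : x ∈ UU V R j) : hh w1 w2 a * x * (hh w1 w2 a)⁻¹ ∈ UU V R j ∧
      p2 (hh w1 w2 a * x * (hh w1 w2 a)⁻¹) = a⁻¹ • p2 x := by
  have h1 : nn w1 w2 1 * x * (nn w1 w2 1)⁻¹ ∈ UU V R i := by
    rw [← b.cj_UU (b.X_le_NV (c.nn_mem_X b 1)) (c.nn_R2 b one_ne_zero)]
    exact conj_mem_cj hx
  have h2 : nn w1 w2 a * (nn w1 w2 1 * x * (nn w1 w2 1)⁻¹) * (nn w1 w2 a)⁻¹ ∈ UU V R j := by
    rw [← b.cj_UU (b.X_le_NV (c.nn_mem_X b a)) (c.nn_R1 b ha)]
    exact conj_mem_cj h1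
  have e : hh w1 w2 a * x * (hh w1 w2 a)⁻¹ =
      nn w1 w2 a * (nn w1 w2 1 * x * (nn w1 w2 1)⁻¹) * (nn w1 w2 a)⁻¹ := by unfold hh; group
  rw [e]
  refine ⟨h2, ?_⟩
  rw [c.nn_p2 b y ha h1, c.nn_p1 b y one_ne_zero hx, one_smul]

/-- **(10)(a)**: if `⟨A^H⟩` is perfect and `A` centralises `Z i / R i` then `[U j, Z i] = 1` -/
theorem Coord.UZ {V : Subgroup G} {R : ι → Subgroup G} {i j : ι} {F : Type v} [Field F]
    {v : F → F → G} {w1 w2 : F → G} [Finite F] [CharP F 2] (c : Coord V R i j v w1 w2) [Finite G]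
    (b : BT V R) (hF : ∃ a : F, a ≠ 0 ∧ a ≠ 1)
    (hZ : ∀ u ∈ UU V R j, ∀ z ∈ ZZ V R i, u * z * u⁻¹ * z⁻¹ ∈ R i)
    (hperf : ∀ u ∈ UU V R j, ∃ x ∈ ⁅LU V R i j, LU V R i j⁆, x⁻¹ * u ∈ QQ (R i)) :
    ∀ u ∈ UU V R j, ∀ z ∈ ZZ V R i, u * z = z * u := by
  obtain ⟨M, _, _, p1, p2, y⟩ := c.exists_yMod b
  obtain ⟨a, ha, ha1⟩ := hF
  have hX := c.hh_mem_X b a
  have hN : hh w1 w2 a ∈ normalizer (R i : Set G) := cj_eq_self_iff.1 (c.hh_R1 b ha)
  set h := hh w1 w2 a with hh'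
  have hNC : h ∈ normalizer (centralizer (ZZ V R i : Set G) : Set G) :=
    normalizer_le_normalizer_centralizer _ (N_le_NZ i hN)
  -- `[h, u]` centralises `Z i`
  have key : ∀ u ∈ UU V R j, h * u * h⁻¹ * u⁻¹ ∈ centralizer (ZZ V R i : Set G) := by
    intro u hu
    obtain ⟨x, hx, hq⟩ := hperf u hu
    have hx' := b.LU_comm hZ hx
    have h1 := b.XQ hX hN hq
    have h2 : h * (x⁻¹ * u) * h⁻¹ * (x⁻¹ * u)⁻¹ ∈ centralizer (ZZ V R i : Set G) := by
      rw [mem_centralizer_iff]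
      exact fun z hz => z_comm hz h1
    have hxN : x ∈ normalizer (centralizer (ZZ V R i : Set G) : Set G) := le_normalizer hx'
    have e : h * u * h⁻¹ * u⁻¹ = (h * x * h⁻¹) * (h * (x⁻¹ * u) * h⁻¹ * (x⁻¹ * u)⁻¹) * x⁻¹ := by group
    rw [e]
    exact mul_mem (mul_mem (conj_mem_of_normalizer hNC hx') h2) (inv_mem hx')
  intro u hu z hz
  -- `u ∈ [h, U j] D`
  obtain ⟨u', hu', hpu⟩ := y.surj2 ((a⁻¹ - 1)⁻¹ • p2 u)
  have hne : a⁻¹ - 1 ≠ 0 := by
    intro h0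
    apply ha1
    have h1 := sub_eq_zero.1 h0
    rw [← inv_inv a, h1, inv_one]
  obtain ⟨h3, h4⟩ := c.hh_q2 b y ha hu'
  rw [← hh'] at h3 h4
  have h5 : u * (h * u' * h⁻¹ * u'⁻¹)⁻¹ ∈ DD V R := by
    have h6 : h * u' * h⁻¹ * u'⁻¹ ∈ UU V R j := mul_mem h3 (inv_mem hu')
    rw [← y.ker2 _ (mul_mem hu (inv_mem h6)), y.mul2 _ hu _ (inv_mem h6), y.symm.p1_inv h6,
      y.mul2 _ h3 _ (inv_mem hu'), y.symm.p1_inv hu', h4, hpu]
    have h7 : a⁻¹ • (a⁻¹ - 1)⁻¹ • p2 u + -((a⁻¹ - 1)⁻¹ • p2 u) = p2 u := by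
      rw [← sub_eq_add_neg]
      have h8 : (a⁻¹ - 1)⁻¹ • p2 u = (1 : F) • (a⁻¹ - 1)⁻¹ • p2 u := (one_smul _ _).symm
      nth_rewrite 2 [h8]
      rw [← sub_smul, smul_smul, mul_inv_cancel₀ hne, one_smul]
    rw [h7, add_neg_cancel]
  have h6 := mem_centralizer_iff.1 (key u' hu') z hz
  have h7 := z_comm hz (D_le_W V R i h5)
  have e : u = (u * (h * u' * h⁻¹ * u'⁻¹)⁻¹) * (h * u' * h⁻¹ * u'⁻¹) := by group
  set d := u * (h * u' * h⁻¹ * u'⁻¹)⁻¹
  set k := h * u' * h⁻¹ * u'⁻¹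
  calc u * z = d * (k * z) := by rw [e]; group
    _ = d * (z * k) := by rw [h6]
    _ = z * (d * k) := by rw [← mul_assoc, ← h7]; group
    _ = z * u := by rw [← e]

/-! ### (b): `[W i, Z j] ≤ Z i` -/

theorem comm_mul_central {m m' x y : G} (h1 : m * x = x * m) (h2 : m * y = y * m) (h3 : m' * x = x * m')
    (h4 : m' * y = y * m') (h5 : m * m' = m' * m) :
    m * x * (m' * y) * (m * x)⁻¹ * (m' * y)⁻¹ = x * y * x⁻¹ * y⁻¹ := by
  have a1 : Commute m x := h1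
  have a2 : Commute m y := h2
  have a3 : Commute m' x := h3
  have a4 : Commute m' y := h4
  have a5 : Commute m m' := h5
  have a6 : Commute (m * m') (x * y * x⁻¹ * y⁻¹) :=
    ((((a1.mul_right a2).mul_right a1.inv_right).mul_right a2.inv_right).mul_left
      (((a3.mul_right a4).mul_right a3.inv_right).mul_right a4.inv_right))
  have e1 : m⁻¹ * y⁻¹ = y⁻¹ * m⁻¹ := a2.inv_inv.eq
  have e2 : m⁻¹ * m'⁻¹ = m'⁻¹ * m⁻¹ := a5.inv_inv.eq
  calc m * x * (m' * y) * (m * x)⁻¹ * (m' * y)⁻¹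
      = m * (x * m') * y * x⁻¹ * (m⁻¹ * y⁻¹) * m'⁻¹ := by group
    _ = (m * m') * (x * y * x⁻¹ * y⁻¹) * (m⁻¹ * m'⁻¹) := by rw [← h3, e1]; group
    _ = (x * y * x⁻¹ * y⁻¹) * (m * m') * (m⁻¹ * m'⁻¹) := by rw [a6.eq]
    _ = x * y * x⁻¹ * y⁻¹ := by rw [e2]; group

/-- `[w, z] ∈ v(s, t) Z i` -/
def Rel (V : Subgroup G) (R : ι → Subgroup G) (i : ι) {F : Type v} (v : F → F → G) (z w : G) (t : F) :
    Prop := ∃ s, ∃ k ∈ ZZ V R i, w * z * w⁻¹ * z⁻¹ = v s t * k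

namespace Coord

variable {V : Subgroup G} {R : ι → Subgroup G} {i j : ι} {F : Type v} [Field F]
  {v : F → F → G} {w1 w2 : F → G}

section

variable (c : Coord V R i j v w1 w2) (b : BT V R)
include c b

theorem rel_exists (hUZ : ∀ z ∈ ZZ V R j, ∀ u ∈ UU V R i, u * z = z * u) {z w : G}
    (hz : z ∈ ZZ V R j) (hw : w ∈ WW V (R i)) : ∃ t, Rel V R i v z w t := by
  have hzc := UU_le_cen j (zU_le j hz)
  have hzN := b.cen_le_NW i hzc
  have h1 : w * z * w⁻¹ * z⁻¹ ∈ WW V (R i) := by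
    have e : w * z * w⁻¹ * z⁻¹ = w * (z * w⁻¹ * z⁻¹) := by group
    rw [e]
    exact mul_mem hw (conj_mem_of_normalizer hzN (inv_mem hw))
  have hzW := normalizer_le_WW V (R i)
  obtain ⟨v0, hv0, hk⟩ := b.cen_U (b.W_le_Q i h1) (by
    intro u hu
    have hu' : w⁻¹ * u * w ∈ UU V R i := by
      have h2 : cj w⁻¹ (UU V R i) = UU V R i :=
        b.cj_UU (inv_mem (b.W_le_NV i hw)) (cj_eq_self_iff.2 (inv_mem (b.W_le_N i hw)))
      have h3 := conj_mem_cj (g := w⁻¹) hu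
      rwa [h2, inv_inv] at h3
    have k1 := hUZ z hz _ hu'
    have k2 := hUZ z hz _ hu
    calc w * z * w⁻¹ * z⁻¹ * u = w * z * w⁻¹ * (z⁻¹ * (u * z)) * z⁻¹ := by group
      _ = w * (z * (w⁻¹ * u * w)) * w⁻¹ * z⁻¹ := by rw [k2]; group
      _ = u * (w * z * w⁻¹ * z⁻¹) := by rw [← k1]; group)
  obtain ⟨s, t, rfl⟩ := (c.mem_V v0).1 hv0
  refine ⟨t, s, _, mem_inf.2 ⟨?_, hk⟩, by group⟩
  exact mul_mem (inv_mem (V_le_WW V (R i) hv0)) h1

theorem rel_unique {z w : G} {t t' : F} (h : Rel V R i v z w t) (h' : Rel V R i v z w t') : t = t' := by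
  obtain ⟨s, k, hk, e⟩ := h
  obtain ⟨s', k', hk', e'⟩ := h'
  rw [e] at e'
  have h1 : v (s - s') (t - t') ∈ R i := by
    refine b.cen_VW (c.v_mem _ _) ?_
    have h2 : v (s - s') (t - t') = k' * k⁻¹ := by
      have h3 := c.v_add (s - s') (t - t') s' t'
      rw [sub_add_cancel, sub_add_cancel] at h3
      have h4 := c.v_add s' t' (s - s') (t - t')
      rw [add_sub_cancel, add_sub_cancel] at h4
      calc v (s - s') (t - t') = (v s' t')⁻¹ * v s t := by rw [h4]; group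
        _ = (v s' t')⁻¹ * (v s t * k) * k⁻¹ := by group
        _ = k' * k⁻¹ := by rw [e']; group
    rw [h2]
    exact mul_mem hk'.2 (inv_mem hk.2)
  obtain ⟨s'', h2⟩ := (c.mem_R1 _).1 h1
  exact (sub_eq_zero.1 (c.v_inj h2).2.symm)

theorem rel_D {z w : G} (hz : z ∈ DD V R) (hw : w ∈ WW V (R i)) : Rel V R i v z w 0 := by
  obtain ⟨s, hs⟩ := (c.mem_R1 _).1 (b.WW_comm i hw (D_le_W V R i hz))
  exact ⟨s, 1, one_mem _, by rw [mul_one, hs]⟩

theorem rel_mul {z z' w : G} {t t' : F} (hz : z ∈ ZZ V R j)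
    (h : Rel V R i v z w t) (h' : Rel V R i v z' w t') : Rel V R i v (z * z') w (t + t') := by
  obtain ⟨s, k, hk, e⟩ := h
  obtain ⟨s', k', hk', e'⟩ := h'
  have hzc := UU_le_cen j (zU_le j hz)
  have hk2 : z * k' * z⁻¹ ∈ ZZ V R i :=
    conj_mem_of_normalizer (N_le_NZ i (b.cen_le_N i hzc)) hk'
  refine ⟨s + s', k * (z * k' * z⁻¹), mul_mem hk hk2, ?_⟩
  have h1 := mem_centralizer_iff.1 hzc _ (c.v_mem s' t')
  have h2 := z_comm hk (V_le_WW V (R i) (c.v_mem s' t'))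
  calc w * (z * z') * w⁻¹ * (z * z')⁻¹ = (w * z * w⁻¹ * z⁻¹) * z * (w * z' * w⁻¹ * z'⁻¹) * z⁻¹ := by group
    _ = v s t * k * (z * v s' t') * k' * z⁻¹ := by rw [e, e']; group
    _ = v s t * (k * v s' t') * z * k' * z⁻¹ := by rw [← h1]; group
    _ = (v s t * v s' t') * (k * (z * k' * z⁻¹)) := by rw [h2]; group
    _ = _ := by rw [← c.v_add]

theorem rel_key [CharP F 2] {z w w' : G} {a a' t t' : F} (hz : z ∈ ZZ V R j) (hw : w ∈ WW V (R i))
    (hw' : w' ∈ WW V (R i)) (ha : ∀ b c, w * v b c * w⁻¹ = v (b + a * c) c)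
    (ha' : ∀ b c, w' * v b c * w'⁻¹ = v (b + a' * c) c)
    (h : Rel V R i v z w t) (h' : Rel V R i v z w' t') : a * t' = a' * t := by
  obtain ⟨s, k, hk, e⟩ := h
  obtain ⟨s', k', hk', e'⟩ := h'
  have hzc := UU_le_cen j (zU_le j hz)
  -- `z w z⁻¹ = k⁻¹ v⁻¹ w`
  have e1 : z * w * z⁻¹ = k⁻¹ * (v s t)⁻¹ * w := by
    have : z * w * z⁻¹ = (w * z * w⁻¹ * z⁻¹)⁻¹ * w := by group
    rw [this, e]; group
  have e2 : z * w' * z⁻¹ = k'⁻¹ * (v s' t')⁻¹ * w' := by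
    have : z * w' * z⁻¹ = (w' * z * w'⁻¹ * z⁻¹)⁻¹ * w' := by group
    rw [this, e']; group
  have e3 : z * (w * w' * w⁻¹ * w'⁻¹) * z⁻¹ = w * w' * w⁻¹ * w'⁻¹ := by
    have := mem_centralizer_iff.1 hzc _ (b.R_le i (b.WW_comm i hw hw'))
    rw [← this]; group
  have hcent : ∀ m ∈ ZZ V R i, ∀ x ∈ WW V (R i), m * x = x * m := fun m hm x hx => z_comm hm hx
  set r := w * w' * w⁻¹ * w'⁻¹ with hr
  have hrR : r ∈ R i := b.WW_comm i hw hw'
  have hVW := V_le_WW V (R i)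
  have hvm := hVW (c.v_mem s t)
  have hvm' := hVW (c.v_mem s' t')
  -- `[v⁻¹ w, v'⁻¹ w'] = r`
  have e4 : (v s t)⁻¹ * w * ((v s' t')⁻¹ * w') * ((v s t)⁻¹ * w)⁻¹ * ((v s' t')⁻¹ * w')⁻¹ = r := by
    have h1 : z * (w * w' * w⁻¹ * w'⁻¹) * z⁻¹ =
        (z * w * z⁻¹) * (z * w' * z⁻¹) * (z * w * z⁻¹)⁻¹ * (z * w' * z⁻¹)⁻¹ := by group
    rw [← hr, e3, e1, e2] at h1
    have hki := inv_mem hk
    have hki' := inv_mem hk'
    have hx : (v s t)⁻¹ * w ∈ WW V (R i) := mul_mem (inv_mem hvm) hw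
    have hy : (v s' t')⁻¹ * w' ∈ WW V (R i) := mul_mem (inv_mem hvm') hw'
    have hmm := comm_mul_central (hcent _ hki _ hx) (hcent _ hki _ hy) (hcent _ hki' _ hx)
      (hcent _ hki' _ hy) (hcent _ hki _ (zW_le i hki'))
    rw [← hmm, h1]
    simp only [mul_assoc]
  have hrc : ∀ x ∈ WW V (R i), r * x = x * r := fun x hx => hcent _ (b.R_le_Z i hrR) x hx
  have e5 : (v s t)⁻¹ * w * ((v s' t')⁻¹ * w') * ((v s t)⁻¹ * w)⁻¹ * ((v s' t')⁻¹ * w')⁻¹ =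
      r * ((v s t)⁻¹ * (w * v s' t' * w⁻¹)⁻¹ * (w' * v s t * w'⁻¹) * v s' t') := by
    have k1 := hrc _ (mul_mem (inv_mem hvm) (inv_mem (mul_mem (mul_mem hw hvm') (inv_mem hw))))
    calc (v s t)⁻¹ * w * ((v s' t')⁻¹ * w') * ((v s t)⁻¹ * w)⁻¹ * ((v s' t')⁻¹ * w')⁻¹
        = ((v s t)⁻¹ * (w * v s' t' * w⁻¹)⁻¹) * r * (w' * v s t * w'⁻¹) * v s' t' := by
          rw [hr]; group
      _ = _ := by rw [← k1]; group
  rw [e5, mul_eq_left, ha, ha'] at e4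
  have e6 : ∀ x y : F, (v x y)⁻¹ = v x y := fun x y => b.inv_eq (c.v_mem x y)
  rw [e6, e6, ← c.v_add, ← c.v_add, ← c.v_add] at e4
  have e7 := (c.v_one _ _ e4).1
  have e8 : s + (s' + a * t') + (s + a' * t) + s' = a * t' + a' * t := by
    have h1 := CharTwo.add_self_eq_zero s
    have h2 := CharTwo.add_self_eq_zero s'
    linear_combination h1 + h2
  rw [e8] at e7
  exact CharTwo.add_eq_zero.1 e7

theorem rel_conj [CharP F 2] {z w : G} {a t : F} (ha : a ≠ 0) (h : Rel V R i v z w t) :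
    Rel V R i v (hh w1 w2 a * z * (hh w1 w2 a)⁻¹) (hh w1 w2 a * w * (hh w1 w2 a)⁻¹) (a⁻¹ * t) := by
  obtain ⟨s, k, hk, e⟩ := h
  have hN : hh w1 w2 a ∈ normalizer (R i : Set G) := cj_eq_self_iff.1 (c.hh_R1 b ha)
  refine ⟨a * s, hh w1 w2 a * k * (hh w1 w2 a)⁻¹, conj_mem_of_normalizer (N_le_NZ i hN) hk, ?_⟩
  rw [← c.hh_act ha]
  calc _ = hh w1 w2 a * (w * z * w⁻¹ * z⁻¹) * (hh w1 w2 a)⁻¹ := by group
    _ = _ := by rw [e]; group

end

/-- **(10)(b)**: `[W i, Z j] ≤ Z i` -/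
theorem WZ [Finite F] [CharP F 2] (c : Coord V R i j v w1 w2) (b : BT V R)
    (hF : ∃ a : F, a ≠ 0 ∧ a ≠ 1)
    (hUZ : ∀ z ∈ ZZ V R j, ∀ u ∈ UU V R i, u * z = z * u) {z w : G}
    (hz : z ∈ ZZ V R j) (hw : w ∈ WW V (R i)) : w * z * w⁻¹ * z⁻¹ ∈ ZZ V R i := by
  obtain ⟨M, _, _, p1, p2, y⟩ := c.exists_yMod b
  have hw1 := c.w1_mem 1
  have hact := c.w1_act 1
  -- the function `b`
  have B0 : ∀ z ∈ ZZ V R j, ∀ t, Rel V R i v z (w1 1) t → t = 0 := by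
    intro z hz t ht
    have key : ∀ x : F, x ≠ 0 → ∃ zx ∈ ZZ V R j, p2 zx = x • p2 z ∧ zx ∈ UU V R j ∧
        Rel V R i v zx (w1 1) (x ^ 3 * t) := by
      intro x hx
      have hx' : x⁻¹ ≠ 0 := inv_ne_zero hx
      have hN : hh w1 w2 x⁻¹ ∈ normalizer (R j : Set G) := cj_eq_self_iff.1 (c.hh_R2 b hx')
      obtain ⟨h1, h2⟩ := c.hh_q2 b y hx' (zU_le j hz)
      rw [inv_inv] at h2
      have h3 : hh w1 w2 x⁻¹ * z * (hh w1 w2 x⁻¹)⁻¹ ∈ ZZ V R j :=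
        conj_mem_of_normalizer (N_le_NZ j hN) hz
      refine ⟨_, h3, h2, h1, ?_⟩
      obtain ⟨t', ht'⟩ := c.rel_exists b hUZ h3 hw1
      have h4 := c.rel_conj b hx' ht
      have hN1 : hh w1 w2 x⁻¹ ∈ normalizer (R i : Set G) := cj_eq_self_iff.1 (c.hh_R1 b hx')
      have h5 : hh w1 w2 x⁻¹ * w1 1 * (hh w1 w2 x⁻¹)⁻¹ ∈ WW V (R i) :=
        conj_mem_of_normalizer (normalizer_le_WW V (R i) hN1) hw1
      have h6 : ∀ b' c', hh w1 w2 x⁻¹ * w1 1 * (hh w1 w2 x⁻¹)⁻¹ * v b' c' *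
          (hh w1 w2 x⁻¹ * w1 1 * (hh w1 w2 x⁻¹)⁻¹)⁻¹ = v (b' + x⁻¹ ^ 2 * c') c' := by
        intro b' c'
        rw [c.hh_w1_act b hx' 1 (c.v_mem b' c'), mul_one, c.w1_act]
      have h7 := c.rel_key b h3 hw1 h5 hact h6 ht' h4
      rw [one_mul, inv_inv] at h7
      have h8 : t' = x ^ 3 * t := by
        have : x ^ 2 * (x⁻¹ ^ 2 * t') = t' := by
          rw [← mul_assoc, ← mul_pow, mul_inv_cancel₀ hx, one_pow, one_mul]
        rw [← this, ← h7]; ring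
      rw [h8] at ht'
      exact ht'
    obtain ⟨a, ha, ha1⟩ := hF
    have h1a : (1 : F) + a ≠ 0 := by
      intro h
      apply ha1
      exact (CharTwo.add_eq_zero.1 h).symm
    obtain ⟨z1, hz1, p1', hu1, r1⟩ := key 1 one_ne_zero
    obtain ⟨z2, hz2, p2', hu2, r2⟩ := key a ha
    obtain ⟨z3, hz3, p3', hu3, r3⟩ := key (1 + a) h1a
    have hd : z1 * z2 * z3⁻¹ ∈ DD V R := by
      rw [← y.ker2 _ (mul_mem (mul_mem hu1 hu2) (inv_mem hu3)), y.mul2 _ (mul_mem hu1 hu2) _ (inv_mem hu3),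
        y.mul2 _ hu1 _ hu2, y.symm.p1_inv hu3, p1', p2', p3', ← add_smul, add_neg_cancel]
    have hr12 := c.rel_mul b hz1 r1 r2
    have hr0 := c.rel_D b hd hw1
    have hdz : z1 * z2 * z3⁻¹ ∈ ZZ V R j := mul_mem (mul_mem hz1 hz2) (inv_mem hz3)
    have hr3 := c.rel_mul b hdz hr0 r3
    have e : z1 * z2 * z3⁻¹ * z3 = z1 * z2 := by group
    rw [e] at hr3
    have h4 := c.rel_unique b hr12 hr3
    have h5 : a * (1 + a) * t = 0 := by
      have h6 := CharTwo.add_self_eq_zero (a * t)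
      have h7 := CharTwo.add_self_eq_zero (a ^ 2 * t)
      linear_combination -h4 - h6 - h7
    rcases mul_eq_zero.1 h5 with h6 | h6
    · exact absurd h6 (mul_ne_zero ha h1a)
    · exact h6
  obtain ⟨t, ht⟩ := c.rel_exists b hUZ hz hw
  obtain ⟨t1, ht1⟩ := c.rel_exists b hUZ hz hw1
  obtain ⟨a, ha⟩ := c.W1_act w hw
  have h1 := c.rel_key b hz hw1 hw hact ha ht1 ht
  rw [B0 z hz t1 ht1, mul_zero, one_mul] at h1
  subst h1
  obtain ⟨s, k, hk, e⟩ := ht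
  rw [e]
  exact mul_mem (b.R_le_Z i ((c.mem_R1 _).2 ⟨s, rfl⟩)) hk

end Coord

/-! ### (c) -/

/-- the stabiliser of the chain `W i > Z i > 1` -/
def Psi (V : Subgroup G) (R : ι → Subgroup G) (i : ι) : Subgroup G :=
  (normalizer (R i : Set G) ⊓ cenMod (ZZ V R i) (WW V (R i))) ⊓ centralizer (ZZ V R i : Set G)

theorem BT.Psi_le {V : Subgroup G} {R : ι → Subgroup G} [Finite G] (b : BT V R) (i : ι)
    (h2 : IsPGroup 2 (centralizer (WW V (R i) : Set G))) : Psi V R i ≤ QQ (R i) := by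
  refine le_O2_of_normal (inf_le_left.trans inf_le_left) ?_ ?_
  · refine isPGroup_of_odd fun c hc ho => ?_
    obtain ⟨⟨h1, h3, h4⟩, h5⟩ := hc
    have h6 : c ∈ centralizer (WW V (R i) : Set G) := by
      rw [mem_centralizer_iff]
      intro w hw
      have h7 := h4 w hw
      exact (comm_of_odd ho ((b.W_isPGroup i).to_le (zW_le i)) h7
        ((mem_centralizer_iff.1 h5 _ h7).symm)).symm
    obtain ⟨n, hn⟩ := h2 ⟨c, h6⟩
    have hn' : c ^ 2 ^ n = 1 := congrArg Subtype.val hn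
    have hd := Nat.dvd_gcd (dvd_refl (orderOf c)) (orderOf_dvd_of_pow_eq_one hn')
    have hco : Nat.gcd (orderOf c) (2 ^ n) = 1 := (Nat.coprime_two_right.2 ho).pow_right n
    rw [hco, Nat.dvd_one, orderOf_eq_one_iff] at hd
    exact hd
  · rintro g hg x ⟨⟨h1, h3, h4⟩, h5⟩
    have hgZ := N_le_NZ (V := V) i hg
    refine ⟨⟨Subgroup.mul_mem _ (Subgroup.mul_mem _ hg h1) (Subgroup.inv_mem _ hg),
      Subgroup.mul_mem _ (Subgroup.mul_mem _ hgZ h3) (Subgroup.inv_mem _ hgZ), ?_⟩, ?_⟩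
    · intro w hw
      have h6 := h4 _ (conj_inv_mem_of_normalizer (normalizer_le_WW V (R i) hg) hw)
      have h7 := conj_mem_of_normalizer hgZ h6
      have e : g * (x * (g⁻¹ * w * g) * x⁻¹ * (g⁻¹ * w * g)⁻¹) * g⁻¹ =
          g * x * g⁻¹ * w * (g * x * g⁻¹)⁻¹ * w⁻¹ := by group
      rwa [e] at h7
    · exact conj_mem_of_normalizer (normalizer_le_normalizer_centralizer _ hgZ) h5

/-- **(c)** `Z j ≤ D` -/
theorem BT.Z_le_D {V : Subgroup G} {R : ι → Subgroup G} [Finite G] (b : BT V R) {i j : ι} (hij : i ≠ j)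
    (h2 : IsPGroup 2 (centralizer (WW V (R i) : Set G)))
    (hUZ : ∀ z ∈ ZZ V R j, ∀ u ∈ UU V R i, u * z = z * u)
    (hWZ : ∀ z ∈ ZZ V R j, ∀ w ∈ WW V (R i), w * z * w⁻¹ * z⁻¹ ∈ ZZ V R i) : ZZ V R j ≤ DD V R := by
  intro z hz
  have hzc := UU_le_cen j (zU_le j hz)
  have hzN := b.cen_le_N i hzc
  have h1 : z ∈ Psi V R i := by
    refine ⟨⟨hzN, N_le_NZ i hzN, fun w hw => ?_⟩, ?_⟩
    · have e : z * w * z⁻¹ * w⁻¹ = (w * z * w⁻¹ * z⁻¹)⁻¹ := by group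
      rw [e]
      exact inv_mem (hWZ z hz w hw)
    · change z ∈ centralizer (ZZ V R i : Set G)
      rw [mem_centralizer_iff]
      exact fun x hx => hUZ z hz x (zU_le i hx)
  rw [b.D_eq hij.symm]
  exact mem_inf.2 ⟨zW_le j hz, b.Psi_le i h2 h1⟩

/-! ### (d) -/

theorem odd_relIndex_of_norm [Finite G] {K L H : Subgroup G} (hL : L ≤ H)
    (hn : ∀ g ∈ H, ∀ x ∈ L, g * x * g⁻¹ ∈ L) (hodd : Odd (K.relIndex H)) : Odd (K.relIndex L) := by
  haveI : (L.subgroupOf H).Normal := ⟨fun x hx g => hn g g.2 x hx⟩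
  have h1 : (K.subgroupOf H).relIndex (L.subgroupOf H) = K.relIndex L := relIndex_subgroupOf hL
  have h2 := Lib.SylowNormalInf.relIndex_sup_of_normal (K.subgroupOf H) (L.subgroupOf H)
  have h3 : (K.subgroupOf H).relIndex (K.subgroupOf H ⊔ L.subgroupOf H) ∣ (K.subgroupOf H).index :=
    relIndex_dvd_index_of_le le_sup_left
  rw [h2, h1] at h3
  exact Odd.of_dvd_nat hodd h3

section

variable {V : Subgroup G} {R : ι → Subgroup G}

/-- the elements of `N(R i)` centralising `C(W i) / R i` -/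
def Lam (V : Subgroup G) (R : ι → Subgroup G) (i : ι) : Subgroup G :=
  normalizer (R i : Set G) ⊓ cenMod (R i) (centralizer (WW V (R i) : Set G))

theorem BT.Lam_norm (b : BT V R) (i : ι) :
    ∀ g ∈ normalizer (R i : Set G), ∀ x ∈ Lam V R i, g * x * g⁻¹ ∈ Lam V R i := by
  rintro g hg x ⟨h1, h3, h4⟩
  refine ⟨Subgroup.mul_mem _ (Subgroup.mul_mem _ hg h1) (Subgroup.inv_mem _ hg),
    Subgroup.mul_mem _ (Subgroup.mul_mem _ hg h3) (Subgroup.inv_mem _ hg), ?_⟩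
  intro w hw
  have h6 := h4 _ (conj_inv_mem_of_normalizer (b.N_le_NC i hg) hw)
  have h7 := conj_mem_of_normalizer hg h6
  have e : g * (x * (g⁻¹ * w * g) * x⁻¹ * (g⁻¹ * w * g)⁻¹) * g⁻¹ =
      g * x * g⁻¹ * w * (g * x * g⁻¹)⁻¹ * w⁻¹ := by group
  rwa [e] at h7

/-- **(d)**: `C(W i) ≤ R i C(X)` for all `i` implies `C(X) = 1` -/
theorem BTS.cen_X_bot {i j : ι} {F : Type v} [Field F]
    {v : F → F → G} {w1 w2 : F → G} [Finite F] [CharP F 2] [Finite G] (o : BTS V R)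
    (c : Coord V R i j v w1 w2) (hF : ∃ a : F, a ≠ 0 ∧ a ≠ 1)
    (hodd : Odd ((normalizer (V : Set G)).relIndex (normalizer (R i : Set G))))
    (hC : ∀ x ∈ centralizer (WW V (R i) : Set G), ∃ r ∈ R i, r⁻¹ * x ∈ centralizer (XX V R : Set G)) :
    centralizer (XX V R : Set G) = ⊥ := by
  have b := o.toBT
  obtain ⟨a, ha, ha1⟩ := hF
  have hX := c.hh_mem_X b a
  have hN : hh w1 w2 a ∈ normalizer (R i : Set G) := cj_eq_self_iff.1 (c.hh_R1 b ha)
  -- `h(a)` centralises no element of `R i`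
  have hfix : ∀ r ∈ R i, hh w1 w2 a * r * (hh w1 w2 a)⁻¹ = r → r = 1 := by
    intro r hr h
    obtain ⟨s, rfl⟩ := (c.mem_R1 _).1 hr
    rw [c.hh_act ha, mul_zero] at h
    have h1 := (c.v_inj h).1
    have h2 : (a - 1) * s = 0 := by rw [sub_mul, one_mul, h1, sub_self]
    rcases mul_eq_zero.1 h2 with h3 | h3
    · exact absurd (sub_eq_zero.1 h3) ha1
    · rw [h3, c.v_zero]
  set h := hh w1 w2 a with hh'
  have hcX : ∀ x ∈ centralizer (XX V R : Set G), h * x * h⁻¹ = x := by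
    intro x hx
    rw [mem_centralizer_iff.1 hx h hX, mul_inv_cancel_right]
  have hhL : h ∈ Lam V R i := by
    refine ⟨hN, hN, fun x hx => ?_⟩
    obtain ⟨r, hr, hrx⟩ := hC x hx
    have e : h * x * h⁻¹ * x⁻¹ = (h * r * h⁻¹) * (h * (r⁻¹ * x) * h⁻¹) * (r⁻¹ * x)⁻¹ * r⁻¹ := by group
    rw [e, hcX _ hrx, mul_inv_cancel_right]
    exact mul_mem (conj_mem_of_normalizer hN hr) (inv_mem hr)
  have hNVc : normalizer (V : Set G) ≤ normalizer (centralizer (XX V R : Set G) : Set G) :=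
    b.NV_le_NX.trans (normalizer_le_normalizer_centralizer _)
  -- every element of `C(X)` is centralised by `Lam`
  have key : ∀ x ∈ centralizer (XX V R : Set G), ∀ l ∈ Lam V R i, l * x = x * l := by
    intro x hx
    have hxW := cen_X_le i hx
    have hPodd : Odd ((Lam V R i ⊓ normalizer (V : Set G)).relIndex (Lam V R i)) := by
      rw [inf_comm, inf_relIndex_right]
      exact odd_relIndex_of_norm inf_le_left (b.Lam_norm i) hodd
    obtain ⟨r, hr, hr'⟩ := Avg.avg (X := Lam V R i) (P := Lam V R i ⊓ normalizer (V : Set G)) (Y := R i)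
      (D := ⊥) inf_le_left hPodd bot_le
      (fun l hl r hr => conj_mem_of_normalizer hl.1 hr)
      (fun l _ r hr => by rw [mem_bot] at hr ⊢; rw [hr]; group)
      (fun l _ r hr => by rw [mem_bot] at hr ⊢; rw [hr]; group)
      (fun r hr => by rw [mem_bot]; exact b.V_sq r (b.R_le i hr))
      (c := x)
      (fun l hl => by
        have h1 := conj_inv_mem_of_normalizer (b.cen_W_le_N i i hxW) (hl.2.2 x hxW)
        have e : x⁻¹ * (l * x * l⁻¹ * x⁻¹) * x = x⁻¹ * l * x * l⁻¹ := by group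
        rwa [e] at h1)
      (fun l hl => by
        rw [mem_bot]
        have h1 : l * x * l⁻¹ * x⁻¹ = 1 := by
          refine b.cen_VX (b.R_le i (hl.1.2.2 x hxW)) ?_
          exact mul_mem (conj_mem_of_normalizer (hNVc hl.2) hx) (inv_mem hx)
        calc x⁻¹ * l * x * l⁻¹ = x⁻¹ * (l * x * l⁻¹ * x⁻¹) * x := by group
          _ = 1 := by rw [h1]; group)
    have h2 : ∀ l ∈ Lam V R i, l * (x * r) * l⁻¹ = x * r := by
      intro l hl
      have h3 := mem_bot.1 (hr' l hl)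
      calc l * (x * r) * l⁻¹ = (x * r) * ((x * r)⁻¹ * l * (x * r) * l⁻¹) := by group
        _ = x * r := by rw [h3, mul_one]
    have h3 := h2 h hhL
    have h4 : r = 1 := by
      refine hfix r hr ?_
      have e : h * (x * r) * h⁻¹ = (h * x * h⁻¹) * (h * r * h⁻¹) := by group
      rw [e, hcX x hx] at h3
      exact mul_left_cancel h3
    intro l hl
    have h5 := h2 l hl
    rw [h4, mul_one, mul_inv_eq_iff_eq_mul] at h5
    exact h5
  -- `C(X) = C(Lam) ∩ C(W i)`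
  have heq : centralizer (XX V R : Set G) = centralizer (Lam V R i : Set G) ⊓ centralizer (WW V (R i) : Set G) := by
    apply le_antisymm
    · intro x hx
      refine mem_inf.2 ⟨?_, cen_X_le i hx⟩
      rw [mem_centralizer_iff]
      exact fun l hl => key x hx l hl
    · rintro x ⟨h1, h2⟩
      obtain ⟨r, hr, hrx⟩ := hC x h2
      have h3 : h * x * h⁻¹ = x := by
        rw [mem_centralizer_iff.1 h1 h hhL, mul_inv_cancel_right]
      have h4 : r = 1 := by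
        refine hfix r hr ?_
        have e : h * x * h⁻¹ = (h * r * h⁻¹) * (h * (r⁻¹ * x) * h⁻¹) := by group
        rw [e, hcX _ hrx] at h3
        have h5 : h * r * h⁻¹ = x * (r⁻¹ * x)⁻¹ := eq_mul_inv_of_mul_eq h3
        rw [h5]; group
      rw [h4] at hrx
      simpa using hrx
  have hLN : normalizer (R i : Set G) ≤ normalizer (Lam V R i : Set G) := by
    refine le_normalizer_of (b.Lam_norm i)
  refine o.nonloc i _ ((o.out_two i).to_le (cen_X_le i))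
    (((cen_X_le i).trans (cen_W_le V (R i))).trans (cen_le_NV V))
    ((cen_X_le i).trans (b.cen_W_le_N i i)) hNVc ?_
  rw [heq]
  intro g hg
  rw [← cj_eq_self_iff, cj_inf, ← centralizer_cj, ← centralizer_cj, cj_eq_self_iff.2 (hLN hg),
    cj_eq_self_iff.2 (normalizer_le_WW V (R i) hg)]

/-- **THEOREM (10)** of #12692, K-free, `q ≥ 4`: if `⟨A^H⟩` is perfect and `A` centralises `Z i / R i`
then `C(X) = 1`. -/
theorem BTS.ten {i j : ι} {F : Type v} [Field F]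
    {v : F → F → G} {w1 w2 : F → G} [Finite F] [CharP F 2] [Finite G] (o : BTS V R)
    (c : Coord V R i j v w1 w2) (hF : ∃ a : F, a ≠ 0 ∧ a ≠ 1)
    (hodd : Odd ((normalizer (V : Set G)).relIndex (normalizer (R i : Set G))))
    (hZ : ∀ u ∈ UU V R j, ∀ z ∈ ZZ V R i, u * z * u⁻¹ * z⁻¹ ∈ R i)
    (hperf : ∀ u ∈ UU V R j, ∃ x ∈ ⁅LU V R i j, LU V R i j⁆, x⁻¹ * u ∈ QQ (R i)) :
    centralizer (XX V R : Set G) = ⊥ := by
  have b := o.toBT
  have h1 := c.UZ b hF hZ hperf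
  -- a swap
  obtain ⟨n, hn, e1, e2⟩ := b.trans_X c.ne c.ne.symm
  have hUZ : ∀ z ∈ ZZ V R j, ∀ u ∈ UU V R i, u * z = z * u := by
    intro z hz u hu
    rw [← b.cj_ZZ e1, mem_cj] at hz
    rw [← b.cj_UU (b.X_le_NV hn) e2, mem_cj] at hu
    have h2 := h1 _ hu _ hz
    calc u * z = n * ((n⁻¹ * u * n) * (n⁻¹ * z * n)) * n⁻¹ := by group
      _ = n * ((n⁻¹ * z * n) * (n⁻¹ * u * n)) * n⁻¹ := by rw [h2]
      _ = z * u := by group
  have h3 : ZZ V R j ≤ DD V R :=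
    b.Z_le_D c.ne (o.out_two i) hUZ fun z hz w hw => c.WZ b hF hUZ hz hw
  have h4 : ZZ V R i ≤ DD V R := by
    intro z hz
    have h5 := h3 (show n * z * n⁻¹ ∈ ZZ V R j by rw [← b.cj_ZZ e1]; exact conj_mem_cj hz)
    have h6 := conj_inv_mem_of_normalizer (b.NV_le_ND (b.X_le_NV hn)) h5
    have e : n⁻¹ * (n * z * n⁻¹) * n = z := by group
    rwa [e] at h6
  refine o.cen_X_bot c hF hodd fun x hx => ?_
  obtain ⟨z, hz, hzx⟩ := o.out_four c hF i hx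
  have hzC : z ∈ centralizer (WW V (R i) : Set G) := by
    have e : z = x * (z⁻¹ * x)⁻¹ := by group
    rw [e]
    exact mul_mem hx (inv_mem (cen_X_le i hzx))
  obtain ⟨r, hr, hrz⟩ := o.out_one (h4 (mem_inf.2 ⟨hz, hzC⟩)) hzC
  refine ⟨r, hr, ?_⟩
  have e : r⁻¹ * x = (r⁻¹ * z) * (z⁻¹ * x) := by group
  rw [e]
  exact mul_mem hrz hzx

end

end Cfsg.Agent.Omega.BTwo

end

section


/-!
# II.0h1, `q = 2`: THEOREM D (#13913)

`BTS V R`, LEMMA E (`LE`) at all points, `|R j| = 2`, a Sylow 2-subgroup `S ≤ N(V) ∩ N(R j)`.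

* `D1` : `n ∈ Z(Q i)`, `i ≠ j`, `[n, Q j] ≤ Z(Q j)` implies `n ∈ R i × C_X`;
* `D2` : `n ∈ Z(Q i)`, `n² = 1`, `[n, x] ∈ V Z(Q j)` for one `x ∈ Q j - C(V)` implies `n ∈ R i × C_X`;
* `D3` : `|Ω₁ Z(Q i) : R i × C_X| ≤ |J : V × C_X|`.
-/

set_option autoImplicit false
set_option linter.unusedSectionVars false

namespace Cfsg.Agent.Omega.HTwo.ThmD

open Subgroup Cfsg.Agent.Omega.BTwo Cfsg.Agent.Omega.HTwo.ThmA Cfsg.Agent.Omega.HTwo.Comm
  Cfsg.Agent.Omega.HTwo.Hat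

variable {G : Type*} [Group G] {ι : Type*} {V : Subgroup G} {R : ι → Subgroup G}

/-- `O = C_{H j}(Q j / Z(Q j))` -/
def OO (R : ι → Subgroup G) (j : ι) : Subgroup G where
  carrier := {g | g ∈ normalizer (R j : Set G) ∧ ∀ x ∈ QQ (R j), g * x * g⁻¹ * x⁻¹ ∈ ZQ R j}
  one_mem' := ⟨one_mem _, fun x _ => by
    have : (1 : G) * x * 1⁻¹ * x⁻¹ = 1 := by group
    rw [this]; exact one_mem _⟩
  mul_mem' := by
    rintro g g' ⟨hg, h⟩ ⟨hg', h'⟩
    refine ⟨mul_mem hg hg', fun x hx => ?_⟩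
    have e : g * g' * x * (g * g')⁻¹ * x⁻¹ = g * (g' * x * g'⁻¹ * x⁻¹) * g⁻¹ * (g * x * g⁻¹ * x⁻¹) := by
      group
    rw [e]
    exact mul_mem (conj_mem_of_normalizer (N_le_NZQ j hg) (h' x hx)) (h x hx)
  inv_mem' := by
    rintro g ⟨hg, h⟩
    refine ⟨inv_mem hg, fun x hx => ?_⟩
    have e : g⁻¹ * x * g⁻¹⁻¹ * x⁻¹ = g⁻¹ * (g * x * g⁻¹ * x⁻¹)⁻¹ * g := by group
    rw [e]
    exact conj_inv_mem_of_normalizer (N_le_NZQ j hg) (inv_mem (h x hx))

theorem OO_le (j : ι) : OO R j ≤ normalizer (R j : Set G) := fun _ h => h.1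

theorem OO_norm (j : ι) : ∀ m ∈ normalizer (R j : Set G), ∀ g ∈ OO R j, m * g * m⁻¹ ∈ OO R j := by
  rintro m hm g ⟨hg, h⟩
  refine ⟨mul_mem (mul_mem hm hg) (inv_mem hm), fun x hx => ?_⟩
  have hx' : m⁻¹ * x * m ∈ QQ (R j) := conj_inv_mem_of_normalizer (le_normalizer_O2 _ hm) hx
  have e : m * g * m⁻¹ * x * (m * g * m⁻¹)⁻¹ * x⁻¹ =
      m * (g * (m⁻¹ * x * m) * g⁻¹ * (m⁻¹ * x * m)⁻¹) * m⁻¹ := by group
  rw [e]
  exact conj_mem_of_normalizer (N_le_NZQ j hm) (h _ hx')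

/-- a Sylow 2-subgroup of `G` in `H` has odd index -/
theorem odd_relIndex [Finite G] (S : Sylow 2 G) {H : Subgroup G} (h : (S : Subgroup G) ≤ H) :
    Odd ((S : Subgroup G).relIndex H) := by
  have hfact : Fact (Nat.Prime 2) := ⟨Nat.prime_two⟩
  rw [← Nat.not_even_iff_odd, even_iff_two_dvd]
  intro hd
  exact S.not_dvd_index (hd.trans (relIndex_dvd_index_of_le h))

theorem relIndex_cj (g : G) (A B : Subgroup G) : (cj g A).relIndex (cj g B) = A.relIndex B :=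
  relIndex_map_map_of_injective _ _ (MulAut.conj g).injective

/-- `|Q j : E j| = 2` if `|R j| = 2` -/
theorem inv_mul_mem_cen (b : BT V R) {j : ι} {r : G} (hr : ∀ x ∈ R j, x = 1 ∨ x = r) {x y : G}
    (hx : x ∈ QQ (R j)) (hx' : x ∉ centralizer (V : Set G)) (hy : y ∈ QQ (R j))
    (hy' : y ∉ centralizer (V : Set G)) : x⁻¹ * y ∈ centralizer (V : Set G) := by
  have key : ∀ z : G, z ∈ QQ (R j) → z ∉ centralizer (V : Set G) → ∀ v ∈ V, v ∉ R j →
      z * v * z⁻¹ * v⁻¹ = r := by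
    intro z hz hz' v hv hvj
    have h1 := b.QV j z hz v hv
    refine (hr _ h1).resolve_left fun h2 => ?_
    obtain ⟨m, hm⟩ := b.R_cov v hv
    have hmj : m ≠ j := by rintro rfl; exact hvj hm
    obtain ⟨k, hkm, -, hk⟩ := movesQ b hmj hz hz'
    have h3 : z * v * z⁻¹ = v := by rwa [mul_inv_eq_one] at h2
    have h4 : v ∈ R k := by rw [← h3, ← hk]; exact conj_mem_cj hm
    apply hvj
    rw [b.eq_one hkm h4 hm]
    exact one_mem _
  rw [mem_centralizer_iff]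
  intro v hv
  have h1 : x * v * x⁻¹ = y * v * y⁻¹ := by
    by_cases hvj : v ∈ R j
    · rw [b.conj_R hx hvj, b.conj_R hy hvj]
    · have e1 := key x hx hx' v hv hvj
      have e2 := key y hy hy' v hv hvj
      rw [← e2] at e1
      exact mul_right_cancel e1
  calc v * (x⁻¹ * y) = x⁻¹ * (x * v * x⁻¹) * y := by group
    _ = x⁻¹ * (y * v * y⁻¹) * y := by rw [h1]
    _ = x⁻¹ * y * v := by group

section

variable [Finite G] (b : BTS V R) (h : ∀ i, LE V R i)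
include b h

/-- the averaged element: `c ∈ Q j - C(V)` with `[c, O] ≤ R j`, moving `R i` to `R l` -/
theorem exists_avg {j : ι} {r : G} (hr : ∀ x ∈ R j, x = 1 ∨ x = r) (S : Sylow 2 G)
    (hSV : (S : Subgroup G) ≤ normalizer (V : Set G)) (hSR : (S : Subgroup G) ≤ normalizer (R j : Set G))
    {i l : ι} (hi : i ≠ j) (hl : l ≠ j) :
    ∃ c ∈ QQ (R j), cj c (R i) = R l ∧ ∀ g ∈ OO R j, g * c * g⁻¹ * c⁻¹ ∈ R j := by
  obtain ⟨k, hk, H⟩ := b.mt j
  obtain ⟨⟨v, hv, e⟩, -⟩ := H i l hi hl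
  set v' := k * v * k⁻¹ with hv'
  have hv'W : v' ∈ WW V (R j) := cj_le_WW hk (conj_mem_cj hv)
  have hv'Q := b.W_le_Q j hv'W
  -- elements of the Sylow group `S^k` fix `v' R j`
  have hS : ∀ s ∈ cj k (S : Subgroup G), s * v' * s⁻¹ * v'⁻¹ ∈ R j := by
    intro s hs
    rw [mem_cj] at hs
    set t := k⁻¹ * s * k with ht
    have hs' : s = k * t * k⁻¹ := by rw [ht]; group
    have htV : t * v * t⁻¹ ∈ V := conj_mem_of_normalizer (hSV hs) hv
    have htR := hSR hs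
    -- `[t, v] ∈ R j` since `V / R j` has order 2
    have key : t * v * t⁻¹ * v⁻¹ ∈ R j := by
      obtain ⟨m, hm⟩ := b.R_cov v hv
      obtain ⟨m', hm'⟩ := b.R_cov _ htV
      by_cases hmj : m = j
      · subst hmj
        exact mul_mem (conj_mem_of_normalizer htR hm) (inv_mem hm)
      by_cases hmj' : m' = j
      · subst hmj'
        have h1 : v ∈ R m' := by
          have := conj_inv_mem_of_normalizer htR hm'
          have e1 : t⁻¹ * (t * v * t⁻¹) * t = v := by group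
          rwa [e1] at this
        exact mul_mem hm' (inv_mem h1)
      -- both are nontrivial or trivial
      by_cases hv1 : v = 1
      · rw [hv1, mul_one, mul_inv_cancel, inv_one, mul_one]; exact one_mem _
      by_cases hmm : m = m'
      · subst hmm
        obtain ⟨x, hx, ex⟩ := b.trans_one j m
        have h2 : ∀ y ∈ R m, y = 1 ∨ y = x * r * x⁻¹ := by
          intro y hy
          rw [← ex, mem_cj] at hy
          rcases hr _ hy with h3 | h3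
          · left
            have : y = x * (x⁻¹ * y * x) * x⁻¹ := by group
            rw [this, h3]; group
          · right
            rw [← h3]; group
        have h3 : t * v * t⁻¹ ≠ 1 := fun h => hv1 (conj_eq_one_iff.1 h)
        have h4 : t * v * t⁻¹ = v :=
          ((h2 _ hm').resolve_left h3).trans ((h2 _ hm).resolve_left hv1).symm
        rw [h4, mul_inv_cancel]; exact one_mem _
      · -- `v ∈ R m`, `t v t⁻¹ ∈ R m'`: their product is in the third point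
        obtain ⟨w, hw, ew⟩ := b.trans j hmj hmj'
        have h5 : w * v * w⁻¹ ∈ R m' := by rw [← ew]; exact conj_mem_cj hm
        obtain ⟨x, hx, ex⟩ := b.trans_one j m'
        have h2 : ∀ y ∈ R m', y = 1 ∨ y = x * r * x⁻¹ := by
          intro y hy
          rw [← ex, mem_cj] at hy
          rcases hr _ hy with h3 | h3
          · left
            have : y = x * (x⁻¹ * y * x) * x⁻¹ := by group
            rw [this, h3]; group
          · right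
            rw [← h3]; group
        have h3 : t * v * t⁻¹ ≠ 1 := fun h => hv1 (conj_eq_one_iff.1 h)
        have h3' : w * v * w⁻¹ ≠ 1 := fun h => hv1 (conj_eq_one_iff.1 h)
        have h4 : t * v * t⁻¹ = w * v * w⁻¹ :=
          ((h2 _ hm').resolve_left h3).trans ((h2 _ h5).resolve_left h3').symm
        rw [h4]
        exact b.QV j w (b.W_le_Q j hw) v hv
    have e1 : s * v' * s⁻¹ * v'⁻¹ = k * (t * v * t⁻¹ * v⁻¹) * k⁻¹ := by rw [hs', hv']; group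
    rw [e1]
    exact conj_mem_of_normalizer hk key
  -- average
  have hodd : Odd ((cj k (S : Subgroup G) ⊓ OO R j).relIndex (OO R j)) := by
    rw [inf_relIndex_right]
    refine odd_relIndex_of_norm (OO_le j) (OO_norm j) ?_
    have h1 : cj k (normalizer (R j : Set G)) = normalizer (R j : Set G) := cj_of_mem hk
    rw [← h1, relIndex_cj]
    exact odd_relIndex S hSR
  have hQZ : ∀ g ∈ OO R j, v'⁻¹ * g * v' * g⁻¹ ∈ ZQ R j := by
    intro g hg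
    have h1 := hg.2 _ (inv_mem hv'Q)
    have h2 : (g * v'⁻¹ * g⁻¹ * v'⁻¹⁻¹)⁻¹ ∈ ZQ R j := inv_mem h1
    have e2 : v'⁻¹ * g * v' * g⁻¹ = (g * v'⁻¹ * g⁻¹ * v'⁻¹⁻¹)⁻¹ := by group
    rw [e2]
    exact h2
  obtain ⟨y, hy, hc⟩ := Avg.avg (X := OO R j) (P := cj k (S : Subgroup G) ⊓ OO R j) (Y := ZQ R j) (D := R j)
    (c := v') inf_le_right hodd (R_le_ZQ b.toBT j)
    (fun g hg x hx => conj_mem_of_normalizer (N_le_NZQ j hg.1) hx)
    (fun g hg x hx => conj_mem_of_normalizer hg.1 hx)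
    (fun x hx y hy => conj_mem_of_normalizer (b.Q_le j (ZQ_le j hx)) hy)
    (fun x hx => Q_sq b (h j) (ZQ_le j hx)) hQZ
    (by
      rintro g ⟨hg, -⟩
      have h1 := hS g hg
      have h2 : v'⁻¹ * (g * v' * g⁻¹ * v'⁻¹) * v' ∈ R j := by
        exact conj_inv_mem_of_normalizer (b.Q_le j hv'Q) h1
      have e1 : v'⁻¹ * (g * v' * g⁻¹ * v'⁻¹) * v' = v'⁻¹ * g * v' * g⁻¹ := by group
      rwa [e1] at h2)
  have hyQ := ZQ_le j hy
  have hcQ : v' * y ∈ QQ (R j) := mul_mem hv'Q hyQ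
  refine ⟨v' * y, hcQ, ?_, fun g hg => ?_⟩
  · rw [cj_mul, cj_eq_self_iff.2 (b.cen_le_N i (ZQ_le_cen b.toBT j hy)), e]
  · have h1 := hc g hg
    have h2 := conj_mem_of_normalizer (b.Q_le j hcQ) h1
    have e1 : v' * y * ((v' * y)⁻¹ * g * (v' * y) * g⁻¹) * (v' * y)⁻¹ = g * (v' * y) * g⁻¹ * (v' * y)⁻¹ := by
      group
    rwa [e1] at h2

/-- **THEOREM D (iii)** -/
theorem D1 {j : ι} {r : G} (hr : ∀ x ∈ R j, x = 1 ∨ x = r) (S : Sylow 2 G)
    (hSV : (S : Subgroup G) ≤ normalizer (V : Set G)) (hSR : (S : Subgroup G) ≤ normalizer (R j : Set G))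
    {i : ι} (hij : i ≠ j) {n : G} (hn : n ∈ ZQ R i) (hc : ∀ x ∈ QQ (R j), n * x * n⁻¹ * x⁻¹ ∈ ZQ R j) :
    ∃ a ∈ R i, a * n ∈ CenX V R := by
  obtain ⟨l, hli, hlj⟩ := b.third i j
  obtain ⟨c, hcQ, e, hO⟩ := exists_avg b h hr S hSV hSR hij hlj
  have hnV := ZQ_le_cen b.toBT i hn
  have hnO : n ∈ OO R j := ⟨b.cen_le_N j hnV, hc⟩
  have h1 := hO n hnO
  -- `c n c⁻¹ ∈ Z(Q l)`
  have h2 : c * n * c⁻¹ ∈ ZQ R l := by
    rw [← cj_ZQ b.toBT e]
    exact conj_mem_cj hn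
  -- `n ∈ R j · Z(Q l) ≤ Q l`
  have h3 : n = (n * c * n⁻¹ * c⁻¹) * (c * n * c⁻¹) := by group
  have h4 : n ∈ QQ (R l) := by
    rw [h3]
    exact mul_mem ((b.R_le j).trans (b.V_Q l) h1) (ZQ_le l h2)
  exact ZQ_Q b (Ne.symm hli) hn h4

/-- `n ∈ Z(Q i)` commutes with `x n x⁻¹`, `x ∈ Q j - C(V)` -/
theorem comm_conjQ {i j : ι} (hij : i ≠ j) {n x : G} (hn : n ∈ ZQ R i) (hx : x ∈ QQ (R j))
    (hx' : x ∉ centralizer (V : Set G)) : n * (x * n * x⁻¹) = x * n * x⁻¹ * n := by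
  have _ := h
  obtain ⟨w, hw, c, hc, rfl⟩ := Q_eq b.toBT j hx
  have hwU : w ∉ UU V R j := by
    intro hwU
    exact hx' (mul_mem (b.C_le_cen hc) (UU_le_cen j hwU))
  obtain ⟨k, -, -, hk⟩ := b.moves hij hw hwU
  have h1 : w * n * w⁻¹ ∈ ZQ R k := by
    rw [← cj_ZQ b.toBT hk]; exact conj_mem_cj hn
  have h2 : c * (w * n * w⁻¹) = (w * n * w⁻¹) * c := ZQ_comm h1 (mem_iInf.1 hc k)
  have e : c * w * n * (c * w)⁻¹ = w * n * w⁻¹ := by
    calc c * w * n * (c * w)⁻¹ = c * (w * n * w⁻¹) * c⁻¹ := by group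
      _ = w * n * w⁻¹ := by rw [h2]; group
  rw [e]
  exact Comm.comm_conj b hij (ZQ_le_cenW b.toBT i hn) hw hwU

/-- `[n, y] = a c`, `a ∈ R i`, `c ∈ C_X`, `y ∈ E j`: if `[n, x]` commutes with `y` for some `x ∈ Q j - C(V)` then
`[n, y] ∈ C_X` -/
theorem mem_cenX_of {i j : ι} (hij : i ≠ j) {n x y : G} (hn : n ∈ ZQ R i) (hx : x ∈ QQ (R j))
    (hx' : x ∉ centralizer (V : Set G)) (hy : y ∈ EE V R j)
    (hc : (n * x * n⁻¹ * x⁻¹) * y = y * (n * x * n⁻¹ * x⁻¹)) : n * y * n⁻¹ * y⁻¹ ∈ CenX V R := by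
  obtain ⟨a, ha, hac⟩ := ZQ_E b hij hn hy
  obtain ⟨k, hki, hkj, hk⟩ := movesQ b.toBT hij hx hx'
  have hnV := ZQ_le_cen b.toBT i hn
  set t := n * y * n⁻¹ * y⁻¹ with ht
  set c := a * t with hcdef
  have haV := b.R_le i ha
  have hta : t = a⁻¹ * c := by rw [hcdef]; group
  have hcV : ∀ v ∈ V, v * c = c * v := fun v hv => mem_centralizer_iff.1 (b.CenX_le_cen hac) v hv
  -- `t` commutes with `V`
  have htV : ∀ v ∈ V, v * t = t * v := by
    intro v hv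
    rw [hta]
    calc v * (a⁻¹ * c) = (v * a⁻¹) * c := by group
      _ = a⁻¹ * (v * c) := by rw [b.V_comm v hv _ (inv_mem haV)]; group
      _ = a⁻¹ * c * v := by rw [hcV v hv]; group
  set n' := x * n * x⁻¹ with hn'
  have hn'Z : n' ∈ ZQ R k := by rw [← cj_ZQ b.toBT hk]; exact conj_mem_cj hn
  have hn'V := ZQ_le_cen b.toBT k hn'Z
  have hxc : x * c = c * x := (cenX_Q b (h j) hac hx).symm
  have hn'c : n' * c = c * n' := (cenX_Q b (h k) hac (ZQ_le k hn'Z)).symm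
  have hnc : n * c = c * n := (cenX_Q b (h i) hac (ZQ_le i hn)).symm
  -- `[n', y] = x t x⁻¹`
  have h1 : n' * y * n'⁻¹ * y⁻¹ = x * t * x⁻¹ := by
    have hs : x⁻¹ * y * x⁻¹⁻¹ * y⁻¹ ∈ R j := Q_comm b (h j) (inv_mem hx) hy.1
    set s := x⁻¹ * y * x⁻¹⁻¹ * y⁻¹ with hsdef
    have e1 : x⁻¹ * y * x = s * y := by rw [hsdef]; group
    have e2 : n * s = s * n := (mem_centralizer_iff.1 hnV s (b.R_le j hs)).symm
    have e3 : s * t = t * s := htV s (b.R_le j hs)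
    calc n' * y * n'⁻¹ * y⁻¹ = x * (n * (x⁻¹ * y * x) * n⁻¹ * (x⁻¹ * y * x)⁻¹) * x⁻¹ := by rw [hn']; group
      _ = x * ((n * s) * y * n⁻¹ * y⁻¹ * s⁻¹) * x⁻¹ := by rw [e1]; group
      _ = x * (s * (n * y * n⁻¹ * y⁻¹) * s⁻¹) * x⁻¹ := by rw [e2]; group
      _ = x * (s * t * s⁻¹) * x⁻¹ := rfl
      _ = x * t * x⁻¹ := by rw [e3]; group
  -- `x t x⁻¹ = (x a⁻¹ x⁻¹) c`
  have h2 : x * t * x⁻¹ = (x * a⁻¹ * x⁻¹) * c := by
    rw [hta]
    calc x * (a⁻¹ * c) * x⁻¹ = (x * a⁻¹ * x⁻¹) * (x * c) * x⁻¹ := by group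
      _ = (x * a⁻¹ * x⁻¹) * c := by rw [hxc]; group
  have hxa : x * a⁻¹ * x⁻¹ ∈ R k := by rw [← hk]; exact conj_mem_cj (inv_mem ha)
  set t' := n' * y * n'⁻¹ * y⁻¹ with ht'
  have h3 : t' = (x * a⁻¹ * x⁻¹) * c := h1.trans h2
  -- `t'` commutes with `n'`, `t` with `n`
  have h4 : n' * t' = t' * n' := by
    rw [h3]
    calc n' * ((x * a⁻¹ * x⁻¹) * c) = (n' * (x * a⁻¹ * x⁻¹)) * c := by group
      _ = (x * a⁻¹ * x⁻¹) * (n' * c) := by
          rw [← mem_centralizer_iff.1 hn'V _ (b.R_le k hxa)]; group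
      _ = (x * a⁻¹ * x⁻¹) * c * n' := by rw [hn'c]; group
  have h5 : n * t' = t' * n := by
    rw [h3]
    calc n * ((x * a⁻¹ * x⁻¹) * c) = (n * (x * a⁻¹ * x⁻¹)) * c := by group
      _ = (x * a⁻¹ * x⁻¹) * (n * c) := by
          rw [← mem_centralizer_iff.1 hnV _ (b.R_le k hxa)]; group
      _ = (x * a⁻¹ * x⁻¹) * c * n := by rw [hnc]; group
  -- `u = n n'⁻¹` commutes with `y`, so `t = t'`
  have h6 : t = t' := by
    have e1 : n * x * n⁻¹ * x⁻¹ = n * n'⁻¹ := by rw [hn']; group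
    rw [e1] at hc
    have e2 : n' * y = t' * (y * n') := by rw [ht']; group
    have e3 : n * y = t * (y * n) := by rw [ht]; group
    -- `y n' = t'⁻¹ n' y`, `n'⁻¹ y = y ...`
    have e4 : n'⁻¹ * y = t'⁻¹ * (y * n'⁻¹) := by
      have h7 : n'⁻¹ * t' = t' * n'⁻¹ := by
        rw [inv_mul_eq_iff_eq_mul, ← mul_assoc, h4, mul_inv_cancel_right]
      have h8 : n' * (t'⁻¹ * (y * n'⁻¹)) = y := by
        have h9 : n' * t'⁻¹ = t'⁻¹ * n' := by
          rw [eq_inv_mul_iff_mul_eq, ← mul_assoc, ← h4, mul_inv_cancel_right]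
        calc n' * (t'⁻¹ * (y * n'⁻¹)) = (n' * t'⁻¹) * y * n'⁻¹ := by group
          _ = t'⁻¹ * (n' * y) * n'⁻¹ := by rw [h9]; group
          _ = y := by rw [e2]; group
      rw [inv_mul_eq_iff_eq_mul]
      exact h8.symm
    have e5 : n * n'⁻¹ * y = t'⁻¹ * t * (y * (n * n'⁻¹)) := by
      have h9 : n * t'⁻¹ = t'⁻¹ * n := by
        rw [eq_inv_mul_iff_mul_eq, ← mul_assoc, ← h5, mul_inv_cancel_right]
      calc n * n'⁻¹ * y = n * (n'⁻¹ * y) := by group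
        _ = (n * t'⁻¹) * y * n'⁻¹ := by rw [e4]; group
        _ = t'⁻¹ * (n * y) * n'⁻¹ := by rw [h9]; group
        _ = t'⁻¹ * t * (y * (n * n'⁻¹)) := by rw [e3]; group
    rw [hc] at e5
    have e6 : t'⁻¹ * t = 1 := by
      have := congrArg (fun z => z * (y * (n * n'⁻¹))⁻¹) e5
      simp only [mul_inv_cancel, mul_inv_cancel_right] at this
      exact this.symm
    rw [inv_mul_eq_one] at e6
    exact e6.symm
  rw [hta, h3] at h6
  have h7 : a⁻¹ = x * a⁻¹ * x⁻¹ := mul_right_cancel h6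
  have h8 : a⁻¹ = 1 := b.eq_one (Ne.symm hki) (inv_mem ha) (by rw [h7]; exact hxa)
  have h9 : a = 1 := inv_eq_one.1 h8
  have h10 : t = c := by rw [hcdef, h9, one_mul]
  rw [h10]
  exact hac

/-- **THEOREM D (iv)** -/
theorem D2 {j : ι} {r : G} (hr : ∀ x ∈ R j, x = 1 ∨ x = r) (S : Sylow 2 G)
    (hSV : (S : Subgroup G) ≤ normalizer (V : Set G)) (hSR : (S : Subgroup G) ≤ normalizer (R j : Set G))
    {i : ι} (hij : i ≠ j) {n x : G} (hn : n ∈ ZQ R i) (hn2 : n * n = 1) (hx : x ∈ QQ (R j))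
    (hx' : x ∉ centralizer (V : Set G)) (hv : ∃ v ∈ V, v * (n * x * n⁻¹ * x⁻¹) ∈ ZQ R j) :
    ∃ a ∈ R i, a * n ∈ CenX V R := by
  obtain ⟨v, hv, hζ⟩ := hv
  set u := n * x * n⁻¹ * x⁻¹ with hu
  set ζ := v * u with hζdef
  have huv : u = v⁻¹ * ζ := by rw [hζdef]; group
  have hζV := ZQ_le_cen b.toBT j hζ
  have hnV := ZQ_le_cen b.toBT i hn
  -- `u` commutes with `E j`
  have h1 : ∀ y ∈ EE V R j, u * y = y * u := by
    intro y hy
    have e1 : y * v⁻¹ = v⁻¹ * y := (mem_centralizer_iff.1 hy.2 _ (inv_mem hv)).symm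
    have e2 : y * ζ = ζ * y := ZQ_comm hζ hy.1
    rw [huv]
    calc v⁻¹ * ζ * y = v⁻¹ * (y * ζ) := by rw [e2]; group
      _ = (v⁻¹ * y) * ζ := by group
      _ = y * (v⁻¹ * ζ) := by rw [← e1]; group
  -- `[n, E j] ≤ C_X`
  have h2 : ∀ y ∈ EE V R j, n * y * n⁻¹ * y⁻¹ ∈ ZQ R j := fun y hy =>
    cenX_le_ZQ b h j (mem_cenX_of b h hij hn hx hx' hy (h1 y hy))
  -- `u² = 1`
  have h3 : u * u = 1 := by
    have e1 := comm_conjQ b h hij hn hx hx'
    set n' := x * n * x⁻¹ with hn'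
    have e2 : u = n * n'⁻¹ := by rw [hu, hn']; group
    have e3 : n'⁻¹ = n' := by
      rw [inv_eq_iff_mul_eq_one, hn']
      calc x * n * x⁻¹ * (x * n * x⁻¹) = x * (n * n) * x⁻¹ := by group
        _ = 1 := by rw [hn2]; group
    rw [e2, e3]
    calc n * n' * (n * n') = n * (n' * n) * n' := by group
      _ = (n * n) * (n' * n') := by rw [← e1]; group
      _ = 1 := by
        rw [hn2, one_mul]
        calc n' * n' = n' * n'⁻¹ := by rw [e3]
          _ = 1 := mul_inv_cancel _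
  have hvζ : v * ζ = ζ * v := mem_centralizer_iff.1 hζV v hv
  have hvv := b.V_sq v hv
  have hvi : v⁻¹ = v := b.inv_eq hv
  have hζζ : ζ * ζ = 1 := by
    rw [← h3]
    have e1 : u * v = v * u := by
      rw [huv, hvi]
      rw [mul_assoc, ← hvζ]
    calc ζ * ζ = v * (u * v) * u := by rw [hζdef]; group
      _ = (v * v) * (u * u) := by rw [e1]; group
      _ = u * u := by rw [hvv, one_mul]
  -- `u (x u x⁻¹) = 1`
  have hxζ : x * ζ = ζ * x := ZQ_comm hζ hx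
  have h4 : u * (x * u * x⁻¹) = 1 := by
    have hxx : x * x ∈ R j := Q_sq b (h j) hx
    have e1 : n * (x * x) = x * x * n := (mem_centralizer_iff.1 hnV _ (b.R_le j hxx)).symm
    have e2 : u * x = n * x * n⁻¹ := by rw [hu]; group
    calc u * (x * u * x⁻¹) = (u * x) * (u * x) * (x * x)⁻¹ := by group
      _ = n * (x * x) * n⁻¹ * (x * x)⁻¹ := by rw [e2]; group
      _ = 1 := by rw [e1]; group
  have h5 : x * v * x⁻¹ = v := by
    rw [huv, hvi] at h4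
    have e1 : v * ζ * (x * (v * ζ) * x⁻¹) = v * (x * v * x⁻¹) := by
      have e2 : x * (v * ζ) * x⁻¹ = (x * v * x⁻¹) * ζ := by
        calc x * (v * ζ) * x⁻¹ = (x * v * x⁻¹) * (x * ζ) * x⁻¹ := by group
          _ = (x * v * x⁻¹) * ζ := by rw [hxζ]; group
      have hxv : x * v * x⁻¹ ∈ V := conj_mem_of_normalizer ((b.Q_le_K j).trans (b.K_le_NV j) hx) hv
      have e3 : ζ * (x * v * x⁻¹) = (x * v * x⁻¹) * ζ := (mem_centralizer_iff.1 hζV _ hxv).symm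
      rw [e2]
      calc v * ζ * (x * v * x⁻¹ * ζ) = v * (ζ * (x * v * x⁻¹)) * ζ := by group
        _ = v * (x * v * x⁻¹) * (ζ * ζ) := by rw [e3]; group
        _ = v * (x * v * x⁻¹) := by rw [hζζ, mul_one]
    rw [e1] at h4
    have h6 : x * v * x⁻¹ = v⁻¹ := (inv_eq_of_mul_eq_one_right h4).symm
    rw [h6, hvi]
  have h6 : v ∈ R j := by
    obtain ⟨m, hm⟩ := b.R_cov v hv
    by_cases hmj : m = j
    · rwa [hmj] at hm
    obtain ⟨k, hkm, -, hk⟩ := movesQ b.toBT hmj hx hx'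
    have h7 : v ∈ R k := by
      rw [← h5, ← hk]; exact conj_mem_cj hm
    rw [b.eq_one hkm h7 hm]
    exact one_mem _
  have h7 : u ∈ ZQ R j := by
    rw [huv]
    exact mul_mem (inv_mem (R_le_ZQ b.toBT j h6)) hζ
  -- all of `Q j`
  refine D1 b h hr S hSV hSR hij hn fun y hy => ?_
  -- `y ∈ E j` or `y ∈ x E j`
  by_cases hyV : y ∈ centralizer (V : Set G)
  · exact h2 y ⟨hy, hyV⟩
  · have h8 : x⁻¹ * y ∈ EE V R j := mem_inf.2 ⟨(QQ (R j)).mul_mem ((QQ (R j)).inv_mem hx) hy,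
      inv_mul_mem_cen b.toBT hr hx hx' hy hyV⟩
    have h9 := h2 _ h8
    have h10 : n * y * n⁻¹ * y⁻¹ = (n * x * n⁻¹ * x⁻¹) * (x * (n * (x⁻¹ * y) * n⁻¹ * (x⁻¹ * y)⁻¹) * x⁻¹) := by
      group
    rw [h10]
    exact mul_mem h7 (conj_mem_of_normalizer (N_le_NZQ j (b.Q_le j hx)) h9)

/-- `[n, x] ∈ J · Z(Q j)` for `n ∈ Z(Q i)`, `x ∈ Q j - C(V)` -/
theorem exists_d {i j : ι} (hij : i ≠ j) {n x : G} (hn : n ∈ ZQ R i) (hx : x ∈ QQ (R j))
    (hx' : x ∉ centralizer (V : Set G)) :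
    ∃ d ∈ CC R, d⁻¹ * (n * x * n⁻¹ * x⁻¹) ∈ ZQ R j := by
  obtain ⟨k, hki, hkj, hk⟩ := movesQ b.toBT hij hx hx'
  obtain ⟨y, hyW, hy⟩ := b.trans k (Ne.symm hki) (Ne.symm hkj)
  have hyQ := b.W_le_Q k hyW
  have hnV := ZQ_le_cen b.toBT i hn
  set n' := x * n * x⁻¹ with hn'
  set m := y * n * y⁻¹ with hm
  have hn'Z : n' ∈ ZQ R k := by rw [← cj_ZQ b.toBT hk]; exact conj_mem_cj hn
  have hmZ : m ∈ ZQ R j := by rw [← cj_ZQ b.toBT hy]; exact conj_mem_cj hn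
  have hnn : n * n ∈ QQ (R k) := (b.R_le i).trans (b.V_Q k) (Q_sq b (h i) (ZQ_le i hn))
  have hnk := cen_le_NQ b.toBT k hnV
  have h1 : n * x * n⁻¹ * x⁻¹ ∈ QQ (R j) := comm_mem_of hx (cen_le_NQ b.toBT j hnV)
  have h2 : m * n⁻¹ ∈ QQ (R k) := comm_mem_of' hyQ hnk
  have h3 : n * x * n⁻¹ * x⁻¹ * m ∈ QQ (R k) := by
    have e : n * x * n⁻¹ * x⁻¹ * m = (n * n'⁻¹ * n⁻¹) * ((n * (m * n⁻¹) * n⁻¹) * (n * n)) := by
      rw [hn']; group
    rw [e]
    exact mul_mem (conj_mem_of_normalizer hnk (inv_mem (ZQ_le k hn'Z)))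
      (mul_mem (conj_mem_of_normalizer hnk h2) hnn)
  refine ⟨n * x * n⁻¹ * x⁻¹ * m, ?_, ?_⟩
  · rw [b.C_eq hkj]
    exact ⟨h3, mul_mem h1 (ZQ_le j hmZ)⟩
  · have e : (n * x * n⁻¹ * x⁻¹ * m)⁻¹ * (n * x * n⁻¹ * x⁻¹) = m⁻¹ := by group
    rw [e]
    exact inv_mem hmZ

end

/-- `Ω₁ Z(Q i)` -/
def OZ (R : ι → Subgroup G) (i : ι) : Subgroup G where
  carrier := {n | n ∈ ZQ R i ∧ n * n = 1}
  one_mem' := ⟨one_mem _, one_mul 1⟩
  mul_mem' := by
    rintro n m ⟨hn, hn2⟩ ⟨hm, hm2⟩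
    refine ⟨mul_mem hn hm, ?_⟩
    have e : m * n = n * m := ZQ_comm hn (ZQ_le i hm)
    calc n * m * (n * m) = n * (m * n) * m := by group
      _ = (n * n) * (m * m) := by rw [e]; group
      _ = 1 := by rw [hn2, hm2, one_mul]
  inv_mem' := by
    rintro n ⟨hn, hn2⟩
    refine ⟨inv_mem hn, ?_⟩
    rw [← mul_inv_rev, hn2, inv_one]

section

variable [Finite G] (b : BTS V R) (h : ∀ i, LE V R i)
include b h

/-- **THEOREM D (v)**: `|Ω₁ Z(Q i) : R i × C_X| ≤ |J : V × C_X|` -/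
theorem D3 {j : ι} {r : G} (hr : ∀ x ∈ R j, x = 1 ∨ x = r) (S : Sylow 2 G)
    (hSV : (S : Subgroup G) ≤ normalizer (V : Set G)) (hSR : (S : Subgroup G) ≤ normalizer (R j : Set G))
    {i : ι} (hij : i ≠ j) :
    (Par.RC b.toBT i).relIndex (OZ R i) ≤ (V ⊔ CenX V R).relIndex (CC R) := by
  classical
  obtain ⟨w, hw, hwU⟩ := exists_not_U b.toBT j
  have hwQ := b.W_le_Q j hw
  have hwV : w ∉ centralizer (V : Set G) := fun hc => hwU (mem_inf.2 ⟨hw, hc⟩)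
  have key : ∀ n : OZ R i, ∃ d : CC R, (d : G)⁻¹ * (n * w * (n : G)⁻¹ * w⁻¹) ∈ ZQ R j := by
    intro n
    obtain ⟨d, hd, h1⟩ := exists_d b h hij n.2.1 hwQ hwV
    exact ⟨⟨d, hd⟩, h1⟩
  choose d hd using key
  -- injectivity
  have inj : ∀ m n : OZ R i, (d m : G)⁻¹ * d n ∈ V ⊔ CenX V R → (m : G)⁻¹ * n ∈ Par.RC b.toBT i := by
    intro m n hmn
    have hle : CenX V R ≤ normalizer (V : Set G) := b.CenX_le_cen.trans (cen_le_NV V)
    rw [← SetLike.mem_coe, coe_mul_of_right_le_normalizer_left _ _ hle] at hmn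
    obtain ⟨v, hv, c, hc, hvc⟩ := hmn
    have hmn2 := (OZ R i).mul_mem ((OZ R i).inv_mem m.2) n.2
    refine D2 b h hr S hSV hSR hij hmn2.1 hmn2.2 hwQ hwV ⟨v⁻¹, inv_mem hv, ?_⟩
    set um := (m : G) * w * (m : G)⁻¹ * w⁻¹ with hum
    set un := (n : G) * w * (n : G)⁻¹ * w⁻¹ with hun
    have hζm := hd m
    have hζn := hd n
    set ζm := (d m : G)⁻¹ * um with hζmd
    set ζn := (d n : G)⁻¹ * un with hζnd
    have em : um = d m * ζm := by rw [hζmd]; group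
    have en : un = d n * ζn := by rw [hζnd]; group
    have hmV := ZQ_le_cen b.toBT i m.2.1
    have hmN : (m : G) ∈ normalizer (ZQ R j : Set G) := N_le_NZQ j (b.cen_le_N j hmV)
    have hcZ : c ∈ ZQ R j := cenX_le_ZQ b h j hc
    -- `un um⁻¹ = v (c ζn ζm⁻¹)`
    have h1 : un * um⁻¹ = v * (c * (ζn * ζm⁻¹)) := by
      have k1 : (d m : G) * (ζn * ζm⁻¹) = (ζn * ζm⁻¹) * d m :=
        ZQ_comm (mul_mem hζn (inv_mem hζm)) (mem_iInf.1 (d m).2 j)
      have k2 : (d n : G) * (d m : G)⁻¹ = (d m : G)⁻¹ * d n :=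
        C_comm_one b h (d n).2 (inv_mem (d m).2)
      have hvc' : v * c = (d m : G)⁻¹ * d n := hvc
      calc un * um⁻¹ = d n * ((ζn * ζm⁻¹) * (d m : G)⁻¹) := by rw [em, en]; group
        _ = d n * ((d m : G)⁻¹ * (ζn * ζm⁻¹)) := by
            congr 1
            rw [eq_inv_mul_iff_mul_eq, ← mul_assoc, k1, mul_inv_cancel_right]
        _ = (d n * (d m : G)⁻¹) * (ζn * ζm⁻¹) := by group
        _ = v * (c * (ζn * ζm⁻¹)) := by rw [k2, ← hvc']; group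
    have e : v⁻¹ * ((m : G)⁻¹ * n * w * ((m : G)⁻¹ * n)⁻¹ * w⁻¹) =
        (m : G)⁻¹ * (c * (ζn * ζm⁻¹)) * m := by
      have k3 : (m : G)⁻¹ * v = v * (m : G)⁻¹ := by
        rw [inv_mul_eq_iff_eq_mul, ← mul_assoc, ← mem_centralizer_iff.1 hmV v hv, mul_inv_cancel_right]
      calc v⁻¹ * ((m : G)⁻¹ * n * w * ((m : G)⁻¹ * n)⁻¹ * w⁻¹)
          = v⁻¹ * ((m : G)⁻¹ * (un * um⁻¹) * m) := by rw [hun, hum]; group
        _ = v⁻¹ * (((m : G)⁻¹ * v) * (c * (ζn * ζm⁻¹)) * m) := by rw [h1]; group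
        _ = _ := by rw [k3]; group
    rw [e]
    exact conj_inv_mem_of_normalizer hmN (mul_mem hcZ (mul_mem hζn (inv_mem hζm)))
  -- count
  let F : OZ R i ⧸ (Par.RC b.toBT i).subgroupOf (OZ R i) → CC R ⧸ (V ⊔ CenX V R).subgroupOf (CC R) :=
    fun q => QuotientGroup.mk (d q.out)
  have hF : Function.Injective F := by
    intro q q' hqq
    have h1 : (QuotientGroup.mk (d q.out) : CC R ⧸ (V ⊔ CenX V R).subgroupOf (CC R)) =
        QuotientGroup.mk (d q'.out) := hqq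
    rw [QuotientGroup.eq] at h1
    have h2 := inj q.out q'.out h1
    have h3 : (QuotientGroup.mk q.out : OZ R i ⧸ (Par.RC b.toBT i).subgroupOf (OZ R i)) =
        QuotientGroup.mk q'.out := by
      rw [QuotientGroup.eq]
      exact h2
    rwa [QuotientGroup.out_eq', QuotientGroup.out_eq'] at h3
  exact Nat.card_le_card_of_injective F hF

end

end Cfsg.Agent.Omega.HTwo.ThmD

end

section


/-!
# II.0h1, split case, `q ≥ 4`, K-free: #12896 (8)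

`core_le` (LEMMA E for `q ≥ 4`): a subgroup of `R i × C(X)` which is normal in `N(R i)` lies in `R i`.
`not_le_Q`: a subgroup of `C(W i)` which is normal in `N(R i)` and not contained in `R i` is not contained in `Q j`.
`exists_ZZ`: if `C(X) ≠ 1` then `Z(W i)` is not contained in `Q j`; so `Z(W i) ≠ R i × C_D(X)`.

The only hypothesis besides `BTS` and the torus of `X` (fixed point free on `R i`): a subgroup `S` of odd index of
`N(R i)` normalises `V`.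
-/

set_option autoImplicit false

namespace Cfsg.Agent.Omega.HOneQ

open Subgroup Cfsg.Agent.Omega.BTwo

universe u v w

variable {G : Type u} [Group G] {ι : Type w}

/-- Averaging (Gaschütz): `E = R × A` elementary abelian, `R` and `E` normalised by `H`, `A` by a subgroup `S` of odd
index of `H`: there is an `H`-equivariant projection of `E` onto `R`. -/
theorem exists_proj [Finite G] {E R A H S : Subgroup G} (hRE : R ≤ E) (hinf : R ⊓ A = ⊥)
    (hdec : ∀ e ∈ E, ∃ r ∈ R, r⁻¹ * e ∈ A) (hcomm : ∀ x ∈ E, ∀ y ∈ E, x * y = y * x)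
    (hsq : ∀ x ∈ E, x * x = 1) (hHE : H ≤ normalizer (E : Set G)) (hHR : H ≤ normalizer (R : Set G))
    (hSH : S ≤ H) (hSA : S ≤ normalizer (A : Set G)) (hodd : Odd (S.relIndex H)) :
    ∃ p : G → G, (∀ e ∈ E, p e ∈ R) ∧ (∀ e ∈ E, ∀ f ∈ E, p (e * f) = p e * p f) ∧ (∀ r ∈ R, p r = r) ∧
      ∀ h ∈ H, ∀ e ∈ E, p (h * e * h⁻¹) = h * p e * h⁻¹ := by
  classical
  choose! q hqR hqA using hdec
  have huniq : ∀ e ∈ E, ∀ r ∈ R, r⁻¹ * e ∈ A → r = q e := by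
    intro e he r hr h
    have h1 : r⁻¹ * q e ∈ R ⊓ A := by
      refine mem_inf.2 ⟨mul_mem (inv_mem hr) (hqR e he), ?_⟩
      have e1 : r⁻¹ * q e = r⁻¹ * e * ((q e)⁻¹ * e)⁻¹ := by
        rw [mul_inv_rev, inv_inv]; group
      rw [e1]
      exact mul_mem h (inv_mem (hqA e he))
    rw [hinf, mem_bot, inv_mul_eq_one] at h1
    exact h1
  have hqmul : ∀ e ∈ E, ∀ f ∈ E, q (e * f) = q e * q f := by
    intro e he f hf
    refine (huniq _ (mul_mem he hf) _ (mul_mem (hqR e he) (hqR f hf)) ?_).symm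
    have h1 := hcomm _ (hRE (inv_mem (hqR f hf))) _ (mul_mem (hRE (inv_mem (hqR e he))) he)
    have e1 : (q e * q f)⁻¹ * (e * f) = ((q f)⁻¹ * ((q e)⁻¹ * e)) * f := by group
    have e2 : (q e)⁻¹ * e * (q f)⁻¹ * f = ((q e)⁻¹ * e) * ((q f)⁻¹ * f) := by group
    rw [e1, h1, e2]
    exact mul_mem (hqA e he) (hqA f hf)
  have hqR' : ∀ r ∈ R, q r = r := fun r hr => (huniq r (hRE hr) r hr (by
    rw [inv_mul_cancel]; exact one_mem _)).symm
  have hqS : ∀ s ∈ S, ∀ e ∈ E, q (s⁻¹ * e * s) = s⁻¹ * q e * s := by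
    intro s hs e he
    refine (huniq _ (conj_inv_mem_of_normalizer (hHE (hSH hs)) he) _
      (conj_inv_mem_of_normalizer (hHR (hSH hs)) (hqR e he)) ?_).symm
    have e1 : (s⁻¹ * q e * s)⁻¹ * (s⁻¹ * e * s) = s⁻¹ * ((q e)⁻¹ * e) * s := by group
    rw [e1]
    exact conj_inv_mem_of_normalizer (hSA hs) (hqA e he)
  let _ : CommGroup R := { (inferInstance : Group R) with
    mul_comm := fun a b => Subtype.ext (hcomm a (hRE a.2) b (hRE b.2)) }
  let Q := H ⧸ S.subgroupOf H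
  have : Fintype Q := Fintype.ofFinite Q
  let F : E → Q → R := fun e => Quotient.lift
    (fun a : H => (⟨a * q ((a : G)⁻¹ * e * a) * (a : G)⁻¹, conj_mem_of_normalizer (hHR a.2)
      (hqR _ (conj_inv_mem_of_normalizer (hHE a.2) e.2))⟩ : R)) (by
      intro a b hab
      apply Subtype.ext
      have hab' : (a : G)⁻¹ * b ∈ S := by
        have := QuotientGroup.leftRel_apply.1 hab
        exact this
      have h1 := hqS _ hab' ((a : G)⁻¹ * e * a) (conj_inv_mem_of_normalizer (hHE a.2) e.2)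
      have e1 : ((a : G)⁻¹ * b)⁻¹ * ((a : G)⁻¹ * e * a) * ((a : G)⁻¹ * b) = (b : G)⁻¹ * e * b := by group
      rw [e1] at h1
      change (a : G) * q ((a : G)⁻¹ * e * a) * (a : G)⁻¹ = b * q ((b : G)⁻¹ * e * b) * (b : G)⁻¹
      rw [h1]
      group)
  have hF : ∀ (e : E) (a : H), ((F e (QuotientGroup.mk a) : R) : G) =
      a * q ((a : G)⁻¹ * e * a) * (a : G)⁻¹ := fun e a => rfl
  have hFmul : ∀ (e f : E) (x : Q), F (e * f) x = F e x * F f x := by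
    intro e f x
    induction x using QuotientGroup.induction_on with
    | H a =>
      apply Subtype.ext
      rw [coe_mul, hF, hF, hF]
      have e1 : (a : G)⁻¹ * ((e * f : E) : G) * a = ((a : G)⁻¹ * e * a) * ((a : G)⁻¹ * f * a) := by
        rw [coe_mul]; group
      rw [e1, hqmul _ (conj_inv_mem_of_normalizer (hHE a.2) e.2) _ (conj_inv_mem_of_normalizer (hHE a.2) f.2)]
      group
  let P : E → R := fun e => ∏ x : Q, F e x
  have hcard : Odd (Fintype.card Q) := by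
    rw [← Nat.card_eq_fintype_card]; exact hodd
  have hPR : ∀ (r : G) (hr : r ∈ R), P ⟨r, hRE hr⟩ = ⟨r, hr⟩ := by
    intro r hr
    have h1 : ∀ x : Q, F ⟨r, hRE hr⟩ x = ⟨r, hr⟩ := by
      intro x
      induction x using QuotientGroup.induction_on with
      | H a =>
        apply Subtype.ext
        rw [hF]
        change (a : G) * q ((a : G)⁻¹ * r * a) * (a : G)⁻¹ = r
        rw [hqR' _ (conj_inv_mem_of_normalizer (hHR a.2) hr)]
        group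
    change ∏ x : Q, F ⟨r, hRE hr⟩ x = _
    rw [Finset.prod_congr rfl fun x _ => h1 x, Finset.prod_const, Finset.card_univ]
    obtain ⟨k, hk⟩ := hcard
    have h2 : (⟨r, hr⟩ : R) * ⟨r, hr⟩ = 1 := Subtype.ext (hsq r (hRE hr))
    rw [hk, pow_succ, pow_mul, pow_two, h2, one_pow, one_mul]
  have hPmul : ∀ e f : E, P (e * f) = P e * P f := by
    intro e f
    change ∏ x : Q, F (e * f) x = (∏ x : Q, F e x) * ∏ x : Q, F f x
    rw [← Finset.prod_mul_distrib]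
    exact Finset.prod_congr rfl fun x _ => hFmul e f x
  have hPH : ∀ (h : G) (hh : h ∈ H) (e : E),
      ((P ⟨h * e * h⁻¹, conj_mem_of_normalizer (hHE hh) e.2⟩ : R) : G) = h * (P e : G) * h⁻¹ := by
    intro h hh e
    let c : R →* R :=
      { toFun := fun r => ⟨h * r * h⁻¹, conj_mem_of_normalizer (hHR hh) r.2⟩
        map_one' := Subtype.ext (by simp)
        map_mul' := fun a b => Subtype.ext (by
          change h * (a * b : G) * h⁻¹ = h * a * h⁻¹ * (h * b * h⁻¹)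
          group) }
    have h1 : ∀ x : Q, F ⟨h * e * h⁻¹, conj_mem_of_normalizer (hHE hh) e.2⟩ ((⟨h, hh⟩ : H) • x) = c (F e x) := by
      intro x
      induction x using QuotientGroup.induction_on with
      | H a =>
        apply Subtype.ext
        change (h * a : G) * q ((h * a : G)⁻¹ * (h * e * h⁻¹) * (h * a)) * (h * a : G)⁻¹ =
          h * (a * q ((a : G)⁻¹ * e * a) * (a : G)⁻¹) * h⁻¹
        have e1 : (h * a : G)⁻¹ * (h * e * h⁻¹) * (h * a) = (a : G)⁻¹ * e * a := by group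
        rw [e1]
        group
    have h2 : P ⟨h * e * h⁻¹, conj_mem_of_normalizer (hHE hh) e.2⟩ = c (P e) := by
      change ∏ x : Q, F ⟨h * e * h⁻¹, conj_mem_of_normalizer (hHE hh) e.2⟩ x = c (∏ x : Q, F e x)
      rw [map_prod, ← Finset.prod_congr rfl fun x _ => h1 x]
      exact (Equiv.prod_comp (MulAction.toPerm (⟨h, hh⟩ : H)) _).symm
    exact congrArg Subtype.val h2
  refine ⟨fun e => if he : e ∈ E then (P ⟨e, he⟩ : G) else 1, ?_, ?_, ?_, ?_⟩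
  · intro e he
    simp only [dif_pos he]
    exact (P ⟨e, he⟩).2
  · intro e he f hf
    simp only [dif_pos he, dif_pos hf, dif_pos (mul_mem he hf)]
    exact congrArg Subtype.val (hPmul ⟨e, he⟩ ⟨f, hf⟩)
  · intro r hr
    simp only [dif_pos (hRE hr)]
    exact congrArg Subtype.val (hPR r hr)
  · intro h hh e he
    simp only [dif_pos he, dif_pos (conj_mem_of_normalizer (hHE hh) he)]
    exact hPH h hh ⟨e, he⟩

variable {V : Subgroup G} {R : ι → Subgroup G}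

/-- `N(V) = X (N(V) ∩ N(R i))` -/
theorem NV_fact (b : BT V R) (i : ι) {g : G} (hg : g ∈ normalizer (V : Set G)) :
    ∃ x ∈ XX V R, ∃ h ∈ normalizer (V : Set G) ⊓ normalizer (R i : Set G), g = x * h := by
  obtain ⟨k, hk⟩ := b.perm g hg i
  obtain ⟨x, hx, e⟩ := b.trans_X_one i k
  refine ⟨x, hx, x⁻¹ * g, mem_inf.2 ⟨mul_mem (inv_mem (b.X_le_NV hx)) hg, ?_⟩, by group⟩
  rw [← cj_eq_self_iff, cj_mul, hk, ← e, cj_inv_cj]

/-- a subgroup of `C(X)` normalised by `N(V) ∩ N(R i)` is normalised by `N(V)` -/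
theorem NV_le_of (b : BT V R) (i : ι) {A : Subgroup G} (hA : A ≤ CenX V R)
    (h : normalizer (V : Set G) ⊓ normalizer (R i : Set G) ≤ normalizer (A : Set G)) :
    normalizer (V : Set G) ≤ normalizer (A : Set G) := by
  intro g hg
  obtain ⟨x, hx, y, hy, rfl⟩ := NV_fact b i hg
  refine mul_mem (centralizer_le_normalizer _ ?_) (h hy)
  rw [mem_centralizer_iff]
  exact fun a ha => (mem_centralizer_iff.1 (hA ha) x hx).symm

/-- **LEMMA E for `q ≥ 4`**: a subgroup of `R i × C(X)` which is normal in `N(R i)` lies in `R i`. -/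
theorem core_le [Finite G] (b : BTS V R) {i : ι} {S : Subgroup G}
    (hSR : S ≤ normalizer (R i : Set G)) (hSV : S ≤ normalizer (V : Set G))
    (hodd : Odd (S.relIndex (normalizer (R i : Set G))))
    (hfpf : ∀ r ∈ R i, (∀ x ∈ XX V R, x ∈ normalizer (R i : Set G) → x * r = r * x) → r = 1)
    (hX : ∀ x ∈ CenX V R, ∀ y ∈ CenX V R, x * y = y * x)
    {B : Subgroup G} (hBN : normalizer (R i : Set G) ≤ normalizer (B : Set G))
    (hB : ∀ x ∈ B, ∃ a ∈ R i, a * x ∈ CenX V R) : B ≤ R i := by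
  have hRX : ∀ r ∈ R i, ∀ x ∈ CenX V R, r * x = x * r := fun r hr x hx =>
    mem_centralizer_iff.1 (b.CenX_le_cen hx) r (b.R_le i hr)
  have hRR : ∀ r ∈ R i, ∀ s ∈ R i, r * s = s * r := fun r hr s hs =>
    b.V_comm r (b.R_le i hr) s (b.R_le i hs)
  -- `E₁ = B R i`
  have hdec1 : ∀ e ∈ B ⊔ R i, ∃ a ∈ R i, a * e ∈ CenX V R := by
    have h1 : B ⊔ R i ≤
        ({ carrier := {e | ∃ a ∈ R i, a * e ∈ CenX V R}
           one_mem' := ⟨1, one_mem _, by rw [mul_one]; exact one_mem _⟩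
           mul_mem' := by
             rintro e f ⟨a, ha, h⟩ ⟨c, hc, k⟩
             refine ⟨a * c, mul_mem ha hc, ?_⟩
             have e1 : a * c * (e * f) = c * (a * e) * f := by rw [hRR a ha c hc]; group
             have e2 : a * c * (e * f) = a * e * (c * f) := by
               rw [e1, hRX c hc _ h]; group
             rw [e2]
             exact mul_mem h k
           inv_mem' := by
             rintro e ⟨a, ha, h⟩
             refine ⟨a⁻¹, inv_mem ha, ?_⟩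
             have e1 : a⁻¹ * e⁻¹ = (a * e)⁻¹ := by
               have h2 := hRX a ha _ h
               have e3 : e * a = a * e := by
                 calc e * a = a⁻¹ * (a * e * a) := by group
                   _ = a⁻¹ * (a * (a * e)) := by rw [h2]
                   _ = a * e := by group
               rw [← mul_inv_rev, e3]
             rw [e1]
             exact inv_mem h } : Subgroup G) :=
      sup_le hB fun a ha => ⟨a⁻¹, inv_mem ha, by rw [inv_mul_cancel]; exact one_mem _⟩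
    exact h1
  have hcomm1 : ∀ e ∈ B ⊔ R i, ∀ f ∈ B ⊔ R i, e * f = f * e := by
    intro e he f hf
    obtain ⟨a, ha, h⟩ := hdec1 e he
    obtain ⟨c, hc, k⟩ := hdec1 f hf
    have e1 : e = a⁻¹ * (a * e) := by group
    have e2 : f = c⁻¹ * (c * f) := by group
    rw [e1, e2]
    have c1 : Commute a⁻¹ (c * f) := hRX _ (inv_mem ha) _ k
    have c2 : Commute a⁻¹ c⁻¹ := hRR _ (inv_mem ha) _ (inv_mem hc)
    have c3 : Commute (a * e) c⁻¹ := (hRX _ (inv_mem hc) _ h).symm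
    have c4 : Commute (a * e) (c * f) := hX _ h _ k
    exact ((c2.mul_right c1).mul_left (c3.mul_right c4)).eq
  -- the elements of order 2
  let E : Subgroup G :=
    { carrier := {x | x ∈ B ⊔ R i ∧ x * x = 1}
      one_mem' := ⟨one_mem _, by rw [one_mul]⟩
      mul_mem' := by
        rintro x y ⟨hx, hx'⟩ ⟨hy, hy'⟩
        refine ⟨mul_mem hx hy, ?_⟩
        have h1 := hcomm1 y hy x hx
        calc x * y * (x * y) = x * (y * x) * y := by group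
          _ = (x * x) * (y * y) := by rw [h1]; group
          _ = 1 := by rw [hx', hy', one_mul]
      inv_mem' := by
        rintro x ⟨hx, hx'⟩
        exact ⟨inv_mem hx, by rw [← mul_inv_rev, hx', inv_one]⟩ }
  have hE : ∀ x, x ∈ E ↔ x ∈ B ⊔ R i ∧ x * x = 1 := fun x => Iff.rfl
  have hRE : R i ≤ E := fun r hr => ⟨(le_sup_right : R i ≤ B ⊔ R i) hr, b.V_sq r (b.R_le i hr)⟩
  have hNE1 : normalizer (R i : Set G) ≤ normalizer ((B ⊔ R i : Subgroup G) : Set G) := by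
    intro g hg
    rw [← cj_eq_self_iff, cj_sup, cj_eq_self_iff.2 (hBN hg), cj_eq_self_iff.2 hg]
  have hNE : normalizer (R i : Set G) ≤ normalizer (E : Set G) := by
    refine le_normalizer_of fun g hg x hx => ?_
    refine ⟨conj_mem_of_normalizer (hNE1 hg) hx.1, ?_⟩
    have e1 : g * x * g⁻¹ * (g * x * g⁻¹) = g * (x * x) * g⁻¹ := by group
    rw [e1, hx.2]; group
  set A : Subgroup G := E ⊓ CenX V R with hA
  have hSA : S ≤ normalizer (A : Set G) := by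
    intro g hg
    rw [← cj_eq_self_iff, hA, cj_inf, cj_eq_self_iff.2 (hNE (hSR hg)),
      cj_eq_self_iff.2 (b.NV_le_NCenX (hSV hg))]
  obtain ⟨p, pR, pmul, pid, pH⟩ := exists_proj (E := E) (R := R i) (A := A)
    (H := normalizer (R i : Set G)) (S := S) hRE (by
      rw [eq_bot_iff_forall]
      rintro x ⟨h1, -, h2⟩
      exact b.cen_VX (b.R_le i h1) h2) (by
      intro e he
      obtain ⟨a, ha, h⟩ := hdec1 e he.1
      refine ⟨a⁻¹, inv_mem ha, mem_inf.2 ⟨?_, ?_⟩⟩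
      · rw [inv_inv]; exact mul_mem (hRE ha) he
      · rw [inv_inv]; exact h) (fun x hx y hy => hcomm1 x hx.1 y hy.1)
    (fun x hx => hx.2) hNE le_rfl hSR hSA hodd
  have hpA : ∀ d ∈ A, p d = 1 := by
    intro d hd
    refine hfpf _ (pR d hd.1) fun x hx hxR => ?_
    have h1 := pH x hxR d hd.1
    have h2 : x * d * x⁻¹ = d := by
      rw [mul_inv_eq_iff_eq_mul]; exact mem_centralizer_iff.1 hd.2 x hx
    rw [h2, eq_mul_inv_iff_mul_eq] at h1
    exact h1.symm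
  have hker : ∀ e ∈ E, p e = 1 → e ∈ A := by
    intro e he h
    obtain ⟨a, ha, h1⟩ := hdec1 e he.1
    have h2 : a * e ∈ A := mem_inf.2 ⟨mul_mem (hRE ha) he, h1⟩
    have h3 := pmul a (hRE ha) e he
    rw [hpA _ h2, h, mul_one, pid a ha] at h3
    rwa [← h3, one_mul] at h2
  have hNA : normalizer (R i : Set G) ≤ normalizer (A : Set G) := by
    refine le_normalizer_of fun g hg x hx => ?_
    refine hker _ (conj_mem_of_normalizer (hNE hg) hx.1) ?_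
    rw [pH g hg x hx.1, hpA x hx, mul_one, mul_inv_cancel]
  have hA1 : A = ⊥ := by
    refine b.nonloc i A (b.CenX_isPGroup.to_le inf_le_right) (inf_le_right.trans
      (b.CenX_le_cen.trans (cen_le_NV V))) (inf_le_right.trans (b.CenX_le_cen.trans (b.cen_le_N i)))
      (NV_le_of b.toBT i inf_le_right (inf_le_right.trans hNA)) hNA
  -- conclusion
  have hE0 : (B ⊔ R i) ⊓ CenX V R = ⊥ := by
    by_contra hne
    have hp : IsPGroup 2 ((B ⊔ R i) ⊓ CenX V R : Subgroup G) := b.CenX_isPGroup.to_le inf_le_right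
    have : Nontrivial ((B ⊔ R i) ⊓ CenX V R : Subgroup G) := (nontrivial_iff_ne_bot _).2 hne
    have hd : 2 ∣ Nat.card ((B ⊔ R i) ⊓ CenX V R : Subgroup G) := by
      obtain ⟨n, hn, e⟩ := hp.nontrivial_iff_card.1 this
      rw [e]
      exact dvd_pow_self 2 hn.ne'
    obtain ⟨x, hx⟩ := exists_prime_orderOf_dvd_card' 2 hd
    have h2 : (x : G) * x = 1 := by
      have := pow_orderOf_eq_one x
      rw [hx, pow_two] at this
      exact congrArg Subtype.val this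
    have h3 : (x : G) ∈ A := mem_inf.2 ⟨⟨x.2.1, h2⟩, x.2.2⟩
    rw [hA1, mem_bot] at h3
    have h4 : x = 1 := Subtype.ext h3
    rw [h4, orderOf_one] at hx
    exact absurd hx (by norm_num)
  intro x hx
  obtain ⟨a, ha, h⟩ := hB x hx
  have h1 : a * x ∈ (B ⊔ R i) ⊓ CenX V R :=
    mem_inf.2 ⟨mul_mem ((le_sup_right : R i ≤ B ⊔ R i) ha) ((le_sup_left : B ≤ B ⊔ R i) hx), h⟩
  rw [hE0, mem_bot, mul_eq_one_iff_inv_eq] at h1
  rw [← h1]
  exact inv_mem ha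

/-- **(8)**: a subgroup of `C(W i)`, normal in `N(R i)`, which is contained in some `Q j`, lies in `R i`. -/
theorem le_R_of_le_Q [Finite G] (b : BTS V R) {i j : ι} (hij : i ≠ j) {S : Subgroup G}
    (hSR : S ≤ normalizer (R i : Set G)) (hSV : S ≤ normalizer (V : Set G))
    (hodd : Odd (S.relIndex (normalizer (R i : Set G))))
    (hfpf : ∀ r ∈ R i, (∀ x ∈ XX V R, x ∈ normalizer (R i : Set G) → x * r = r * x) → r = 1)
    (hX : ∀ x ∈ CenX V R, ∀ y ∈ CenX V R, x * y = y * x)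
    {B : Subgroup G} (hBN : normalizer (R i : Set G) ≤ normalizer (B : Set G))
    (hBW : B ≤ centralizer (WW V (R i) : Set G)) (hBQ : B ≤ QQ (R j)) : B ≤ R i :=
  core_le b hSR hSV hodd hfpf hX hBN fun _ hx => b.cen_W_Q hij (hBW hx) (hBQ hx)

/-- **(8)**: a subgroup of `C(W i)`, normal in `N(R i)`, which meets `C(X)` nontrivially, is not contained in `Q j`. -/
theorem not_le_Q [Finite G] (b : BTS V R) {i j : ι} (hij : i ≠ j) {S : Subgroup G}
    (hSR : S ≤ normalizer (R i : Set G)) (hSV : S ≤ normalizer (V : Set G))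
    (hodd : Odd (S.relIndex (normalizer (R i : Set G))))
    (hfpf : ∀ r ∈ R i, (∀ x ∈ XX V R, x ∈ normalizer (R i : Set G) → x * r = r * x) → r = 1)
    (hX : ∀ x ∈ CenX V R, ∀ y ∈ CenX V R, x * y = y * x)
    {B : Subgroup G} (hBN : normalizer (R i : Set G) ≤ normalizer (B : Set G))
    (hBW : B ≤ centralizer (WW V (R i) : Set G)) (hBX : B ⊓ CenX V R ≠ ⊥) : ¬ B ≤ QQ (R j) := by
  intro hBQ
  have h := le_R_of_le_Q b hij hSR hSV hodd hfpf hX hBN hBW hBQ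
  apply hBX
  rw [eq_bot_iff_forall]
  rintro x ⟨h1, h2⟩
  exact b.cen_VX (b.R_le i (h h1)) h2

/-- `Z(W i)` is not contained in `Q j` if `C(X) ≠ 1` (`c_0 ≥ 1`, i.e. `F_0 ≠ 0`). -/
theorem exists_ZZ [Finite G] (b : BTS V R) {i j : ι} (hij : i ≠ j) {S : Subgroup G}
    (hSR : S ≤ normalizer (R i : Set G)) (hSV : S ≤ normalizer (V : Set G))
    (hodd : Odd (S.relIndex (normalizer (R i : Set G))))
    (hfpf : ∀ r ∈ R i, (∀ x ∈ XX V R, x ∈ normalizer (R i : Set G) → x * r = r * x) → r = 1)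
    (hs : Splits V R i) (hC : CenX V R ≠ ⊥) : ∃ z ∈ ZZ V R i, z ∉ QQ (R j) := by
  by_contra hcon
  push Not at hcon
  have hle : CenX V R ≤ centralizer (WW V (R i) : Set G) := cen_X_le i
  refine not_le_Q b hij hSR hSV hodd hfpf (b.CenX_comm hs)
    ((normalizer_le_WW V (R i)).trans (normalizer_le_normalizer_centralizer _)) le_rfl ?_ ?_
  · rwa [inf_eq_right.2 hle]
  · intro c hc
    obtain ⟨z, hz, x, hx, rfl⟩ := hs c hc
    exact mul_mem (hcon z hz) (mem_iInf.1 (b.CenX_le_C hx) j)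

section coord

variable {i j : ι} {F : Type v} [Field F] {v : F → F → G} {w1 w2 : F → G}

/-- the torus of `X` is fixed point free on `R i` -/
theorem fpf_R [CharP F 2] (c : Coord V R i j v w1 w2) (b : BT V R) (hF : ∃ a : F, a ≠ 0 ∧ a ≠ 1) :
    ∀ r ∈ R i, (∀ x ∈ XX V R, x ∈ normalizer (R i : Set G) → x * r = r * x) → r = 1 := by
  intro r hr h
  obtain ⟨a, ha, ha1⟩ := hF
  obtain ⟨s, rfl⟩ := (c.mem_R1 r).1 hr
  have h1 := h _ (c.hh_mem_X b a) (cj_eq_self_iff.1 (c.hh_R1 b ha))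
  have h2 := c.hh_act ha s 0
  rw [h1, mul_inv_cancel_right, mul_zero] at h2
  have h3 := (c.v_inj h2).1
  have h4 : (a - 1) * s = 0 := by rw [sub_mul, one_mul, ← h3, sub_self]
  rcases mul_eq_zero.1 h4 with h5 | h5
  · exact absurd (sub_eq_zero.1 h5) ha1
  · rw [h5, c.v_zero]

/-- **LEMMA E, `q ≥ 4`, from coordinates** -/
theorem core_le_of_coord [Finite G] [Finite F] [CharP F 2] (b : BTS V R) (c : Coord V R i j v w1 w2)
    (hF : ∃ a : F, a ≠ 0 ∧ a ≠ 1) {S : Subgroup G} (hSR : S ≤ normalizer (R i : Set G))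
    (hSV : S ≤ normalizer (V : Set G)) (hodd : Odd (S.relIndex (normalizer (R i : Set G))))
    {B : Subgroup G} (hBN : normalizer (R i : Set G) ≤ normalizer (B : Set G))
    (hB : ∀ x ∈ B, ∃ a ∈ R i, a * x ∈ CenX V R) : B ≤ R i :=
  core_le b hSR hSV hodd (fpf_R c b.toBT hF) (b.CenX_comm (b.splits_of_coord c hF i)) hBN hB

/-- **(8), `q ≥ 4`, from coordinates**, for every other point `k` -/
theorem not_le_Q_of_coord [Finite G] [Finite F] [CharP F 2] (b : BTS V R) (c : Coord V R i j v w1 w2)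
    (hF : ∃ a : F, a ≠ 0 ∧ a ≠ 1) {S : Subgroup G} (hSR : S ≤ normalizer (R i : Set G))
    (hSV : S ≤ normalizer (V : Set G)) (hodd : Odd (S.relIndex (normalizer (R i : Set G)))) {k : ι} (hik : i ≠ k)
    {B : Subgroup G} (hBN : normalizer (R i : Set G) ≤ normalizer (B : Set G))
    (hBW : B ≤ centralizer (WW V (R i) : Set G)) (hBX : B ⊓ CenX V R ≠ ⊥) : ¬ B ≤ QQ (R k) :=
  not_le_Q b hik hSR hSV hodd (fpf_R c b.toBT hF) (b.CenX_comm (b.splits_of_coord c hF i)) hBN hBW hBX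

/-- **`F_0 ≠ 0`, `q ≥ 4`, from coordinates** -/
theorem exists_ZZ_of_coord [Finite G] [Finite F] [CharP F 2] (b : BTS V R) (c : Coord V R i j v w1 w2)
    (hF : ∃ a : F, a ≠ 0 ∧ a ≠ 1) {S : Subgroup G} (hSR : S ≤ normalizer (R i : Set G))
    (hSV : S ≤ normalizer (V : Set G)) (hodd : Odd (S.relIndex (normalizer (R i : Set G)))) {k : ι} (hik : i ≠ k)
    (hC : CenX V R ≠ ⊥) : ∃ z ∈ ZZ V R i, z ∉ QQ (R k) :=
  exists_ZZ b hik hSR hSV hodd (fpf_R c b.toBT hF) (b.splits_of_coord c hF i) hC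

end coord

end Cfsg.Agent.Omega.HOneQ

end

section


/-!
# THEOREM D (#13913) over a 2-group `S` of odd index in `N(R j)`

The statements of `HTwo/ThmD` which mention the Sylow group, for `S : Subgroup G`.
-/

set_option autoImplicit false
set_option linter.unusedSectionVars false

namespace Cfsg.Agent.Omega.HT.ThmD

open Subgroup Cfsg.Agent.Omega.BTwo Cfsg.Agent.Omega.HTwo Cfsg.Agent.Omega.HTwo.ThmA Cfsg.Agent.Omega.HTwo.Comm
  Cfsg.Agent.Omega.HTwo.Hat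
open Cfsg.Agent.Omega.HTwo.ThmD (OO OO_le OO_norm relIndex_cj inv_mul_mem_cen comm_conjQ mem_cenX_of exists_d OZ)

theorem odd_of_not_dvd {n : ℕ} (h : ¬ 2 ∣ n) : Odd n := by
  rw [← Nat.not_even_iff_odd, even_iff_two_dvd]
  exact h

/-- `A` between `S` and `H`, `S` of odd index in `H` -/
theorem odd_relIndex {G : Type*} [Group G] {S A H : Subgroup G} (h : ¬ 2 ∣ S.relIndex H) (hSA : S ≤ A)
    (hAH : A ≤ H) : Odd (S.relIndex A) :=
  odd_of_not_dvd fun hd => h (hd.trans ⟨_, (relIndex_mul_relIndex S A H hSA hAH).symm⟩)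

variable {G : Type*} [Group G] {ι : Type*} {V : Subgroup G} {R : ι → Subgroup G}

variable [Finite G] (b : BTS V R) (h : ∀ i, LE V R i)
include b h

/-- the averaged element: `c ∈ Q j - C(V)` with `[c, O] ≤ R j`, moving `R i` to `R l` -/
theorem exists_avg {j : ι} {r : G} (hr : ∀ x ∈ R j, x = 1 ∨ x = r) {S : Subgroup G}
    (hSV : S ≤ normalizer (V : Set G)) (hSR : S ≤ normalizer (R j : Set G))
    (hSo : ¬ 2 ∣ S.relIndex (normalizer (R j : Set G)))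
    {i l : ι} (hi : i ≠ j) (hl : l ≠ j) :
    ∃ c ∈ QQ (R j), cj c (R i) = R l ∧ ∀ g ∈ OO R j, g * c * g⁻¹ * c⁻¹ ∈ R j := by
  obtain ⟨k, hk, H⟩ := b.mt j
  obtain ⟨⟨v, hv, e⟩, -⟩ := H i l hi hl
  set v' := k * v * k⁻¹ with hv'
  have hv'W : v' ∈ WW V (R j) := cj_le_WW hk (conj_mem_cj hv)
  have hv'Q := b.W_le_Q j hv'W
  -- elements of the Sylow group `S^k` fix `v' R j`
  have hS : ∀ s ∈ cj k S, s * v' * s⁻¹ * v'⁻¹ ∈ R j := by
    intro s hs
    rw [mem_cj] at hs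
    set t := k⁻¹ * s * k with ht
    have hs' : s = k * t * k⁻¹ := by rw [ht]; group
    have htV : t * v * t⁻¹ ∈ V := conj_mem_of_normalizer (hSV hs) hv
    have htR := hSR hs
    -- `[t, v] ∈ R j` since `V / R j` has order 2
    have key : t * v * t⁻¹ * v⁻¹ ∈ R j := by
      obtain ⟨m, hm⟩ := b.R_cov v hv
      obtain ⟨m', hm'⟩ := b.R_cov _ htV
      by_cases hmj : m = j
      · subst hmj
        exact mul_mem (conj_mem_of_normalizer htR hm) (inv_mem hm)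
      by_cases hmj' : m' = j
      · subst hmj'
        have h1 : v ∈ R m' := by
          have := conj_inv_mem_of_normalizer htR hm'
          have e1 : t⁻¹ * (t * v * t⁻¹) * t = v := by group
          rwa [e1] at this
        exact mul_mem hm' (inv_mem h1)
      -- both are nontrivial or trivial
      by_cases hv1 : v = 1
      · rw [hv1, mul_one, mul_inv_cancel, inv_one, mul_one]; exact one_mem _
      by_cases hmm : m = m'
      · subst hmm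
        obtain ⟨x, hx, ex⟩ := b.trans_one j m
        have h2 : ∀ y ∈ R m, y = 1 ∨ y = x * r * x⁻¹ := by
          intro y hy
          rw [← ex, mem_cj] at hy
          rcases hr _ hy with h3 | h3
          · left
            have : y = x * (x⁻¹ * y * x) * x⁻¹ := by group
            rw [this, h3]; group
          · right
            rw [← h3]; group
        have h3 : t * v * t⁻¹ ≠ 1 := fun h => hv1 (conj_eq_one_iff.1 h)
        have h4 : t * v * t⁻¹ = v :=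
          ((h2 _ hm').resolve_left h3).trans ((h2 _ hm).resolve_left hv1).symm
        rw [h4, mul_inv_cancel]; exact one_mem _
      · -- `v ∈ R m`, `t v t⁻¹ ∈ R m'`: their product is in the third point
        obtain ⟨w, hw, ew⟩ := b.trans j hmj hmj'
        have h5 : w * v * w⁻¹ ∈ R m' := by rw [← ew]; exact conj_mem_cj hm
        obtain ⟨x, hx, ex⟩ := b.trans_one j m'
        have h2 : ∀ y ∈ R m', y = 1 ∨ y = x * r * x⁻¹ := by
          intro y hy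
          rw [← ex, mem_cj] at hy
          rcases hr _ hy with h3 | h3
          · left
            have : y = x * (x⁻¹ * y * x) * x⁻¹ := by group
            rw [this, h3]; group
          · right
            rw [← h3]; group
        have h3 : t * v * t⁻¹ ≠ 1 := fun h => hv1 (conj_eq_one_iff.1 h)
        have h3' : w * v * w⁻¹ ≠ 1 := fun h => hv1 (conj_eq_one_iff.1 h)
        have h4 : t * v * t⁻¹ = w * v * w⁻¹ :=
          ((h2 _ hm').resolve_left h3).trans ((h2 _ h5).resolve_left h3').symm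
        rw [h4]
        exact b.QV j w (b.W_le_Q j hw) v hv
    have e1 : s * v' * s⁻¹ * v'⁻¹ = k * (t * v * t⁻¹ * v⁻¹) * k⁻¹ := by rw [hs', hv']; group
    rw [e1]
    exact conj_mem_of_normalizer hk key
  -- average
  have hodd : Odd ((cj k S ⊓ OO R j).relIndex (OO R j)) := by
    rw [inf_relIndex_right]
    refine odd_relIndex_of_norm (OO_le j) (OO_norm j) ?_
    have h1 : cj k (normalizer (R j : Set G)) = normalizer (R j : Set G) := cj_of_mem hk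
    rw [← h1, relIndex_cj]
    exact odd_of_not_dvd hSo
  have hQZ : ∀ g ∈ OO R j, v'⁻¹ * g * v' * g⁻¹ ∈ ZQ R j := by
    intro g hg
    have h1 := hg.2 _ (inv_mem hv'Q)
    have h2 : (g * v'⁻¹ * g⁻¹ * v'⁻¹⁻¹)⁻¹ ∈ ZQ R j := inv_mem h1
    have e2 : v'⁻¹ * g * v' * g⁻¹ = (g * v'⁻¹ * g⁻¹ * v'⁻¹⁻¹)⁻¹ := by group
    rw [e2]
    exact h2
  obtain ⟨y, hy, hc⟩ := Avg.avg (X := OO R j) (P := cj k S ⊓ OO R j) (Y := ZQ R j) (D := R j)
    (c := v') inf_le_right hodd (R_le_ZQ b.toBT j)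
    (fun g hg x hx => conj_mem_of_normalizer (N_le_NZQ j hg.1) hx)
    (fun g hg x hx => conj_mem_of_normalizer hg.1 hx)
    (fun x hx y hy => conj_mem_of_normalizer (b.Q_le j (ZQ_le j hx)) hy)
    (fun x hx => Q_sq b (h j) (ZQ_le j hx)) hQZ
    (by
      rintro g ⟨hg, -⟩
      have h1 := hS g hg
      have h2 : v'⁻¹ * (g * v' * g⁻¹ * v'⁻¹) * v' ∈ R j := by
        exact conj_inv_mem_of_normalizer (b.Q_le j hv'Q) h1
      have e1 : v'⁻¹ * (g * v' * g⁻¹ * v'⁻¹) * v' = v'⁻¹ * g * v' * g⁻¹ := by group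
      rwa [e1] at h2)
  have hyQ := ZQ_le j hy
  have hcQ : v' * y ∈ QQ (R j) := mul_mem hv'Q hyQ
  refine ⟨v' * y, hcQ, ?_, fun g hg => ?_⟩
  · rw [cj_mul, cj_eq_self_iff.2 (b.cen_le_N i (ZQ_le_cen b.toBT j hy)), e]
  · have h1 := hc g hg
    have h2 := conj_mem_of_normalizer (b.Q_le j hcQ) h1
    have e1 : v' * y * ((v' * y)⁻¹ * g * (v' * y) * g⁻¹) * (v' * y)⁻¹ = g * (v' * y) * g⁻¹ * (v' * y)⁻¹ := by
      group
    rwa [e1] at h2

/-- **THEOREM D (iii)** -/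
theorem D1 {j : ι} {r : G} (hr : ∀ x ∈ R j, x = 1 ∨ x = r) {S : Subgroup G}
    (hSV : S ≤ normalizer (V : Set G)) (hSR : S ≤ normalizer (R j : Set G))
    (hSo : ¬ 2 ∣ S.relIndex (normalizer (R j : Set G)))
    {i : ι} (hij : i ≠ j) {n : G} (hn : n ∈ ZQ R i) (hc : ∀ x ∈ QQ (R j), n * x * n⁻¹ * x⁻¹ ∈ ZQ R j) :
    ∃ a ∈ R i, a * n ∈ CenX V R := by
  obtain ⟨l, hli, hlj⟩ := b.third i j
  obtain ⟨c, hcQ, e, hO⟩ := exists_avg b h hr hSV hSR hSo hij hlj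
  have hnV := ZQ_le_cen b.toBT i hn
  have hnO : n ∈ OO R j := ⟨b.cen_le_N j hnV, hc⟩
  have h1 := hO n hnO
  -- `c n c⁻¹ ∈ Z(Q l)`
  have h2 : c * n * c⁻¹ ∈ ZQ R l := by
    rw [← cj_ZQ b.toBT e]
    exact conj_mem_cj hn
  -- `n ∈ R j · Z(Q l) ≤ Q l`
  have h3 : n = (n * c * n⁻¹ * c⁻¹) * (c * n * c⁻¹) := by group
  have h4 : n ∈ QQ (R l) := by
    rw [h3]
    exact mul_mem ((b.R_le j).trans (b.V_Q l) h1) (ZQ_le l h2)
  exact ZQ_Q b (Ne.symm hli) hn h4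

/-- **THEOREM D (iv)** -/
theorem D2 {j : ι} {r : G} (hr : ∀ x ∈ R j, x = 1 ∨ x = r) {S : Subgroup G}
    (hSV : S ≤ normalizer (V : Set G)) (hSR : S ≤ normalizer (R j : Set G))
    (hSo : ¬ 2 ∣ S.relIndex (normalizer (R j : Set G)))
    {i : ι} (hij : i ≠ j) {n x : G} (hn : n ∈ ZQ R i) (hn2 : n * n = 1) (hx : x ∈ QQ (R j))
    (hx' : x ∉ centralizer (V : Set G)) (hv : ∃ v ∈ V, v * (n * x * n⁻¹ * x⁻¹) ∈ ZQ R j) :
    ∃ a ∈ R i, a * n ∈ CenX V R := by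
  obtain ⟨v, hv, hζ⟩ := hv
  set u := n * x * n⁻¹ * x⁻¹ with hu
  set ζ := v * u with hζdef
  have huv : u = v⁻¹ * ζ := by rw [hζdef]; group
  have hζV := ZQ_le_cen b.toBT j hζ
  have hnV := ZQ_le_cen b.toBT i hn
  -- `u` commutes with `E j`
  have h1 : ∀ y ∈ EE V R j, u * y = y * u := by
    intro y hy
    have e1 : y * v⁻¹ = v⁻¹ * y := (mem_centralizer_iff.1 hy.2 _ (inv_mem hv)).symm
    have e2 : y * ζ = ζ * y := ZQ_comm hζ hy.1
    rw [huv]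
    calc v⁻¹ * ζ * y = v⁻¹ * (y * ζ) := by rw [e2]; group
      _ = (v⁻¹ * y) * ζ := by group
      _ = y * (v⁻¹ * ζ) := by rw [← e1]; group
  -- `[n, E j] ≤ C_X`
  have h2 : ∀ y ∈ EE V R j, n * y * n⁻¹ * y⁻¹ ∈ ZQ R j := fun y hy =>
    cenX_le_ZQ b h j (mem_cenX_of b h hij hn hx hx' hy (h1 y hy))
  -- `u² = 1`
  have h3 : u * u = 1 := by
    have e1 := comm_conjQ b h hij hn hx hx'
    set n' := x * n * x⁻¹ with hn'
    have e2 : u = n * n'⁻¹ := by rw [hu, hn']; group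
    have e3 : n'⁻¹ = n' := by
      rw [inv_eq_iff_mul_eq_one, hn']
      calc x * n * x⁻¹ * (x * n * x⁻¹) = x * (n * n) * x⁻¹ := by group
        _ = 1 := by rw [hn2]; group
    rw [e2, e3]
    calc n * n' * (n * n') = n * (n' * n) * n' := by group
      _ = (n * n) * (n' * n') := by rw [← e1]; group
      _ = 1 := by
        rw [hn2, one_mul]
        calc n' * n' = n' * n'⁻¹ := by rw [e3]
          _ = 1 := mul_inv_cancel _
  have hvζ : v * ζ = ζ * v := mem_centralizer_iff.1 hζV v hv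
  have hvv := b.V_sq v hv
  have hvi : v⁻¹ = v := b.inv_eq hv
  have hζζ : ζ * ζ = 1 := by
    rw [← h3]
    have e1 : u * v = v * u := by
      rw [huv, hvi]
      rw [mul_assoc, ← hvζ]
    calc ζ * ζ = v * (u * v) * u := by rw [hζdef]; group
      _ = (v * v) * (u * u) := by rw [e1]; group
      _ = u * u := by rw [hvv, one_mul]
  -- `u (x u x⁻¹) = 1`
  have hxζ : x * ζ = ζ * x := ZQ_comm hζ hx
  have h4 : u * (x * u * x⁻¹) = 1 := by
    have hxx : x * x ∈ R j := Q_sq b (h j) hx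
    have e1 : n * (x * x) = x * x * n := (mem_centralizer_iff.1 hnV _ (b.R_le j hxx)).symm
    have e2 : u * x = n * x * n⁻¹ := by rw [hu]; group
    calc u * (x * u * x⁻¹) = (u * x) * (u * x) * (x * x)⁻¹ := by group
      _ = n * (x * x) * n⁻¹ * (x * x)⁻¹ := by rw [e2]; group
      _ = 1 := by rw [e1]; group
  have h5 : x * v * x⁻¹ = v := by
    rw [huv, hvi] at h4
    have e1 : v * ζ * (x * (v * ζ) * x⁻¹) = v * (x * v * x⁻¹) := by
      have e2 : x * (v * ζ) * x⁻¹ = (x * v * x⁻¹) * ζ := by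
        calc x * (v * ζ) * x⁻¹ = (x * v * x⁻¹) * (x * ζ) * x⁻¹ := by group
          _ = (x * v * x⁻¹) * ζ := by rw [hxζ]; group
      have hxv : x * v * x⁻¹ ∈ V := conj_mem_of_normalizer ((b.Q_le_K j).trans (b.K_le_NV j) hx) hv
      have e3 : ζ * (x * v * x⁻¹) = (x * v * x⁻¹) * ζ := (mem_centralizer_iff.1 hζV _ hxv).symm
      rw [e2]
      calc v * ζ * (x * v * x⁻¹ * ζ) = v * (ζ * (x * v * x⁻¹)) * ζ := by group
        _ = v * (x * v * x⁻¹) * (ζ * ζ) := by rw [e3]; group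
        _ = v * (x * v * x⁻¹) := by rw [hζζ, mul_one]
    rw [e1] at h4
    have h6 : x * v * x⁻¹ = v⁻¹ := (inv_eq_of_mul_eq_one_right h4).symm
    rw [h6, hvi]
  have h6 : v ∈ R j := by
    obtain ⟨m, hm⟩ := b.R_cov v hv
    by_cases hmj : m = j
    · rwa [hmj] at hm
    obtain ⟨k, hkm, -, hk⟩ := movesQ b.toBT hmj hx hx'
    have h7 : v ∈ R k := by
      rw [← h5, ← hk]; exact conj_mem_cj hm
    rw [b.eq_one hkm h7 hm]
    exact one_mem _
  have h7 : u ∈ ZQ R j := by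
    rw [huv]
    exact mul_mem (inv_mem (R_le_ZQ b.toBT j h6)) hζ
  -- all of `Q j`
  refine D1 b h hr hSV hSR hSo hij hn fun y hy => ?_
  -- `y ∈ E j` or `y ∈ x E j`
  by_cases hyV : y ∈ centralizer (V : Set G)
  · exact h2 y ⟨hy, hyV⟩
  · have h8 : x⁻¹ * y ∈ EE V R j := mem_inf.2 ⟨(QQ (R j)).mul_mem ((QQ (R j)).inv_mem hx) hy,
      inv_mul_mem_cen b.toBT hr hx hx' hy hyV⟩
    have h9 := h2 _ h8
    have h10 : n * y * n⁻¹ * y⁻¹ = (n * x * n⁻¹ * x⁻¹) * (x * (n * (x⁻¹ * y) * n⁻¹ * (x⁻¹ * y)⁻¹) * x⁻¹) := by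
      group
    rw [h10]
    exact mul_mem h7 (conj_mem_of_normalizer (N_le_NZQ j (b.Q_le j hx)) h9)

/-- **THEOREM D (v)**: `|Ω₁ Z(Q i) : R i × C_X| ≤ |J : V × C_X|` -/
theorem D3 {j : ι} {r : G} (hr : ∀ x ∈ R j, x = 1 ∨ x = r) {S : Subgroup G}
    (hSV : S ≤ normalizer (V : Set G)) (hSR : S ≤ normalizer (R j : Set G))
    (hSo : ¬ 2 ∣ S.relIndex (normalizer (R j : Set G)))
    {i : ι} (hij : i ≠ j) :
    (Par.RC b.toBT i).relIndex (OZ R i) ≤ (V ⊔ CenX V R).relIndex (CC R) := by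
  classical
  obtain ⟨w, hw, hwU⟩ := exists_not_U b.toBT j
  have hwQ := b.W_le_Q j hw
  have hwV : w ∉ centralizer (V : Set G) := fun hc => hwU (mem_inf.2 ⟨hw, hc⟩)
  have key : ∀ n : OZ R i, ∃ d : CC R, (d : G)⁻¹ * (n * w * (n : G)⁻¹ * w⁻¹) ∈ ZQ R j := by
    intro n
    obtain ⟨d, hd, h1⟩ := exists_d b h hij n.2.1 hwQ hwV
    exact ⟨⟨d, hd⟩, h1⟩
  choose d hd using key
  -- injectivity
  have inj : ∀ m n : OZ R i, (d m : G)⁻¹ * d n ∈ V ⊔ CenX V R → (m : G)⁻¹ * n ∈ Par.RC b.toBT i := by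
    intro m n hmn
    have hle : CenX V R ≤ normalizer (V : Set G) := b.CenX_le_cen.trans (cen_le_NV V)
    rw [← SetLike.mem_coe, coe_mul_of_right_le_normalizer_left _ _ hle] at hmn
    obtain ⟨v, hv, c, hc, hvc⟩ := hmn
    have hmn2 := (OZ R i).mul_mem ((OZ R i).inv_mem m.2) n.2
    refine D2 b h hr hSV hSR hSo hij hmn2.1 hmn2.2 hwQ hwV ⟨v⁻¹, inv_mem hv, ?_⟩
    set um := (m : G) * w * (m : G)⁻¹ * w⁻¹ with hum
    set un := (n : G) * w * (n : G)⁻¹ * w⁻¹ with hun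
    have hζm := hd m
    have hζn := hd n
    set ζm := (d m : G)⁻¹ * um with hζmd
    set ζn := (d n : G)⁻¹ * un with hζnd
    have em : um = d m * ζm := by rw [hζmd]; group
    have en : un = d n * ζn := by rw [hζnd]; group
    have hmV := ZQ_le_cen b.toBT i m.2.1
    have hmN : (m : G) ∈ normalizer (ZQ R j : Set G) := N_le_NZQ j (b.cen_le_N j hmV)
    have hcZ : c ∈ ZQ R j := cenX_le_ZQ b h j hc
    -- `un um⁻¹ = v (c ζn ζm⁻¹)`
    have h1 : un * um⁻¹ = v * (c * (ζn * ζm⁻¹)) := by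
      have k1 : (d m : G) * (ζn * ζm⁻¹) = (ζn * ζm⁻¹) * d m :=
        ZQ_comm (mul_mem hζn (inv_mem hζm)) (mem_iInf.1 (d m).2 j)
      have k2 : (d n : G) * (d m : G)⁻¹ = (d m : G)⁻¹ * d n :=
        C_comm_one b h (d n).2 (inv_mem (d m).2)
      have hvc' : v * c = (d m : G)⁻¹ * d n := hvc
      calc un * um⁻¹ = d n * ((ζn * ζm⁻¹) * (d m : G)⁻¹) := by rw [em, en]; group
        _ = d n * ((d m : G)⁻¹ * (ζn * ζm⁻¹)) := by
            congr 1
            rw [eq_inv_mul_iff_mul_eq, ← mul_assoc, k1, mul_inv_cancel_right]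
        _ = (d n * (d m : G)⁻¹) * (ζn * ζm⁻¹) := by group
        _ = v * (c * (ζn * ζm⁻¹)) := by rw [k2, ← hvc']; group
    have e : v⁻¹ * ((m : G)⁻¹ * n * w * ((m : G)⁻¹ * n)⁻¹ * w⁻¹) =
        (m : G)⁻¹ * (c * (ζn * ζm⁻¹)) * m := by
      have k3 : (m : G)⁻¹ * v = v * (m : G)⁻¹ := by
        rw [inv_mul_eq_iff_eq_mul, ← mul_assoc, ← mem_centralizer_iff.1 hmV v hv, mul_inv_cancel_right]
      calc v⁻¹ * ((m : G)⁻¹ * n * w * ((m : G)⁻¹ * n)⁻¹ * w⁻¹)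
          = v⁻¹ * ((m : G)⁻¹ * (un * um⁻¹) * m) := by rw [hun, hum]; group
        _ = v⁻¹ * (((m : G)⁻¹ * v) * (c * (ζn * ζm⁻¹)) * m) := by rw [h1]; group
        _ = _ := by rw [k3]; group
    rw [e]
    exact conj_inv_mem_of_normalizer hmN (mul_mem hcZ (mul_mem hζn (inv_mem hζm)))
  -- count
  let F : OZ R i ⧸ (Par.RC b.toBT i).subgroupOf (OZ R i) → CC R ⧸ (V ⊔ CenX V R).subgroupOf (CC R) :=
    fun q => QuotientGroup.mk (d q.out)
  have hF : Function.Injective F := by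
    intro q q' hqq
    have h1 : (QuotientGroup.mk (d q.out) : CC R ⧸ (V ⊔ CenX V R).subgroupOf (CC R)) =
        QuotientGroup.mk (d q'.out) := hqq
    rw [QuotientGroup.eq] at h1
    have h2 := inj q.out q'.out h1
    have h3 : (QuotientGroup.mk q.out : OZ R i ⧸ (Par.RC b.toBT i).subgroupOf (OZ R i)) =
        QuotientGroup.mk q'.out := by
      rw [QuotientGroup.eq]
      exact h2
    rwa [QuotientGroup.out_eq', QuotientGroup.out_eq'] at h3
  exact Nat.card_le_card_of_injective F hF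

end Cfsg.Agent.Omega.HT.ThmD

end
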