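import Cfsg.Agent.Mrg.Omega.BTwo.QuadGrp
import Cfsg.Agent.Mrg.Omega.BTwo.Str

section


/-!
# SQ3, `b = 2`: the action of `w1 a`, `w2 a`, `nn a`, `hh a` on `Y / D = N ⊗ M`

`Rep y m n` : `y = x1 x2`, `x1 ∈ U i`, `x2 ∈ U j`, `p1 x1 = m`, `p2 x2 = n`.
`hh_p1 : p1 (h(a) x h(a)⁻¹) = a • p1 x`, `hh_p2 : p2 (h(a) x h(a)⁻¹) = a⁻¹ • p2 x`,
`nn_p1 : p2 (n(a) x n(a)⁻¹) = a⁻¹ • p1 x`, `nn_p2 : p1 (n(a) x n(a)⁻¹) = a • p2 x`.
-/

set_option autoImplicit false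
set_option linter.unusedSectionVars false

namespace Cfsg.Agent.Omega.BTwo

open Subgroup

universe u v w

variable {G : Type u} [Group G] {ι : Type w} {V : Subgroup G} {R : ι → Subgroup G} {i j : ι} {F : Type v}
  [Field F] {v : F → F → G} {w1 w2 : F → G} {M : Type u} [AddCommGroup M] [Module F M] {p1 p2 : G → M}

/-- `y = x1 x2` with coordinates `m, n` -/
def Rep (V : Subgroup G) (R : ι → Subgroup G) (i j : ι) (p1 p2 : G → M) (y : G) (m n : M) : Prop :=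
  ∃ x1 ∈ UU V R i, ∃ x2 ∈ UU V R j, y = x1 * x2 ∧ p1 x1 = m ∧ p2 x2 = n

namespace YMod

variable (y : YMod (DD V R) (UU V R i) (UU V R j) w1 w2 M p1 p2)
include y

theorem p1_one' : p1 1 = 0 := (y.ker1 1 (one_mem _)).2 (one_mem _)

theorem p2_one : p2 1 = 0 := (y.ker2 1 (one_mem _)).2 (one_mem _)

theorem p1_inv' {x : G} (hx : x ∈ UU V R i) : p1 x⁻¹ = - p1 x := by
  have h := y.mul1 x hx x⁻¹ (inv_mem hx)
  rw [mul_inv_cancel, y.p1_one'] at h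
  exact (neg_eq_of_add_eq_zero_right h.symm).symm

theorem p2_inv {x : G} (hx : x ∈ UU V R j) : p2 x⁻¹ = - p2 x := by
  have h := y.mul2 x hx x⁻¹ (inv_mem hx)
  rw [mul_inv_cancel, y.p2_one] at h
  exact (neg_eq_of_add_eq_zero_right h.symm).symm

theorem p1_D_mul {d x : G} (hd : d ∈ DD V R) (hD : d ∈ UU V R i) (hx : x ∈ UU V R i) :
    p1 (d * x) = p1 x := by
  rw [y.mul1 d hD x hx, (y.ker1 d hD).2 hd, zero_add]

theorem p2_D_mul {d x : G} (hd : d ∈ DD V R) (hD : d ∈ UU V R j) (hx : x ∈ UU V R j) :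
    p2 (d * x) = p2 x := by
  rw [y.mul2 d hD x hx, (y.ker2 d hD).2 hd, zero_add]

theorem p1_eq_iff {x x' : G} (hx : x ∈ UU V R i) (hx' : x' ∈ UU V R i) :
    p1 x = p1 x' ↔ x'⁻¹ * x ∈ DD V R := by
  rw [← y.ker1 _ (mul_mem (inv_mem hx') hx), y.mul1 _ (inv_mem hx') _ hx, y.p1_inv' hx', neg_add_eq_zero]
  exact eq_comm

theorem p2_eq_iff {x x' : G} (hx : x ∈ UU V R j) (hx' : x' ∈ UU V R j) :
    p2 x = p2 x' ↔ x'⁻¹ * x ∈ DD V R := by
  rw [← y.ker2 _ (mul_mem (inv_mem hx') hx), y.mul2 _ (inv_mem hx') _ hx, y.p2_inv hx', neg_add_eq_zero]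
  exact eq_comm

variable (b : BT V R) (c : Coord V R i j v w1 w2)
include b c

theorem rep_unique {g : G} {m n m' n' : M} (h : Rep V R i j p1 p2 g m n) (h' : Rep V R i j p1 p2 g m' n') :
    m = m' ∧ n = n' := by
  obtain ⟨x1, hx1, x2, hx2, e, rfl, rfl⟩ := h
  obtain ⟨z1, hz1, z2, hz2, e', rfl, rfl⟩ := h'
  have h1 : z1⁻¹ * x1 = z2 * x2⁻¹ := by
    have : x1 * x2 = z1 * z2 := e.symm.trans e'
    calc z1⁻¹ * x1 = z1⁻¹ * (x1 * x2) * x2⁻¹ := by group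
      _ = z2 * x2⁻¹ := by rw [this]; group
  have hD : z1⁻¹ * x1 ∈ DD V R := by
    have k1 : z1⁻¹ * x1 ∈ UU V R i := mul_mem (inv_mem hz1) hx1
    have k2 : z1⁻¹ * x1 ∈ UU V R j := by rw [h1]; exact mul_mem hz2 (inv_mem hx2)
    rw [← b.UU_inf c.ne]
    exact mem_inf.2 ⟨k1, k2⟩
  refine ⟨(y.p1_eq_iff hx1 hz1).2 hD, ?_⟩
  rw [eq_comm, y.p2_eq_iff hz2 hx2]
  have h2 : x2⁻¹ * z2 = x2⁻¹ * (z2 * x2⁻¹) * x2⁻¹⁻¹ := by group
  rw [h2, ← h1]
  exact conj_mem_of_normalizer (b.NV_le_ND (cen_le_NV V (UU_le_cen j (inv_mem hx2)))) hD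

theorem rep_of_mem1 {x : G} (hx : x ∈ UU V R i) : Rep V R i j p1 p2 x (p1 x) 0 :=
  ⟨x, hx, 1, one_mem _, by group, rfl, y.p2_one⟩

theorem rep_of_mem2 {x : G} (hx : x ∈ UU V R j) : Rep V R i j p1 p2 x 0 (p2 x) :=
  ⟨1, one_mem _, x, hx, by group, y.p1_one', rfl⟩

theorem rep_w1 (a : F) {g : G} {m n : M} (h : Rep V R i j p1 p2 g m n) :
    Rep V R i j p1 p2 (w1 a * g * (w1 a)⁻¹) (m + a • n) n := by
  obtain ⟨x1, hx1, x2, hx2, rfl, rfl, rfl⟩ := h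
  have hd : w1 a * x1 * (w1 a)⁻¹ * x1⁻¹ ∈ R i := b.WU (c.w1_mem a) hx1
  have hdD := V_le_D V R (b.R_le i hd)
  have hc : w1 a * x2 * (w1 a)⁻¹ * x2⁻¹ ∈ UU V R i := b.WU' (c.w1_mem a) hx2
  refine ⟨(w1 a * x1 * (w1 a)⁻¹ * x1⁻¹) * (x1 * (w1 a * x2 * (w1 a)⁻¹ * x2⁻¹)),
    mul_mem (b.D_le_U i hdD) (mul_mem hx1 hc), x2, hx2, by group, ?_, rfl⟩
  rw [y.p1_D_mul hdD (b.D_le_U i hdD) (mul_mem hx1 hc), y.mul1 _ hx1 _ hc, y.act12 a _ hx2]

theorem rep_w2 (a : F) {g : G} {m n : M} (h : Rep V R i j p1 p2 g m n) :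
    Rep V R i j p1 p2 (w2 a * g * (w2 a)⁻¹) m (n + a • m) := by
  obtain ⟨x1, hx1, x2, hx2, rfl, rfl, rfl⟩ := h
  have hd : w2 a * x2 * (w2 a)⁻¹ * x2⁻¹ ∈ R j := b.WU (c.w2_mem a) hx2
  have hdD := V_le_D V R (b.R_le j hd)
  have hc : w2 a * x1 * (w2 a)⁻¹ * x1⁻¹ ∈ UU V R j := b.WU' (c.w2_mem a) hx1
  have hk : (w2 a * x1 * (w2 a)⁻¹ * x1⁻¹) * x1 * (w2 a * x1 * (w2 a)⁻¹ * x1⁻¹)⁻¹ * x1⁻¹ ∈ DD V R :=
    b.Y_comm (UU_le_YY j hc) (UU_le_YY i hx1)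
  refine ⟨((w2 a * x1 * (w2 a)⁻¹ * x1⁻¹) * x1 * (w2 a * x1 * (w2 a)⁻¹ * x1⁻¹)⁻¹ * x1⁻¹) * x1,
    mul_mem (b.D_le_U i hk) hx1, (w2 a * x1 * (w2 a)⁻¹ * x1⁻¹) * ((w2 a * x2 * (w2 a)⁻¹ * x2⁻¹) * x2),
    mul_mem hc (mul_mem (b.D_le_U j hdD) hx2), by group, y.p1_D_mul hk (b.D_le_U i hk) hx1, ?_⟩
  rw [y.mul2 _ hc _ (mul_mem (b.D_le_U j hdD) hx2), y.p2_D_mul hdD (b.D_le_U j hdD) hx2, y.act21 a _ hx1,
    add_comm]

variable [CharP F 2]

omit b c in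
theorem two (m : M) : m + m = 0 := by
  have _ := y
  rw [← two_smul F, CharTwo.two_eq_zero, zero_smul]

theorem rep_nn {a : F} (ha : a ≠ 0) {g : G} {m n : M} (h : Rep V R i j p1 p2 g m n) :
    Rep V R i j p1 p2 (nn w1 w2 a * g * (nn w1 w2 a)⁻¹) (a • n) (a⁻¹ • m) := by
  have h1 := y.rep_w1 b c a (y.rep_w2 b c a⁻¹ (y.rep_w1 b c a h))
  have e1 : w1 a * (w2 a⁻¹ * (w1 a * g * (w1 a)⁻¹) * (w2 a⁻¹)⁻¹) * (w1 a)⁻¹ =
      nn w1 w2 a * g * (nn w1 w2 a)⁻¹ := by unfold nn; group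
  have e2 : n + a⁻¹ • (m + a • n) = a⁻¹ • m := by
    rw [smul_add, smul_smul, inv_mul_cancel₀ ha, one_smul, add_comm (a⁻¹ • m), ← add_assoc, y.two, zero_add]
  have e3 : m + a • n + a • (a⁻¹ • m) = a • n := by
    rw [smul_smul, mul_inv_cancel₀ ha, one_smul, add_comm m, add_assoc, y.two, add_zero]
  rw [e1, e2, e3] at h1
  exact h1

theorem rep_hh {a : F} (ha : a ≠ 0) {g : G} {m n : M} (h : Rep V R i j p1 p2 g m n) :
    Rep V R i j p1 p2 (hh w1 w2 a * g * (hh w1 w2 a)⁻¹) (a • m) (a⁻¹ • n) := by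
  have h1 := y.rep_nn b c ha (y.rep_nn b c one_ne_zero h)
  have e1 : nn w1 w2 a * (nn w1 w2 1 * g * (nn w1 w2 1)⁻¹) * (nn w1 w2 a)⁻¹ =
      hh w1 w2 a * g * (hh w1 w2 a)⁻¹ := by unfold hh; group
  rw [e1, inv_one, one_smul, one_smul] at h1
  exact h1

omit y in
theorem hh_mem1 {a : F} (ha : a ≠ 0) {x : G} (hx : x ∈ UU V R i) :
    hh w1 w2 a * x * (hh w1 w2 a)⁻¹ ∈ UU V R i := by
  have := conj_mem_cj (g := hh w1 w2 a) hx
  rwa [b.cj_UU (b.X_le_NV (c.hh_mem_X b a)) (c.hh_R1 b ha)] at this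

omit y in
theorem hh_mem2 {a : F} (ha : a ≠ 0) {x : G} (hx : x ∈ UU V R j) :
    hh w1 w2 a * x * (hh w1 w2 a)⁻¹ ∈ UU V R j := by
  have := conj_mem_cj (g := hh w1 w2 a) hx
  rwa [b.cj_UU (b.X_le_NV (c.hh_mem_X b a)) (c.hh_R2 b ha)] at this

/-- the torus on `U i / D` : scalars `a` -/
theorem hh_p1 {a : F} (ha : a ≠ 0) {x : G} (hx : x ∈ UU V R i) :
    p1 (hh w1 w2 a * x * (hh w1 w2 a)⁻¹) = a • p1 x :=
  (y.rep_unique b c (y.rep_of_mem1 b c (hh_mem1 b c ha hx)) (y.rep_hh b c ha (y.rep_of_mem1 b c hx))).1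

/-- the torus on `U j / D` : scalars `a⁻¹` -/
theorem hh_p2 {a : F} (ha : a ≠ 0) {x : G} (hx : x ∈ UU V R j) :
    p2 (hh w1 w2 a * x * (hh w1 w2 a)⁻¹) = a⁻¹ • p2 x :=
  (y.rep_unique b c (y.rep_of_mem2 b c (hh_mem2 b c ha hx)) (y.rep_hh b c ha (y.rep_of_mem2 b c hx))).2

theorem nn_p1 {a : F} (ha : a ≠ 0) {x : G} (hx : x ∈ UU V R i) :
    nn w1 w2 a * x * (nn w1 w2 a)⁻¹ ∈ UU V R j ∧ p2 (nn w1 w2 a * x * (nn w1 w2 a)⁻¹) = a⁻¹ • p1 x := by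
  have h := conj_mem_cj (g := nn w1 w2 a) hx
  rw [b.cj_UU (b.X_le_NV (c.nn_mem_X b a)) (c.nn_R1 b ha)] at h
  exact ⟨h, (y.rep_unique b c (y.rep_of_mem2 b c h) (y.rep_nn b c ha (y.rep_of_mem1 b c hx))).2⟩

theorem nn_p2 {a : F} (ha : a ≠ 0) {x : G} (hx : x ∈ UU V R j) :
    nn w1 w2 a * x * (nn w1 w2 a)⁻¹ ∈ UU V R i ∧ p1 (nn w1 w2 a * x * (nn w1 w2 a)⁻¹) = a • p2 x := by
  have h := conj_mem_cj (g := nn w1 w2 a) hx
  rw [b.cj_UU (b.X_le_NV (c.nn_mem_X b a)) (c.nn_R2 b ha)] at h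
  exact ⟨h, (y.rep_unique b c (y.rep_of_mem1 b c h) (y.rep_nn b c ha (y.rep_of_mem2 b c hx))).1⟩

/-- the torus is fixed-point-free on `U i / D` (`hfpf` of `BTC.cen_W_le_W`) -/
theorem hfpf1 {a : F} (ha : a ≠ 0) (ha1 : a ≠ 1) {x : G} (hx : x ∈ UU V R i)
    (h : hh w1 w2 a * x * (hh w1 w2 a)⁻¹ * x⁻¹ ∈ DD V R) : x ∈ DD V R := by
  have h1 : p1 (hh w1 w2 a * x * (hh w1 w2 a)⁻¹) = p1 x := by
    rw [← y.p1_D_mul h (b.D_le_U i h) hx]
    congr 1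
    group
  rw [y.hh_p1 b c ha hx] at h1
  rw [← y.ker1 x hx]
  have h2 : (a - 1) • p1 x = 0 := by rw [sub_smul, one_smul, h1, sub_self]
  exact (smul_eq_zero.1 h2).resolve_left (sub_ne_zero.2 ha1)

theorem hfpf2 {a : F} (ha : a ≠ 0) (ha1 : a ≠ 1) {x : G} (hx : x ∈ UU V R j)
    (h : hh w1 w2 a * x * (hh w1 w2 a)⁻¹ * x⁻¹ ∈ DD V R) : x ∈ DD V R := by
  have h1 : p2 (hh w1 w2 a * x * (hh w1 w2 a)⁻¹) = p2 x := by
    rw [← y.p2_D_mul h (b.D_le_U j h) hx]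
    congr 1
    group
  rw [y.hh_p2 b c ha hx] at h1
  rw [← y.ker2 x hx]
  have h2 : (a⁻¹ - 1) • p2 x = 0 := by rw [sub_smul, one_smul, h1, sub_self]
  refine (smul_eq_zero.1 h2).resolve_left (sub_ne_zero.2 ?_)
  intro h3
  exact ha1 (by rw [← inv_inv a, h3, inv_one])

end YMod

end Cfsg.Agent.Omega.BTwo

end

section


/-!
# The torus of `X`: (t1)-(t6) of `SQEnd.Cfg` from `BTC`, `Coord`, `YMod` (bb OMEGA #12947)

`x ∈ X` acts on `V` and on `Y / D` by one and the same matrix of determinant 1 (`Act`, `exists_act`); so an element `t`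
of `X` normalising `R i` and `R j` acts as `diag(a, a⁻¹)` (`exists_tor`).
-/

set_option autoImplicit false
set_option linter.unusedSectionVars false

namespace Cfsg.Agent.Omega.SQEnd.Tor

open Subgroup Cfsg.Agent.Omega.BTwo

universe u v w

variable {G : Type u} [Group G] {ι : Type w} {V : Subgroup G} {R : ι → Subgroup G} {i j : ι} {F : Type v}
  [Field F] {v : F → F → G} {w1 w2 : F → G} {M : Type u} [AddCommGroup M] [Module F M] {p1 p2 : G → M}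

/-- `g` acts on `V` and on `Y / D` by the matrix `(α, β; γ, δ)` -/
def Act (V : Subgroup G) (R : ι → Subgroup G) (i j : ι) (v : F → F → G) (p1 p2 : G → M) (g : G)
    (α β γ δ : F) : Prop :=
  (∀ b c, g * v b c * g⁻¹ = v (α * b + β * c) (γ * b + δ * c)) ∧
    ∀ z m n, Rep V R i j p1 p2 z m n → Rep V R i j p1 p2 (g * z * g⁻¹) (α • m + β • n) (γ • m + δ • n)

theorem Act.mul {g g' : G} {α β γ δ α' β' γ' δ' : F} (h : Act V R i j v p1 p2 g α β γ δ)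
    (h' : Act V R i j v p1 p2 g' α' β' γ' δ') :
    Act V R i j v p1 p2 (g * g') (α * α' + β * γ') (α * β' + β * δ') (γ * α' + δ * γ') (γ * β' + δ * δ') := by
  constructor
  · intro b c
    have e : g * g' * v b c * (g * g')⁻¹ = g * (g' * v b c * g'⁻¹) * g⁻¹ := by group
    rw [e, h'.1, h.1]
    congr 1 <;> ring
  · intro z m n hz
    have e : g * g' * z * (g * g')⁻¹ = g * (g' * z * g'⁻¹) * g⁻¹ := by group
    have h1 := h.2 _ _ _ (h'.2 _ _ _ hz)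
    rw [e]
    convert h1 using 1
    · module
    · module

section

variable (y : YMod (DD V R) (UU V R i) (UU V R j) w1 w2 M p1 p2) (b : BT V R) (c : Coord V R i j v w1 w2)
include y b c

omit c in
theorem rep_D_mul {d z : G} {m n : M} (hd : d ∈ DD V R) (h : Rep V R i j p1 p2 z m n) :
    Rep V R i j p1 p2 (d * z) m n := by
  obtain ⟨x1, h1, x2, h2, rfl, e1, e2⟩ := h
  exact ⟨d * x1, mul_mem (b.D_le_U i hd) h1, x2, h2, by group, by rw [y.p1_D_mul hd (b.D_le_U i hd) h1, e1], e2⟩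

theorem Rep_mem {z : G} {m n : M} (h : Rep V R i j p1 p2 z m n) : z ∈ YY V R := by
  have _ := y
  have _ := b
  have _ := c
  obtain ⟨x1, h1, x2, h2, rfl, -, -⟩ := h
  exact mul_mem (UU_le_YY i h1) (UU_le_YY j h2)

theorem act_W1 {x : G} (hx : x ∈ WW V (R i)) : ∃ a, Act V R i j v p1 p2 x 1 a 0 1 ∧
    ∀ b c, x * v b c * x⁻¹ = v (b + a * c) c := by
  obtain ⟨a, ha⟩ := c.W1_act x hx
  refine ⟨a, ⟨fun b c => ?_, fun z m n hz => ?_⟩, ha⟩
  · rw [ha, one_mul, zero_mul, zero_add, one_mul]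
  · have h1 := y.rep_w1 b c a hz
    have h2 := b.same hx (c.w1_mem a) (fun g hg => by
      obtain ⟨e, f, rfl⟩ := (c.mem_V g).1 hg
      rw [ha, c.w1_act]) (Rep_mem y b c hz)
    have h3 := rep_D_mul y b h2 h1
    rw [inv_mul_cancel_right] at h3
    rwa [one_smul, zero_smul, zero_add, one_smul]

theorem act_W2 {x : G} (hx : x ∈ WW V (R j)) : ∃ a, Act V R i j v p1 p2 x 1 0 a 1 ∧
    ∀ b c, x * v b c * x⁻¹ = v b (c + a * b) := by
  obtain ⟨a, ha⟩ := c.W2_act x hx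
  refine ⟨a, ⟨fun b c => ?_, fun z m n hz => ?_⟩, ha⟩
  · rw [ha, one_mul, zero_mul, add_zero, one_mul, add_comm c]
  · have h1 := y.rep_w2 b c a hz
    have h2 := b.same hx (c.w2_mem a) (fun g hg => by
      obtain ⟨e, f, rfl⟩ := (c.mem_V g).1 hg
      rw [ha, c.w2_act]) (Rep_mem y b c hz)
    have h3 := rep_D_mul y b h2 h1
    rw [inv_mul_cancel_right] at h3
    rwa [one_smul, zero_smul, add_zero, one_smul, add_comm (a • m)]

/-- every element of `X` acts by a matrix of determinant 1 -/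
theorem exists_act {x : G} (hx : x ∈ XX V R) :
    ∃ α β γ δ : F, α * δ - β * γ = 1 ∧ Act V R i j v p1 p2 x α β γ δ := by
  have h1 : XX V R = closure ((WW V (R i) : Set G) ∪ WW V (R j)) := by
    rw [b.X_eq c.ne, Subgroup.closure_union, closure_eq, closure_eq]
  rw [h1] at hx
  have key : ∀ g ∈ (WW V (R i) : Set G) ∪ WW V (R j), ∀ g', (∃ α β γ δ : F, α * δ - β * γ = 1 ∧
      Act V R i j v p1 p2 g' α β γ δ) → ∃ α β γ δ : F, α * δ - β * γ = 1 ∧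
      Act V R i j v p1 p2 (g * g') α β γ δ := by
    rintro g (hg | hg) g' ⟨α, β, γ, δ, hdet, h⟩
    · obtain ⟨a, ha, -⟩ := act_W1 y b c hg
      exact ⟨_, _, _, _, by linear_combination hdet, ha.mul h⟩
    · obtain ⟨a, ha, -⟩ := act_W2 y b c hg
      exact ⟨_, _, _, _, by linear_combination hdet, ha.mul h⟩
  induction hx using closure_induction_left with
  | one =>
    refine ⟨1, 0, 0, 1, by ring, ⟨fun b c => ?_, fun z m n hz => ?_⟩⟩
    · have e : (1 : G) * v b c * 1⁻¹ = v b c := by group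
      rw [e]
      congr 1 <;> ring
    · have e : (1 : G) * z * 1⁻¹ = z := by group
      rw [e]
      convert hz using 1
      · module
      · module
  | mul_left x hx z _ ih => exact key x hx z ih
  | inv_mul_cancel x hx z _ ih =>
    refine key x⁻¹ ?_ z ih
    rcases hx with hx | hx
    · exact Or.inl ((WW V (R i)).inv_mem hx)
    · exact Or.inr ((WW V (R j)).inv_mem hx)

/-- **an element of `X` normalising `R i` and `R j`** acts as `diag(a, a⁻¹)` on `V` and on `Y / D`. -/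
theorem exists_tor {t : G} (ht : t ∈ XX V R) (hti : t ∈ normalizer (R i : Set G))
    (htj : t ∈ normalizer (R j : Set G)) : ∃ a : F, a ≠ 0 ∧
      (∀ b c, t * v b c * t⁻¹ = v (a * b) (a⁻¹ * c)) ∧
      (∀ x ∈ UU V R i, t * x * t⁻¹ ∈ UU V R i ∧ p1 (t * x * t⁻¹) = a • p1 x) ∧
      (∀ x ∈ UU V R j, t * x * t⁻¹ ∈ UU V R j ∧ p2 (t * x * t⁻¹) = a⁻¹ • p2 x) := by
  obtain ⟨α, β, γ, δ, hdet, h⟩ := exists_act y b c ht
  have hγ : γ = 0 := by
    have h1 : t * v 1 0 * t⁻¹ ∈ R i := conj_mem_of_normalizer hti ((c.mem_R1 _).2 ⟨1, rfl⟩)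
    rw [h.1] at h1
    obtain ⟨e, he⟩ := (c.mem_R1 _).1 h1
    have := (c.v_inj he).2
    linear_combination -this
  have hβ : β = 0 := by
    have h1 : t * v 0 1 * t⁻¹ ∈ R j := conj_mem_of_normalizer htj ((c.mem_R2 _).2 ⟨1, rfl⟩)
    rw [h.1] at h1
    obtain ⟨e, he⟩ := (c.mem_R2 _).1 h1
    have := (c.v_inj he).1
    linear_combination -this
  subst hγ hβ
  rw [mul_zero, sub_zero] at hdet
  have hα : α ≠ 0 := by
    rintro rfl
    rw [zero_mul] at hdet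
    exact zero_ne_one hdet
  have hδ : δ = α⁻¹ := (eq_inv_of_mul_eq_one_right hdet)
  subst hδ
  have htV := b.X_le_NV ht
  have hUi : ∀ x ∈ UU V R i, t * x * t⁻¹ ∈ UU V R i := fun x hx => by
    have := conj_mem_cj (g := t) hx
    rwa [b.cj_UU htV (cj_eq_self_iff.2 hti)] at this
  have hUj : ∀ x ∈ UU V R j, t * x * t⁻¹ ∈ UU V R j := fun x hx => by
    have := conj_mem_cj (g := t) hx
    rwa [b.cj_UU htV (cj_eq_self_iff.2 htj)] at this
  refine ⟨α, hα, fun d e => ?_, fun x hx => ⟨hUi x hx, ?_⟩, fun x hx => ⟨hUj x hx, ?_⟩⟩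
  · rw [h.1, zero_mul, add_zero, zero_mul, zero_add]
  · have h1 := (y.rep_unique b c (y.rep_of_mem1 b c (hUi x hx)) (h.2 _ _ _ (y.rep_of_mem1 b c hx))).1
    rwa [smul_zero, add_zero] at h1
  · have h1 := (y.rep_unique b c (y.rep_of_mem2 b c (hUj x hx)) (h.2 _ _ _ (y.rep_of_mem2 b c hx))).2
    rwa [smul_zero, zero_add] at h1

/-- `[m, a]` in coordinates -/
theorem p1_comm {m : G} {α : F} (hm : m ∈ WW V (R i)) (hα : ∀ b c, m * v b c * m⁻¹ = v (b + α * c) c) {x : G}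
    (hx : x ∈ UU V R j) : m * x * m⁻¹ * x⁻¹ ∈ UU V R i ∧ p1 (m * x * m⁻¹ * x⁻¹) = α • p2 x := by
  have h0 : m * x * m⁻¹ * x⁻¹ ∈ UU V R i := b.WU' hm hx
  refine ⟨h0, ?_⟩
  have h2 := b.same hm (c.w1_mem α) (fun g hg => by
      obtain ⟨e, f, rfl⟩ := (c.mem_V g).1 hg
      rw [hα, c.w1_act]) (UU_le_YY j hx)
  have h3 : w1 α * x * (w1 α)⁻¹ * x⁻¹ ∈ UU V R i := b.WU' (c.w1_mem α) hx
  rw [← y.act12 α x hx, ← y.p1_D_mul h2 (b.D_le_U i h2) h3]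
  congr 1
  group

end

section final

variable (y : YMod (DD V R) (UU V R i) (UU V R j) w1 w2 M p1 p2) (b : BT V R) (c : Coord V R i j v w1 w2)
  {t : G} (ht : t ∈ XX V R) (hti : t ∈ normalizer (R i : Set G)) (htj : t ∈ normalizer (R j : Set G))
include y b c ht hti htj

/-- **(t3)** -/
theorem t3 : ∀ d ∈ DD V R, t * d * t⁻¹ * d⁻¹ ∈ V := fun _ hd => b.XD ht hd

/-- **(t4)** -/
theorem t4 : ∀ m ∈ WW V (R i), ∀ a ∈ UU V R j,
    (m * (t⁻¹ * a * t) * m⁻¹ * (t⁻¹ * a * t)⁻¹)⁻¹ * (t * (m * a * m⁻¹ * a⁻¹) * t⁻¹) ∈ DD V R := by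
  obtain ⟨s, hs, hV, h1, h2⟩ := exists_tor y b c ht hti htj
  intro m hm a ha
  obtain ⟨α, -, hα⟩ := act_W1 y b c hm
  have ha' : t⁻¹ * a * t ∈ UU V R j := by
    have := conj_mem_cj (g := t⁻¹) ha
    rw [b.cj_UU (inv_mem (b.X_le_NV ht)) (cj_eq_self_iff.2 (inv_mem htj)), inv_inv] at this
    exact this
  have e : t * (t⁻¹ * a * t) * t⁻¹ = a := by group
  have h3 := (h2 _ ha').2
  rw [e] at h3
  obtain ⟨k1, k2⟩ := p1_comm y b c hm hα ha
  obtain ⟨l1, l2⟩ := p1_comm y b c hm hα ha'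
  obtain ⟨n1, n2⟩ := h1 _ k1
  rw [← y.p1_eq_iff n1 l1, n2, k2, l2, h3, smul_smul, smul_smul]
  congr 1
  rw [mul_right_comm, mul_inv_cancel₀ hs, one_mul]

/-- **(t5)** -/
theorem t5 [CharP F 2] : ∀ x ∈ V, ∀ m ∈ WW V (R i),
    t * (x * m * x⁻¹ * m⁻¹) * t⁻¹ = (t⁻¹ * x * t) * m * (t⁻¹ * x * t)⁻¹ * m⁻¹ := by
  obtain ⟨s, hs, hV, -, -⟩ := exists_tor y b c ht hti htj
  intro x hx m hm
  obtain ⟨α, -, hα⟩ := act_W1 y b c hm
  have key : ∀ d e, v d e * m * (v d e)⁻¹ * m⁻¹ = v (α * e) 0 := by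
    intro d e
    have h1 := hα d e
    have e1 : v (d + α * e) e = v d e * v (α * e) 0 := by rw [← c.v_add, add_zero]
    have e2 : v (α * e) 0 * v (α * e) 0 = 1 := by
      rw [← c.v_add, CharTwo.add_self_eq_zero, CharTwo.add_self_eq_zero, c.v_zero]
    have e3 : m * v d e * m⁻¹ = v d e * v (α * e) 0 := h1.trans e1
    calc v d e * m * (v d e)⁻¹ * m⁻¹ = v d e * (m * v d e * m⁻¹)⁻¹ := by group
      _ = v d e * (v (α * e) 0)⁻¹ * (v d e)⁻¹ := by rw [e3]; group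
      _ = v d e * v (α * e) 0 * (v d e)⁻¹ := by rw [inv_eq_of_mul_eq_one_left e2]
      _ = v (α * e) 0 := by rw [b.V_comm _ (c.v_mem _ _) _ (c.v_mem _ _), mul_inv_cancel_right]
  obtain ⟨d, e, rfl⟩ := (c.mem_V x).1 hx
  have hi : t⁻¹ * v d e * t = v (s⁻¹ * d) (s * e) := by
    have h1 := hV (s⁻¹ * d) (s * e)
    rw [← mul_assoc, ← mul_assoc, mul_inv_cancel₀ hs, inv_mul_cancel₀ hs, one_mul, one_mul] at h1
    rw [← h1]; group
  rw [hi, key, key, hV, mul_zero]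
  congr 1
  ring

/-- `t` trivial on `R i` or on `U i / D` centralises `V` and `U i / D`. -/
theorem eq_one_or (htr : ∀ b c, t * v b c * t⁻¹ = v b c) (ho : Odd (orderOf t)) (hC : centralizer (WW V (R i) : Set G) ≤ R i) : t = 1 := by
  obtain ⟨s, hs, hV, h1, -⟩ := exists_tor y b c ht hti htj
  have hs1 : s = 1 := by
    have := (c.v_inj ((hV 1 0).symm.trans (htr 1 0))).1
    rwa [mul_one] at this
  subst hs1
  have hcV : ∀ x ∈ V, t * x = x * t := by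
    intro x hx
    obtain ⟨d, e, rfl⟩ := (c.mem_V x).1 hx
    exact mul_inv_eq_iff_eq_mul.1 (htr d e)
  have hDW : DD V R ≤ WW V (R i) := D_le_W V R i
  have hcD : ∀ d ∈ DD V R, t * d = d * t := by
    intro d hd
    have h2 := b.XD ht hd
    exact comm_of_odd ho ((b.W_isPGroup i).to_le (V_le_WW V (R i))) h2 (hcV _ h2)
  have hcU : ∀ x ∈ UU V R i, t * x = x * t := by
    intro x hx
    have h2 : t * x * t⁻¹ * x⁻¹ ∈ DD V R := by
      obtain ⟨k1, k2⟩ := h1 x hx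
      rw [one_smul] at k2
      have h3 := (y.p1_eq_iff hx k1).1 k2.symm
      have h4 : t * x * t⁻¹ * x⁻¹ = x * (x⁻¹ * (t * x * t⁻¹)) * x⁻¹ := by group
      rw [h4]
      have h5 := inv_mem h3
      have h6 : x⁻¹ * (t * x * t⁻¹) ∈ DD V R := by
        have : x⁻¹ * (t * x * t⁻¹) = ((t * x * t⁻¹)⁻¹ * x)⁻¹ := by group
        rw [this]; exact h5
      exact conj_mem_of_normalizer (b.NV_le_ND (cen_le_NV V (UU_le_cen i hx))) h6
    exact comm_of_odd ho ((b.W_isPGroup i).to_le hDW) h2 (hcD _ h2)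
  have hcW : ∀ x ∈ WW V (R i), t * x = x * t := by
    intro x hx
    have hxt : t * x * t⁻¹ ∈ WW V (R i) :=
      conj_mem_of_normalizer (normalizer_le_WW V (R i) hti) hx
    have h2 : t * x * t⁻¹ * x⁻¹ ∈ UU V R i := by
      refine mem_inf.2 ⟨mul_mem hxt (inv_mem hx), mem_centralizer_iff.2 fun z hz => ?_⟩
      have hz' : x⁻¹ * z * x ∈ V := conj_inv_mem_of_normalizer (b.W_le_NV i hx) hz
      have e1 : t⁻¹ * (x⁻¹ * z * x) * t = x⁻¹ * z * x := by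
        rw [mul_assoc, ← hcV _ hz', inv_mul_cancel_left]
      have e2 : t⁻¹ * z * t = z := by rw [mul_assoc, ← hcV _ hz, inv_mul_cancel_left]
      have e3 : x * (x⁻¹ * z * x) * x⁻¹ = z := by group
      have hz2 := hcV z hz
      calc z * (t * x * t⁻¹ * x⁻¹) = (z * t) * x * t⁻¹ * x⁻¹ := by group
        _ = t * z * x * t⁻¹ * x⁻¹ := by rw [← hz2]
        _ = t * x * ((x⁻¹ * z * x) * t⁻¹) * x⁻¹ := by group
        _ = t * x * (t⁻¹ * (x⁻¹ * z * x)) * x⁻¹ := by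
            have := hcV _ hz'
            have h7 : (x⁻¹ * z * x) * t⁻¹ = t⁻¹ * (x⁻¹ * z * x) := by
              rw [eq_inv_mul_iff_mul_eq, ← mul_assoc, this, mul_inv_cancel_right]
            rw [h7]
        _ = t * x * t⁻¹ * x⁻¹ * z := by group
    exact comm_of_odd ho ((b.W_isPGroup i).to_le (UU_le_WW i)) h2 (hcU _ h2)
  have h3 : t ∈ R i := hC (mem_centralizer_iff.2 fun x hx => (hcW x hx).symm)
  obtain ⟨n, hn⟩ := (b.W_isPGroup i) ⟨t, V_le_WW V (R i) (b.R_le i h3)⟩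
  have h4 : t ^ 2 ^ n = 1 := congrArg Subtype.val hn
  have h5 : Nat.Coprime (orderOf t) (2 ^ n) := (Nat.coprime_two_right.2 ho).pow_right n
  exact orderOf_eq_one_iff.1 (Nat.eq_one_of_dvd_coprimes h5 dvd_rfl (orderOf_dvd_of_pow_eq_one h4))

/-- **(t1)** -/
theorem t1 (ho : Odd (orderOf t))
    (hC : centralizer (WW V (R i) : Set G) ≤ R i) (h1 : t ≠ 1) : ∀ r ∈ R i, t * r * t⁻¹ = r → r = 1 := by
  intro r hr h
  obtain ⟨s, hs, hV, -, -⟩ := exists_tor y b c ht hti htj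
  by_contra hne
  obtain ⟨d, rfl⟩ := (c.mem_R1 r).1 hr
  rw [hV] at h
  have h2 := (c.v_inj h).1
  have hd : d ≠ 0 := by
    rintro rfl
    exact hne c.v_zero
  have hs1 : s = 1 := mul_right_cancel₀ hd (by rw [h2, one_mul])
  subst hs1
  exact h1 (eq_one_or y b c ht hti htj (fun e f => by rw [hV, inv_one, one_mul, one_mul]) ho hC)

/-- **(t6)** -/
theorem t6 (ho : Odd (orderOf t))
    (hC : centralizer (WW V (R i) : Set G) ≤ R i) (h1 : t ≠ 1) :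
    ∀ u ∈ UU V R i, t * u * t⁻¹ * u⁻¹ ∈ DD V R → u ∈ DD V R := by
  intro u hu h
  obtain ⟨s, hs, hV, h2, -⟩ := exists_tor y b c ht hti htj
  have hs1 : s ≠ 1 := by
    rintro rfl
    exact h1 (eq_one_or y b c ht hti htj (fun e f => by rw [hV, inv_one, one_mul, one_mul]) ho hC)
  have h3 : p1 (t * u * t⁻¹) = p1 u := by
    rw [← y.p1_D_mul h (b.D_le_U i h) hu]
    congr 1
    group
  rw [(h2 u hu).2] at h3
  rw [← y.ker1 u hu]
  have h4 : (s - 1) • p1 u = 0 := by rw [sub_smul, one_smul, h3, sub_self]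
  exact (smul_eq_zero.1 h4).resolve_left (sub_ne_zero.2 hs1)

end final

/-- **(t2)** : `T` covers `N_X(R i)` modulo `W i U j`. -/
theorem t2 [CharP F 2] (b : BT V R) (c : Coord V R i j v w1 w2) {T : Subgroup G}
    (hT : ∀ x ∈ XX V R, x ∈ normalizer (R i : Set G) → ∃ p ∈ WW V (R i) ⊔ UU V R j, ∃ t ∈ T, x = p * t) :
    ∀ x ∈ V, x ∉ R i → ∀ x' ∈ V, x' ∉ R i → ∃ t ∈ T, (t * x * t⁻¹)⁻¹ * x' ∈ R i := by
  intro x hx hxR x' hx' hxR'
  obtain ⟨d, e, rfl⟩ := (c.mem_V x).1 hx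
  obtain ⟨d', e', rfl⟩ := (c.mem_V x').1 hx'
  have he : e ≠ 0 := fun h => hxR ((c.mem_R1 _).2 ⟨d, by rw [h]⟩)
  have he' : e' ≠ 0 := fun h => hxR' ((c.mem_R1 _).2 ⟨d', by rw [h]⟩)
  set a := e * e'⁻¹ with ha
  have ha0 : a ≠ 0 := mul_ne_zero he (inv_ne_zero he')
  obtain ⟨p, hp, t, ht, e1⟩ := hT (hh w1 w2 a) (c.hh_mem_X b a) (cj_eq_self_iff.1 (c.hh_R1 b ha0))
  refine ⟨t, ht, ?_⟩
  -- `p` is trivial on `V / R i`
  have hp' : ∀ z ∈ V, p * z * p⁻¹ * z⁻¹ ∈ R i := by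
    have h1 : WW V (R i) ⊔ UU V R j ≤ cenMod (R i) V := by
      refine sup_le (fun g hg => ⟨b.W_le_N i hg, fun z hz => ?_⟩) fun g hg => ⟨b.cen_le_N i (UU_le_cen j hg), fun z hz => ?_⟩
      · exact b.WW_comm i hg (V_le_WW V (R i) hz)
      · have h2 := mem_centralizer_iff.1 (UU_le_cen j hg) z hz
        rw [← h2, mul_inv_cancel_right, mul_inv_cancel]
        exact one_mem _
    exact (h1 hp).2
  have hpN : p ∈ normalizer (V : Set G) := by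
    have h1 : WW V (R i) ⊔ UU V R j ≤ normalizer (V : Set G) :=
      sup_le (b.W_le_NV i) ((UU_le_cen j).trans (cen_le_NV V))
    exact h1 hp
  have e2 : t = p⁻¹ * hh w1 w2 a := by rw [e1]; group
  have hz : v (a * d) (a⁻¹ * e) ∈ V := c.v_mem _ _
  have h3 : t * v d e * t⁻¹ = p⁻¹ * v (a * d) (a⁻¹ * e) * p := by
    rw [e2, ← c.hh_act ha0]; group
  have hz' : p⁻¹ * v (a * d) (a⁻¹ * e) * p ∈ V := conj_inv_mem_of_normalizer hpN hz
  have h4 := hp' _ hz'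
  have e3 : p * (p⁻¹ * v (a * d) (a⁻¹ * e) * p) * p⁻¹ = v (a * d) (a⁻¹ * e) := by group
  rw [e3] at h4
  have e4 : a⁻¹ * e = e' := by
    rw [ha, mul_inv, inv_inv, mul_right_comm, inv_mul_cancel₀ he, one_mul]
  rw [h3]
  have h5 : (v (a * d) (a⁻¹ * e))⁻¹ * v d' e' ∈ R i := by
    rw [e4]
    refine (c.mem_R1 _).2 ⟨d' - a * d, ?_⟩
    rw [eq_inv_mul_iff_mul_eq, ← c.v_add, add_sub_cancel, add_zero]
  have e5 : (p⁻¹ * v (a * d) (a⁻¹ * e) * p)⁻¹ * v d' e' =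
      ((p⁻¹ * v (a * d) (a⁻¹ * e) * p)⁻¹ * v (a * d) (a⁻¹ * e)) * ((v (a * d) (a⁻¹ * e))⁻¹ * v d' e') := by
    group
  rw [e5]
  refine mul_mem ?_ h5
  rw [b.V_comm _ (inv_mem hz') _ hz]
  exact h4

/-- coordinates for another pair of points -/
theorem coord_conj (b : BT V R) (c : Coord V R i j v w1 w2) {g : G} (hg : g ∈ normalizer (V : Set G))
    {i' j' : ι} (hi : cj g (R i) = R i') (hj : cj g (R j) = R j') :
    Coord V R i' j' (fun a b => g * v a b * g⁻¹) (fun a => g * w1 a * g⁻¹) (fun a => g * w2 a * g⁻¹) where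
  ne := by
    rintro rfl
    exact c.ne (b.R_index (cj_injective (hi.trans hj.symm)))
  v_add := fun a b a' b' => by rw [c.v_add]; group
  v_one := fun a b h => c.v_one a b (by
    have := congrArg (fun x => g⁻¹ * x * g) h
    simpa [mul_assoc] using this)
  mem_V := fun x => by
    constructor
    · intro hx
      obtain ⟨a, b, e⟩ := (c.mem_V _).1 (conj_inv_mem_of_normalizer hg hx)
      exact ⟨a, b, by rw [e]; group⟩
    · rintro ⟨a, b, rfl⟩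
      exact conj_mem_of_normalizer hg (c.v_mem a b)
  mem_R1 := fun x => by
    rw [← hi, mem_cj, c.mem_R1]
    constructor
    · rintro ⟨a, e⟩
      exact ⟨a, by rw [e]; group⟩
    · rintro ⟨a, rfl⟩
      exact ⟨a, by group⟩
  mem_R2 := fun x => by
    rw [← hj, mem_cj, c.mem_R2]
    constructor
    · rintro ⟨a, e⟩
      exact ⟨a, by rw [e]; group⟩
    · rintro ⟨a, rfl⟩
      exact ⟨a, by group⟩
  w1_mem := fun a => by
    have := conj_mem_cj (g := g) (c.w1_mem a)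
    rwa [b.cj_WW hi] at this
  w2_mem := fun a => by
    have := conj_mem_cj (g := g) (c.w2_mem a)
    rwa [b.cj_WW hj] at this
  w1_act := fun a b d => by
    rw [← c.w1_act]; group
  w2_act := fun a b d => by
    rw [← c.w2_act]; group
  W1_act := fun x hx => by
    rw [← b.cj_WW hi] at hx
    obtain ⟨a, ha⟩ := c.W1_act _ (mem_cj.1 hx)
    exact ⟨a, fun b d => by rw [← ha]; group⟩
  W2_act := fun x hx => by
    rw [← b.cj_WW hj] at hx
    obtain ⟨a, ha⟩ := c.W2_act _ (mem_cj.1 hx)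
    exact ⟨a, fun b d => by rw [← ha]; group⟩

/-- coordinates with the same first point `R i` and any second point -/
theorem exists_coord (b : BT V R) (c : Coord V R i j v w1 w2) {k : ι} (hk : k ≠ i) :
    ∃ (v' : F → F → G) (w1' w2' : F → G), Coord V R i k v' w1' w2' := by
  obtain ⟨w, hw, e⟩ := b.trans i c.ne.symm hk
  exact ⟨_, _, _, coord_conj b c (b.W_le_NV i hw) (cj_eq_self_iff.2 (b.W_le_N i hw)) e⟩

end Cfsg.Agent.Omega.SQEnd.Tor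

end
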