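import Cfsg.Agent.Mrg.Omega.BTwo.SemiBasic
import Cfsg.Agent.Mrg.Omega.BTwo.RadQ
import Cfsg.Agent.Mrg.Omega.BTwo.YTor
import Cfsg.Agent.Mrg.Omega.BTwo.QuadGrp
import Cfsg.Agent.Mrg.Omega.BTwo.Str
import Cfsg.Agent.StdEven.Syl
import Cfsg.Agent.Lib.NormalAbelian

section


/-!
# SQ3, `b = 2`, `q ≥ 4`: #11043 (8.5), (8.6) and the conclusion `O₂(N(R)) = W_R` is semi-extraspecial
-/

set_option autoImplicit false
set_option linter.unusedSectionVars false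

namespace Cfsg.Agent.Omega.BTwo

open Subgroup
open scoped commutatorElement

universe u v w

variable {G : Type u} [Group G] {ι : Type w}

namespace Coord

variable {V : Subgroup G} {R : ι → Subgroup G} {i j : ι} {F : Type v} [Field F]
  {v : F → F → G} {w1 w2 : F → G} {M : Type u} [AddCommGroup M] [Module F M] {p1 p2 : G → M}

section

variable (c : Coord V R i j v w1 w2) (b : BT V R) (y : YMod (DD V R) (UU V R i) (UU V R j) w1 w2 M p1 p2)
include c b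

/-- `U j = [U j, h(a)] D` -/
theorem exists_hh [Finite F] [CharP F 2] {a : F} (ha : a ≠ 0) (ha1 : a ≠ 1) {x : G} (hx : x ∈ UU V R j) :
    ∃ x' ∈ UU V R j, ∃ d ∈ DD V R, x = x' * (hh w1 w2 a * x'⁻¹ * (hh w1 w2 a)⁻¹) * d := by
  obtain ⟨M, i1, i2, p1, p2, y⟩ := c.exists_yMod b
  have hne : (1 : F) - a⁻¹ ≠ 0 := by
    intro h
    apply ha1
    have h1 : a⁻¹ = 1 := (sub_eq_zero.1 h).symm
    rw [← inv_inv a, h1, inv_one]
  obtain ⟨x', hx', e⟩ := y.surj2 ((1 - a⁻¹)⁻¹ • p2 x)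
  have hx'' := inv_mem hx'
  have h1 := YMod.hh_mem2 b c ha hx''
  have h2 : p2 (x' * (hh w1 w2 a * x'⁻¹ * (hh w1 w2 a)⁻¹)) = p2 x := by
    rw [y.mul2 _ hx' _ h1, y.hh_p2 b c ha hx'', y.p2_inv hx', smul_neg, ← sub_eq_add_neg]
    have h3 : p2 x' - a⁻¹ • p2 x' = (1 - a⁻¹) • p2 x' := by rw [sub_smul, one_smul]
    rw [h3, e, smul_smul, mul_inv_cancel₀ hne, one_smul]
  refine ⟨x', hx', (x' * (hh w1 w2 a * x'⁻¹ * (hh w1 w2 a)⁻¹))⁻¹ * x, ?_, by group⟩
  refine (y.ker2 _ (mul_mem (inv_mem (mul_mem hx' h1)) hx)).1 ?_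
  rw [y.mul2 _ (inv_mem (mul_mem hx' h1)) _ hx, y.p2_inv (mul_mem hx' h1), h2, neg_add_cancel]

end

/-! ### (8.5) -/

omit [Field F] in
theorem _root_.Cfsg.Agent.Omega.BTwo.comm_central {p q x y : G} (h1 : p * x = x * p) (h2 : p * y = y * p)
    (h3 : q * x = x * q) (h4 : q * y = y * q) (h5 : p * q = q * p) :
    (p * x) * (q * y) * (p * x)⁻¹ * (q * y)⁻¹ = x * y * x⁻¹ * y⁻¹ := by
  have k1 : Commute (p * q) x := (show Commute p x from h1).mul_left h3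
  have k2 : Commute (p * q) y := (show Commute p y from h2).mul_left h4
  have e1 : (p * x) * (q * y) = (p * q) * (x * y) := by
    calc (p * x) * (q * y) = p * (x * q) * y := by group
      _ = (p * q) * (x * y) := by rw [← h3]; group
  have e2 : (q * y) * (p * x) = (p * q) * (y * x) := by
    calc (q * y) * (p * x) = q * (y * p) * x := by group
      _ = (q * p) * (y * x) := by rw [← h2]; group
      _ = _ := by rw [h5]
  have k3 : Commute (p * q) (x * y * (y * x)⁻¹) := (k1.mul_right k2).mul_right (k2.mul_right k1).inv_right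
  calc (p * x) * (q * y) * (p * x)⁻¹ * (q * y)⁻¹ = ((p * x) * (q * y)) * ((q * y) * (p * x))⁻¹ := by group
    _ = (p * q) * (x * y * (y * x)⁻¹) * (p * q)⁻¹ := by rw [e1, e2]; group
    _ = x * y * (y * x)⁻¹ := by rw [k3.eq]; group
    _ = x * y * x⁻¹ * y⁻¹ := by group

omit [Field F] in
theorem _root_.Cfsg.Agent.Omega.BTwo.comm_two {x x0 w w0 r1 r2 k : G} (e1 : w0 * x * w0⁻¹ * x⁻¹ = r1)
    (e2 : w * x0 * w⁻¹ * x0⁻¹ = r2) (e3 : w0 * w * w0⁻¹ * w⁻¹ = k) (hx : x0 * x = x * x0)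
    (h1 : x0 * r1 = r1 * x0) (h2 : x * r2 = r2 * x) (h3 : x0 * k = k * x0) (h4 : x * k = k * x)
    (h5 : k * r2 = r2 * k) (h : (x0 * w0) * (x * w) * (x0 * w0)⁻¹ * (x * w)⁻¹ = k) : r1 = r2 := by
  have f1 : w0 * x = r1 * x * w0 := by rw [← e1]; group
  have f2 : w * x0 = r2 * x0 * w := by rw [← e2]; group
  have g1 : (x0 * w0) * (x * w) = r1 * (x0 * x) * (w0 * w) := by
    calc (x0 * w0) * (x * w) = x0 * (w0 * x) * w := by group
      _ = (x0 * r1) * x * w0 * w := by rw [f1]; group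
      _ = r1 * (x0 * x) * (w0 * w) := by rw [h1]; group
  have g2 : (x * w) * (x0 * w0) = r2 * (x0 * x) * (w * w0) := by
    calc (x * w) * (x0 * w0) = x * (w * x0) * w0 := by group
      _ = (x * r2) * x0 * w * w0 := by rw [f2]; group
      _ = r2 * (x * x0) * (w * w0) := by rw [h2]; group
      _ = _ := by rw [hx]
  have g3 : (x0 * w0) * (x * w) * (x0 * w0)⁻¹ * (x * w)⁻¹ = r1 * k * r2⁻¹ := by
    have k1 : (x0 * x) * k = k * (x0 * x) := by rw [mul_assoc, h4, ← mul_assoc, h3, mul_assoc]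
    calc (x0 * w0) * (x * w) * (x0 * w0)⁻¹ * (x * w)⁻¹
        = ((x0 * w0) * (x * w)) * ((x * w) * (x0 * w0))⁻¹ := by group
      _ = r1 * ((x0 * x) * (w0 * w * w0⁻¹ * w⁻¹)) * (x0 * x)⁻¹ * r2⁻¹ := by rw [g1, g2]; group
      _ = r1 * k * r2⁻¹ := by rw [e3, k1]; group
  rw [h] at g3
  calc r1 = (r1 * k * r2⁻¹) * (k * r2⁻¹)⁻¹ := by group
    _ = k * (k * r2⁻¹)⁻¹ := by rw [← g3]
    _ = (k * r2) * k⁻¹ := by group
    _ = r2 := by rw [h5]; group

section beta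

variable (c : Coord V R i j v w1 w2) (b : BTC V R)

/-- `z` acts on `W i / (V Z i)...` with parameter `β` -/
def Bt (V : Subgroup G) (R : ι → Subgroup G) (i : ι) (v : F → F → G) (z : G) (β : F) : Prop :=
  ∀ w ∈ WW V (R i), ∀ a : F, (∀ b c, w * v b c * w⁻¹ = v (b + a * c) c) →
    ∃ b, (v b (a * β))⁻¹ * (z * w * z⁻¹ * w⁻¹) ∈ ZW V R i

include b in
/-- `[z, w] ∈ V Z i` -/
theorem _root_.Cfsg.Agent.Omega.BTwo.BTC.exists_V {z w : G} (hz : z ∈ centralizer (V : Set G))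
    (hU : ∀ u ∈ UU V R i, z * u = u * z) (hw : w ∈ WW V (R i)) :
    ∃ x ∈ V, x⁻¹ * (z * w * z⁻¹ * w⁻¹) ∈ ZW V R i := by
  have hzw : z * w * z⁻¹ ∈ WW V (R i) := conj_mem_of_normalizer (b.cen_le_NW i hz) hw
  have hm : z * w * z⁻¹ * w⁻¹ ∈ WW V (R i) := mul_mem hzw (inv_mem hw)
  obtain ⟨x, hx, h1⟩ := b.cen_U (b.W_le_Q i hm) (fun u hu => by
    -- `[z w z⁻¹, u] = [w, u]`
    have hr := b.WU hw hu
    set r := w * u * w⁻¹ * u⁻¹ with hrdef
    have h1 : z * r * z⁻¹ = r := by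
      rw [← mem_centralizer_iff.1 hz r (b.R_le i hr)]; group
    have h2 : (z * w * z⁻¹) * u * (z * w * z⁻¹)⁻¹ = r * u := by
      calc (z * w * z⁻¹) * u * (z * w * z⁻¹)⁻¹ = z * w * (z⁻¹ * (u * z)) * w⁻¹ * z⁻¹ := by group
        _ = z * (w * u * w⁻¹) * z⁻¹ := by rw [← hU u hu]; group
        _ = (z * r * z⁻¹) * (z * u * z⁻¹) := by rw [hrdef]; group
        _ = r * u := by rw [h1, hU u hu]; group
    have h3 : w⁻¹ * u * w = r⁻¹ * u := by
      have h4 := b.QR i w (b.W_le_Q i hw) _ hr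
      have h5 : w⁻¹ * r * w = r := by
        calc w⁻¹ * r * w = w⁻¹ * (r * w) := by group
          _ = r := by rw [← h4]; group
      have h6 : w * u * w⁻¹ = r * u := by rw [hrdef]; group
      calc w⁻¹ * u * w = (w⁻¹ * r * w)⁻¹ * (w⁻¹ * (r * u) * w) := by group
        _ = r⁻¹ * u := by rw [h5, ← h6]; group
    have h7 : (z * w * z⁻¹) * r⁻¹ = r⁻¹ * (z * w * z⁻¹) := b.QR i _ (b.W_le_Q i hzw) _ (inv_mem hr)
    have h8 : (z * w * z⁻¹ * w⁻¹) * u * (z * w * z⁻¹ * w⁻¹)⁻¹ = u := by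
      calc (z * w * z⁻¹ * w⁻¹) * u * (z * w * z⁻¹ * w⁻¹)⁻¹
          = (z * w * z⁻¹) * (w⁻¹ * u * w) * (z * w * z⁻¹)⁻¹ := by group
        _ = ((z * w * z⁻¹) * r⁻¹) * u * (z * w * z⁻¹)⁻¹ := by rw [h3]; group
        _ = r⁻¹ * ((z * w * z⁻¹) * u * (z * w * z⁻¹)⁻¹) := by rw [h7]; group
        _ = u := by rw [h2]; group
    rwa [mul_inv_eq_iff_eq_mul] at h8)
  have h2 : x⁻¹ * (z * w * z⁻¹ * w⁻¹) ∈ WW V (R i) := mul_mem (inv_mem (V_le_WW V (R i) hx)) hm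
  exact ⟨x, hx, h2, h1⟩

include c b

/-- existence of the parameter -/
theorem exists_Bt {z : G} (hz : z ∈ centralizer (V : Set G)) (hU : ∀ u ∈ UU V R i, z * u = u * z) :
    ∃ β : F, Bt V R i v z β := by
  obtain ⟨x0, hx0, h0⟩ := b.exists_V hz hU (c.w1_mem 1)
  obtain ⟨b0, c0, rfl⟩ := (c.mem_V x0).1 hx0
  refine ⟨c0, fun w hw a ha => ?_⟩
  obtain ⟨x, hx, h1⟩ := b.exists_V hz hU hw
  obtain ⟨b1, c1, rfl⟩ := (c.mem_V x).1 hx
  refine ⟨b1, ?_⟩
  suffices h : c1 = a * c0 by rwa [← h]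
  -- `z [w0, w] z⁻¹ = [w0, w]`
  set w0 := w1 1 with hw0
  have hw0m : w0 ∈ WW V (R i) := c.w1_mem 1
  set ζ0 := (v b0 c0)⁻¹ * (z * w0 * z⁻¹ * w0⁻¹) with hζ0
  set ζ := (v b1 c1)⁻¹ * (z * w * z⁻¹ * w⁻¹) with hζ
  have e0 : z * w0 * z⁻¹ = ζ0 * (v b0 c0 * w0) := by
    have h2 := comm_ZW h0 (V_le_WW V (R i) hx0)
    rw [← mul_assoc, h2, hζ0]; group
  have e1 : z * w * z⁻¹ = ζ * (v b1 c1 * w) := by
    have h2 := comm_ZW h1 (V_le_WW V (R i) hx)
    rw [← mul_assoc, h2, hζ]; group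
  have hX0 : v b0 c0 * w0 ∈ WW V (R i) := mul_mem (V_le_WW V (R i) hx0) hw0m
  have hX1 : v b1 c1 * w ∈ WW V (R i) := mul_mem (V_le_WW V (R i) hx) hw
  have hr := b.WW_comm i hw0m hw
  have e2 : (v b0 c0 * w0) * (v b1 c1 * w) * (v b0 c0 * w0)⁻¹ * (v b1 c1 * w)⁻¹ = w0 * w * w0⁻¹ * w⁻¹ := by
    have h3 : z * (w0 * w * w0⁻¹ * w⁻¹) * z⁻¹ = w0 * w * w0⁻¹ * w⁻¹ := by
      rw [← mem_centralizer_iff.1 hz _ (b.R_le i hr)]; group
    have h4 := comm_ZW h0 hX0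
    have h6 := comm_ZW h0 (ZW_le_W i h1)
    rw [← h3]
    calc (v b0 c0 * w0) * (v b1 c1 * w) * (v b0 c0 * w0)⁻¹ * (v b1 c1 * w)⁻¹
        = (ζ0 * (v b0 c0 * w0)) * (ζ * (v b1 c1 * w)) * (ζ0 * (v b0 c0 * w0))⁻¹ * (ζ * (v b1 c1 * w))⁻¹ :=
          (comm_central h4 (comm_ZW h0 hX1) (comm_ZW h1 hX0) (comm_ZW h1 hX1) h6).symm
      _ = (z * w0 * z⁻¹) * (z * w * z⁻¹) * (z * w0 * z⁻¹)⁻¹ * (z * w * z⁻¹)⁻¹ := by rw [e0, e1]
      _ = z * (w0 * w * w0⁻¹ * w⁻¹) * z⁻¹ := by group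
  have hR : ∀ a : F, v a 0 ∈ R i := fun a => (c.mem_R1 _).2 ⟨a, rfl⟩
  have f1 : w0 * v b1 c1 * w0⁻¹ * (v b1 c1)⁻¹ = v c1 0 := by
    have h3 := c.w1_act 1 b1 c1
    have h4 := c.v_add c1 0 b1 c1
    rw [← hw0, one_mul] at h3
    rw [zero_add, add_comm c1 b1] at h4
    rw [h3, h4]; group
  have f2 : w * v b0 c0 * w⁻¹ * (v b0 c0)⁻¹ = v (a * c0) 0 := by
    have h3 := ha b0 c0
    have h4 := c.v_add (a * c0) 0 b0 c0
    rw [zero_add, add_comm (a * c0) b0] at h4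
    rw [h3, h4]; group
  have h3 := comm_two f1 f2 rfl (b.V_comm _ hx0 _ hx) (b.V_comm _ hx0 _ (b.R_le i (hR _)))
    (b.V_comm _ hx _ (b.R_le i (hR _))) (b.V_comm _ hx0 _ (b.R_le i hr)) (b.V_comm _ hx _ (b.R_le i hr))
    (b.V_comm _ (b.R_le i hr) _ (b.R_le i (hR _))) e2
  exact (c.v_inj h3).1

/-- the parameter is additive -/
theorem Bt.mul [Finite G] {z z' : G} {β β' : F} (hz : z ∈ ZW V R j) (hz' : z' ∈ ZW V R j) (h : Bt V R i v z β)
    (h' : Bt V R i v z' β') : Bt V R i v (z * z') (β + β') := by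
  intro w hw a ha
  obtain ⟨b1, h1⟩ := h w hw a ha
  obtain ⟨b2, h2⟩ := h' w hw a ha
  refine ⟨b2 + b1, ?_⟩
  set ζ := (v b1 (a * β))⁻¹ * (z * w * z⁻¹ * w⁻¹) with hζ
  set ζ' := (v b2 (a * β'))⁻¹ * (z' * w * z'⁻¹ * w⁻¹) with hζ'
  have hzV := C_le_cen j hz.2
  have k1 : z * v b2 (a * β') = v b2 (a * β') * z := (mem_centralizer_iff.1 hzV _ (c.v_mem _ _)).symm
  have k2 : z * ζ' = ζ' * z := b.cen_comm (Ne.symm c.ne) hz.2 h2.2
  have k3 := comm_ZW h2 (V_le_WW V (R i) (c.v_mem b1 (a * β)))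
  have e1 : v (b2 + b1) (a * (β + β')) = v b2 (a * β') * v b1 (a * β) := by
    rw [← c.v_add, mul_add, add_comm (a * β)]
  have e2 : z * z' * w * (z * z')⁻¹ * w⁻¹ = v b2 (a * β') * v b1 (a * β) * (ζ' * ζ) := by
    calc z * z' * w * (z * z')⁻¹ * w⁻¹
        = z * (v b2 (a * β') * ζ') * z⁻¹ * (v b1 (a * β) * ζ) := by rw [hζ, hζ']; group
      _ = (z * v b2 (a * β')) * ζ' * z⁻¹ * (v b1 (a * β) * ζ) := by group
      _ = v b2 (a * β') * (z * ζ') * z⁻¹ * (v b1 (a * β) * ζ) := by rw [k1]; group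
      _ = v b2 (a * β') * (ζ' * v b1 (a * β)) * ζ := by rw [k2]; group
      _ = _ := by rw [k3]; group
  rw [e1, e2]
  have e3 : (v b2 (a * β') * v b1 (a * β))⁻¹ * (v b2 (a * β') * v b1 (a * β) * (ζ' * ζ)) = ζ' * ζ := by group
  rw [e3]
  exact mul_mem h2 h1

/-- the parameter is unique -/
theorem Bt.unique {z : G} {β β' : F} (h : Bt V R i v z β) (h' : Bt V R i v z β') : β = β' := by
  obtain ⟨b1, h1⟩ := h (w1 1) (c.w1_mem 1) 1 (c.w1_act 1)
  obtain ⟨b2, h2⟩ := h' (w1 1) (c.w1_mem 1) 1 (c.w1_act 1)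
  rw [one_mul] at h1 h2
  have h3 : (v b1 β)⁻¹ * v b2 β' ∈ ZW V R i := by
    have e : (v b1 β)⁻¹ * v b2 β' = ((v b1 β)⁻¹ * (z * w1 1 * z⁻¹ * (w1 1)⁻¹)) *
      ((v b2 β')⁻¹ * (z * w1 1 * z⁻¹ * (w1 1)⁻¹))⁻¹ := by group
    rw [e]
    exact mul_mem h1 (inv_mem h2)
  have h4 := comm_ZW h3 (c.w1_mem 1)
  have h5 : v b1 β * v (b2 - b1) (β' - β) = v b2 β' := by
    rw [← c.v_add, add_sub_cancel, add_sub_cancel]
  have h6 : (v b1 β)⁻¹ * v b2 β' = v (b2 - b1) (β' - β) := by rw [← h5]; group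
  rw [h6] at h4
  have h7 := c.w1_act 1 (b2 - b1) (β' - β)
  rw [← h4, mul_inv_cancel_right, one_mul] at h7
  have h8 := (c.v_inj h7).1
  exact (sub_eq_zero.1 (left_eq_add.1 h8)).symm

/-- the torus -/
theorem Bt.conj [CharP F 2] {z : G} {β : F} (h : Bt V R i v z β) {s : F} (hs : s ≠ 0) :
    Bt V R i v (hh w1 w2 s * z * (hh w1 w2 s)⁻¹) (s⁻¹ ^ 3 * β) := by
  intro w hw a ha
  set t := hh w1 w2 s with ht
  have htN : t ∈ normalizer (R i : Set G) := cj_eq_self_iff.1 (c.hh_R1 b.toBT hs)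
  have hwt : t⁻¹ * w * t ∈ WW V (R i) := conj_inv_mem_of_normalizer (normalizer_le_WW V (R i) htN) hw
  obtain ⟨b1, h1⟩ := h _ hwt (s⁻¹ ^ 2 * a) (by
    intro d e
    have e1 : t⁻¹ * w * t * v d e * (t⁻¹ * w * t)⁻¹ = t⁻¹ * (w * (t * v d e * t⁻¹) * w⁻¹) * t := by group
    rw [e1, c.hh_act hs, ha, c.hh_act_inv hs]
    congr 1
    · field_simp
    · field_simp)
  refine ⟨s * b1, ?_⟩
  have h2 := conj_ZW htN h1
  have e2 : t * ((v b1 (s⁻¹ ^ 2 * a * β))⁻¹ * (z * (t⁻¹ * w * t) * z⁻¹ * (t⁻¹ * w * t)⁻¹)) * t⁻¹ =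
      (t * v b1 (s⁻¹ ^ 2 * a * β) * t⁻¹)⁻¹ * ((t * z * t⁻¹) * w * (t * z * t⁻¹)⁻¹ * w⁻¹) := by group
  rw [e2, c.hh_act hs] at h2
  have e3 : s⁻¹ * (s⁻¹ ^ 2 * a * β) = a * (s⁻¹ ^ 3 * β) := by ring
  rwa [e3] at h2

/-- elements of `R j` -/
theorem Bt.of_mem {z : G} (hz : z ∈ R j) : Bt V R i v z 0 := by
  intro w hw a ha
  obtain ⟨e, rfl⟩ := (c.mem_R2 z).1 hz
  refine ⟨-(a * e), ?_⟩
  have h1 := ha 0 e
  rw [zero_add] at h1
  have h2 : v 0 e * w * (v 0 e)⁻¹ * w⁻¹ = v (-(a * e)) 0 := by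
    have h3 := c.v_add (-(a * e)) 0 (a * e) e
    rw [neg_add_cancel, zero_add] at h3
    calc v 0 e * w * (v 0 e)⁻¹ * w⁻¹ = v 0 e * (w * v 0 e * w⁻¹)⁻¹ := by group
      _ = v (-(a * e)) 0 := by rw [h1, h3]; group
  rw [h2, mul_zero, inv_mul_cancel]
  exact one_mem _

/-- **(8.5)** `β = 0` -/
theorem Bt.eq_zero [Finite G] [Finite F] [CharP F 2] (hF : ∃ a : F, a ≠ 0 ∧ a ≠ 1) {z : G} {β : F}
    (hz : z ∈ ZW V R j) (h : Bt V R i v z β) : β = 0 := by
  obtain ⟨x, hx0, hx1⟩ := hF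
  obtain ⟨M, i1, i2, p1, p2, y⟩ := c.exists_yMod b.toBT
  have hx2 : x + 1 ≠ 0 := by
    intro h1
    apply hx1
    rw [CharTwo.add_eq_zero] at h1
    exact h1
  have hzU := ZW_le_U (V := V) (R := R) j hz
  have hN : ∀ s : F, s ≠ 0 → hh w1 w2 s ∈ normalizer (R j : Set G) :=
    fun s hs => cj_eq_self_iff.1 (c.hh_R2 b.toBT hs)
  -- `z₁ = z^{h(x⁻¹)}`, `z₂ = z^{h((x+1)⁻¹)}`
  set z1 := hh w1 w2 x⁻¹ * z * (hh w1 w2 x⁻¹)⁻¹ with hz1
  set z2 := hh w1 w2 (x + 1)⁻¹ * z * (hh w1 w2 (x + 1)⁻¹)⁻¹ with hz2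
  have hz1m : z1 ∈ ZW V R j := conj_ZW (hN _ (inv_ne_zero hx0)) hz
  have hz2m : z2 ∈ ZW V R j := conj_ZW (hN _ (inv_ne_zero hx2)) hz
  have hb1 := Bt.conj c b h (inv_ne_zero hx0)
  have hb2 := Bt.conj c b h (inv_ne_zero hx2)
  rw [← hz1, inv_inv] at hb1
  rw [← hz2, inv_inv] at hb2
  have hp1 : p2 z1 = x • p2 z := by
    rw [hz1, y.hh_p2 b.toBT c (inv_ne_zero hx0) hzU, inv_inv]
  have hp2 : p2 z2 = (x + 1) • p2 z := by
    rw [hz2, y.hh_p2 b.toBT c (inv_ne_zero hx2) hzU, inv_inv]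
  have hd : z1 * z * z2⁻¹ ∈ R j := by
    have hm : z1 * z * z2⁻¹ ∈ ZW V R j := mul_mem (mul_mem hz1m hz) (inv_mem hz2m)
    refine b.cen_DW ((y.ker2 _ (ZW_le_U j hm)).1 ?_) hm.2
    rw [y.mul2 _ (ZW_le_U j (mul_mem hz1m hz)) _ (ZW_le_U j (inv_mem hz2m)), y.mul2 _ (ZW_le_U j hz1m) _ hzU,
      y.p2_inv (ZW_le_U j hz2m), hp1, hp2, add_smul, one_smul, add_neg_cancel]
  have h1 := Bt.mul c b hz1m hz hb1 h
  have h2 := Bt.mul c b (b.R_le_ZW j hd) hz2m (Bt.of_mem c b hd) hb2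
  have e : z1 * z * z2⁻¹ * z2 = z1 * z := by group
  rw [e] at h2
  have h3 := Bt.unique c b h1 h2
  have h4 : (x * (x + 1)) * β = 0 := by
    have h5 : (3 : F) = 1 := by
      have : (2 : F) = 0 := CharTwo.two_eq_zero
      linear_combination this
    have h6 : (3 * x ^ 2 + 3 * x) * β = 0 := by linear_combination -h3
    rw [h5, one_mul, one_mul] at h6
    linear_combination h6
  rcases mul_eq_zero.1 h4 with h5 | h5
  · rcases mul_eq_zero.1 h5 with h6 | h6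
    · exact absurd h6 hx0
    · exact absurd h6 hx2
  · exact h5

/-- **(8.5)** `[Z j, U i] = 1 ⟹ Z j = R j` -/
theorem ZW_eq [Finite G] [Finite F] [CharP F 2] (hF : ∃ a : F, a ≠ 0 ∧ a ≠ 1)
    (hU : ∀ z ∈ ZW V R j, ∀ u ∈ UU V R i, z * u = u * z) : ZW V R j = R j := by
  refine b.ZW_eq c.ne fun z hz w hw => ?_
  obtain ⟨β, hβ⟩ := c.exists_Bt b (C_le_cen j hz.2) (hU z hz)
  have h0 := Bt.eq_zero c b hF hz hβ
  obtain ⟨a, ha⟩ := c.W1_act w hw
  obtain ⟨b1, h1⟩ := hβ w hw a ha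
  rw [h0, mul_zero] at h1
  have h2 : v b1 0 ∈ ZW V R i := b.R_le_ZW i ((c.mem_R1 _).2 ⟨b1, rfl⟩)
  have e : z * w * z⁻¹ * w⁻¹ = v b1 0 * ((v b1 0)⁻¹ * (z * w * z⁻¹ * w⁻¹)) := by group
  rw [e]
  exact mul_mem h2 h1

/-! ### the conclusion -/

/-- **(8.6)** -/
theorem comm_ZU [Finite G] [Finite F] [CharP F 2] (hF : ∃ a : F, a ≠ 0 ∧ a ≠ 1)
    (perf : UU V R j ≤ ⁅(⨆ h : normalizer (R i : Set G), Omega.BTwo.cj (h : G) (UU V R j)),
      (⨆ h : normalizer (R i : Set G), Omega.BTwo.cj (h : G) (UU V R j))⁆ ⊔ QQ (R i)) {z u : G}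
    (hz : z ∈ ZW V R i) (hu : u ∈ UU V R j) : z * u = u * z := by
  obtain ⟨a, ha, ha1⟩ := hF
  refine b.comm_ZU c.ne (t := hh w1 w2 a) (c.hh_mem_X b.toBT a) (cj_eq_self_iff.1 (c.hh_R1 b.toBT ha))
    (fun u hu => c.exists_hh b.toBT ha ha1 hu) (fun x hx => ?_) perf hz hu
  obtain ⟨w, hw, he⟩ := b.exists_eps_W hx
  refine ⟨w, hw, fun t ht => ?_⟩
  have h1 := inv_mem (b.CX ht he)
  have e : (t * (x * w) * t⁻¹ * (x * w)⁻¹)⁻¹ = (x * w) * t * (x * w)⁻¹ * t⁻¹ := by group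
  rwa [e] at h1

/-- `Z(W j) = R j` -/
theorem ZW_eq_R [Finite G] [Finite F] [CharP F 2] (hF : ∃ a : F, a ≠ 0 ∧ a ≠ 1)
    (perf : UU V R j ≤ ⁅(⨆ h : normalizer (R i : Set G), Omega.BTwo.cj (h : G) (UU V R j)),
      (⨆ h : normalizer (R i : Set G), Omega.BTwo.cj (h : G) (UU V R j))⁆ ⊔ QQ (R i)) : ZW V R j = R j := by
  refine c.ZW_eq b hF fun z hz u hu => ?_
  set n := nn w1 w2 1 with hn
  have h2 : Omega.BTwo.cj n (R j) = R i := c.nn_R2 b.toBT one_ne_zero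
  have hnV : n ∈ normalizer (V : Set G) := b.X_le_NV (c.nn_mem_X b.toBT 1)
  have h3 : n * u * n⁻¹ ∈ UU V R j := by
    rw [← b.cj_UU hnV (c.nn_R1 b.toBT one_ne_zero)]
    exact conj_mem_cj hu
  have h4 : n * z * n⁻¹ ∈ ZW V R i := by
    have e := b.cj_WW h2
    refine ⟨?_, ?_⟩
    · rw [← e]; exact conj_mem_cj hz.1
    · have h5 : n * z * n⁻¹ ∈ Omega.BTwo.cj n (centralizer (WW V (R j) : Set G)) := conj_mem_cj hz.2
      rwa [← centralizer_cj, e] at h5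
  have h5 := c.comm_ZU b hF perf h4 h3
  calc z * u = n⁻¹ * ((n * z * n⁻¹) * (n * u * n⁻¹)) * n := by group
    _ = u * z := by rw [h5]; group

/-- **#11043, `q ≥ 4`, the end**: `C(W k) = R k` and `O₂(N(R k)) = W k` -/
theorem semi [Finite G] [Finite F] [CharP F 2] (hF : ∃ a : F, a ≠ 0 ∧ a ≠ 1)
    (perf : UU V R j ≤ ⁅(⨆ h : normalizer (R i : Set G), Omega.BTwo.cj (h : G) (UU V R j)),
      (⨆ h : normalizer (R i : Set G), Omega.BTwo.cj (h : G) (UU V R j))⁆ ⊔ QQ (R i)) (k : ι) :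
    centralizer (WW V (R k) : Set G) = R k ∧ QQ (R k) = WW V (R k) := by
  have h1 : centralizer (WW V (R j) : Set G) = R j := by
    refine le_antisymm (fun x hx => ?_) (b.R_cen_W j)
    rw [← c.ZW_eq_R b hF perf]
    exact ⟨b.cen_W_le_W_of_coord c.symm hF hx, hx⟩
  have h2 : centralizer (WW V (R k) : Set G) = R k := by
    obtain ⟨x, -, hx⟩ := b.trans_one j k
    rw [← b.cj_WW hx, centralizer_cj, h1, hx]
  exact ⟨h2, b.Q_eq_W k h2.le⟩

end beta

end Coord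

end Cfsg.Agent.Omega.BTwo

end

section


/-!
# THEOREM F6 (bb OMEGA 13299): `C_G(z) ≤ N_G(R)` for `z ∈ R`, field automorphisms in `S` allowed

* `Cz.scalar`: an element of `N(V)` which normalises `R i`, `R j` and is trivial on `U j / D` acts on `R i` as a scalar.
* `Cz.O_le_cen`: a 2-subgroup `O` of `N(V) ∩ N(R i)` with `[O, C(R i)] ≤ Q i` centralises `R i`.
* `Cz.cen_V`: a 2-element of `N(V)` which normalises `R i`, `R j` and centralises `R i` centralises `V`.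
* `Cz.main`: `K = C_G(z)`, `O = O₂(K)`, `C_K(O) ≤ O` give `O ≤ Q i`, `Z(O) = R i` and `K ≤ N(R i)`.
-/

set_option autoImplicit false

namespace Cfsg.Agent.Omega.BTwo.Cz

open Subgroup

universe u v w

variable {G : Type u} [Group G] {ι : Type w} {V : Subgroup G} {R : ι → Subgroup G} {i j : ι}

section scalar

variable {F : Type v} [Field F] {v : F → F → G} {w1 w2 : F → G}

/-- the action of an element of `N(V) ∩ N(R i) ∩ N(R j)` on `V` and `W i` -/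
theorem semi (c : Coord V R i j v w1 w2) (b : BT V R) {x : G} (hi : cj x (R i) = R i)
    (hj : cj x (R j) = R j) : ∃ τ ρ σ : F → F, (∀ p, v (τ p) 0 = x * v p 0 * x⁻¹) ∧
      (∀ p, v 0 (ρ p) = x * v 0 p * x⁻¹) ∧
      (∀ s p q, (x * w1 s * x⁻¹) * v p q * (x * w1 s * x⁻¹)⁻¹ = v (p + σ s * q) q) ∧
      ∀ s q, τ (s * q) = σ s * ρ q := by
  have hR1 : ∀ p, ∃ q, v q 0 = x * v p 0 * x⁻¹ := by
    intro p
    rw [← c.mem_R1, ← hi]
    exact conj_mem_cj ((c.mem_R1 _).2 ⟨p, rfl⟩)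
  have hR2 : ∀ p, ∃ q, v 0 q = x * v 0 p * x⁻¹ := by
    intro p
    rw [← c.mem_R2, ← hj]
    exact conj_mem_cj ((c.mem_R2 _).2 ⟨p, rfl⟩)
  have hW : ∀ s, ∃ t, ∀ p q, (x * w1 s * x⁻¹) * v p q * (x * w1 s * x⁻¹)⁻¹ = v (p + t * q) q := by
    intro s
    apply c.W1_act
    rw [← b.cj_WW hi]
    exact conj_mem_cj (c.w1_mem s)
  choose τ hτ using hR1
  choose ρ hρ using hR2
  choose σ hσ using hW
  refine ⟨τ, ρ, σ, hτ, hρ, hσ, fun s q => ?_⟩
  have e1 : x * (w1 s * v 0 q * (w1 s)⁻¹) * x⁻¹ =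
      (x * w1 s * x⁻¹) * (x * v 0 q * x⁻¹) * (x * w1 s * x⁻¹)⁻¹ := by group
  rw [c.w1_act, ← hρ q, hσ] at e1
  have e2 : v (0 + s * q) q = v (s * q) 0 * v 0 q := by
    rw [← c.v_add, zero_add, add_zero, zero_add]
  rw [e2] at e1
  have e3 : x * (v (s * q) 0 * v 0 q) * x⁻¹ = (x * v (s * q) 0 * x⁻¹) * (x * v 0 q * x⁻¹) := by group
  rw [e3, ← hτ, ← hρ, ← c.v_add, add_zero, zero_add, zero_add] at e1
  exact (c.v_inj e1).1

/-- an element of `N(V)` which normalises `R i`, `R j` and is trivial on `U j / D` acts on `R i` as a scalar -/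
theorem scalar [Finite F] [CharP F 2] (c : Coord V R i j v w1 w2) (b : BT V R) (hU : ¬ UU V R j ≤ DD V R)
    {x : G} (hx : x ∈ normalizer (V : Set G)) (hi : cj x (R i) = R i) (hj : cj x (R j) = R j)
    (ht : ∀ u ∈ UU V R j, x * u * x⁻¹ * u⁻¹ ∈ DD V R) :
    ∃ κ : F, ∀ p, x * v p 0 * x⁻¹ = v (κ * p) 0 := by
  obtain ⟨M, _, _, p1, p2, ym⟩ := c.exists_yMod b
  obtain ⟨τ, ρ, σ, hτ, hρ, hσ, hrel⟩ := semi c b hi hj
  -- an element of `U j` outside `D`
  obtain ⟨u0, hu0, hu0'⟩ := SetLike.not_le_iff_exists.1 hU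
  have hm0 : p2 u0 ≠ 0 := fun h => hu0' ((ym.ker2 u0 hu0).1 h)
  set m0 := p2 u0 with hm0def
  have hxi : ∀ u ∈ UU V R i, x * u * x⁻¹ ∈ UU V R i := fun u hu => by
    rw [← b.cj_UU hx hi]; exact conj_mem_cj hu
  have hxj : ∀ u ∈ UU V R j, x * u * x⁻¹ ∈ UU V R j := fun u hu => by
    rw [← b.cj_UU hx hj]; exact conj_mem_cj hu
  have hp2 : ∀ u ∈ UU V R j, p2 (x * u * x⁻¹) = p2 u := by
    intro u hu
    have e : x * u * x⁻¹ = (x * u * x⁻¹ * u⁻¹) * u := by group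
    rw [e, ym.mul2 _ (b.D_le_U j (ht u hu)) _ hu, (ym.ker2 _ (b.D_le_U j (ht u hu))).2 (ht u hu), zero_add]
  -- `x` acts on `U i / D`
  have hp1 : ∀ m ∈ UU V R i, ∀ m' ∈ UU V R i, p1 m = p1 m' → p1 (x * m * x⁻¹) = p1 (x * m' * x⁻¹) := by
    intro m hm m' hm' e
    have h1 : m * m'⁻¹ ∈ DD V R := by
      rw [← ym.ker1 _ (mul_mem hm (inv_mem hm')), ym.mul1 _ hm _ (inv_mem hm'), e,
        ← ym.mul1 _ hm' _ (inv_mem hm'), mul_inv_cancel, ym.ker1 _ (one_mem _)]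
      exact one_mem _
    have h2 : x * (m * m'⁻¹) * x⁻¹ ∈ DD V R := conj_mem_of_normalizer (b.NV_le_ND hx) h1
    have e2 : x * m * x⁻¹ = x * (m * m'⁻¹) * x⁻¹ * (x * m' * x⁻¹) := by group
    rw [e2, ym.mul1 _ (b.D_le_U i h2) _ (hxi _ hm'), (ym.ker1 _ (b.D_le_U i h2)).2 h2, zero_add]
  have hkey : ∀ s, s ≠ 0 → ∃ m ∈ UU V R i, p1 m = m0 ∧ p1 (x * m * x⁻¹) = (σ s * s⁻¹) • m0 := by
    intro s hs
    obtain ⟨u, hu, hpu⟩ := ym.surj2 (s⁻¹ • m0)
    refine ⟨w1 s * u * (w1 s)⁻¹ * u⁻¹, b.WU' (c.w1_mem s) hu, ?_, ?_⟩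
    · rw [ym.act12 s u hu, hpu, smul_smul, mul_inv_cancel₀ hs, one_smul]
    · have hw : x * w1 s * x⁻¹ ∈ WW V (R i) := by
        rw [← b.cj_WW hi]; exact conj_mem_cj (c.w1_mem s)
      set y := x * w1 s * x⁻¹ with hy
      set u' := x * u * x⁻¹ with hu'
      have hu'' : u' ∈ UU V R j := hxj u hu
      have e1 : x * (w1 s * u * (w1 s)⁻¹ * u⁻¹) * x⁻¹ = y * u' * y⁻¹ * u'⁻¹ := by
        rw [hy, hu']; group
      have h3 := b.same hw (c.w1_mem (σ s)) (fun r hr => by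
        obtain ⟨p, q, rfl⟩ := (c.mem_V r).1 hr
        rw [hσ, c.w1_act]) (UU_le_YY j hu'')
      have e2 : y * u' * y⁻¹ * u'⁻¹ =
          (y * u' * y⁻¹ * (w1 (σ s) * u' * (w1 (σ s))⁻¹)⁻¹) * (w1 (σ s) * u' * (w1 (σ s))⁻¹ * u'⁻¹) := by
        group
      rw [e1, e2, ym.mul1 _ (b.D_le_U i h3) _ (b.WU' (c.w1_mem _) hu''),
        (ym.ker1 _ (b.D_le_U i h3)).2 h3, zero_add, ym.act12 _ _ hu'', hp2 u hu, hpu, smul_smul]
  have hσ1 : ∀ s, s ≠ 0 → σ s = σ 1 * s := by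
    intro s hs
    obtain ⟨m, hm, e1, e2⟩ := hkey s hs
    obtain ⟨m', hm', e1', e2'⟩ := hkey 1 one_ne_zero
    have h := hp1 m hm m' hm' (e1.trans e1'.symm)
    rw [e2, e2', inv_one, mul_one, ← sub_eq_zero, ← sub_smul, smul_eq_zero] at h
    rcases h with h | h
    · rw [← sub_eq_zero.1 h, mul_assoc, inv_mul_cancel₀ hs, mul_one]
    · exact absurd h hm0
  refine ⟨σ 1 * ρ 1, fun p => ?_⟩
  by_cases hp : p = 0
  · rw [hp, mul_zero, c.v_zero, mul_one, mul_inv_cancel]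
  · rw [← hτ]
    congr 1
    have := hrel p 1
    rw [mul_one] at this
    rw [this, hσ1 p hp]
    ring

theorem scalar_pow {f : F → G} {x : G} {κ : F} (h : ∀ p, x * f p * x⁻¹ = f (κ * p)) (n : ℕ) (p : F) :
    x ^ n * f p * (x ^ n)⁻¹ = f (κ ^ n * p) := by
  induction n with
  | zero => simp
  | succ n ih =>
    have e : x ^ (n + 1) * f p * (x ^ (n + 1))⁻¹ = x * (x ^ n * f p * (x ^ n)⁻¹) * x⁻¹ := by
      rw [pow_succ']; group
    rw [e, ih, h, pow_succ', mul_assoc]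

/-- a 2-element acting as a scalar acts trivially -/
theorem scalar_one [CharP F 2] {f : F → G} (hf : Function.Injective f) {x : G} {n : ℕ} (hn : x ^ 2 ^ n = 1)
    {κ : F} (h : ∀ p, x * f p * x⁻¹ = f (κ * p)) : ∀ p, x * f p * x⁻¹ = f p := by
  have h1 := scalar_pow h (2 ^ n) 1
  rw [hn, one_mul, inv_one, mul_one, mul_one] at h1
  have h2 : κ ^ 2 ^ n = 1 := (hf h1).symm
  have h3 : κ = 1 := by
    have h4 : (κ - 1) ^ 2 ^ n = 0 := by
      have : ExpChar F 2 := ExpChar.prime Nat.prime_two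
      rw [sub_pow_char_pow, h2, one_pow, sub_self]
    exact sub_eq_zero.1 (pow_eq_zero_iff (by positivity) |>.1 h4)
  intro p
  rw [h, h3, one_mul]

/-- a 2-subgroup `O` of `N(V) ∩ N(R i)` with `[O, C(R i)] ≤ Q i` centralises `R i` -/
theorem O_le_cen [Finite F] [CharP F 2] (c : Coord V R i j v w1 w2) (b : BT V R) (hU : ¬ UU V R j ≤ DD V R)
    {O : Subgroup G} (hO : IsPGroup 2 O) (hV : O ≤ normalizer (V : Set G))
    (hR : O ≤ normalizer (R i : Set G))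
    (hc : ∀ x ∈ O, ∀ g ∈ centralizer (R i : Set G), x * g * x⁻¹ * g⁻¹ ∈ QQ (R i)) :
    O ≤ centralizer (R i : Set G) := by
  intro x hx
  have hi : cj x (R i) = R i := cj_eq_self_iff.2 (hR hx)
  obtain ⟨k, hk⟩ := b.perm x (hV hx) j
  have hki : k ≠ i := by
    rintro rfl
    exact c.ne (b.R_index (cj_injective (hi.trans hk.symm)))
  obtain ⟨w, hw, hwk⟩ := b.trans i hki c.ne.symm
  have hwQ := b.W_le_Q i hw
  have h1 : cj (w * x) (R j) = R j := by rw [cj_mul, hk, hwk]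
  have h2 : cj (w * x) (R i) = R i := by rw [cj_mul, hi, cj_eq_self_iff.2 (b.W_le_N i hw)]
  have h3 : w * x ∈ normalizer (V : Set G) := mul_mem (b.W_le_NV i hw) (hV hx)
  have h4 : ∀ u ∈ UU V R j, (w * x) * u * (w * x)⁻¹ * u⁻¹ ∈ DD V R := by
    intro u hu
    rw [← b.UK c.ne]
    have huV : u ∈ centralizer (V : Set G) := UU_le_cen j hu
    have huR : u ∈ centralizer (R i : Set G) := centralizer_le (b.R_le i) huV
    refine mem_inf.2 ⟨?_, b.Q_le_K i ?_⟩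
    · refine mul_mem ?_ (inv_mem hu)
      rw [← b.cj_UU h3 h1]
      exact conj_mem_cj hu
    · have e : (w * x) * u * (w * x)⁻¹ * u⁻¹ =
          (w * (x * u * x⁻¹ * u⁻¹) * w⁻¹) * (w * (u * w⁻¹ * u⁻¹)) := by group
      rw [e]
      exact mul_mem (mul_mem (mul_mem hwQ (hc x hx u huR)) (inv_mem hwQ))
        (mul_mem hwQ (conj_mem_of_normalizer (le_normalizer_O2 _ (b.cen_le_N i huV)) (inv_mem hwQ)))
  obtain ⟨κ, hκ⟩ := scalar c b hU h3 h2 h1 h4
  have hκ' : ∀ p, x * v p 0 * x⁻¹ = v (κ * p) 0 := by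
    intro p
    rw [← hκ p]
    have h5 : x * v p 0 * x⁻¹ ∈ R i := by
      rw [← hi]; exact conj_mem_cj ((c.mem_R1 _).2 ⟨p, rfl⟩)
    have h6 := b.conj_R hwQ h5
    rw [← h6]; group
  obtain ⟨n, hn⟩ := hO ⟨x, hx⟩
  have hn' : x ^ 2 ^ n = 1 := congrArg Subtype.val hn
  have h7 := scalar_one (f := fun p => v p 0) (fun p q h => (c.v_inj h).1) hn' hκ'
  rw [mem_centralizer_iff]
  intro r hr
  obtain ⟨p, rfl⟩ := (c.mem_R1 r).1 hr
  exact (mul_inv_eq_iff_eq_mul.1 (h7 p)).symm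

/-- a 2-element of `N(R i) ∩ N(R j)` which centralises `R i` centralises `V` -/
theorem cen_V [CharP F 2] (c : Coord V R i j v w1 w2) (b : BT V R) {x : G} (hi : x ∈ centralizer (R i : Set G))
    (hj : cj x (R j) = R j) {n : ℕ} (hn : x ^ 2 ^ n = 1) : x ∈ centralizer (V : Set G) := by
  have hi' : cj x (R i) = R i := by
    rw [cj_eq_self_iff]
    refine le_normalizer_of (K := centralizer (R i : Set G)) (fun k hk r hr => ?_) hi
    rw [← mem_centralizer_iff.1 hk r hr, mul_inv_cancel_right]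
    exact hr
  obtain ⟨τ, ρ, σ, hτ, hρ, hσ, hrel⟩ := semi c b hi' hj
  have h0 : ∀ p, τ p = p := by
    intro p
    have h1 := hτ p
    rw [← mem_centralizer_iff.1 hi (v p 0) ((c.mem_R1 _).2 ⟨p, rfl⟩), mul_inv_cancel_right] at h1
    exact (c.v_inj h1).1
  have h1 : ∀ q, ρ q = (σ 1)⁻¹ * q := by
    intro q
    have h2 := hrel 1 q
    rw [h0, one_mul] at h2
    have h3 : σ 1 ≠ 0 := by
      intro h3
      have h4 := hrel 1 1
      rw [h0, h3, zero_mul, mul_one] at h4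
      exact one_ne_zero h4
    calc ρ q = (σ 1)⁻¹ * (σ 1 * ρ q) := by rw [← mul_assoc, inv_mul_cancel₀ h3, one_mul]
      _ = (σ 1)⁻¹ * q := by rw [← h2]
  have h2 := scalar_one (f := fun p => v 0 p) (fun p q h => (c.v_inj h).2) hn
    (κ := (σ 1)⁻¹) (fun p => by rw [← hρ, h1])
  rw [mem_centralizer_iff]
  intro y hy
  obtain ⟨p, q, rfl⟩ := (c.mem_V y).1 hy
  have e1 : v p q = v p 0 * v 0 q := by rw [← c.v_add, add_zero, zero_add]
  have e2 := h2 q
  have e3 := mem_centralizer_iff.1 hi (v p 0) ((c.mem_R1 _).2 ⟨p, rfl⟩)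
  rw [e1]
  calc v p 0 * v 0 q * x = v p 0 * (v 0 q * x) := by group
    _ = v p 0 * (x * v 0 q) := by rw [← mul_inv_eq_iff_eq_mul.1 e2]
    _ = (v p 0 * x) * v 0 q := by group
    _ = x * (v p 0 * v 0 q) := by rw [e3]; group

/-- a 2-element of `N(V)` which centralises `R i` acts trivially on `V / R i` -/
theorem comm_mem [CharP F 2] (c : Coord V R i j v w1 w2) (b : BT V R) {T : Subgroup G} (hT : IsPGroup 2 T)
    (hV : T ≤ normalizer (V : Set G)) (hC : T ≤ centralizer (R i : Set G)) (hW : WW V (R i) ≤ T) :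
    ∀ m ∈ V, ∀ t ∈ T, t * m * t⁻¹ * m⁻¹ ∈ R i := by
  intro m hm t ht
  obtain ⟨k, hk⟩ := b.perm t (hV ht) j
  have hi : cj t (R i) = R i := by
    rw [cj_eq_self_iff]
    refine le_normalizer_of (K := centralizer (R i : Set G)) (fun k hk r hr => ?_) (hC ht)
    rw [← mem_centralizer_iff.1 hk r hr, mul_inv_cancel_right]
    exact hr
  have hki : k ≠ i := by
    rintro rfl
    exact c.ne (b.R_index (cj_injective (hi.trans hk.symm)))
  obtain ⟨w, hw, hwk⟩ := b.trans i hki c.ne.symm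
  have h1 : cj (w * t) (R j) = R j := by rw [cj_mul, hk, hwk]
  have hwt : w * t ∈ T := mul_mem (hW hw) ht
  obtain ⟨n, hn⟩ := hT ⟨_, hwt⟩
  have h2 := cen_V c b (hC hwt) h1 (n := n) (congrArg Subtype.val hn)
  have h3 : t * m * t⁻¹ = w⁻¹ * m * w := by
    have h4 := mem_centralizer_iff.1 h2 m hm
    have h5 : w * t * m * t⁻¹ = m * w := by
      calc w * t * m * t⁻¹ = (w * t * m) * t⁻¹ := rfl
        _ = (m * (w * t)) * t⁻¹ := by rw [h4]
        _ = m * w := by group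
    calc t * m * t⁻¹ = w⁻¹ * (w * t * m * t⁻¹) := by group
      _ = w⁻¹ * m * w := by rw [h5]; group
  rw [h3]
  have h6 := b.QV i w⁻¹ (b.W_le_Q i (inv_mem hw)) m hm
  rwa [inv_inv] at h6

end scalar

/-- a nontrivial section `B / A` has a nontrivial fixed point under a 2-group -/
theorem exists_fixed_mod [Finite G] {T B A : Subgroup G} (hT : IsPGroup 2 T) (hBT : B ≤ T)
    (hB : T ≤ normalizer (B : Set G)) (hA : T ≤ normalizer (A : Set G)) (hne : ¬ B ≤ A) :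
    ∃ m ∈ B, m ∉ A ∧ ∀ t ∈ T, t * m * t⁻¹ * m⁻¹ ∈ A := by
  have : Fact (Nat.Prime 2) := ⟨Nat.prime_two⟩
  have hnA : (A.subgroupOf T).Normal := normal_subgroupOf_of_le_normalizer hA
  have hnB : (B.subgroupOf T).Normal := normal_subgroupOf_of_le_normalizer hB
  have hp : IsPGroup 2 (T ⧸ A.subgroupOf T) := hT.to_quotient _
  have : Group.IsNilpotent (T ⧸ A.subgroupOf T) := hp.isNilpotent
  let N : Subgroup (T ⧸ A.subgroupOf T) := (B.subgroupOf T).map (QuotientGroup.mk' (A.subgroupOf T))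
  have hN : N.Normal := hnB.map _ (QuotientGroup.mk'_surjective _)
  have hN1 : N ≠ ⊥ := by
    intro h
    apply hne
    intro x hx
    have h1 : QuotientGroup.mk' (A.subgroupOf T) ⟨x, hBT hx⟩ ∈ N := ⟨⟨x, hBT hx⟩, hx, rfl⟩
    rw [h, mem_bot] at h1
    exact (QuotientGroup.eq_one_iff (⟨x, hBT hx⟩ : T)).1 h1
  have h2 := Lib.NormalAbelian.normal_inf_center_ne_bot N hN1
  obtain ⟨⟨y, hy⟩, hy1⟩ := Subgroup.ne_bot_iff_exists_ne_one.1 h2
  obtain ⟨⟨m, hm, rfl⟩, hyc⟩ := mem_inf.1 hy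
  refine ⟨m, hm, fun h => hy1 ?_, fun t ht => ?_⟩
  · apply Subtype.ext
    exact (QuotientGroup.eq_one_iff m).2 h
  · have h3 := mem_center_iff.1 hyc (QuotientGroup.mk' (A.subgroupOf T) ⟨t, ht⟩)
    rw [← map_mul, ← map_mul] at h3
    have h4 : QuotientGroup.mk' (A.subgroupOf T) (⟨t, ht⟩ * m * (⟨t, ht⟩ : T)⁻¹ * m⁻¹) = 1 := by
      rw [mul_assoc, map_mul, h3, ← map_mul]
      rw [show m * ⟨t, ht⟩ * ((⟨t, ht⟩ : T)⁻¹ * m⁻¹) = 1 by group, map_one]
    have h5 := (QuotientGroup.eq_one_iff ((⟨t, ht⟩ : T) * m * (⟨t, ht⟩ : T)⁻¹ * m⁻¹)).1 h4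
    exact h5

/-- `C_G(z)` and `R`: the part of the argument after `O₂(C_G(z)) ≤ C(R i)` -/
theorem core [Finite G] (b : BT V R) {i : ι} {z : G} (hz : z ∈ R i) {T : Subgroup G}
    (hO : O2 (centralizer {z}) ≤ centralizer (R i : Set G))
    (hOc : ∀ g ∈ centralizer {z}, g ∈ centralizer (O2 (centralizer {z}) : Set G) → g ∈ O2 (centralizer {z}))
    (hT : IsPGroup 2 T) (hTC : T ≤ centralizer (R i : Set G)) (hQT : QQ (R i) ≤ T)
    (hFr : ∀ n ∈ normalizer (R i : Set G), ∃ c ∈ centralizer (R i : Set G), c * n ∈ normalizer (T : Set G))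
    (hE' : ∀ m ∈ V, ∀ t ∈ T, t * m * t⁻¹ * m⁻¹ ∈ R i)
    (hE : ∀ m ∈ QQ (R i), (∀ t ∈ T, t * m * t⁻¹ * m⁻¹ ∈ R i) → m ∈ V) :
    O2 (centralizer {z}) ≤ QQ (R i) ∧
      O2 (centralizer {z}) ⊓ centralizer (O2 (centralizer {z}) : Set G) = R i ∧
      centralizer {z} ≤ normalizer (R i : Set G) := by
  have hCK : centralizer (R i : Set G) ≤ centralizer {z} := centralizer_le (Set.singleton_subset_iff.2 hz)
  set K := centralizer {z} with hK
  set O := O2 K with hOdef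
  have hCN : centralizer (R i : Set G) ≤ normalizer (R i : Set G) := by
    refine le_normalizer_of fun k hk r hr => ?_
    rw [← mem_centralizer_iff.1 hk r hr, mul_inv_cancel_right]
    exact hr
  have hOQ : O ≤ QQ (R i) :=
    le_O2_of_chain (A := O) (B := centralizer (R i : Set G)) (C := centralizer (R i : Set G)) hO le_rfl hCN
      (O2_isPGroup _) (fun g hg a ha => conj_mem_of_normalizer (le_normalizer_O2 K (hCK hg)) ha)
      (fun g hg a ha => mul_mem (mul_mem hg ha) (inv_mem hg))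
      (fun g hg a ha => conj_mem_of_normalizer (normalizer_le_normalizer_centralizer _ hg) ha)
  have hVK : ∀ a ∈ V, a ∈ K := by
    intro a ha
    rw [hK, mem_centralizer_iff]
    rintro _ rfl
    exact b.V_comm _ (b.R_le i hz) a ha
  have hRO : R i ≤ O := by
    intro a ha
    refine hOc a (hVK a (b.R_le i ha)) ?_
    rw [mem_centralizer_iff]
    intro o ho
    exact (mem_centralizer_iff.1 (hO ho) a ha).symm
  set B := O ⊓ centralizer (O : Set G) with hB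
  have hRB : R i ≤ B := fun a ha => mem_inf.2 ⟨hRO ha, by
    rw [mem_centralizer_iff]
    intro o ho
    exact (mem_centralizer_iff.1 (hO ho) a ha).symm⟩
  have hKO : K ≤ normalizer (O : Set G) := le_normalizer_O2 K
  have hKB : K ≤ normalizer (B : Set G) := by
    intro g hg
    rw [← cj_eq_self_iff, hB, cj_inf, ← centralizer_cj, cj_eq_self_iff.2 (hKO hg)]
  have hBR : B ≤ R i := by
    by_contra h
    obtain ⟨m, hmB, hmR, hmt⟩ := exists_fixed_mod hT (inf_le_left.trans (hOQ.trans hQT))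
      (hTC.trans (hCK.trans hKB)) (hTC.trans hCN) h
    have hmV : m ∈ V := hE m (hOQ (mem_inf.1 hmB).1) hmt
    have hOV : O ≤ centralizer (V : Set G) := by
      intro o ho
      obtain ⟨k, hk⟩ := b.R_cov m hmV
      have hki : k ≠ i := by rintro rfl; exact hmR hk
      have hoQ := hOQ ho
      obtain ⟨l, hl⟩ := b.perm o (b.Q_le_NV i hoQ) k
      have h1 : m ∈ R l := by
        rw [← hl, mem_cj]
        have := mem_centralizer_iff.1 (mem_inf.1 hmB).2 o ho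
        rw [mul_assoc, ← this]
        rwa [inv_mul_cancel_left]
      have h2 : l = k := by
        by_contra h3
        exact hmR (by rw [b.eq_one h3 h1 hk]; exact one_mem _)
      rw [h2] at hl
      exact b.mem_cen_Q hki hoQ hl
    have hVB : V ≤ B := by
      intro a ha
      have h1 : a ∈ centralizer (O : Set G) := by
        rw [mem_centralizer_iff]
        intro o ho
        exact (mem_centralizer_iff.1 (hOV ho) a ha).symm
      exact mem_inf.2 ⟨hOc a (hVK a ha) h1, h1⟩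
    have hWB : WW V (R i) ≤ B := by
      refine iSup_le fun h => ?_
      obtain ⟨c, hc, hcn⟩ := hFr h h.2
      set n := c * (h : G) with hn
      have hnR : n ∈ normalizer (R i : Set G) := mul_mem (hCN hc) h.2
      have hnV : n ∈ normalizer (V : Set G) := by
        refine mem_normalizer_of_conj fun a ha => ?_
        refine hE _ (conj_mem_of_normalizer (le_normalizer_O2 _ hnR) (b.V_Q i ha)) fun t ht => ?_
        have h1 := hE' a ha _ (conj_inv_mem_of_normalizer hcn ht)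
        have h2 := conj_mem_of_normalizer hnR h1
        have e : n * (n⁻¹ * t * n * a * (n⁻¹ * t * n)⁻¹ * a⁻¹) * n⁻¹ =
            t * (n * a * n⁻¹) * t⁻¹ * (n * a * n⁻¹)⁻¹ := by group
        rwa [e] at h2
      have e1 : (h : G) = c⁻¹ * n := by rw [hn, inv_mul_cancel_left]
      rw [e1, cj_mul, cj_eq_self_iff.2 hnV]
      have h3 := cj_mono (g := c⁻¹) hVB
      rwa [cj_eq_self_iff.2 (hKB (hCK (inv_mem hc)))] at h3
    obtain ⟨a, ha, ha1⟩ := b.exists_ne i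
    obtain ⟨w, hw, y, hy, e⟩ := b.exists_comm i ha
    apply ha1
    rw [← e]
    have h4 := mem_centralizer_iff.1 (mem_inf.1 (hWB hw)).2 y (mem_inf.1 (hVB hy)).1
    rw [← h4]
    group
  have hBeq : B = R i := le_antisymm hBR hRB
  exact ⟨hOQ, hBeq, by rw [← hBeq]; exact hKB⟩

variable {F : Type v} [Field F] [Finite F] [CharP F 2] {v : F → F → G} {w1 w2 : F → G}

/-- **THEOREM F6.** `V` natural, `R i` a point, `z ∈ R i ∩ Z(S)`, `S` any Sylow subgroup of `G` normalising `V` and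
`R i` (field automorphisms allowed), `U j > D`, `C_{Q i / R i}(S ∩ C(R i)) ≤ V / R i`:
then `O₂(C_G(z)) ≤ Q i` has centre `R i` and `C_G(z) ≤ N_G(R i)`. -/
theorem main [Finite G] (c : Coord V R i j v w1 w2) (b : BT V R) (hU : ¬ UU V R j ≤ DD V R) (S : Sylow 2 G)
    (hSV : (S : Subgroup G) ≤ normalizer (V : Set G)) (hSR : (S : Subgroup G) ≤ normalizer (R i : Set G))
    {z : G} (hz : z ∈ R i) (hzS : (S : Subgroup G) ≤ centralizer {z})
    (hOc : ∀ g ∈ centralizer {z}, g ∈ centralizer (O2 (centralizer {z}) : Set G) → g ∈ O2 (centralizer {z}))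
    (hE : ∀ m ∈ QQ (R i), (∀ t ∈ (S : Subgroup G), t ∈ centralizer (R i : Set G) → t * m * t⁻¹ * m⁻¹ ∈ R i) →
      m ∈ V) :
    O2 (centralizer {z}) ≤ QQ (R i) ∧
      O2 (centralizer {z}) ⊓ centralizer (O2 (centralizer {z}) : Set G) = R i ∧
      centralizer {z} ≤ normalizer (R i : Set G) := by
  have : Fact (Nat.Prime 2) := ⟨Nat.prime_two⟩
  have hCK : centralizer (R i : Set G) ≤ centralizer {z} := centralizer_le (Set.singleton_subset_iff.2 hz)
  have hCN : centralizer (R i : Set G) ≤ normalizer (R i : Set G) := by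
    refine le_normalizer_of fun k hk r hr => ?_
    rw [← mem_centralizer_iff.1 hk r hr, mul_inv_cancel_right]
    exact hr
  -- a normal 2-subgroup of a subgroup containing `S` is in `S`
  have hnS : ∀ {L A : Subgroup G}, (S : Subgroup G) ≤ L → A ≤ L → IsPGroup 2 A → L ≤ normalizer (A : Set G) →
      A ≤ S := by
    intro L A hSL hAL hA hn
    have h1 : IsPGroup 2 ((S : Subgroup G) ⊔ A : Subgroup G) := by
      have h2 : IsPGroup 2 (S.subgroupOf L ⊔ A.subgroupOf L : Subgroup L) := by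
        have : (A.subgroupOf L).Normal := normal_subgroupOf_of_le_normalizer hn
        exact IsPGroup.to_sup_of_normal_right (S.isPGroup'.comap_of_injective _ L.subtype_injective)
          (hA.comap_of_injective _ L.subtype_injective)
      have h3 := h2.map L.subtype
      rwa [Subgroup.map_sup, subgroupOf_map_subtype, subgroupOf_map_subtype, inf_eq_left.2 hSL,
        inf_eq_left.2 hAL] at h3
    rw [← S.is_maximal' h1 le_sup_left]
    exact le_sup_right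
  have hOS : O2 (centralizer {z}) ≤ (S : Subgroup G) :=
    hnS hzS (O2_le _) (O2_isPGroup _) (le_normalizer_O2 _)
  have hQS : QQ (R i) ≤ (S : Subgroup G) := hnS hSR (O2_le _) (O2_isPGroup _) (le_normalizer_O2 _)
  have hQC : QQ (R i) ≤ centralizer (R i : Set G) := by
    intro g hg
    rw [mem_centralizer_iff]
    intro r hr
    exact (b.QR i g hg r hr).symm
  have hO : O2 (centralizer {z}) ≤ centralizer (R i : Set G) := by
    refine O_le_cen c b hU (O2_isPGroup _) (hOS.trans hSV) (hOS.trans hSR) fun x hx g hg => ?_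
    -- `[O, C(R i)] ≤ O ∩ C(R i) ≤ O₂(C(R i)) ≤ Q i`
    have h1 : O2 (centralizer {z}) ⊓ centralizer (R i : Set G) ≤ QQ (R i) :=
      le_O2_of_chain (A := O2 (centralizer {z}) ⊓ centralizer (R i : Set G)) (B := centralizer (R i : Set G))
        (C := centralizer (R i : Set G)) inf_le_right le_rfl hCN
        ((O2_isPGroup _).to_le inf_le_left)
        (fun g hg a ha => mem_inf.2 ⟨conj_mem_of_normalizer (le_normalizer_O2 _ (hCK hg)) (mem_inf.1 ha).1,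
          mul_mem (mul_mem hg (mem_inf.1 ha).2) (inv_mem hg)⟩)
        (fun g hg a ha => mul_mem (mul_mem hg ha) (inv_mem hg))
        (fun g hg a ha => conj_mem_of_normalizer (normalizer_le_normalizer_centralizer _ hg) ha)
    apply h1
    refine mem_inf.2 ⟨?_, ?_⟩
    · have e : x * g * x⁻¹ * g⁻¹ = x * (g * x⁻¹ * g⁻¹) := by group
      rw [e]
      exact mul_mem hx (conj_mem_of_normalizer (le_normalizer_O2 _ (hCK hg)) (inv_mem hx))
    · exact mul_mem (conj_mem_of_normalizer (normalizer_le_normalizer_centralizer _ (hSR (hOS hx))) hg)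
        (inv_mem hg)
  have hSyl : StdEven.Syl.IsSyl (S : Subgroup G) (normalizer (R i : Set G)) :=
    ⟨hSR, S.isPGroup', fun X hX _ hle => S.is_maximal' hX hle⟩
  have hT := hSyl.inf_normal hCN (normalizer_le_normalizer_centralizer _)
  refine core b hz hO hOc hT.two hT.le (le_inf hQS hQC) (fun n hn => ?_) ?_ fun m hm h => ?_
  · exact hT.frattini (normalizer_le_normalizer_centralizer _ hn)
  · exact comm_mem c b hT.two (inf_le_left.trans hSV) inf_le_right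
      ((b.W_le_Q i).trans (le_inf hQS hQC))
  · exact hE m hm fun t ht ht' => h t (mem_inf.2 ⟨ht, ht'⟩)

end Cfsg.Agent.Omega.BTwo.Cz

end

section


/-!
# `U j > D`, and `C_G(r) ≤ N(R)` for all `r ∈ R#`, `R` TI (THEOREM F6, second part)

* `Cz.not_UU_le`: `U j > D` (`c ≥ 1`), from a Sylow 2-subgroup of `G` in `N(V) ∩ N(R i)`;
* `Cz.exists_move`: `N(V) ∩ N(R i)` is transitive on `R i - 1`;
* `Cz.tir`: `R i` is TI as soon as `C_G(z) ≤ N(R i)` for one `i` and one `1 ≠ z ∈ R i`.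
-/

set_option autoImplicit false

namespace Cfsg.Agent.Omega.BTwo.Cz

open Subgroup

universe u v w

variable {G : Type u} [Group G] {ι : Type w} {V : Subgroup G} {R : ι → Subgroup G} {i j : ι}

theorem le_or_le {A B C : Subgroup G} (h : ∀ x ∈ C, x ∈ A ∨ x ∈ B) : C ≤ A ∨ C ≤ B := by
  by_contra hcon
  rw [not_or, SetLike.not_le_iff_exists, SetLike.not_le_iff_exists] at hcon
  obtain ⟨⟨x, hx, hxA⟩, y, hy, hyB⟩ := hcon
  have hxB := (h x hx).resolve_left hxA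
  have hyA := (h y hy).resolve_right hyB
  rcases h _ (mul_mem hx hy) with h1 | h1
  · exact hxA ((mul_mem_cancel_right hyA).1 h1)
  · exact hyB ((mul_mem_cancel_left hxB).1 h1)

/-- `c ≥ 1` -/
theorem not_UU_le [Finite G] (b : BTC V R) (S : Sylow 2 G) (hij : i ≠ j)
    (hSV : (S : Subgroup G) ≤ normalizer (V : Set G)) (hSR : (S : Subgroup G) ≤ normalizer (R i : Set G)) :
    ¬ UU V R j ≤ DD V R := by
  intro hU
  have b' := b.toBT
  have hUk : ∀ k, UU V R k ≤ DD V R := by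
    intro k
    obtain ⟨x, hx, hxk⟩ := b'.trans_one j k
    rw [← b'.cj_UU hx hxk, ← cj_eq_self_iff.2 (b'.NV_le_ND hx)]
    exact cj_mono hU
  have hD : DD V R ≤ V := by
    intro d hd
    refine b.lam_inj hd fun y hy => ?_
    rw [b'.Y_eq hij] at hy
    have hyD : y ∈ DD V R := (sup_le (hUk i) (hUk j)) hy
    exact b'.lam_D hd hyD
  have hUV : ∀ k, UU V R k ≤ V := fun k => (hUk k).trans hD
  obtain ⟨h, hh, H⟩ := b'.mt i
  have hRV' : R i ≤ cj h V := by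
    rw [← cj_eq_self_iff.2 hh]
    exact cj_mono (b'.R_le i)
  have key : ∀ x ∈ WW V (R i), x * x = 1 → x ∈ V ∨ x ∈ cj h V := by
    intro x hx hx2
    obtain ⟨v, hv, hxv⟩ := b'.W_fact (fun j k hj hk => (H j k hj hk).1) hh hx
    have hv0 := hUV i hxv
    set a := h * v * h⁻¹ with ha
    set v0 := a⁻¹ * x with hv0def
    have haV : a ∈ cj h V := conj_mem_cj hv
    have haW : a ∈ WW V (R i) := cj_le_WW hh haV
    have e : x = a * v0 := by rw [hv0def, mul_inv_cancel_left]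
    by_cases hR : v0 ∈ R i
    · right
      rw [e]
      exact mul_mem haV (hRV' hR)
    · left
      obtain ⟨k, hk⟩ := b'.R_cov v0 hv0
      have hki : k ≠ i := by rintro rfl; exact hR hk
      have ha2 : a * a = 1 := by
        rw [ha]
        have : h * v * h⁻¹ * (h * v * h⁻¹) = h * (v * v) * h⁻¹ := by group
        rw [this, b'.V_sq v hv, mul_one, mul_inv_cancel]
      have hcom : a * v0 = v0 * a := by
        rw [e] at hx2
        have h1 : a * v0 = v0⁻¹ * a⁻¹ := by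
          rw [← mul_inv_rev, eq_inv_iff_mul_eq_one]
          exact hx2
        rw [h1, b'.inv_eq hv0, inv_eq_of_mul_eq_one_left ha2]
      obtain ⟨l, hl⟩ := b'.perm a (b'.W_le_NV i haW) k
      have h1 : v0 ∈ R l := by
        rw [← hl, mem_cj, mul_assoc, ← hcom, inv_mul_cancel_left]
        exact hk
      have h2 : l = k := by
        by_contra h3
        exact hR (by rw [b'.eq_one h3 h1 hk]; exact one_mem _)
      rw [h2] at hl
      rw [e]
      exact mul_mem (hUV i (b'.mem_cen hki haW hl)) hv0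
  have hcard : ∀ n, Nat.card (cj n V) = Nat.card V := fun n => card_cj n V
  have two : ∀ n ∈ normalizer (R i : Set G), cj n V = V ∨ cj n V = cj h V := by
    intro n hn
    have h1 : ∀ x ∈ cj n V, x ∈ V ∨ x ∈ cj h V := by
      intro x hx
      refine key x (cj_le_WW hn hx) ?_
      rw [mem_cj] at hx
      have h2 := b'.V_sq _ hx
      have e : x * x = n * (n⁻¹ * x * n * (n⁻¹ * x * n)) * n⁻¹ := by group
      rw [e, h2, mul_one, mul_inv_cancel]
    rcases le_or_le h1 with h2 | h2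
    · exact Or.inl (eq_of_le_of_card_ge h2 (hcard n).ge)
    · exact Or.inr (eq_of_le_of_card_ge h2 (by rw [hcard n, hcard h]))
  have hne : cj h V ≠ V := by
    intro hcon
    obtain ⟨j', hj', -⟩ := b'.third i i
    obtain ⟨k, hki, hkj⟩ := b'.third i j'
    obtain ⟨⟨v, hv, hvk⟩, -⟩ := H j' k hj' hki
    have h1 : h * v * h⁻¹ ∈ V := by rw [← hcon]; exact conj_mem_cj hv
    have h2 : cj (h * v * h⁻¹) (R j') = R j' :=
      cj_eq_self_iff.2 (b'.cen_le_N j' (b'.V_le_cen h1))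
    rw [h2] at hvk
    exact hkj (b'.R_index hvk).symm
  have hrel : (normalizer (V : Set G) ⊓ normalizer (R i : Set G)).relIndex (normalizer (R i : Set G)) = 2 := by
    rw [relIndex_eq_two_iff]
    refine ⟨h, hh, fun n hn => ?_⟩
    by_cases h1 : n ∈ normalizer (V : Set G)
    · refine Or.inr ⟨⟨h1, hn⟩, fun h2 => hne ?_⟩
      have h3 : cj (n * h) V = V := cj_eq_self_iff.2 h2.1
      rw [cj_mul] at h3
      exact cj_injective (h3.trans (cj_eq_self_iff.2 h1).symm)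
    · refine Or.inl ⟨⟨?_, mul_mem hn hh⟩, fun h2 => h1 h2.1⟩
      have h2 : cj n V = cj h V := (two n hn).resolve_left fun h3 => h1 (cj_eq_self_iff.1 h3)
      change n * h ∈ normalizer (V : Set G)
      rw [← cj_eq_self_iff]
      rcases two _ (mul_mem hn hh) with h3 | h3
      · exact h3
      · exfalso
        rw [← h2, cj_mul] at h3
        exact hne (cj_injective h3)
  have h1 := relIndex_dvd_of_le_left (L := normalizer (R i : Set G)) (le_inf hSV hSR)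
  rw [hrel] at h1
  have : Fact (Nat.Prime 2) := ⟨Nat.prime_two⟩
  exact S.not_dvd_index (h1.trans (relIndex_dvd_index_of_le hSR))

variable {F : Type v} [Field F] [CharP F 2] {v : F → F → G} {w1 w2 : F → G}

/-- `N(V) ∩ N(R i)` is transitive on `R i - 1` -/
theorem exists_move (c : Coord V R i j v w1 w2) (b : BT V R) {r r' : G} (hr : r ∈ R i) (hr1 : r ≠ 1)
    (hr' : r' ∈ R i) (hr1' : r' ≠ 1) :
    ∃ n ∈ normalizer (R i : Set G), n ∈ normalizer (V : Set G) ∧ n * r * n⁻¹ = r' := by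
  obtain ⟨p, rfl⟩ := (c.mem_R1 r).1 hr
  obtain ⟨q, rfl⟩ := (c.mem_R1 r').1 hr'
  have hp : p ≠ 0 := by rintro rfl; exact hr1 c.v_zero
  have hq : q ≠ 0 := by rintro rfl; exact hr1' c.v_zero
  have ha : q * p⁻¹ ≠ 0 := mul_ne_zero hq (inv_ne_zero hp)
  refine ⟨hh w1 w2 (q * p⁻¹), cj_eq_self_iff.1 (c.hh_R1 b ha), b.X_le_NV (c.hh_mem_X b _), ?_⟩
  rw [c.hh_act ha, mul_zero, mul_assoc, inv_mul_cancel₀ hp, mul_one]

/-- `C_G(r) ≤ N(R k)` for all `1 ≠ r ∈ R k`, all `k` -/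
theorem cen_le (c : ∀ i j : ι, i ≠ j → ∃ (v : F → F → G) (w1 w2 : F → G), Coord V R i j v w1 w2) (b : BT V R)
    {z : G} (hz : z ∈ R i) (hz1 : z ≠ 1) (h : centralizer {z} ≤ normalizer (R i : Set G)) :
    ∀ k, ∀ r ∈ R k, r ≠ 1 → centralizer {r} ≤ normalizer (R k : Set G) := by
  -- conjugation
  have hcj : ∀ (x r : G) (k l : ι), cj x (R k) = R l → centralizer {r} ≤ normalizer (R k : Set G) →
      centralizer {x * r * x⁻¹} ≤ normalizer (R l : Set G) := by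
    intro x r k l hx hr y hy
    rw [← hx, normalizer_cj, mem_cj]
    apply hr
    rw [mem_centralizer_iff]
    intro s hs
    rw [Set.mem_singleton_iff.1 hs]
    have h1 := mem_centralizer_iff.1 hy _ (Set.mem_singleton _)
    have h2 : x⁻¹ * (x * r * x⁻¹ * y) * x = x⁻¹ * (y * (x * r * x⁻¹)) * x := by rw [h1]
    calc r * (x⁻¹ * y * x) = x⁻¹ * (x * r * x⁻¹ * y) * x := by group
      _ = x⁻¹ * (y * (x * r * x⁻¹)) * x := h2
      _ = x⁻¹ * y * x * r := by group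
  intro k r hr hr1
  obtain ⟨x, hx, hxk⟩ := b.trans_one k i
  obtain ⟨l, hl, -⟩ := b.third i i
  obtain ⟨v, w1, w2, c'⟩ := c i l (Ne.symm hl)
  have h1 : x * r * x⁻¹ ∈ R i := by rw [← hxk]; exact conj_mem_cj hr
  have h2 : x * r * x⁻¹ ≠ 1 := by
    intro h2
    apply hr1
    have : r = x⁻¹ * (x * r * x⁻¹) * x := by group
    rw [this, h2]; group
  obtain ⟨n, hn, -, hnz⟩ := exists_move c' b hz hz1 h1 h2
  have h3 := hcj n z i i (cj_eq_self_iff.2 hn) h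
  rw [hnz] at h3
  have h4 := hcj x⁻¹ _ i k (by rw [← hxk, cj_inv_cj]) h3
  have e : x⁻¹ * (x * r * x⁻¹) * x⁻¹⁻¹ = r := by group
  rwa [e] at h4

/-- `R k` is TI -/
theorem tir (c : ∀ i j : ι, i ≠ j → ∃ (v : F → F → G) (w1 w2 : F → G), Coord V R i j v w1 w2) (b : BT V R)
    {z : G} (hz : z ∈ R i) (hz1 : z ≠ 1) (h : centralizer {z} ≤ normalizer (R i : Set G)) (k : ι) (g r : G)
    (hr : r ∈ R k) (hr1 : r ≠ 1) (hg : g * r * g⁻¹ ∈ R k) : g ∈ normalizer (R k : Set G) := by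
  obtain ⟨l, hl, -⟩ := b.third k k
  obtain ⟨v, w1, w2, c'⟩ := c k l (Ne.symm hl)
  have h2 : g * r * g⁻¹ ≠ 1 := by
    intro h2
    apply hr1
    have : r = g⁻¹ * (g * r * g⁻¹) * g := by group
    rw [this, h2]; group
  obtain ⟨n, hn, -, hnz⟩ := exists_move c' b hg h2 hr hr1
  have h3 : n * g ∈ centralizer {r} := by
    rw [mem_centralizer_iff]
    intro s hs
    rw [Set.mem_singleton_iff.1 hs]
    have e : n * (g * r * g⁻¹) * n⁻¹ = n * g * r * (n * g)⁻¹ := by group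
    rw [e] at hnz
    exact (mul_inv_eq_iff_eq_mul.1 hnz).symm
  have h4 := cen_le c b hz hz1 h k r hr hr1 h3
  have h5 := mul_mem (inv_mem hn) h4
  rwa [inv_mul_cancel_left] at h5

end Cfsg.Agent.Omega.BTwo.Cz

end
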